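import Mathlib

/-!
# Calculus of pairs of involutions
-/

namespace CfsgLib.Involution.Dihedral

variable {G : Type*} [Group G]

theorem mul_self {x : G} (hx : orderOf x = 2) : x * x = 1 := by
  rw [← pow_two, ← hx, pow_orderOf_eq_one]

theorem inv_eq {x : G} (hx : orderOf x = 2) : x⁻¹ = x :=
  inv_eq_of_mul_eq_one_left (mul_self hx)

theorem ne_one {x : G} (hx : orderOf x = 2) : x ≠ 1 := by
  intro h; rw [h, orderOf_one] at hx; omega

theorem orderOf_eq_two {x : G} (h : x * x = 1) (h1 : x ≠ 1) : orderOf x = 2 :=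
  orderOf_eq_prime (by rwa [pow_two]) h1

theorem orderOf_conj (g x : G) : orderOf (g * x * g⁻¹) = orderOf x :=
  orderOf_injective (MulAut.conj g).toMonoidHom (MulAut.conj g).injective x

/-- An involution inverts the product of itself with another involution. -/
theorem conj_mul_left {x y : G} (hx : orderOf x = 2) (hy : orderOf y = 2) :
    x * (x * y) * x⁻¹ = (x * y)⁻¹ := by
  rw [mul_inv_rev, inv_eq hx, inv_eq hy, ← mul_assoc, mul_self hx, one_mul]

theorem conj_zpow {x a : G} (h : x * a * x⁻¹ = a⁻¹) (k : ℤ) : x * a ^ k * x⁻¹ = a ^ (-k) := by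
  rw [← MulAut.conj_apply, map_zpow, MulAut.conj_apply, h, inv_zpow, zpow_neg]

theorem conj_pow {x a : G} (h : x * a * x⁻¹ = a⁻¹) (k : ℕ) : x * a ^ k * x⁻¹ = (a ^ k)⁻¹ := by
  have h' := conj_zpow h k
  rwa [zpow_natCast, zpow_neg, zpow_natCast] at h'

theorem zpow_mul_left {x a : G} (h : x * a * x⁻¹ = a⁻¹) (k : ℤ) : a ^ k * x = x * a ^ (-k) := by
  have h' := conj_zpow h (-k)
  rw [neg_neg] at h'
  rw [← h', inv_mul_cancel_right]

/-- If `x` inverts `a` then `(x * a ^ k) * (x * a ^ k) = 1`. -/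
theorem mul_zpow_mul_self {x a : G} (hx : orderOf x = 2) (h : x * a * x⁻¹ = a⁻¹) (k : ℤ) :
    (x * a ^ k) * (x * a ^ k) = 1 := by
  rw [mul_assoc, ← mul_assoc (a ^ k), zpow_mul_left h, ← mul_assoc, ← mul_assoc, mul_self hx,
    one_mul, ← zpow_add, neg_add_cancel, zpow_zero]

/-- The dihedral subgroup generated by two involutions is the union of the rotations and the
reflections. -/
theorem mem_closure_pair_iff {x y : G} (hx : orderOf x = 2) (hy : orderOf y = 2) (d : G) :
    d ∈ Subgroup.closure ({x, y} : Set G) ↔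
      d ∈ Subgroup.zpowers (x * y) ∨ ∃ k : ℤ, d = x * (x * y) ^ k := by
  have hinv := conj_mul_left hx hy
  constructor
  · intro hd
    induction hd using Subgroup.closure_induction with
    | mem z hz =>
      rcases hz with rfl | rfl
      · exact Or.inr ⟨0, by simp⟩
      · exact Or.inr ⟨1, by rw [zpow_one, ← mul_assoc, mul_self hx, one_mul]⟩
    | one => exact Or.inl (one_mem _)
    | mul a b _ _ ha hb =>
      rcases ha with ha | ⟨i, rfl⟩
      · obtain ⟨i, rfl⟩ := ha
        rcases hb with ⟨j, rfl⟩ | ⟨j, rfl⟩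
        · exact Or.inl ⟨i + j, zpow_add _ _ _⟩
        · exact Or.inr ⟨-i + j, by
            simp only
            rw [← mul_assoc, zpow_mul_left hinv, mul_assoc, ← zpow_add]⟩
      · rcases hb with ⟨j, rfl⟩ | ⟨j, rfl⟩
        · exact Or.inr ⟨i + j, by simp only; rw [mul_assoc, ← zpow_add]⟩
        · refine Or.inl ⟨-i + j, ?_⟩
          simp only
          rw [mul_assoc x, ← mul_assoc ((x * y) ^ i), zpow_mul_left hinv, mul_assoc x _ ((x*y) ^ j),
            ← mul_assoc x x, mul_self hx, one_mul, ← zpow_add]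
    | inv a _ ha =>
      rcases ha with ha | ⟨i, rfl⟩
      · exact Or.inl (inv_mem ha)
      · exact Or.inr ⟨i, inv_eq_of_mul_eq_one_left (mul_zpow_mul_self hx hinv i)⟩
  · have hxm : x ∈ Subgroup.closure ({x, y} : Set G) := Subgroup.subset_closure (Set.mem_insert _ _)
    have hym : y ∈ Subgroup.closure ({x, y} : Set G) :=
      Subgroup.subset_closure (Set.mem_insert_of_mem _ rfl)
    rintro (⟨i, rfl⟩ | ⟨i, rfl⟩)
    · exact zpow_mem (mul_mem hxm hym) i
    · exact mul_mem hxm (zpow_mem (mul_mem hxm hym) i)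

theorem not_mem_zpowers {x y : G} (hx : orderOf x = 2) (hy : orderOf y = 2) (hxy : x ≠ y) :
    x ∉ Subgroup.zpowers (x * y) := by
  intro h
  have h1 := conj_mul_left hx hy
  obtain ⟨k, hk⟩ := h
  simp only at hk
  have hc : x * (x * y) = (x * y) * x := by
    calc x * (x * y) = (x * y) ^ k * (x * y) := by rw [hk]
      _ = (x * y) * (x * y) ^ k := by rw [← zpow_add_one, ← zpow_one_add, add_comm]
      _ = (x * y) * x := by rw [hk]
  rw [hc, mul_inv_cancel_right, mul_inv_rev, inv_eq hx, inv_eq hy] at h1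
  -- the involutions commute, and `x = (x*y)^k` lies in a group of order two
  have hcom : (x * y) * (x * y) = 1 := by
    conv_lhs => rhs; rw [h1]
    rw [mul_assoc x, ← mul_assoc y, mul_self hy, one_mul, mul_self hx]
  rcases Int.even_or_odd k with ⟨m, rfl⟩ | ⟨m, rfl⟩
  · apply ne_one hx
    rw [← hk, ← two_mul, zpow_mul, zpow_ofNat, pow_two, hcom, one_zpow]
  · apply ne_one hy
    have : x = x * y := by
      conv_lhs => rw [← hk, zpow_add, zpow_mul, zpow_ofNat, pow_two, hcom, one_zpow, one_mul, zpow_one]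
    simpa using this.symm

theorem reflection_orderOf {x y : G} (hx : orderOf x = 2) (hy : orderOf y = 2) (hxy : x ≠ y)
    (k : ℤ) : orderOf (x * (x * y) ^ k) = 2 := by
  refine orderOf_eq_two (mul_zpow_mul_self hx (conj_mul_left hx hy) k) fun h => ?_
  apply not_mem_zpowers hx hy hxy
  rw [mul_eq_one_iff_eq_inv] at h
  have h' : ((x * y) ^ k)⁻¹ ∈ Subgroup.zpowers (x * y) :=
    inv_mem (zpow_mem (Subgroup.mem_zpowers _) k)
  rwa [← h] at h'

/-- Conjugating the reflection `x` inside the dihedral group gives `x * (x*y)^(2k)`. -/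
theorem conj_zpow_reflection {x a : G} (h : x * a * x⁻¹ = a⁻¹) (k : ℤ) :
    a ^ k * x * (a ^ k)⁻¹ = x * a ^ (-(2 * k)) := by
  rw [zpow_mul_left h, ← zpow_neg, mul_assoc, ← zpow_add]; congr 2; ring

theorem conj_mem_even {x y : G} (hx : orderOf x = 2) (hy : orderOf y = 2) {d : G}
    (hd : d ∈ Subgroup.closure ({x, y} : Set G)) :
    ∃ k : ℤ, d * x * d⁻¹ = x * (x * y) ^ (2 * k) := by
  have h := conj_mul_left hx hy
  rcases (mem_closure_pair_iff hx hy d).1 hd with ⟨i, rfl⟩ | ⟨i, rfl⟩
  · exact ⟨-i, by simp only; rw [conj_zpow_reflection h, mul_neg]⟩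
  · refine ⟨i, ?_⟩
    rw [mul_inv_rev]
    calc x * (x * y) ^ i * x * (((x * y) ^ i)⁻¹ * x⁻¹)
        = x * ((x * y) ^ i * x * ((x * y) ^ i)⁻¹) * x⁻¹ := by group
      _ = x * (x * (x * y) ^ (-(2 * i))) * x⁻¹ := by rw [conj_zpow_reflection h]
      _ = x * (x * ((x * y) ^ (-(2 * i)) * x⁻¹)) := by group
      _ = x * (x * y) ^ (2 * i) := by
          rw [inv_eq hx, zpow_mul_left h, neg_neg, ← mul_assoc x x, mul_self hx, one_mul]

/-- Involutions with product of odd order are conjugate in the group they generate. -/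
theorem exists_conj_of_odd {x y : G} (hx : orderOf x = 2) (hy : orderOf y = 2)
    (hodd : Odd (orderOf (x * y))) :
    ∃ d ∈ Subgroup.zpowers (x * y), d * x * d⁻¹ = y := by
  obtain ⟨m, hm⟩ := hodd
  refine ⟨(x * y) ^ (m : ℤ), ⟨_, rfl⟩, ?_⟩
  rw [conj_zpow_reflection (conj_mul_left hx hy)]
  have h0 : (x * y) ^ ((2 * m + 1 : ℕ) : ℤ) = 1 := by
    rw [zpow_natCast, ← hm, pow_orderOf_eq_one]
  have : (x * y) ^ (-(2 * (m : ℤ))) = x * y := by
    have e : (-(2 * (m : ℤ))) = 1 + (-((2 * m + 1 : ℕ) : ℤ)) := by push_cast; ring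
    rw [e, zpow_add, zpow_neg, h0, inv_one, mul_one, zpow_one]
  rw [this, ← mul_assoc, mul_self hx, one_mul]

theorem isConj_of_odd {x y : G} (hx : orderOf x = 2) (hy : orderOf y = 2)
    (hodd : Odd (orderOf (x * y))) : IsConj x y := by
  obtain ⟨d, -, hd⟩ := exists_conj_of_odd hx hy hodd
  exact isConj_iff.2 ⟨d, hd⟩

theorem even_of_not_isConj {x y : G} (hx : orderOf x = 2) (hy : orderOf y = 2)
    (h : ¬ IsConj x y) : Even (orderOf (x * y)) :=
  Nat.not_odd_iff_even.1 fun ho => h (isConj_of_odd hx hy ho)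

section Half

variable [Finite G] {x y : G}

/-- The central involution of an even dihedral group. -/
theorem half_orderOf (heven : Even (orderOf (x * y))) :
    orderOf ((x * y) ^ (orderOf (x * y) / 2)) = 2 := by
  have hpos := orderOf_pos (x * y)
  obtain ⟨m, hm⟩ := heven
  rw [orderOf_pow' _ (by omega), show orderOf (x*y) / 2 = m by omega, hm,
    Nat.gcd_eq_right (Dvd.intro_left 2 (by ring)), ← two_mul, Nat.mul_div_left _ (by omega)]

theorem half_commute_left (hx : orderOf x = 2) (hy : orderOf y = 2)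
    (heven : Even (orderOf (x * y))) : Commute ((x * y) ^ (orderOf (x * y) / 2)) x := by
  have h := conj_pow (conj_mul_left hx hy) (orderOf (x * y) / 2)
  rw [inv_eq (half_orderOf heven)] at h
  exact (mul_inv_eq_iff_eq_mul.1 h).symm

theorem half_commute_right (hx : orderOf x = 2) (hy : orderOf y = 2)
    (heven : Even (orderOf (x * y))) : Commute ((x * y) ^ (orderOf (x * y) / 2)) y := by
  have e : y = x * (x * y) := by rw [← mul_assoc, mul_self hx, one_mul]
  have h1 := half_commute_left hx hy heven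
  have h2 := h1.mul_right (Commute.pow_self (x * y) (orderOf (x * y) / 2))
  rwa [← e] at h2

omit [Finite G] in
theorem zpow_half_ne_one (heven : Even (orderOf (x * y))) (k : ℤ) :
    (x * y) ^ (2 * k + 1) ≠ 1 := by
  intro h
  rw [← orderOf_dvd_iff_zpow_eq_one] at h
  have h2 : (2 : ℤ) ∣ (orderOf (x * y) : ℤ) := by exact_mod_cast heven.two_dvd
  have := h2.trans h
  omega

omit [Finite G] in
/-- `x * z` is conjugate to `x` in the dihedral group iff `4` divides the order. -/
theorem conj_half_iff (hx : orderOf x = 2) (hy : orderOf y = 2)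
    (heven : Even (orderOf (x * y))) :
    (∃ d ∈ Subgroup.closure ({x, y} : Set G),
      d * x * d⁻¹ = x * (x * y) ^ (orderOf (x * y) / 2)) ↔ 4 ∣ orderOf (x * y) := by
  constructor
  · rintro ⟨d, hd, he⟩
    obtain ⟨k, hk⟩ := conj_mem_even hx hy hd
    rw [hk, mul_right_inj, ← zpow_natCast, zpow_eq_zpow_iff_modEq] at he
    have h2 : (2 : ℤ) ∣ (orderOf (x * y) : ℤ) := by exact_mod_cast heven.two_dvd
    have := h2.trans he.dvd
    obtain ⟨m, hm⟩ := heven
    omega
  · rintro ⟨j, hj⟩
    refine ⟨(x * y) ^ (-(j : ℤ)), ?_, ?_⟩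
    · exact (mem_closure_pair_iff hx hy _).2 (Or.inl ⟨_, rfl⟩)
    · rw [conj_zpow_reflection (conj_mul_left hx hy), mul_neg, neg_neg, ← zpow_natCast]
      congr 2
      omega

omit [Finite G] in
theorem not_conj_of_even (hx : orderOf x = 2) (hy : orderOf y = 2)
    (heven : Even (orderOf (x * y))) {d : G} (hd : d ∈ Subgroup.closure ({x, y} : Set G)) :
    d * x * d⁻¹ ≠ y := by
  obtain ⟨k, hk⟩ := conj_mem_even hx hy hd
  intro h
  rw [hk, eq_comm, ← inv_mul_eq_iff_eq_mul, inv_eq hx] at h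
  apply zpow_half_ne_one heven (-k)
  rw [zpow_add, zpow_one]
  conv_lhs => rhs; rw [h]
  rw [← zpow_add, mul_neg, neg_add_cancel, zpow_zero]

end Half

end CfsgLib.Involution.Dihedral
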