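import Mathlib
import Cfsg.Agent.Lib.Involution.Dihedral

/-!
# Sylow bookkeeping for the involution calculus
-/

namespace CfsgLib.Involution.Basic

open CfsgLib.Involution.Dihedral

variable {G : Type*} [Group G] {p : ℕ}

theorem mem_smul_sylow_iff {g x : G} {P : Sylow p G} :
    x ∈ g • P ↔ g⁻¹ * x * g ∈ P := by
  change x ∈ ((g • P : Sylow p G) : Subgroup G) ↔ _
  rw [Sylow.coe_subgroup_smul, Subgroup.mem_pointwise_smul_iff_inv_smul_mem]
  simp only [MulAut.smul_def, ← map_inv, MulAut.conj_apply, inv_inv]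
  rfl

/-- A `p`-subgroup can be conjugated into a Sylow subgroup. -/
theorem exists_conj_le [Finite G] [Fact p.Prime] (P : Sylow p G) {Q : Subgroup G}
    (hQ : IsPGroup p Q) : ∃ g : G, ∀ x ∈ Q, g * x * g⁻¹ ∈ P := by
  obtain ⟨R, hR⟩ := hQ.exists_le_sylow
  obtain ⟨g, hg⟩ := MulAction.exists_smul_eq G R P
  refine ⟨g, fun x hx => ?_⟩
  rw [← hg, mem_smul_sylow_iff, show g⁻¹ * (g * x * g⁻¹) * g = x by group]
  exact hR hx

theorem isPGroup_zpowers [Fact p.Prime] {x : G} {k : ℕ} (hx : orderOf x = p ^ k) :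
    IsPGroup p (Subgroup.zpowers x) :=
  IsPGroup.of_card (n := k) (by rw [Nat.card_zpowers, hx])

theorem isPGroup_zpowers_of_two {x : G} (hx : orderOf x = 2) :
    IsPGroup 2 (Subgroup.zpowers x) :=
  haveI : Fact (Nat.Prime 2) := ⟨Nat.prime_two⟩
  isPGroup_zpowers (k := 1) (by rw [hx, pow_one])

/-- Commuting involutions lie in a common 2-subgroup. -/
theorem isPGroup_of_commute {x y : G} (hx : orderOf x = 2) (hy : orderOf y = 2)
    (h : Commute x y) : IsPGroup 2 ↥(Subgroup.zpowers x ⊔ Subgroup.zpowers y) := by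
  refine IsPGroup.to_sup_of_normal_left' (isPGroup_zpowers_of_two hx)
    (isPGroup_zpowers_of_two hy) ?_
  rw [Subgroup.zpowers_le, Subgroup.mem_normalizer_iff]
  intro z
  constructor
  · rintro ⟨k, rfl⟩
    refine ⟨k, ?_⟩
    simp only
    rw [(h.zpow_left k).symm.eq, mul_inv_cancel_right]
  · rintro ⟨k, hk⟩
    refine ⟨k, ?_⟩
    simp only at hk ⊢
    have := (h.zpow_left k).symm.eq
    rw [hk] at this
    have h2 : y * (y * z * y⁻¹) * y⁻¹ = z := by
      rw [inv_eq hy, ← mul_assoc, ← mul_assoc, mul_self hy, one_mul, mul_assoc, mul_self hy, mul_one]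
    rw [hk]
    nth_rewrite 2 [← h2]
    rw [this, mul_inv_cancel_right]

/-- Two commuting involutions can be conjugated together into a Sylow 2-subgroup. -/
theorem exists_conj_pair_mem [Finite G] (P : Sylow 2 G) {x y : G} (hx : orderOf x = 2)
    (hy : orderOf y = 2) (h : Commute x y) : ∃ g : G, g * x * g⁻¹ ∈ P ∧ g * y * g⁻¹ ∈ P := by
  haveI : Fact (Nat.Prime 2) := ⟨Nat.prime_two⟩
  obtain ⟨g, hg⟩ := exists_conj_le P (isPGroup_of_commute hx hy h)
  exact ⟨g, hg x (Subgroup.mem_sup_left (Subgroup.mem_zpowers x)),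
    hg y (Subgroup.mem_sup_right (Subgroup.mem_zpowers y))⟩

theorem exists_conj_mem [Finite G] (P : Sylow 2 G) {x : G} (hx : orderOf x = 2) :
    ∃ g : G, g * x * g⁻¹ ∈ P := by
  haveI : Fact (Nat.Prime 2) := ⟨Nat.prime_two⟩
  obtain ⟨g, hg⟩ := exists_conj_le P (isPGroup_zpowers_of_two hx)
  exact ⟨g, hg x (Subgroup.mem_zpowers x)⟩

theorem exists_involution_of_even [Finite G] (H : Subgroup G) (h : Even (Nat.card H)) :
    ∃ t ∈ H, orderOf t = 2 := by
  haveI : Fact (Nat.Prime 2) := ⟨Nat.prime_two⟩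
  obtain ⟨t, ht⟩ := exists_prime_orderOf_dvd_card' (G := H) 2 h.two_dvd
  exact ⟨t, t.2, by rwa [Subgroup.orderOf_coe]⟩

theorem even_of_involution_mem (H : Subgroup G) {t : G} (htH : t ∈ H) (ht : orderOf t = 2) :
    Even (Nat.card H) := by
  have := H.orderOf_dvd_natCard htH
  rw [ht] at this
  exact even_iff_two_dvd.2 this

end CfsgLib.Involution.Basic
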