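import Mathlib
import Cfsg.Prelude.Def_TwoFusion
import Cfsg.Agent.Lib.Involution.Basic

/-!
# Isolated involutions
-/

namespace CfsgLib.Involution.Isolated

open CfsgLib.Involution.Dihedral CfsgLib.Involution.Basic

variable {G : Type*} [Group G] [Finite G]

omit [Finite G] in
theorem eq_of_isConj {z c : G} (hz : Cfsg.IsIsolatedInvolution z) (hc : IsConj z c)
    (hcomm : Commute z c) : c = z := by
  obtain ⟨g, rfl⟩ := isConj_iff.1 hc
  exact hz.2 g hcomm

omit [Finite G] in
theorem conj_isolated {z : G} (hz : Cfsg.IsIsolatedInvolution z) (g : G) :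
    Cfsg.IsIsolatedInvolution (g * z * g⁻¹) := by
  refine ⟨(orderOf_conj g z).trans hz.1, fun h hcomm => ?_⟩
  have h1 := hz.2 (g⁻¹ * h * g) (by
    have := hcomm.map (MulAut.conj g⁻¹).toMonoidHom
    simp only [MulEquiv.toMonoidHom_eq_coe, MonoidHom.coe_coe, MulAut.conj_apply] at this
    convert this using 1 <;> group)
  calc h * (g * z * g⁻¹) * h⁻¹ = g * (g⁻¹ * h * g * z * (g⁻¹ * h * g)⁻¹) * g⁻¹ := by group
    _ = g * z * g⁻¹ := by rw [h1]

theorem mul_half_order (n : ℕ) (h : n % 4 = 2) : Odd (n / 2) := by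
  rw [Nat.odd_iff]; omega

/-- In a dihedral group of order `2 * n` with `n % 4 = 2`, `x * z` is conjugate to `y`. -/
theorem isConj_half {x y : G} (hx : orderOf x = 2) (hy : orderOf y = 2) (hxy : x ≠ y)
    (h4 : orderOf (x * y) % 4 = 2) :
    IsConj y (x * (x * y) ^ (orderOf (x * y) / 2)) := by
  have hr : orderOf (x * (x * y) ^ (orderOf (x * y) / 2)) = 2 := by
    rw [← zpow_natCast]; exact reflection_orderOf hx hy hxy _
  refine isConj_of_odd hy hr ?_
  have e : y * (x * (x * y) ^ (orderOf (x * y) / 2)) = (x * y) ^ (orderOf (x * y) / 2 - 1) := by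
    rw [← mul_assoc, show y * x = (x * y)⁻¹ by rw [mul_inv_rev, inv_eq hx, inv_eq hy],
      inv_mul_eq_iff_eq_mul, ← pow_succ', Nat.sub_add_cancel (by omega)]
  rw [e]
  have hd : orderOf ((x * y) ^ (orderOf (x * y) / 2 - 1)) ∣ orderOf (x * y) / 2 := by
    apply orderOf_dvd_of_pow_eq_one
    obtain ⟨j, hj⟩ : ∃ j, orderOf (x * y) / 2 - 1 = 2 * j :=
      ⟨(orderOf (x * y) / 2 - 1) / 2, by omega⟩
    rw [hj, ← pow_mul, show 2 * j * (orderOf (x * y) / 2) = orderOf (x * y) * j by
      rw [mul_comm 2 j, mul_assoc, show 2 * (orderOf (x * y) / 2) = orderOf (x * y) by omega,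
        mul_comm], pow_mul, pow_orderOf_eq_one, one_pow]
  exact (mul_half_order _ h4).of_dvd_nat hd

/-- An isolated involution has product of odd order with each of its conjugates. -/
theorem odd_of_isConj {z c : G} (hz : Cfsg.IsIsolatedInvolution z) (hc : IsConj z c) :
    Odd (orderOf (z * c)) := by
  have hc2 : orderOf c = 2 := by
    obtain ⟨g, rfl⟩ := isConj_iff.1 hc
    exact (orderOf_conj g z).trans hz.1
  by_contra hodd
  rw [Nat.not_odd_iff_even] at hodd
  set w := (z * c) ^ (orderOf (z * c) / 2) with hw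
  have hwc : Commute z (z * w) :=
    (Commute.refl z).mul_right (half_commute_left hz.1 hc2 hodd).symm
  have hcj : IsConj z (z * w) := by
    by_cases h4 : 4 ∣ orderOf (z * c)
    · obtain ⟨d, -, hd⟩ := (conj_half_iff hz.1 hc2 hodd).2 h4
      exact isConj_iff.2 ⟨d, hd⟩
    · have hne : z ≠ c := by
        rintro rfl
        rw [mul_self hz.1, orderOf_one] at hodd
        exact Nat.not_even_one hodd
      exact hc.trans (isConj_half hz.1 hc2 hne (by obtain ⟨m, hm⟩ := hodd; omega))
  have h := eq_of_isConj hz hcj hwc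
  rw [mul_eq_left] at h
  exact ne_one (half_orderOf hodd) h

/-- Isolated means: the only conjugate in a Sylow 2-subgroup containing it. -/
theorem isolated_iff_sylow {P : Sylow 2 G} {u : G} (hu : orderOf u = 2) (huP : u ∈ P) :
    Cfsg.IsIsolatedInvolution u ↔ ∀ g : G, g * u * g⁻¹ ∈ P → g * u * g⁻¹ = u := by
  constructor
  · intro h g hg
    have hodd := odd_of_isConj h (isConj_iff.2 ⟨g, rfl⟩)
    haveI : Fact (Nat.Prime 2) := ⟨Nat.prime_two⟩
    obtain ⟨k, hk⟩ := IsPGroup.iff_orderOf.1 P.2 ⟨u * (g * u * g⁻¹), mul_mem huP hg⟩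
    rw [← Subgroup.orderOf_coe] at hk
    rcases k with - | k
    · rw [pow_zero, orderOf_eq_one_iff, mul_eq_one_iff_inv_eq, inv_eq hu] at hk
      exact hk.symm
    · simp only at hk
      rw [hk, Nat.odd_iff, pow_succ'] at hodd
      omega
  · intro h
    refine ⟨hu, fun g hg => ?_⟩
    obtain ⟨a, ha, hb⟩ := exists_conj_pair_mem P hu ((orderOf_conj g u).trans hu) hg
    have h1 := h a ha
    have h2 : a * (g * u * g⁻¹) * a⁻¹ = u := by
      have := h (a * g) (by simpa [mul_assoc] using hb)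
      simpa [mul_assoc] using this
    have := h1.trans h2.symm
    exact (mul_left_cancel (mul_right_cancel this)).symm

/-- An isolated involution controls its own fusion in every subgroup containing it. -/
theorem exists_conj_in {z : G} (hz : Cfsg.IsIsolatedInvolution z) {H : Subgroup G} (hzH : z ∈ H)
    {c : G} (hc : IsConj z c) (hcH : c ∈ H) : ∃ h ∈ H, h * z * h⁻¹ = c := by
  have hc2 : orderOf c = 2 := by
    obtain ⟨g, rfl⟩ := isConj_iff.1 hc
    exact (orderOf_conj g z).trans hz.1
  obtain ⟨d, hd, he⟩ := exists_conj_of_odd hz.1 hc2 (odd_of_isConj hz hc)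
  exact ⟨d, Subgroup.zpowers_le.2 (mul_mem hzH hcH) hd, he⟩

end CfsgLib.Involution.Isolated
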