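import Mathlib

/-!
# Dihedral and quaternion groups from relations, and small helpers
-/

namespace CfsgLib.Involution.TwoGroupLifts

variable {G : Type*} [Group G]

/-- `r ^ i` for `i : ZMod N`. -/
def zp {N : ℕ} (r : G) (i : ZMod N) : G := r ^ i.val

theorem zp_intCast {N : ℕ} [NeZero N] {r : G} (hr : r ^ N = 1) (k : ℤ) :
    zp r ((k : ℤ) : ZMod N) = r ^ k := by
  rw [zp, ← zpow_natCast, ZMod.val_intCast]
  conv_rhs => rw [← Int.emod_add_mul_ediv k N, zpow_add, zpow_mul, zpow_natCast, hr, one_zpow,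
    mul_one]

theorem zp_natCast {N : ℕ} [NeZero N] {r : G} (hr : r ^ N = 1) (k : ℕ) :
    zp r ((k : ℕ) : ZMod N) = r ^ k := by
  have h := zp_intCast (N := N) hr (k : ℤ)
  rwa [Int.cast_natCast, zpow_natCast] at h

theorem zp_add {N : ℕ} [NeZero N] {r : G} (hr : r ^ N = 1) (i j : ZMod N) :
    zp r (i + j) = zp r i * zp r j := by
  obtain ⟨a, rfl⟩ := ZMod.intCast_surjective i
  obtain ⟨b, rfl⟩ := ZMod.intCast_surjective j
  rw [← Int.cast_add, zp_intCast hr, zp_intCast hr, zp_intCast hr, zpow_add]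

theorem zp_zero {N : ℕ} (r : G) : zp r (0 : ZMod N) = 1 := by simp [zp]

theorem zp_eq_one {N : ℕ} [NeZero N] {r : G} (hr : orderOf r = N) {i : ZMod N}
    (h : zp r i = 1) : i = 0 := by
  have h1 : orderOf r ∣ i.val := orderOf_dvd_of_pow_eq_one h
  rw [hr] at h1
  exact (ZMod.val_eq_zero i).1 (Nat.eq_zero_of_dvd_of_lt h1 i.val_lt)

theorem zp_neg {N : ℕ} [NeZero N] {r : G} (hr : r ^ N = 1) (i : ZMod N) :
    zp r (-i) = (zp r i)⁻¹ := by
  refine eq_inv_of_mul_eq_one_left ?_
  rw [← zp_add hr, neg_add_cancel, zp_zero]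

theorem conj_zp {N : ℕ} [NeZero N] {r s : G} (hr : r ^ N = 1) (h : s * r * s⁻¹ = r⁻¹)
    (i : ZMod N) : s * zp r i * s⁻¹ = zp r (-i) := by
  obtain ⟨a, rfl⟩ := ZMod.intCast_surjective i
  rw [← Int.cast_neg, zp_intCast hr, zp_intCast hr, ← MulAut.conj_apply, map_zpow,
    MulAut.conj_apply, h, inv_zpow, zpow_neg]

theorem zp_mul_inv {N : ℕ} [NeZero N] {r s : G} (hr : r ^ N = 1) (h : s * r * s⁻¹ = r⁻¹)
    (i : ZMod N) : zp r i * s = s * zp r (-i) := by
  have h1 := conj_zp hr h (-i)
  rw [neg_neg] at h1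
  rw [← h1, inv_mul_cancel_right]

/-- The homomorphism out of a dihedral group given by its relations. -/
def dihedralHom {N : ℕ} [NeZero N] (r s : G) (hr : r ^ N = 1) (hs : s * s = 1)
    (h : s * r * s⁻¹ = r⁻¹) : DihedralGroup N →* G :=
  MonoidHom.mk'
    (fun d => match d with
      | DihedralGroup.r i => zp r i
      | DihedralGroup.sr i => s * zp r i)
    (by
      rintro (i | i) (j | j)
      · exact zp_add hr i j
      · simp only [DihedralGroup.r_mul_sr]
        rw [← mul_assoc, zp_mul_inv hr h, mul_assoc, ← zp_add hr, neg_add_eq_sub]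
      · simp only [DihedralGroup.sr_mul_r]
        rw [mul_assoc, ← zp_add hr]
      · simp only [DihedralGroup.sr_mul_sr]
        rw [mul_assoc s (zp r i), ← mul_assoc (zp r i), zp_mul_inv hr h, mul_assoc s (zp r (-i)),
          ← mul_assoc s s, hs, one_mul, ← zp_add hr, neg_add_eq_sub])

theorem dihedralHom_injective {N : ℕ} [NeZero N] {r s : G} (hr : r ^ N = 1) (hs : s * s = 1)
    (h : s * r * s⁻¹ = r⁻¹) (hord : orderOf r = N) (hns : s ∉ Subgroup.zpowers r) :
    Function.Injective (dihedralHom r s hr hs h) := by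
  rw [injective_iff_map_eq_one]
  rintro (i | i) hi
  · have hi' : zp r i = 1 := hi
    rw [zp_eq_one hord hi']
    exact DihedralGroup.r_zero
  · have hi' : s * zp r i = 1 := hi
    exfalso
    apply hns
    rw [eq_inv_of_mul_eq_one_left hi']
    exact inv_mem (Subgroup.pow_mem _ (Subgroup.mem_zpowers r) _)

/-- The homomorphism out of a generalised quaternion group given by its relations. -/
def quaternionHom {m : ℕ} [NeZero m] (r s : G) (hr : r ^ (2 * m) = 1) (hs : s * s = r ^ m)
    (h : s * r * s⁻¹ = r⁻¹) : QuaternionGroup m →* G :=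
  MonoidHom.mk'
    (fun d => match d with
      | QuaternionGroup.a i => zp r i
      | QuaternionGroup.xa i => s * zp r i)
    (by
      rintro (i | i) (j | j)
      · exact zp_add hr i j
      · simp only [QuaternionGroup.a_mul_xa]
        rw [← mul_assoc, zp_mul_inv hr h, mul_assoc, ← zp_add hr, neg_add_eq_sub]
      · simp only [QuaternionGroup.xa_mul_a]
        rw [mul_assoc, ← zp_add hr]
      · simp only [QuaternionGroup.xa_mul_xa]
        rw [mul_assoc s (zp r i), ← mul_assoc (zp r i), zp_mul_inv hr h, mul_assoc s (zp r (-i)),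
          ← mul_assoc s s, hs, ← zp_natCast (N := 2 * m) hr, ← zp_add hr, ← zp_add hr,
          neg_add_eq_sub, add_sub_assoc])

theorem quaternionHom_injective {m : ℕ} [NeZero m] {r s : G} (hr : r ^ (2 * m) = 1)
    (hs : s * s = r ^ m) (h : s * r * s⁻¹ = r⁻¹) (hord : orderOf r = 2 * m)
    (hns : s ∉ Subgroup.zpowers r) :
    Function.Injective (quaternionHom r s hr hs h) := by
  rw [injective_iff_map_eq_one]
  rintro (i | i) hi
  · have hi' : zp r i = 1 := hi
    rw [zp_eq_one hord hi']
    exact QuaternionGroup.a_zero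
  · have hi' : s * zp r i = 1 := hi
    exfalso
    apply hns
    rw [eq_inv_of_mul_eq_one_left hi']
    exact inv_mem (Subgroup.pow_mem _ (Subgroup.mem_zpowers r) _)

theorem zp_mem_zpowers {N : ℕ} (r : G) (i : ZMod N) : zp r i ∈ Subgroup.zpowers r :=
  Subgroup.pow_mem _ (Subgroup.mem_zpowers r) _

/-! ### Small helpers -/

/-- A subgroup of index two is maximal. -/
theorem isCoatom_of_index_two {M : Subgroup G} (h : M.index = 2) : IsCoatom M := by
  refine ⟨fun ht => by simp [ht] at h, fun L hL => ?_⟩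
  obtain ⟨g, hgL, hgM⟩ := SetLike.exists_of_lt hL
  refine eq_top_iff.2 fun x _ => ?_
  by_cases hx : x ∈ M
  · exact hL.le hx
  · have h1 : x * g ∈ M := by
      rw [Subgroup.mul_mem_iff_of_index_two h]
      exact iff_of_false hx hgM
    have h2 := mul_mem (hL.le h1) (inv_mem hgL)
    rwa [mul_inv_cancel_right] at h2

/-- A self-centralising subgroup contains exactly its centre as centraliser. -/
theorem centralizer_eq_center_map {Q : Subgroup G}
    (h : Subgroup.centralizer (Q : Set G) ≤ Q) :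
    Subgroup.centralizer (Q : Set G) = (Subgroup.center Q).map Q.subtype := by
  ext g
  constructor
  · intro hg
    refine ⟨⟨g, h hg⟩, ?_, rfl⟩
    rw [SetLike.mem_coe, Subgroup.mem_center_iff]
    intro k
    exact Subtype.ext (Subgroup.mem_centralizer_iff.1 hg k.1 k.2)
  · rintro ⟨⟨g, hgQ⟩, hg, rfl⟩
    rw [SetLike.mem_coe, Subgroup.mem_center_iff] at hg
    rw [Subgroup.mem_centralizer_iff]
    intro k hk
    exact congrArg Subtype.val (hg ⟨k, hk⟩)

/-- Conjugation carrying a subgroup into one of no larger order carries it onto it. -/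
theorem map_conj_eq [Finite G] {T₁ T₂ : Subgroup G} {s : G}
    (h : ∀ g ∈ T₁, s * g * s⁻¹ ∈ T₂) (hc : Nat.card T₂ ≤ Nat.card T₁) :
    T₁.map (MulAut.conj s).toMonoidHom = T₂ := by
  refine Subgroup.eq_of_le_of_card_ge ?_ ?_
  · rintro _ ⟨g, hg, rfl⟩
    exact h g hg
  · rwa [Nat.card_congr (T₁.equivMapOfInjective _ (MulAut.conj s).injective).toEquiv.symm]

/-- In a finite group, stability under conjugation by `s` puts `s` in the normaliser. -/
theorem mem_normalizer_of_conj_mem [Finite G] {T : Subgroup G} {s : G}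
    (h : ∀ g ∈ T, s * g * s⁻¹ ∈ T) : s ∈ Subgroup.normalizer (T : Set G) :=
  Subgroup.mem_normalizer_iff_map_conj_eq.2 (map_conj_eq h le_rfl)

/-- The four subgroup spanned by two commuting involutions. -/
def fourGroup (a b : G) (ha : a * a = 1) (hb : b * b = 1) (hab : a * b = b * a) : Subgroup G where
  carrier := {g | g = 1 ∨ g = a ∨ g = b ∨ g = a * b}
  one_mem' := Or.inl rfl
  mul_mem' := by
    have h1 : a * (a * b) = b := by rw [← mul_assoc, ha, one_mul]
    have h2 : b * (a * b) = a := by rw [hab, ← mul_assoc, hb, one_mul]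
    have h3 : a * b * a = b := by rw [hab, mul_assoc, ha, mul_one]
    have h4 : a * b * b = a := by rw [mul_assoc, hb, mul_one]
    have h5 : a * b * (a * b) = 1 := by rw [← mul_assoc, h3, hb]
    rintro x y (rfl | rfl | rfl | rfl) (rfl | rfl | rfl | rfl) <;>
      simp [ha, hb, h1, h2, h3, h4, h5, ← hab]
  inv_mem' := by
    have h5 : (a * b)⁻¹ = a * b := by
      rw [mul_inv_rev, inv_eq_of_mul_eq_one_left ha, inv_eq_of_mul_eq_one_left hb, hab]
    rintro x (rfl | rfl | rfl | rfl) <;>
      simp [inv_eq_of_mul_eq_one_left ha, inv_eq_of_mul_eq_one_left hb, h5]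

theorem mem_fourGroup {a b : G} {ha : a * a = 1} {hb : b * b = 1} {hab : a * b = b * a} {g : G} :
    g ∈ fourGroup a b ha hb hab ↔ g = 1 ∨ g = a ∨ g = b ∨ g = a * b := Iff.rfl

theorem isKleinFour_of_four {T : Subgroup G} {a b : G} (ha1 : a ≠ 1) (hb1 : b ≠ 1) (hne : a ≠ b)
    (ha : a * a = 1) (hb : b * b = 1) (hab : a * b = b * a)
    (hT : ∀ g, g ∈ T ↔ (g = 1 ∨ g = a ∨ g = b ∨ g = a * b)) : IsKleinFour T := by
  classical
  have hab1 : a * b ≠ 1 := fun h => hne (by
    rw [← mul_one a, ← hb, ← mul_assoc, h, one_mul])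
  have hs : (T : Set G) = ((({1, a, b, a * b} : Finset G)) : Set G) := by
    ext g; simpa using hT g
  have h4 : Nat.card T = 4 := by
    change Nat.card (T : Set G) = 4
    rw [hs, Nat.card_coe_set_eq, Set.ncard_coe_finset,
      Finset.card_insert_of_notMem, Finset.card_insert_of_notMem, Finset.card_pair]
    · exact fun h => ha1 (mul_right_cancel (b := b) (by rw [one_mul]; exact h.symm))
    · simp [hne, hb1]
    · simp [ha1.symm, hb1.symm, hab1.symm]
  have hsq : ∀ g ∈ T, g * g = 1 := by
    intro g hg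
    rcases (hT g).1 hg with rfl | rfl | rfl | rfl
    · simp
    · exact ha
    · exact hb
    · rw [mul_assoc, ← mul_assoc b, ← hab, mul_assoc a, hb, mul_one, ha]
  have : Finite T := Nat.finite_of_card_ne_zero (by omega)
  have hexp : Monoid.exponent T = 2 := by
    have hdvd : Monoid.exponent T ∣ 2 :=
      Monoid.exponent_dvd_of_forall_pow_eq_one fun g => by
        rw [pow_two]; exact Subtype.ext (hsq g g.2)
    rcases (Nat.dvd_prime Nat.prime_two).1 hdvd with h | h
    · exfalso
      have := Monoid.exp_eq_one_iff.1 h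
      rw [Nat.card_eq_one_iff_unique.2 ⟨this, inferInstance⟩] at h4
      omega
    · exact h
  exact ⟨h4, hexp⟩

theorem mul_self_of_isKleinFour {T : Subgroup G} (hT : IsKleinFour T) {g : G} (hg : g ∈ T) :
    g * g = 1 :=
  congrArg Subtype.val (IsKleinFour.mul_self (G := T) ⟨g, hg⟩)

theorem commute_of_isKleinFour {T : Subgroup G} (hT : IsKleinFour T) {g k : G} (hg : g ∈ T)
    (hk : k ∈ T) : g * k = k * g := by
  have := IsKleinFour.isMulCommutative (G := T)
  exact congrArg Subtype.val ((mul_comm' (⟨g, hg⟩ : T) ⟨k, hk⟩))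

end CfsgLib.Involution.TwoGroupLifts
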