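import Cfsg.Agent.Lib.Fusion.Alperin
import Cfsg.Agent.Lib.Involution.TwoGroupLifts
import Cfsg.Agent.Lib.Involution.Basic

/-!
# Groups with a dihedral Sylow 2-subgroup: fours groups and the centraliser of the central involution
-/

set_option autoImplicit false

namespace CfsgLib.Involution.DihedralSylow

variable {G : Type*} [Group G]

/-- `S` is dihedral of order `2 ^ (k + 2)` with rotation `a` and reflection `b`. -/
structure Gen (S : Subgroup G) (a b : G) (k : ℕ) : Prop where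
  amem : a ∈ S
  bmem : b ∈ S
  ord : orderOf a = 2 ^ (k + 1)
  bb : b * b = 1
  nb : b ∉ Subgroup.zpowers a
  conj : b * a * b⁻¹ = a⁻¹
  cases : ∀ x ∈ S, (∃ i : ℤ, x = a ^ i) ∨ ∃ i : ℤ, x = a ^ i * b

theorem exists_gen [Finite G] (S : Sylow 2 G) (m : ℕ) (hm : 2 ≤ m)
    (eS : (S : Subgroup G) ≃* DihedralGroup m) :
    ∃ a b : G, ∃ k : ℕ, Gen (S : Subgroup G) a b k ∧ m = 2 ^ (k + 1) ∧ Nat.card S = 2 ^ (k + 2) := by
  haveI : Fact (Nat.Prime 2) := ⟨Nat.prime_two⟩
  obtain ⟨n, hn⟩ := IsPGroup.iff_card.1 S.2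
  have hc : Nat.card S = 2 * m := by
    rw [Nat.card_congr eS.toEquiv, DihedralGroup.nat_card]
  obtain ⟨j, -, hj⟩ := (Nat.dvd_prime_pow Nat.prime_two).1 (show m ∣ 2 ^ n from ⟨2, by rw [← hn, hc, mul_comm]⟩)
  obtain ⟨k, rfl⟩ : ∃ k, j = k + 1 :=
    Nat.exists_eq_add_one.2 (Nat.pos_of_ne_zero fun h => by rw [hj, h] at hm; simp at hm)
  subst hj
  set f : DihedralGroup (2 ^ (k + 1)) →* G :=
    (S : Subgroup G).subtype.comp eS.symm.toMonoidHom with hf
  have hinj : Function.Injective f :=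
    (S : Subgroup G).subtype_injective.comp eS.symm.injective
  have hmem : ∀ d, f d ∈ S := fun d => (eS.symm d).2
  have hcast : ∀ i : ZMod (2 ^ (k + 1)), f (.r i) = f (.r 1) ^ (i.val : ℤ) := fun i => by
    rw [zpow_natCast, ← map_pow, DihedralGroup.r_one_pow, ZMod.natCast_zmod_val]
  refine ⟨f (.r 1), f (.sr 0), k, ⟨hmem _, hmem _, ?_, ?_, ?_, ?_, ?_⟩, rfl, by rw [hc]; ring⟩
  · rw [orderOf_injective f hinj, DihedralGroup.orderOf_r_one]
  · rw [← map_mul, DihedralGroup.sr_mul_self, map_one]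
  · intro h
    obtain ⟨i, hi⟩ := Subgroup.mem_zpowers_iff.1 h
    rw [← map_zpow] at hi
    have := hinj hi
    rw [DihedralGroup.r_one_zpow] at this
    simp at this
  · rw [← map_inv f (.sr 0), ← map_mul, ← map_mul, ← map_inv]
    congr 1
    simp [DihedralGroup.inv_sr, DihedralGroup.inv_r]
  · intro x hx
    obtain ⟨d, hd⟩ : ∃ d, f d = x := ⟨eS ⟨x, hx⟩, by simp [hf]⟩
    subst hd
    rcases d with i | i
    · exact Or.inl ⟨_, hcast i⟩
    · refine Or.inr ⟨((-i).val : ℤ), ?_⟩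
      rw [← hcast, ← map_mul, DihedralGroup.r_mul_sr]
      simp

variable {S : Subgroup G} {a b : G} {k : ℕ} (h : Gen S a b k)
include h

theorem zpow_eq_one (i : ℤ) : a ^ i = 1 ↔ (2 : ℤ) ^ (k + 1) ∣ i := by
  rw [← orderOf_dvd_iff_zpow_eq_one, h.ord]; push_cast; rfl

theorem orderOf_rot_dvd (i : ℤ) : orderOf (a ^ i) ∣ 2 ^ (k + 1) := by
  refine orderOf_dvd_of_pow_eq_one ?_
  rw [← zpow_natCast, ← zpow_mul, zpow_eq_one h]
  exact ⟨i, by push_cast; ring⟩

theorem zpow_mem (i : ℤ) : a ^ i ∈ S := Subgroup.zpow_mem _ h.amem i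

theorem b_mul (i : ℤ) : b * a ^ i = a ^ (-i) * b := by
  rw [zpow_neg, ← inv_zpow, ← h.conj, conj_zpow]; group

theorem refl_mem (i : ℤ) : a ^ i * b ∈ S := S.mul_mem (zpow_mem h i) h.bmem

theorem refl_sq (i : ℤ) : a ^ i * b * (a ^ i * b) = 1 := by
  rw [mul_assoc, ← mul_assoc b, b_mul h, mul_assoc (a ^ (-i)), h.bb, mul_one, ← zpow_add]
  simp

theorem refl_not_rot (i : ℤ) : a ^ i * b ∉ Subgroup.zpowers a := fun hc =>
  h.nb ((Subgroup.mul_mem_cancel_left _ (Subgroup.zpow_mem _ (Subgroup.mem_zpowers a) i)).1 hc)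

theorem refl_ne (i j : ℤ) : a ^ i * b ≠ a ^ j := fun hc =>
  refl_not_rot h i (hc ▸ Subgroup.zpow_mem _ (Subgroup.mem_zpowers a) j)

theorem refl_ne_one (i : ℤ) : a ^ i * b ≠ 1 := by simpa using refl_ne h i 0

theorem refl_orderOf (i : ℤ) : orderOf (a ^ i * b) = 2 :=
  Dihedral.orderOf_eq_two (refl_sq h i) (refl_ne_one h i)

theorem refl_mul (i j : ℤ) : a ^ i * b * (a ^ j * b) = a ^ (i - j) := by
  rw [mul_assoc, ← mul_assoc b, b_mul h, mul_assoc (a ^ (-j)), h.bb, mul_one, ← zpow_add,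
    sub_eq_add_neg]

theorem conj_rot (t i : ℤ) : a ^ t * (a ^ i * b) * (a ^ t)⁻¹ = a ^ (i + 2 * t) * b := by
  rw [← zpow_neg, mul_assoc, mul_assoc (a ^ i), b_mul h, neg_neg, ← mul_assoc (a ^ i),
    ← mul_assoc (a ^ t), ← zpow_add, ← zpow_add]
  congr 2; ring

theorem refl_conj (j i : ℤ) : a ^ j * b * (a ^ i * b) * (a ^ j * b)⁻¹ = a ^ (2 * j - i) * b := by
  rw [refl_mul h, show (a ^ j * b)⁻¹ = a ^ j * b from inv_eq_of_mul_eq_one_right (refl_sq h j),
    ← mul_assoc, ← zpow_add]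
  congr 2; ring

/-- The central involution. -/
theorem z_sq : a ^ ((2 : ℤ) ^ k) * a ^ ((2 : ℤ) ^ k) = 1 := by
  rw [← zpow_add, zpow_eq_one h, pow_succ]; exact ⟨1, by ring⟩

theorem z_ne : a ^ ((2 : ℤ) ^ k) ≠ 1 := by
  rw [Ne, zpow_eq_one h]
  intro hd
  have := Int.le_of_dvd (by positivity) hd
  rw [pow_succ] at this
  have : (0 : ℤ) < 2 ^ k := by positivity
  linarith

theorem z_orderOf : orderOf (a ^ ((2 : ℤ) ^ k)) = 2 :=
  Dihedral.orderOf_eq_two (z_sq h) (z_ne h)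

theorem z_comm (x : G) (hx : x ∈ S) : Commute (a ^ ((2 : ℤ) ^ k)) x := by
  rcases h.cases x hx with ⟨i, rfl⟩ | ⟨i, rfl⟩
  · exact Commute.zpow_zpow_self a _ _
  · refine (Commute.zpow_zpow_self a _ _).mul_right ?_
    rw [Commute, SemiconjBy, b_mul h, zpow_neg, inv_eq_of_mul_eq_one_right (z_sq h)]

theorem zpow_involution {i : ℤ} (hi : a ^ i * a ^ i = 1) :
    a ^ i = 1 ∨ a ^ i = a ^ ((2 : ℤ) ^ k) := by
  rw [← zpow_add, zpow_eq_one h] at hi
  obtain ⟨q, hq⟩ := hi
  rw [pow_succ] at hq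
  have hi : i = 2 ^ k * q := by linarith
  rcases Int.even_or_odd q with ⟨t, rfl⟩ | ⟨t, rfl⟩
  · exact Or.inl ((zpow_eq_one h _).2 ⟨t, by rw [hi, pow_succ]; ring⟩)
  · refine Or.inr ?_
    rw [hi, show (2 : ℤ) ^ k * (2 * t + 1) = 2 ^ (k + 1) * t + 2 ^ k by rw [pow_succ]; ring,
      zpow_add, (zpow_eq_one h _).2 (dvd_mul_right _ t), one_mul]

theorem involution_cases {x : G} (hx : x ∈ S) (h2 : x * x = 1) :
    x = 1 ∨ x = a ^ ((2 : ℤ) ^ k) ∨ ∃ i : ℤ, x = a ^ i * b := by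
  rcases h.cases x hx with ⟨i, rfl⟩ | hr
  · exact (zpow_involution h h2).imp_right Or.inl
  · exact Or.inr (Or.inr hr)

theorem refl_commute {i j : ℤ} (hc : Commute (a ^ i * b) (a ^ j * b)) :
    a ^ j * b = a ^ i * b ∨ a ^ j * b = a ^ ((2 : ℤ) ^ k) * (a ^ i * b) := by
  have h1 : a ^ (j - i) * a ^ (j - i) = 1 := by
    rw [← refl_mul h]
    nth_rewrite 2 [← hc.eq]
    rw [mul_assoc, ← mul_assoc (a ^ i * b) (a ^ i * b), refl_sq h, one_mul, refl_sq h]
  rcases zpow_involution h h1 with he | he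
  · left
    rw [show j = (j - i) + i by ring, zpow_add, he, one_mul]
  · right
    rw [← he, ← mul_assoc, ← zpow_add, sub_add_cancel]

/-- The standard fours group through `a ^ i * b`. -/
theorem klein_refl (i : ℤ) : ∃ U : Subgroup G, U ≤ S ∧ IsKleinFour U ∧ a ^ i * b ∈ U ∧
    a ^ ((2 : ℤ) ^ k) ∈ U ∧ ∀ g, g ∈ U ↔ (g = 1 ∨ g = a ^ ((2 : ℤ) ^ k) ∨ g = a ^ i * b ∨
      g = a ^ ((2 : ℤ) ^ k) * (a ^ i * b)) := by
  set z := a ^ ((2 : ℤ) ^ k)
  set U := TwoGroupLifts.fourGroup z (a ^ i * b) (z_sq h) (refl_sq h i)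
    (z_comm h _ (refl_mem h i)).eq
  have hiff : ∀ g, g ∈ U ↔ (g = 1 ∨ g = z ∨ g = a ^ i * b ∨ g = z * (a ^ i * b)) := fun g =>
    TwoGroupLifts.mem_fourGroup
  refine ⟨U, ?_, TwoGroupLifts.isKleinFour_of_four (z_ne h) (refl_ne_one h i)
    (fun he => refl_ne h i _ he.symm) (z_sq h) (refl_sq h i) (z_comm h _ (refl_mem h i)).eq hiff,
    (hiff _).2 (Or.inr (Or.inr (Or.inl rfl))), (hiff _).2 (Or.inr (Or.inl rfl)), hiff⟩
  intro g hg
  rcases (hiff g).1 hg with rfl | rfl | rfl | rfl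
  exacts [one_mem _, zpow_mem h _, refl_mem h i, S.mul_mem (zpow_mem h _) (refl_mem h i)]

/-- Every fours group in `S` is a standard one. -/
theorem klein_cases [Finite G] {U : Subgroup G} (hUS : U ≤ S) (hU : IsKleinFour U) :
    a ^ ((2 : ℤ) ^ k) ∈ U ∧ ∃ i : ℤ, ∀ g, g ∈ U ↔ (g = 1 ∨ g = a ^ ((2 : ℤ) ^ k) ∨
      g = a ^ i * b ∨ g = a ^ ((2 : ℤ) ^ k) * (a ^ i * b)) := by
  classical
  haveI := hU
  haveI := Fintype.ofFinite U
  set z := a ^ ((2 : ℤ) ^ k)
  have hsq : ∀ g ∈ U, g * g = 1 := fun g hg => TwoGroupLifts.mul_self_of_isKleinFour hU hg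
  have hcard : Nat.card U = 4 := IsKleinFour.card_four
  obtain ⟨w, hwU, i, rfl⟩ : ∃ w ∈ U, ∃ i : ℤ, w = a ^ i * b := by
    by_contra hno
    push Not at hno
    have hsub : (U : Set G) ⊆ (({1, z} : Finset G) : Set G) := by
      intro g hg
      rcases involution_cases h (hUS hg) (hsq g hg) with h1 | h1 | ⟨i, h1⟩
      · simp [h1]
      · simp [h1, z]
      · exact absurd h1 (hno g hg i)
    have h2 := Set.ncard_le_ncard hsub (Finset.finite_toSet _)
    rw [← Nat.card_coe_set_eq, Set.ncard_coe_finset] at h2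
    have := Finset.card_le_two (a := (1 : G)) (b := z)
    simp only [SetLike.coe_sort_coe, hcard] at h2
    omega
  obtain ⟨U', hU'S, hU'k, hwU', hzU', hiff⟩ := klein_refl h i
  haveI := hU'k
  have hle : U ≤ U' := by
    intro g hg
    rcases involution_cases h (hUS hg) (hsq g hg) with h1 | h1 | ⟨j, h1⟩
    · exact h1 ▸ one_mem _
    · exact h1 ▸ hzU'
    · subst h1
      rcases refl_commute h (TwoGroupLifts.commute_of_isKleinFour hU hwU hg) with h2 | h2
      · exact h2 ▸ hwU'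
      · exact h2 ▸ U'.mul_mem hzU' hwU'
  have he : U = U' := Subgroup.eq_of_le_of_card_ge hle
    (by rw [hcard, IsKleinFour.card_four])
  exact ⟨he ▸ hzU', i, he ▸ hiff⟩

/-- An odd order element normalising a subgroup of `S` and fixing the central involution, if
that lies in the subgroup, centralises it. -/
theorem centralizes [Finite G] {Q : Subgroup G} (hQ : Q ≤ S) {g : G}
    (hg : g ∈ Subgroup.normalizer (Q : Set G)) (hodd : Odd (orderOf g))
    (hz : a ^ ((2 : ℤ) ^ k) ∈ Q → Commute g (a ^ ((2 : ℤ) ^ k))) :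
    g ∈ Subgroup.centralizer (Q : Set G) := by
  -- rotations in `Q` are fixed
  have hrot : ∀ i : ℤ, a ^ i ∈ Q → Commute g (a ^ i) := by
    intro i hi
    by_cases h2 : a ^ i * a ^ i = 1
    · rcases zpow_involution h h2 with he | he
      · rw [he]; exact Commute.one_right g
      · rw [he] at hi ⊢; exact hz hi
    have hm : g * a ^ i * g⁻¹ ∈ Q := (Subgroup.mem_normalizer_iff.1 hg _).1 hi
    set r := a ^ i with hr
    obtain ⟨j, hj⟩ : ∃ j : ℤ, g * r * g⁻¹ = a ^ j := by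
      rcases h.cases _ (hQ hm) with he | ⟨j, hj⟩
      · exact he
      · exfalso
        have h3 : g * (r * r) * g⁻¹ = g * r * g⁻¹ * (g * r * g⁻¹) := by group
        rw [hj, refl_sq h] at h3
        exact h2 (conj_eq_one_iff.1 h3)
    have hmem : g * r * g⁻¹ ∈ Subgroup.zpowers r := by
      have hord : orderOf (a ^ j) = orderOf r := by
        rw [← hj]; exact Dihedral.orderOf_conj g r
      have hfin : IsOfFinOrder a := isOfFinOrder_of_finite a
      have heq : Subgroup.zpowers (a ^ j) = Subgroup.zpowers r := by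
        classical
        haveI := Fintype.ofFinite G
        let A := Subgroup.zpowers a
        let Ω : Finset A := Finset.univ.filter fun x => x ^ orderOf r = 1
        have hΩ : Ω.card ≤ orderOf r := IsCyclic.card_pow_eq_one_le (orderOf_pos r)
        have key : ∀ w : A, orderOf (w : G) = orderOf r →
            ((Subgroup.zpowers w : Subgroup A) : Set A).toFinset = Ω := by
          intro w hw
          refine Finset.eq_of_subset_of_card_le (fun x hx => ?_) ?_
          · rw [Set.mem_toFinset] at hx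
            obtain ⟨l, rfl⟩ := Subgroup.mem_zpowers_iff.1 hx
            simp only [Ω, Finset.mem_filter, Finset.mem_univ, true_and]
            rw [← zpow_natCast, ← zpow_mul, mul_comm, zpow_mul, zpow_natCast, ← hw,
              Subgroup.orderOf_coe, pow_orderOf_eq_one, one_zpow]
          · rw [Set.toFinset_card, ← Nat.card_eq_fintype_card]
            simp only [SetLike.coe_sort_coe]
            rw [Nat.card_zpowers, ← Subgroup.orderOf_coe, hw]
            exact hΩ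
        have h1 : Subgroup.zpowers (⟨a ^ j, j, rfl⟩ : A) = Subgroup.zpowers (⟨r, i, rfl⟩ : A) := by
          apply SetLike.coe_injective
          rw [← Set.toFinset_inj]
          exact (key _ hord).trans (key _ rfl).symm
        have h2 := congrArg (Subgroup.map A.subtype) h1
        rwa [MonoidHom.map_zpowers, MonoidHom.map_zpowers] at h2
      rw [hj, ← heq]
      exact Subgroup.mem_zpowers _
    obtain ⟨t, ht⟩ := Subgroup.mem_zpowers_iff.1 hmem
    have hiter : ∀ n : ℕ, g ^ n * r * (g ^ n)⁻¹ = r ^ (t ^ n) := by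
      intro n
      induction n with
      | zero => simp
      | succ n ih =>
        rw [pow_succ', show g * g ^ n * r * (g * g ^ n)⁻¹ = g * (g ^ n * r * (g ^ n)⁻¹) * g⁻¹ by group,
          ih, ← conj_zpow, ← ht, ← zpow_mul, pow_succ']
    have hone := hiter (orderOf g)
    rw [pow_orderOf_eq_one, one_mul, inv_one, mul_one] at hone
    obtain ⟨e, -, he⟩ : ∃ e, e ≤ k + 1 ∧ orderOf r = 2 ^ e := (Nat.dvd_prime_pow Nat.prime_two).1
      (orderOf_rot_dvd h i)
    obtain ⟨e', rfl⟩ : ∃ e', e = e' + 1 := Nat.exists_eq_add_one.2 (Nat.pos_of_ne_zero fun he0 => by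
      rw [he0, pow_zero, orderOf_eq_one_iff] at he
      exact h2 (by rw [he, one_mul]))
    have h1 : ((t : ZMod (orderOf r))) ^ orderOf g = 1 := by
      rw [← Int.cast_pow, ← Int.cast_one, ZMod.intCast_eq_intCast_iff, ← zpow_eq_zpow_iff_modEq,
        zpow_one]
      exact hone.symm
    haveI : NeZero (orderOf r) := ⟨(orderOf_pos r).ne'⟩
    obtain ⟨u, hu⟩ : IsUnit (t : ZMod (orderOf r)) :=
      IsUnit.of_pow_eq_one h1 (orderOf_pos g).ne'
    have hu1 : u = 1 := by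
      have e1 : u ^ orderOf g = 1 := Units.ext (by rw [Units.val_pow_eq_pow_val, hu, h1, Units.val_one])
      have e2 : u ^ Fintype.card (ZMod (orderOf r))ˣ = 1 := pow_card_eq_one
      rw [ZMod.card_units_eq_totient] at e2
      have htot : Nat.totient (orderOf r) = 2 ^ e' * (2 - 1) := by
        rw [he, Nat.totient_prime_pow_succ Nat.prime_two]
      rw [htot] at e2
      have hgcd := Nat.dvd_gcd (orderOf_dvd_of_pow_eq_one e1) (orderOf_dvd_of_pow_eq_one e2)
      rw [show (2 : ℕ) ^ e' * (2 - 1) = 2 ^ e' by norm_num,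
        ((Nat.coprime_two_right.2 hodd).pow_right e').gcd_eq_one, Nat.dvd_one,
        orderOf_eq_one_iff] at hgcd
      exact hgcd
    refine mul_inv_eq_iff_eq_mul.1 ?_
    rw [← ht]
    nth_rewrite 2 [← zpow_one r]
    rw [zpow_eq_zpow_iff_modEq, ← ZMod.intCast_eq_intCast_iff, ← hu, hu1, Units.val_one, Int.cast_one]
  rw [Subgroup.mem_centralizer_iff]
  intro q hq
  rcases h.cases q (hQ hq) with ⟨i, rfl⟩ | ⟨i, rfl⟩
  · exact (hrot i hq).eq.symm
  set s := a ^ i * b with hs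
  have hm : g * s * g⁻¹ ∈ Q := (Subgroup.mem_normalizer_iff.1 hg _).1 hq
  rcases h.cases _ (hQ hm) with ⟨j, hj⟩ | ⟨j, hj⟩
  · exfalso
    rw [hj] at hm
    have hc := hrot j hm
    have hsj : s = a ^ j := by
      have : g * a ^ j * g⁻¹ = g * s * g⁻¹ := by rw [hc.eq, mul_inv_cancel_right, hj]
      exact (mul_left_cancel (mul_right_cancel this)).symm
    exact refl_ne h i j hsj
  set d := j - i with hd
  have hdQ : a ^ (-d) ∈ Q := by
    rw [show -d = i - j by ring, ← refl_mul h]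
    exact Q.mul_mem hq (hj ▸ hm)
  have hstep : g * s * g⁻¹ = a ^ d * s := by
    rw [hj, hs, ← mul_assoc, ← zpow_add, hd, sub_add_cancel]
  have hdc : Commute g (a ^ d) := by
    have := (hrot _ hdQ).inv_right
    rwa [← zpow_neg, neg_neg] at this
  have hiter : ∀ n : ℕ, g ^ n * s * (g ^ n)⁻¹ = (a ^ d) ^ n * s := by
    intro n
    induction n with
    | zero => simp
    | succ n ih =>
      rw [pow_succ' g, show g * g ^ n * s * (g * g ^ n)⁻¹ = g * (g ^ n * s * (g ^ n)⁻¹) * g⁻¹ by group,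
        ih, show g * ((a ^ d) ^ n * s) * g⁻¹ = (g * (a ^ d) ^ n * g⁻¹) * (g * s * g⁻¹) by group,
        (hdc.pow_right n).eq, mul_inv_cancel_right, hstep, ← mul_assoc, ← pow_succ]
  have hone := hiter (orderOf g)
  rw [pow_orderOf_eq_one, one_mul, inv_one, mul_one, right_eq_mul] at hone
  have hd1 : a ^ d = 1 := by
    have e2 : orderOf (a ^ d) ∣ 2 ^ (k + 1) := orderOf_rot_dvd h d
    have hgcd := Nat.dvd_gcd (orderOf_dvd_of_pow_eq_one hone) e2
    rw [((Nat.coprime_two_right.2 hodd).pow_right _).gcd_eq_one, Nat.dvd_one,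
      orderOf_eq_one_iff] at hgcd
    exact hgcd
  rw [hd1, one_mul] at hstep
  exact (mul_inv_eq_iff_eq_mul.1 hstep).symm

end CfsgLib.Involution.DihedralSylow
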