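import Mathlib
import Cfsg.Agent.Lib.Involution.Basic

/-!
# The Baer–Suzuki theorem (proof of Alperin and Lyons)
-/

namespace CfsgLib.Involution.BaerSuzuki

open CfsgLib.Involution.Basic CfsgLib.Involution.Dihedral

variable {G : Type*} [Group G] [Finite G] {p : ℕ} [Fact p.Prime]

/-- The conjugates of `X` contained in `K`. -/
def confined (X K : Subgroup G) : Set (Subgroup G) :=
  {Y | (∃ g : G, Y = X.map (MulAut.conj g).toMonoidHom) ∧ Y ≤ K}

omit [Finite G] in
theorem map_conj_conj (X : Subgroup G) (a b : G) :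
    (X.map (MulAut.conj a).toMonoidHom).map (MulAut.conj b).toMonoidHom =
      X.map (MulAut.conj (b * a)).toMonoidHom := by
  rw [Subgroup.map_map]; congr 1; ext x; simp [mul_assoc]

/-- Some conjugate of `X` in `K` but outside `I` normalises the join of `I`. -/
theorem exists_normalizing (X K : Subgroup G) (hK : IsPGroup p K) (I : Set (Subgroup G))
    (hI : I ⊆ confined X K) (hne : confined X K ≠ I) :
    ∃ Y ∈ confined X K, Y ∉ I ∧ Y ≤ Subgroup.normalizer ((sSup I : Subgroup G) : Set G) := by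
  classical
  have hDK : sSup I ≤ K := sSup_le fun Y hY => (hI hY).2
  have hsub : I ⊆ confined X (sSup I) := fun Y hY => ⟨(hI hY).1, le_sSup hY⟩
  by_cases hex : confined X (sSup I) = I
  swap
  · obtain ⟨Y, hY, hYI⟩ : ∃ Y ∈ confined X (sSup I), Y ∉ I := by
      by_contra h
      push Not at h
      exact hex (Set.Subset.antisymm h hsub)
    exact ⟨Y, ⟨hY.1, hY.2.trans hDK⟩, hYI, hY.2.trans Subgroup.le_normalizer⟩
  obtain ⟨L, ⟨⟨hDL, hLK, hLI⟩, hmax⟩⟩ :=
    Set.Finite.exists_maximal (s := {L : Subgroup G | sSup I ≤ L ∧ L ≤ K ∧ confined X L = I})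
      (Set.toFinite _) ⟨sSup I, le_rfl, hDK, hex⟩
  have hlt : L < K := lt_of_le_of_ne hLK fun h => hne (h ▸ hLI)
  haveI := hK.isNilpotent
  have hltL : L.subgroupOf K < ⊤ := by
    rw [lt_top_iff_ne_top, Ne, Subgroup.subgroupOf_eq_top]
    exact fun h => hlt.not_ge h
  have hnc := Group.normalizerCondition_of_isNilpotent (G := K) _ hltL
  obtain ⟨y, hy, hyL⟩ := SetLike.exists_of_lt hnc
  set M := K ⊓ Subgroup.normalizer (L : Set G) with hM
  have hyN : (y : G) ∈ Subgroup.normalizer (L : Set G) := by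
    rw [Subgroup.mem_normalizer_iff] at hy ⊢
    intro x
    constructor
    · intro hx
      have := (hy ⟨x, hLK hx⟩).1 hx
      exact this
    · intro hx
      have hxK : x ∈ K := by
        have := K.mul_mem (K.mul_mem (K.inv_mem y.2) (hLK hx)) y.2
        rwa [show (y : G)⁻¹ * ((y : G) * x * (y : G)⁻¹) * y = x by group] at this
      exact (hy ⟨x, hxK⟩).2 hx
  have hMne : confined X M ≠ I := fun h => by
    have hLM : L ≤ M := le_inf hLK Subgroup.le_normalizer
    have hge : M ≤ L := hmax ⟨hDL.trans hLM, inf_le_left, h⟩ hLM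
    exact hyL (Subgroup.mem_subgroupOf.2 (hge ⟨y.2, hyN⟩))
  obtain ⟨Y, hY, hYI⟩ : ∃ Y ∈ confined X M, Y ∉ I := by
    by_contra h
    push Not at h
    refine hMne (Set.Subset.antisymm h fun Y hY => ⟨(hI hY).1, ?_⟩)
    exact ((le_sSup hY).trans hDL).trans (le_inf hLK Subgroup.le_normalizer)
  refine ⟨Y, ⟨hY.1, hY.2.trans inf_le_left⟩, hYI, fun z hz => ?_⟩
  have hzL : z ∈ Subgroup.normalizer (L : Set G) := (hY.2 hz).2
  have hperm : ∀ a : G, a ∈ Subgroup.normalizer (L : Set G) →
      (sSup I).map (MulAut.conj a).toMonoidHom ≤ sSup I := by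
    intro a ha
    rw [sSup_eq_iSup, Subgroup.map_iSup]
    refine iSup_le fun Z => ?_
    rw [Subgroup.map_iSup]
    refine iSup_le fun hZ => ?_
    have hmemI : Z.map (MulAut.conj a).toMonoidHom ∈ I := by
      rw [← hLI] at hZ ⊢
      obtain ⟨⟨g, rfl⟩, hle⟩ := hZ
      refine ⟨⟨a * g, map_conj_conj X g a⟩, ?_⟩
      rintro _ ⟨w, hw, rfl⟩
      exact (Subgroup.mem_normalizer_iff.1 ha w).1 (hle hw)
    exact le_iSup₂_of_le _ hmemI le_rfl
  rw [Subgroup.mem_normalizer_iff]
  intro x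
  refine ⟨fun hx => hperm z hzL ⟨x, hx, rfl⟩, fun hx => ?_⟩
  have := hperm z⁻¹ (inv_mem hzL) ⟨_, hx, rfl⟩
  simpa [mul_assoc] using this

/-- Baer–Suzuki: if `X` generates a `p`-group with each conjugate, the conjugates generate one. -/
theorem exists_normal (X : Subgroup G)
    (h : ∀ g : G, IsPGroup p ↥(X ⊔ X.map (MulAut.conj g).toMonoidHom)) :
    ∃ N : Subgroup G, N.Normal ∧ IsPGroup p N ∧ X ≤ N := by
  classical
  have hX : IsPGroup p X := (h 1).to_le le_sup_left
  -- conjugate pairs generate `p`-groups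
  have hpair : ∀ a b : G, IsPGroup p ↥(X.map (MulAut.conj a).toMonoidHom ⊔
      X.map (MulAut.conj b).toMonoidHom) := by
    intro a b
    have := (h (a⁻¹ * b)).map (MulAut.conj a).toMonoidHom
    rwa [Subgroup.map_sup, map_conj_conj, mul_inv_cancel_left] at this
  have hconst : ∀ P Q : Sylow p G, confined X (P : Subgroup G) = confined X (Q : Subgroup G) := by
    by_contra hcon
    push Not at hcon
    obtain ⟨P0, Q0, hPQ0⟩ := hcon
    obtain ⟨⟨P, Q⟩, hPQ, hmax⟩ := Set.Finite.exists_maximalFor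
      (fun q : Sylow p G × Sylow p G =>
        (confined X (q.1 : Subgroup G) ∩ confined X (q.2 : Subgroup G)).ncard)
      {q | confined X (q.1 : Subgroup G) ≠ confined X (q.2 : Subgroup G)} (Set.toFinite _)
      ⟨(P0, Q0), hPQ0⟩
    simp only [Set.mem_setOf_eq] at hPQ
    set I := confined X (P : Subgroup G) ∩ confined X (Q : Subgroup G) with hIdef
    have hcard : ∀ A B : Sylow p G,
        (confined X (A : Subgroup G)).ncard ≤ (confined X (B : Subgroup G)).ncard := by
      intro A B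
      obtain ⟨g, hg⟩ := exists_conj_le B A.2
      refine Set.ncard_le_ncard_of_injOn (fun Y => Y.map (MulAut.conj g).toMonoidHom) ?_
        (fun Y _ Z _ e => Subgroup.map_injective (MulAut.conj g).injective e)
      rintro Y ⟨⟨a, rfl⟩, hle⟩
      refine ⟨⟨g * a, map_conj_conj X a g⟩, ?_⟩
      rintro _ ⟨w, hw, rfl⟩
      exact hg w (hle hw)
    have hPI : confined X (P : Subgroup G) ≠ I := fun e => hPQ <|
      Set.eq_of_subset_of_ncard_le (Set.inter_eq_left.1 e.symm) (hcard Q P)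
    have hQI : confined X (Q : Subgroup G) ≠ I := fun e => hPQ <| Eq.symm <|
      Set.eq_of_subset_of_ncard_le (Set.inter_eq_right.1 e.symm) (hcard P Q)
    obtain ⟨Y, hY, hYI, hYn⟩ := exists_normalizing X P P.2 I Set.inter_subset_left hPI
    obtain ⟨Z, hZ, hZI, hZn⟩ := exists_normalizing X Q Q.2 I Set.inter_subset_right hQI
    obtain ⟨⟨a, ha⟩, hYP⟩ := hY
    obtain ⟨⟨b, hb⟩, hZQ⟩ := hZ
    have hYZ : IsPGroup p ↥(Y ⊔ Z) := by rw [ha, hb]; exact hpair a b
    have hD : IsPGroup p ↥(sSup I : Subgroup G) := P.2.to_le (sSup_le fun W hW => hW.1.2)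
    have hall := IsPGroup.to_sup_of_normal_left' hD hYZ (sup_le hYn hZn)
    obtain ⟨R, hR⟩ := hall.exists_le_sylow
    have hIR : ∀ W ∈ I, W ∈ confined X (R : Subgroup G) := fun W hW =>
      ⟨hW.1.1, ((le_sSup hW).trans le_sup_left).trans hR⟩
    have key : ∀ (T : Sylow p G) (W : Subgroup G), I ⊆ confined X (T : Subgroup G) →
        W ∈ confined X (T : Subgroup G) → W ∉ I → W ∈ confined X (R : Subgroup G) →
        confined X (T : Subgroup G) = confined X (R : Subgroup G) := by
      intro T W hIT hWT hWI hWR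
      by_contra hne
      have hlt : I ⊂ confined X (T : Subgroup G) ∩ confined X (R : Subgroup G) :=
        (Set.ssubset_iff_of_subset (Set.subset_inter hIT fun V hV => hIR V hV)).2 ⟨W, ⟨hWT, hWR⟩, hWI⟩
      have h2 := Set.ncard_lt_ncard hlt (Set.toFinite _)
      have h3 := hmax (j := (T, R)) hne h2.le
      exact h2.not_ge h3
    have h1 := key P Y Set.inter_subset_left ⟨⟨a, ha⟩, hYP⟩ hYI
      ⟨⟨a, ha⟩, (le_sup_left.trans le_sup_right).trans hR⟩
    have h2 := key Q Z Set.inter_subset_right ⟨⟨b, hb⟩, hZQ⟩ hZI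
      ⟨⟨b, hb⟩, (le_sup_right.trans le_sup_right).trans hR⟩
    exact hPQ (h1.trans h2.symm)
  obtain ⟨P, hXP⟩ := hX.exists_le_sylow
  have hle : Subgroup.normalClosure (X : Set G) ≤ P := by
    refine (Subgroup.closure_le (P : Subgroup G)).2 fun y hy => ?_
    rw [Group.mem_conjugatesOfSet_iff] at hy
    obtain ⟨x, hx, hxy⟩ := hy
    obtain ⟨g, rfl⟩ := isConj_iff.1 hxy
    obtain ⟨Q, hQ⟩ := (hX.map (MulAut.conj g).toMonoidHom).exists_le_sylow
    have hmem : X.map (MulAut.conj g).toMonoidHom ∈ confined X (Q : Subgroup G) := ⟨⟨g, rfl⟩, hQ⟩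
    rw [hconst Q P] at hmem
    exact hmem.2 ⟨x, hx, rfl⟩
  exact ⟨_, Subgroup.normalClosure_normal, P.2.to_le hle, Subgroup.le_normalClosure⟩

/-- An involution outside every normal 2-subgroup inverts a nontrivial element of odd order. -/
theorem exists_inverted_odd (t : G) (ht : orderOf t = 2)
    (hO : ∀ N : Subgroup G, N.Normal → IsPGroup 2 N → t ∉ N) :
    ∃ h : G, h ≠ 1 ∧ Odd (orderOf h) ∧ t * h * t⁻¹ = h⁻¹ := by
  haveI : Fact (Nat.Prime 2) := ⟨Nat.prime_two⟩
  by_contra hcon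
  push Not at hcon
  suffices h : ∀ g : G, IsPGroup 2 ↥(Subgroup.zpowers t ⊔
      (Subgroup.zpowers t).map (MulAut.conj g).toMonoidHom) by
    obtain ⟨N, hN, hN2, hle⟩ := exists_normal _ h
    exact hO N hN hN2 (hle (Subgroup.mem_zpowers t))
  intro g
  rw [MonoidHom.map_zpowers]
  set s := (MulAut.conj g).toMonoidHom t with hs
  have hs2 : orderOf s = 2 := (orderOf_conj g t).trans ht
  obtain ⟨k, m, hm, hkm⟩ := Nat.exists_eq_two_pow_mul_odd (orderOf_pos (t * s)).ne'
  have hm1 : m = 1 := by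
    by_contra hm1
    have hord : orderOf ((t * s) ^ 2 ^ k) = m := by
      rw [orderOf_pow' _ (by positivity), hkm, Nat.gcd_eq_right (Dvd.intro _ rfl),
        Nat.mul_div_cancel_left _ (by positivity)]
    refine hcon ((t * s) ^ 2 ^ k) (fun h1 => hm1 ?_) (hord ▸ hm) (conj_pow (conj_mul_left ht hs2) _)
    rw [← hord, h1, orderOf_one]
  rw [hm1, mul_one] at hkm
  have hR := CfsgLib.Involution.Basic.isPGroup_zpowers (p := 2) hkm
  have := IsPGroup.to_sup_of_normal_left' hR (isPGroup_zpowers_of_two ht) ?_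
  · refine this.to_le (sup_le le_sup_right (Subgroup.zpowers_le.2 ?_))
    have e : s = t * (t * s) := by rw [← mul_assoc, mul_self ht, one_mul]
    have hmem : t * (t * s) ∈ Subgroup.zpowers (t * s) ⊔ Subgroup.zpowers t :=
      mul_mem (Subgroup.mem_sup_right (Subgroup.mem_zpowers t))
        (Subgroup.mem_sup_left (Subgroup.mem_zpowers _))
    rwa [← e] at hmem
  · rw [Subgroup.zpowers_le, Subgroup.mem_normalizer_iff]
    intro x
    constructor
    · rintro ⟨j, rfl⟩
      exact ⟨-j, (conj_zpow (conj_mul_left ht hs2) j).symm⟩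
    · rintro ⟨j, hj⟩
      refine ⟨-j, ?_⟩
      calc (t * s) ^ (-j) = t * (t * s) ^ j * t⁻¹ := (conj_zpow (conj_mul_left ht hs2) j).symm
        _ = t * (t * x * t⁻¹) * t⁻¹ := by rw [← hj]
        _ = (t * t) * x * (t * t)⁻¹ := by group
        _ = x := by rw [mul_self ht]; group

end CfsgLib.Involution.BaerSuzuki
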