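import Mathlib
import Cfsg.Prelude.Def_Involutions
import Cfsg.Agent.Lib.Involution.Basic

/-!
# Strongly embedded subgroups and the action on cosets
-/

namespace CfsgLib.Involution.SE

open CfsgLib.Involution.Dihedral CfsgLib.Involution.Basic

variable {G : Type*} [Group G] [Finite G] {H : Subgroup G}

theorem mem_of_conj_mem (hH : Cfsg.IsStronglyEmbedded H) {g t : G} (ht : t ∈ H)
    (h2 : orderOf t = 2) (hgt : g * t * g⁻¹ ∈ H) : g ∈ H := by
  by_contra hg
  have := even_of_involution_mem (H ⊓ H.map (MulAut.conj g).toMonoidHom) (t := g * t * g⁻¹)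
    ⟨hgt, t, ht, rfl⟩ ((orderOf_conj g t).trans h2)
  exact Nat.not_even_iff_odd.2 (hH.2.2 g hg) this

omit [Finite G] in
theorem fixes_mk_iff {t g : G} : t • (g : G ⧸ H) = g ↔ g⁻¹ * t * g ∈ H := by
  rw [MulAction.Quotient.smul_mk, smul_eq_mul, QuotientGroup.eq, ← H.inv_mem_iff]
  simp [mul_assoc]

theorem fixed_unique (hH : Cfsg.IsStronglyEmbedded H) {t : G} (h2 : orderOf t = 2) {x y : G ⧸ H}
    (hx : t • x = x) (hy : t • y = y) : x = y := by
  induction x using QuotientGroup.induction_on with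
  | H a =>
    induction y using QuotientGroup.induction_on with
    | H b =>
      rw [fixes_mk_iff] at hx hy
      have h := mem_of_conj_mem hH (g := b⁻¹ * a) hx
        (by rw [← inv_inv a, inv_inv a⁻¹]; simpa using (orderOf_conj a⁻¹ t).trans h2)
        (by convert hy using 1; group)
      exact (QuotientGroup.eq.2 h).symm

theorem odd_index (hH : Cfsg.IsStronglyEmbedded H) : Odd (Nat.card (G ⧸ H)) := by
  classical
  haveI := Fintype.ofFinite (G ⧸ H)
  haveI : Fact (Nat.Prime 2) := ⟨Nat.prime_two⟩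
  obtain ⟨t, htH, ht⟩ := exists_involution_of_even H hH.2.1
  set σ : Equiv.Perm (G ⧸ H) := MulAction.toPerm t
  have hσ : σ ^ 2 ^ 1 = 1 := by
    ext c
    simp [σ, pow_succ, smul_smul, mul_self ht]
  have h1 := Equiv.Perm.card_compl_support_modEq (p := 2) (n := 1) hσ
  have h2 : (σ.supportᶜ : Finset (G ⧸ H)) = {((1 : G) : G ⧸ H)} := by
    ext c
    simp only [Finset.mem_compl, Equiv.Perm.mem_support, not_not, Finset.mem_singleton, σ,
      MulAction.toPerm_apply]
    constructor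
    · exact fun h => fixed_unique hH ht h (by rw [fixes_mk_iff]; simpa using htH)
    · rintro rfl; rw [fixes_mk_iff]; simpa using htH
  rw [h2, Finset.card_singleton, Nat.ModEq] at h1
  rw [Nat.card_eq_fintype_card, Nat.odd_iff]
  omega

theorem exists_fixed (hH : Cfsg.IsStronglyEmbedded H) {t : G} (h2 : orderOf t = 2) :
    ∃ x : G ⧸ H, t • x = x := by
  classical
  haveI := Fintype.ofFinite (G ⧸ H)
  haveI : Fact (Nat.Prime 2) := ⟨Nat.prime_two⟩
  have hσ : (MulAction.toPerm t : Equiv.Perm (G ⧸ H)) ^ 2 ^ 1 = 1 := by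
    ext c
    simp [pow_succ, smul_smul, mul_self h2]
  obtain ⟨x, hx⟩ := Equiv.Perm.exists_fixed_point_of_prime (p := 2) (n := 1) (by
    have h := odd_index hH
    rw [Nat.card_eq_fintype_card, Nat.odd_iff] at h
    omega) hσ
  exact ⟨x, hx⟩

theorem commute_fixes (hH : Cfsg.IsStronglyEmbedded H) {t g : G} (h2 : orderOf t = 2) {x : G ⧸ H}
    (hx : t • x = x) (hc : Commute g t) : g • x = x :=
  (fixed_unique hH h2 hx (by rw [smul_smul, ← hc.eq, mul_smul, hx])).symm

/-- Involutions with different fixed points have product of odd order. -/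
theorem odd_mul (hH : Cfsg.IsStronglyEmbedded H) {v s : G} (hv : orderOf v = 2)
    (hs : orderOf s = 2) {x : G ⧸ H} (hvx : v • x = x) (hsx : s • x ≠ x) :
    Odd (orderOf (v * s)) := by
  rw [← Nat.not_even_iff_odd]
  intro he
  have hw := half_orderOf he
  exact hsx (commute_fixes hH hw (commute_fixes hH hv hvx (half_commute_left hv hs he))
    (half_commute_right hv hs he).symm)

/-- For `v` fixing `x`, conjugation by an involution interchanging `x` and `y` gives every
involution fixing `y` exactly once. -/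
theorem existsUnique_swap (hH : Cfsg.IsStronglyEmbedded H) {v s : G} {x y : G ⧸ H} (hxy : x ≠ y)
    (hv : orderOf v = 2) (hvx : v • x = x) (hs : orderOf s = 2) (hsy : s • y = y) :
    ∃! i : G, (orderOf i = 2 ∧ i • x = y) ∧ i * v * i⁻¹ = s := by
  have hsx : s • x ≠ x := fun h => hxy (fixed_unique hH hs h hsy)
  have hvs : v ≠ s := fun h => hsx (h ▸ hvx)
  obtain ⟨d, ⟨k, hk⟩, he⟩ := exists_conj_of_odd hv hs (odd_mul hH hv hs hvx hsx)
  simp only at hk
  have hdv : d * v = v * (v * s) ^ (-k) := by rw [← hk]; exact zpow_mul_left (conj_mul_left hv hs) k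
  refine ⟨d * v, ⟨⟨?_, ?_⟩, ?_⟩, ?_⟩
  · rw [hdv]; exact reflection_orderOf hv hs hvs _
  · rw [mul_smul, hvx]
    refine fixed_unique hH hs ?_ hsy
    rw [← he, smul_smul, show d * v * d⁻¹ * d = d * v by group, mul_smul, hvx]
  · rw [show d * v * v * (d * v)⁻¹ = d * v * d⁻¹ by group, he]
  · rintro i ⟨⟨hi, hix⟩, hiv⟩
    have hix' : i • x ≠ x := by rw [hix]; exact Ne.symm hxy
    obtain ⟨m, hm⟩ := odd_mul hH hv hi hvx hix'
    -- `v * i` is determined by its square `v * s`
    have hsq : (v * i) ^ 2 = v * s := by rw [pow_two, ← hiv, inv_eq hi]; group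
    have hd2 : orderOf (d * v) = 2 := by rw [hdv]; exact reflection_orderOf hv hs hvs _
    have hdx : (d * v) • x = y := by
      rw [mul_smul, hvx]
      refine fixed_unique hH hs ?_ hsy
      rw [← he, smul_smul, show d * v * d⁻¹ * d = d * v by group, mul_smul, hvx]
    obtain ⟨m', hm'⟩ := odd_mul hH hv hd2 hvx (by rw [hdx]; exact Ne.symm hxy)
    have hsq' : (v * (d * v)) ^ 2 = v * s := by
      rw [pow_two, ← he]
      have hdd : d * v * d * v = 1 := by rw [mul_assoc (d*v)]; exact mul_self hd2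
      calc v * (d * v) * (v * (d * v)) = v * d * (v * v) * d * v := by group
        _ = v * (d * d) * v := by rw [mul_self hv]; group
        _ = v * (d * v * (v⁻¹ * d * v)) := by group
        _ = v * (d * v * d⁻¹) := by
          congr 2
          have h1 : v * d * v = d⁻¹ := eq_inv_of_mul_eq_one_right (by rw [← hdd]; group)
          rw [inv_eq hv, h1]
    have e : v * i = v * (d * v) := by
      have h1 : orderOf (v * i) = orderOf (v * (d * v)) := by
        have a1 : orderOf ((v * i) ^ 2) = orderOf (v * i) := by rw [orderOf_pow' _ two_ne_zero, hm, show Nat.gcd (2 * m + 1) 2 = 1 by simp, Nat.div_one]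
        have a2 : orderOf ((v * (d * v)) ^ 2) = orderOf (v * (d * v)) :=
          by rw [orderOf_pow' _ two_ne_zero, hm', show Nat.gcd (2 * m' + 1) 2 = 1 by simp, Nat.div_one]
        rw [← a1, ← a2, hsq, hsq']
      calc v * i = (v * i) ^ (2 * (m + 1)) := by
            rw [show 2 * (m + 1) = orderOf (v * i) + 1 by omega, pow_succ, pow_orderOf_eq_one, one_mul]
        _ = (v * (d * v)) ^ (2 * (m + 1)) := by rw [pow_mul, hsq, pow_mul, hsq']
        _ = v * (d * v) := by
            rw [show 2 * (m + 1) = orderOf (v * (d * v)) + 1 by omega, pow_succ, pow_orderOf_eq_one,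
              one_mul]
    exact mul_left_cancel e

theorem exists_involution_fixing (hH : Cfsg.IsStronglyEmbedded H) (x : G ⧸ H) :
    ∃ v : G, orderOf v = 2 ∧ v • x = x := by
  induction x using QuotientGroup.induction_on with
  | H a =>
    obtain ⟨t, htH, ht⟩ := exists_involution_of_even H hH.2.1
    refine ⟨a * t * a⁻¹, (orderOf_conj a t).trans ht, fixes_mk_iff.2 ?_⟩
    convert htH using 1; group

/-- The number of involutions interchanging two points. -/
theorem card_swaps (hH : Cfsg.IsStronglyEmbedded H) {x y : G ⧸ H} (hxy : x ≠ y) :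
    Nat.card {i : G // orderOf i = 2 ∧ i • x = y} = Nat.card {t : G // orderOf t = 2 ∧ t ∈ H} := by
  obtain ⟨v, hv, hvx⟩ := exists_involution_fixing hH x
  have hmap : ∀ i : G, orderOf i = 2 ∧ i • x = y →
      orderOf (i * v * i⁻¹) = 2 ∧ (i * v * i⁻¹) • y = y := by
    rintro i ⟨hi, hix⟩
    refine ⟨(orderOf_conj i v).trans hv, ?_⟩
    rw [← hix, smul_smul, inv_mul_cancel_right, mul_smul, hvx]
  let f : {i : G // orderOf i = 2 ∧ i • x = y} → {t : G // orderOf t = 2 ∧ t • y = y} :=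
    fun i => ⟨_, hmap i.1 i.2⟩
  have hb : Function.Bijective f := by
    constructor
    · intro a b h
      have h' : (a : G) * v * (a : G)⁻¹ = (b : G) * v * (b : G)⁻¹ := congrArg Subtype.val h
      obtain ⟨i, -, hu⟩ := existsUnique_swap hH hxy hv hvx (hmap a.1 a.2).1 (hmap a.1 a.2).2
      exact Subtype.ext ((hu a.1 ⟨a.2, rfl⟩).trans (hu b.1 ⟨b.2, h'.symm⟩).symm)
    · intro s
      obtain ⟨i, ⟨hi, hiv⟩, -⟩ := existsUnique_swap hH hxy hv hvx s.2.1 s.2.2
      exact ⟨⟨i, hi⟩, Subtype.ext hiv⟩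
  rw [Nat.card_eq_of_bijective f hb]
  induction y using QuotientGroup.induction_on with
  | H a =>
    refine Nat.card_congr (Equiv.subtypeEquiv (MulAut.conj a⁻¹).toEquiv fun t => ?_)
    rw [fixes_mk_iff]
    change _ ↔ orderOf (a⁻¹ * t * a⁻¹⁻¹) = 2 ∧ a⁻¹ * t * a⁻¹⁻¹ ∈ H
    rw [orderOf_conj, inv_inv]

theorem transitive_pair (hH : Cfsg.IsStronglyEmbedded H) {u s t : G} (hu : orderOf u = 2)
    (huH : u ∉ H) (hs : orderOf s = 2) (hsH : s ∈ H) (ht : orderOf t = 2) (htH : t ∈ H) :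
    ∃ d ∈ H ⊓ H.map (MulAut.conj u).toMonoidHom, d * s * d⁻¹ = t := by
  have hne : ((u : G) : G ⧸ H) ≠ ((1 : G) : G ⧸ H) := by
    rw [Ne, QuotientGroup.eq, mul_one, H.inv_mem_iff]; exact huH
  have hfix : ∀ {w : G}, w ∈ H → w • ((1 : G) : G ⧸ H) = ((1 : G) : G ⧸ H) := fun hw => by
    rw [fixes_mk_iff]; simpa using hw
  obtain ⟨v, hv, hvx⟩ := exists_involution_fixing hH (u : G ⧸ H)
  obtain ⟨i, ⟨⟨hi, hix⟩, hiv⟩, -⟩ := existsUnique_swap hH hne hv hvx hs (hfix hsH)
  obtain ⟨j, ⟨⟨hj, hjx⟩, hjv⟩, -⟩ := existsUnique_swap hH hne hv hvx ht (hfix htH)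
  have hi' : i • ((1 : G) : G ⧸ H) = (u : G ⧸ H) := by
    rw [← hix, smul_smul, mul_self hi, one_smul]
  have hj' : j • ((1 : G) : G ⧸ H) = (u : G ⧸ H) := by
    rw [← hjx, smul_smul, mul_self hj, one_smul]
  have h1 : (j * i) • ((1 : G) : G ⧸ H) = ((1 : G) : G ⧸ H) := by rw [mul_smul, hi', hjx]
  have h2 : (j * i) • (u : G ⧸ H) = (u : G ⧸ H) := by rw [mul_smul, hix, hj']
  rw [fixes_mk_iff] at h1 h2
  refine ⟨j * i, ⟨by simpa using h1, u⁻¹ * (j * i) * u, h2, ?_⟩, ?_⟩
  · change u * (u⁻¹ * (j * i) * u) * u⁻¹ = j * i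
    group
  · rw [← hjv, ← hiv, mul_inv_rev]
    calc j * i * (i * v * i⁻¹) * (i⁻¹ * j⁻¹) = j * (i * i) * v * (i * i)⁻¹ * j⁻¹ := by group
      _ = j * v * j⁻¹ := by rw [mul_self hi]; group

theorem all_conj (hH : Cfsg.IsStronglyEmbedded H) {a b : G} (ha : orderOf a = 2)
    (hb : orderOf b = 2) : IsConj a b := by
  have key : ∀ c : G, orderOf c = 2 → ∃ g : G, g * c * g⁻¹ ∈ H := by
    intro c hc
    obtain ⟨x, hx⟩ := exists_fixed hH hc
    induction x using QuotientGroup.induction_on with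
    | H g => exact ⟨g⁻¹, by rw [inv_inv]; exact fixes_mk_iff.1 hx⟩
  obtain ⟨g, hg⟩ := key a ha
  obtain ⟨g', hg'⟩ := key b hb
  -- an involution outside `H`
  obtain ⟨x, hx⟩ : ∃ x : G ⧸ H, x ≠ ((1 : G) : G ⧸ H) := by
    by_contra h
    push Not at h
    apply hH.1
    rw [eq_top_iff]
    intro z _
    have := (h z).symm
    rw [QuotientGroup.eq] at this
    simpa using this
  obtain ⟨u, hu, hux⟩ := exists_involution_fixing hH x
  have huH : u ∉ H := fun h => hx (fixed_unique hH hu hux (fixes_mk_iff.2 (by simpa using h)))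
  obtain ⟨d, -, hd⟩ := transitive_pair hH hu huH ((orderOf_conj g a).trans ha) hg
    ((orderOf_conj g' b).trans hb) hg'
  refine isConj_iff.2 ⟨g'⁻¹ * d * g, ?_⟩
  calc g'⁻¹ * d * g * a * (g'⁻¹ * d * g)⁻¹ = g'⁻¹ * (d * (g * a * g⁻¹) * d⁻¹) * g' := by group
    _ = b := by rw [hd]; group

end CfsgLib.Involution.SE
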