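import Mathlib
import Cfsg.Prelude.Def_Involutions
import Cfsg.Agent.Lib.Involution.StronglyEmbedded

/-!
# Groups in which every involution centraliser is an elementary abelian 2-group

`T` is a noncyclic non-normal Sylow 2-subgroup, `H` its normaliser, `u` an involution outside `H`
and `D = H ∩ uHu⁻¹`. We show that `u` inverts `D`, `H = T ⋊ D`, `N(D) = D⟨u⟩`, that `G` is sharply
triply transitive on the cosets of `H` and `T` is regular on the cosets other than `H`.
-/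

namespace CfsgLib.Involution.ElemCentralizer

open CfsgLib.Involution.Dihedral CfsgLib.Involution.Basic CfsgLib.Involution.SE

variable {G : Type*} [Group G] [Finite G] (T : Sylow 2 G)

/-- The standing hypothesis. -/
def Hyp : Prop :=
  ¬ IsCyclic (T : Subgroup G) ∧ ¬ (T : Subgroup G).Normal ∧
    ∀ t : G, orderOf t = 2 → IsMulCommutative (Subgroup.centralizer ({t} : Set G)) ∧
      ∀ c ∈ Subgroup.centralizer ({t} : Set G), c ^ 2 = 1

/-- The normaliser of `T`. -/
abbrev nrm : Subgroup G := Subgroup.normalizer ((T : Subgroup G) : Set G)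

/-- The two-point stabiliser attached to `u`. -/
abbrev dd (u : G) : Subgroup G := nrm T ⊓ (nrm T).map (MulAut.conj u).toMonoidHom

variable {T}
variable (h : Hyp T)

include h

omit [Finite G] in
theorem sq_of_commute {v c : G} (hv : orderOf v = 2) (hc : Commute c v) : c * c = 1 := by
  rw [← pow_two]
  exact (h.2.2 v hv).2 c (Subgroup.mem_centralizer_singleton_iff.2 hc.eq)

omit [Finite G] in
theorem odd_eq_one {v c : G} (hv : orderOf v = 2) (hc : Commute c v) (hodd : Odd (orderOf c)) :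
    c = 1 := by
  by_contra hc1
  rw [orderOf_eq_two (sq_of_commute h hv hc) hc1, Nat.odd_iff] at hodd
  omega

theorem exists_central : ∃ z ∈ T, orderOf z = 2 ∧ ∀ c ∈ T, Commute c z := by
  haveI : Fact (Nat.Prime 2) := ⟨Nat.prime_two⟩
  haveI : Nontrivial (T : Subgroup G) := by
    by_contra hn
    rw [not_nontrivial_iff_subsingleton] at hn
    exact h.1 isCyclic_of_subsingleton
  haveI := T.2.center_nontrivial
  have hev : 2 ∣ Nat.card (Subgroup.center (T : Subgroup G)) := by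
    obtain ⟨e, he, hh⟩ :=
      (T.2.to_subgroup (Subgroup.center (T : Subgroup G))).nontrivial_iff_card.1 inferInstance
    rw [hh]; exact dvd_pow_self 2 (by omega)
  obtain ⟨z, hz⟩ := exists_prime_orderOf_dvd_card' 2 hev
  refine ⟨((z : (T : Subgroup G)) : G), z.1.2, ?_, fun c hc => ?_⟩
  · rw [Subgroup.orderOf_coe, Subgroup.orderOf_coe]; exact hz
  · exact congrArg Subtype.val (Subgroup.mem_center_iff.1 z.2 ⟨c, hc⟩)

theorem comm_T {x y : G} (hx : x ∈ T) (hy : y ∈ T) : Commute x y := by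
  obtain ⟨z, -, hz, hc⟩ := exists_central h
  exact congrArg Subtype.val ((h.2.2 z hz).1.is_comm.comm
    ⟨x, Subgroup.mem_centralizer_singleton_iff.2 (hc x hx).eq⟩
    ⟨y, Subgroup.mem_centralizer_singleton_iff.2 (hc y hy).eq⟩)

theorem sq_T {x : G} (hx : x ∈ T) : x * x = 1 := by
  obtain ⟨z, -, hz, hc⟩ := exists_central h
  exact sq_of_commute h hz (hc x hx)

theorem orderOf_T {x : G} (hx : x ∈ T) (hx1 : x ≠ 1) : orderOf x = 2 :=
  orderOf_eq_two (sq_T h hx) hx1

theorem cent_eq {t : G} (ht : t ∈ T) (ht1 : t ≠ 1) :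
    Subgroup.centralizer ({t} : Set G) = (T : Subgroup G) := by
  refine T.3 (fun c => ⟨1, Subtype.ext ?_⟩) fun c hc =>
    Subgroup.mem_centralizer_singleton_iff.2 (comm_T h hc ht).eq
  rw [SubgroupClass.coe_pow, pow_one]
  exact (h.2.2 t (orderOf_T h ht ht1)).2 c.1 c.2

theorem mem_T_of_commute {c t : G} (ht : t ∈ T) (ht1 : t ≠ 1) (hc : Commute c t) : c ∈ T := by
  have : c ∈ Subgroup.centralizer ({t} : Set G) := Subgroup.mem_centralizer_singleton_iff.2 hc.eq
  rwa [cent_eq h ht ht1] at this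

omit h in
theorem inv_mem_T {s : G} (hs : s ∈ nrm T) (hs2 : orderOf s = 2) : s ∈ T := by
  haveI : Fact (Nat.Prime 2) := ⟨Nat.prime_two⟩
  have hsup := IsPGroup.to_sup_of_normal_left' T.2 (isPGroup_zpowers_of_two hs2)
    (Subgroup.zpowers_le.2 hs)
  have hm : s ∈ (T : Subgroup G) ⊔ Subgroup.zpowers s :=
    Subgroup.mem_sup_right (Subgroup.mem_zpowers s)
  rwa [T.3 hsup le_sup_left] at hm

omit h [Finite G] in
theorem conj_mem_T {g x : G} (hg : g ∈ nrm T) (hx : x ∈ T) : g * x * g⁻¹ ∈ T :=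
  (Subgroup.mem_normalizer_iff.1 hg x).1 hx

theorem four_le : 4 ≤ Nat.card T := by
  haveI : Fact (Nat.Prime 2) := ⟨Nat.prime_two⟩
  obtain ⟨k, hk⟩ := T.2.exists_card_eq
  rcases k with - | - | k
  · haveI : Subsingleton (T : Subgroup G) := Finite.card_le_one_iff_subsingleton.1 (by rw [hk]; norm_num)
    exact absurd isCyclic_of_subsingleton h.1
  · exact absurd (isCyclic_of_prime_card (p := 2) (by rw [hk]; norm_num)) h.1
  · rw [hk]
    calc 4 = 2 ^ 2 := by norm_num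
      _ ≤ 2 ^ (k + 1 + 1) := Nat.pow_le_pow_right (by norm_num) (by omega)

theorem stronglyEmbedded : Cfsg.IsStronglyEmbedded (nrm T) := by
  refine ⟨fun e => h.2.1 (Subgroup.normalizer_eq_top_iff.1 e), ?_, fun g hg => ?_⟩
  · obtain ⟨z, hz, hz2, -⟩ := exists_central h
    exact even_of_involution_mem _ (Subgroup.le_normalizer hz) hz2
  · refine Nat.not_even_iff_odd.1 fun he => hg ?_
    obtain ⟨s, ⟨hs, t, ht, rfl⟩, hs2⟩ := exists_involution_of_even _ he
    have hs2' : orderOf (g * t * g⁻¹) = 2 := hs2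
    have ht2 : orderOf t = 2 := (orderOf_conj g t).symm.trans hs2'
    have h1 := cent_eq h (inv_mem_T hs hs2') (ne_one hs2')
    have h2 := cent_eq h (inv_mem_T ht ht2) (ne_one ht2)
    rw [Subgroup.mem_normalizer_iff]
    intro x
    change x ∈ (T : Subgroup G) ↔ g * x * g⁻¹ ∈ (T : Subgroup G)
    conv_lhs => rw [← h2]
    conv_rhs => rw [← h1]
    rw [Subgroup.mem_centralizer_singleton_iff, Subgroup.mem_centralizer_singleton_iff]
    change x * t = t * x ↔ g * x * g⁻¹ * (g * t * g⁻¹) = g * t * g⁻¹ * (g * x * g⁻¹)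
    constructor <;> intro e
    · calc g * x * g⁻¹ * (g * t * g⁻¹) = g * (x * t) * g⁻¹ := by group
        _ = g * (t * x) * g⁻¹ := by rw [e]
        _ = g * t * g⁻¹ * (g * x * g⁻¹) := by group
    · calc x * t = g⁻¹ * (g * x * g⁻¹ * (g * t * g⁻¹)) * g := by group
        _ = g⁻¹ * (g * t * g⁻¹ * (g * x * g⁻¹)) * g := by rw [e]
        _ = t * x := by group

/-- An involution inverts every odd order subgroup it normalises. -/
theorem inverts {A : Subgroup G} {v : G} (hv : orderOf v = 2) (hodd : Odd (Nat.card A))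
    (hn : ∀ a ∈ A, v * a * v⁻¹ ∈ A) : ∀ a ∈ A, v * a * v⁻¹ = a⁻¹ := by
  let φ : A →* A := MonoidHom.mk' (fun a => ⟨v * a.1 * v⁻¹, hn a.1 a.2⟩) fun a b =>
    Subtype.ext (show v * (a.1 * b.1) * v⁻¹ = v * a.1 * v⁻¹ * (v * b.1 * v⁻¹) by group)
  have hfpf : MonoidHom.FixedPointFree φ := fun a ha => by
    have e : v * a.1 * v⁻¹ = a.1 := congrArg Subtype.val ha
    exact Subtype.ext (odd_eq_one h hv (mul_inv_eq_iff_eq_mul.1 e).symm
      (hodd.of_dvd_nat (A.orderOf_dvd_natCard a.2)))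
  have hinv : Function.Involutive φ := fun a => Subtype.ext (by
    change v * (v * a.1 * v⁻¹) * v⁻¹ = a.1
    calc v * (v * a.1 * v⁻¹) * v⁻¹ = (v * v) * a.1 * (v * v)⁻¹ := by group
      _ = a.1 := by rw [mul_self hv]; group)
  intro a ha
  exact congrArg Subtype.val (congrFun (hfpf.coe_eq_inv_of_involutive hinv) ⟨a, ha⟩)

omit h [Finite G] in
theorem mk_eq_one_iff {g : G} : ((g : G) : G ⧸ nrm T) = ((1 : G) : G ⧸ nrm T) ↔ g ∈ nrm T := by
  rw [QuotientGroup.eq, mul_one, Subgroup.inv_mem_iff]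

omit h [Finite G] in
theorem fixes_one_iff {g : G} :
    g • ((1 : G) : G ⧸ nrm T) = ((1 : G) : G ⧸ nrm T) ↔ g ∈ nrm T := by
  rw [fixes_mk_iff]; simp

omit h [Finite G] in
theorem smul_one_eq (g : G) : g • ((1 : G) : G ⧸ nrm T) = (g : G ⧸ nrm T) := by
  rw [MulAction.Quotient.smul_mk, smul_eq_mul, mul_one]

omit h [Finite G] in
/-- `D` consists of the elements fixing both `H` and `uH`. -/
theorem mem_dd_iff {u d : G} : d ∈ dd T u ↔
    d • ((1 : G) : G ⧸ nrm T) = ((1 : G) : G ⧸ nrm T) ∧ d • (u : G ⧸ nrm T) = u := by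
  rw [fixes_one_iff, fixes_mk_iff, Subgroup.mem_inf, Subgroup.mem_map_equiv, MulAut.conj_symm_apply]

variable {u : G} (hu : orderOf u = 2) (huH : u ∉ nrm T)

include hu huH

omit hu in
theorem dd_odd : Odd (Nat.card (dd T u)) := (stronglyEmbedded h).2.2 u huH

omit huH in
omit h [Finite G] in
theorem smul_u : u • (u : G ⧸ nrm T) = ((1 : G) : G ⧸ nrm T) := by
  rw [MulAction.Quotient.smul_mk, smul_eq_mul, mul_self hu]

omit huH in
omit h [Finite G] in
theorem u_normalizes {d : G} (hd : d ∈ dd T u) : u * d * u⁻¹ ∈ dd T u := by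
  rw [mem_dd_iff] at hd ⊢
  constructor
  · rw [mul_smul, mul_smul, inv_eq hu, smul_one_eq, hd.2, smul_u hu]
  · rw [mul_smul, mul_smul, inv_eq hu, smul_u hu, hd.1, smul_one_eq]

/-- `u` inverts `D`. -/
theorem u_inverts : ∀ d ∈ dd T u, u * d * u⁻¹ = d⁻¹ :=
  inverts h hu (dd_odd h huH) fun _ hd => u_normalizes hu hd

omit hu in
theorem dd_inf_T {x : G} (hx : x ∈ dd T u) (hxT : x ∈ T) : x = 1 := by
  by_contra h1
  have := (dd_odd h huH).of_dvd_nat ((dd T u).orderOf_dvd_natCard hx)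
  rw [orderOf_T h hxT h1, Nat.odd_iff] at this
  omega

theorem transitive_T {s t : G} (hs : s ∈ T) (hs1 : s ≠ 1) (ht : t ∈ T) (ht1 : t ≠ 1) :
    ∃ d ∈ dd T u, d * s * d⁻¹ = t :=
  transitive_pair (stronglyEmbedded h) hu huH (orderOf_T h hs hs1) (Subgroup.le_normalizer hs)
    (orderOf_T h ht ht1) (Subgroup.le_normalizer ht)

/-- `H = T D`. -/
theorem exists_decomp {x : G} (hx : x ∈ nrm T) : ∃ t ∈ T, ∃ d ∈ dd T u, x = t * d := by
  obtain ⟨z, hz, hz2, -⟩ := exists_central h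
  have hz1 := ne_one hz2
  have hxz := conj_mem_T hx hz
  obtain ⟨d, hd, he⟩ := transitive_T h hu huH hz hz1 hxz (fun e => hz1 (conj_eq_one_iff.1 e))
  have hzt : Commute (d⁻¹ * x) z := by
    rw [commute_iff_eq]
    calc d⁻¹ * x * z = d⁻¹ * (x * z * x⁻¹) * x := by group
      _ = d⁻¹ * (d * z * d⁻¹) * x := by rw [he]
      _ = z * (d⁻¹ * x) := by group
  refine ⟨d * (d⁻¹ * x) * d⁻¹, conj_mem_T hd.1 (mem_T_of_commute h hz hz1 hzt), d, hd, ?_⟩
  group

theorem card_dd : Nat.card (dd T u) + 1 = Nat.card T := by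
  classical
  haveI := Fintype.ofFinite (T : Subgroup G)
  obtain ⟨z, hz, hz2, -⟩ := exists_central h
  have hz1 := ne_one hz2
  let f : dd T u → {t : (T : Subgroup G) // t ≠ 1} := fun d =>
    ⟨⟨d.1 * z * d.1⁻¹, conj_mem_T d.2.1 hz⟩,
      fun e => hz1 (conj_eq_one_iff.1 (congrArg Subtype.val e))⟩
  have hf : Function.Bijective f := by
    constructor
    · intro a b e
      have e' : a.1 * z * a.1⁻¹ = b.1 * z * b.1⁻¹ :=
        congrArg (fun x => x.1.1) e
      have hc : Commute (b.1⁻¹ * a.1) z := by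
        rw [commute_iff_eq]
        calc b.1⁻¹ * a.1 * z = b.1⁻¹ * (a.1 * z * a.1⁻¹) * a.1 := by group
          _ = b.1⁻¹ * (b.1 * z * b.1⁻¹) * a.1 := by rw [e']
          _ = z * (b.1⁻¹ * a.1) := by group
      have := dd_inf_T h huH (mul_mem (inv_mem b.2) a.2) (mem_T_of_commute h hz hz1 hc)
      rw [inv_mul_eq_one] at this
      exact Subtype.ext this.symm
    · rintro ⟨⟨t, ht⟩, ht1⟩
      obtain ⟨d, hd, he⟩ := transitive_T h hu huH hz hz1 ht fun e => ht1 (Subtype.ext e)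
      exact ⟨⟨d, hd⟩, Subtype.ext (Subtype.ext he)⟩
  rw [Nat.card_eq_of_bijective f hf, Nat.card_eq_fintype_card, Nat.card_eq_fintype_card,
    Fintype.card_subtype_compl, Fintype.card_subtype_eq]
  have := Fintype.card_pos (α := (T : Subgroup G))
  omega

theorem card_nrm : Nat.card (nrm T) = Nat.card T * (Nat.card T - 1) := by
  rw [← card_dd h hu huH, Nat.add_sub_cancel, card_dd h hu huH, ← Nat.card_prod]
  refine (Nat.card_eq_of_bijective
    (fun p : ↥(T : Subgroup G) × ↥(dd T u) =>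
      (⟨p.1.1 * p.2.1, mul_mem (Subgroup.le_normalizer p.1.2) p.2.2.1⟩ : nrm T)) ⟨?_, ?_⟩).symm
  · rintro ⟨t, d⟩ ⟨t', d'⟩ e
    have e' : t.1 * d.1 = t'.1 * d'.1 := congrArg Subtype.val e
    have e2 : t'.1⁻¹ * t.1 = d'.1 * d.1⁻¹ := by
      calc t'.1⁻¹ * t.1 = t'.1⁻¹ * (t.1 * d.1) * d.1⁻¹ := by group
        _ = d'.1 * d.1⁻¹ := by rw [e']; group
    have h1 := dd_inf_T h huH (x := d'.1 * d.1⁻¹) (mul_mem d'.2 (inv_mem d.2))
      (e2 ▸ mul_mem (inv_mem t'.2) t.2)
    rw [mul_inv_eq_one] at h1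
    rw [h1] at e'
    exact Prod.ext (Subtype.ext (mul_right_cancel e')) (Subtype.ext h1.symm)
  · rintro ⟨x, hx⟩
    obtain ⟨t, ht, d, hd, rfl⟩ := exists_decomp h hu huH hx
    exact ⟨(⟨t, ht⟩, ⟨d, hd⟩), rfl⟩

theorem complement :
    Subgroup.IsComplement' ((dd T u).subgroupOf (nrm T)) ((T : Subgroup G).subgroupOf (nrm T)) := by
  apply Subgroup.isComplement'_of_card_mul_and_disjoint
  · rw [Nat.card_congr (Subgroup.subgroupOfEquivOfLe (inf_le_left : dd T u ≤ nrm T)).toEquiv,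
      Nat.card_congr (Subgroup.subgroupOfEquivOfLe
        (Subgroup.le_normalizer : (T : Subgroup G) ≤ nrm T)).toEquiv,
      card_nrm h hu huH, ← card_dd h hu huH, Nat.add_sub_cancel, mul_comm]
  · rw [disjoint_iff, eq_bot_iff]
    rintro x ⟨h1, h2⟩
    exact Subgroup.mem_bot.2 (Subtype.ext (dd_inf_T h huH h1 h2))

theorem exists_dd_ne_one : ∃ d ∈ dd T u, d ≠ 1 := by
  by_contra hn
  push Not at hn
  have : Nat.card (dd T u) = 1 :=
    Nat.card_eq_one_iff_unique.2 ⟨⟨fun a b => Subtype.ext ((hn _ a.2).trans (hn _ b.2).symm)⟩, ⟨1⟩⟩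
  have := card_dd h hu huH
  have := four_le h
  omega

/-- The centraliser of a nontrivial element of `D` has odd order. -/
theorem odd_centralizer {d : G} (hd : d ∈ dd T u) (hd1 : d ≠ 1) :
    Odd (Nat.card (Subgroup.centralizer ({d} : Set G))) := by
  rw [← Nat.not_even_iff_odd]
  intro he
  obtain ⟨v, hv, hv2⟩ := exists_involution_of_even _ he
  exact hd1 (odd_eq_one h hv2 (Subgroup.mem_centralizer_singleton_iff.1 hv).symm
    ((dd_odd h huH).of_dvd_nat ((dd T u).orderOf_dvd_natCard hd)))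

theorem inverts_centralizer {d v : G} (hd : d ∈ dd T u) (hd1 : d ≠ 1) (hv : orderOf v = 2)
    (hvd : v * d * v⁻¹ = d⁻¹) :
    ∀ a, Commute a d → v * a * v⁻¹ = a⁻¹ := by
  intro a ha
  refine inverts h hv (odd_centralizer h hu huH hd hd1) (fun b hb => ?_) a
    (Subgroup.mem_centralizer_singleton_iff.2 ha.eq)
  rw [Subgroup.mem_centralizer_singleton_iff] at hb ⊢
  have hc : Commute b d⁻¹ := Commute.inv_right hb
  calc v * b * v⁻¹ * d = v * (b * (v⁻¹ * d * v)) * v⁻¹ := by group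
    _ = v * (b * d⁻¹) * v⁻¹ := by
        rw [show v⁻¹ * d * v = d⁻¹ from
          (congrArg₂ (fun x y => x * d * y) (inv_eq hv) (inv_eq hv).symm).trans hvd]
    _ = v * (d⁻¹ * b) * v⁻¹ := by rw [hc.eq]
    _ = (v * d * v⁻¹)⁻¹ * (v * b * v⁻¹) := by group
    _ = d * (v * b * v⁻¹) := by rw [hvd, inv_inv]

/-- A nontrivial element of `D` fixes exactly the two cosets `H` and `uH`. -/
theorem fix_eq {d : G} (hd : d ∈ dd T u) (hd1 : d ≠ 1) {y : G ⧸ nrm T} (hy : d • y = y) :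
    y = ((1 : G) : G ⧸ nrm T) ∨ y = (u : G ⧸ nrm T) := by
  set a : G ⧸ nrm T := ((1 : G) : G ⧸ nrm T) with ha
  set b : G ⧸ nrm T := (u : G ⧸ nrm T) with hb
  have hda : d • a = a := (mem_dd_iff.1 hd).1
  have hdb : d • b = b := (mem_dd_iff.1 hd).2
  have hua : u • a = b := smul_one_eq u
  have hub : u • b = a := smul_u hu
  have hinv := inverts_centralizer h hu huH hd hd1 hu (u_inverts h hu huH d hd)
  -- no element centralising `d` moves `a` to `b`
  have hnot : ∀ γ : G, Commute γ d → γ • a ≠ b := by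
    intro γ hγ he
    have hi : (u * γ) * (u * γ) = 1 := by
      have := hinv γ hγ
      rw [inv_eq hu] at this
      rw [← mul_assoc, this, inv_mul_cancel]
    have hfix : u * γ ∈ nrm T := fixes_one_iff.1 (by rw [mul_smul]; exact (congrArg (u • ·) he).trans hub)
    by_cases h1 : u * γ = 1
    · rw [mul_eq_one_iff_inv_eq, inv_eq hu] at h1
      subst h1
      have := hγ
      have e := u_inverts h hu huH d hd
      rw [this.eq, mul_inv_cancel_right] at e
      have hodd := (dd_odd h huH).of_dvd_nat ((dd T u).orderOf_dvd_natCard hd)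
      rw [orderOf_eq_two (by nth_rewrite 1 [e]; exact inv_mul_cancel d) hd1, Nat.odd_iff] at hodd
      omega
    · have hwT := inv_mem_T hfix (orderOf_eq_two hi h1)
      have hdH : d ∈ nrm T := hd.1
      -- `d ^ 2` is a commutator of `d` with an element of `T`
      have hcom : d * (u * γ) * d⁻¹ * (u * γ)⁻¹ = d * d := by
        have e := u_inverts h hu huH d hd
        calc d * (u * γ) * d⁻¹ * (u * γ)⁻¹ = d * (u * (γ * d⁻¹ * γ⁻¹) * u⁻¹) := by group
          _ = d * (u * d⁻¹ * u⁻¹) := by rw [(Commute.inv_right hγ).eq, mul_inv_cancel_right]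
          _ = d * (u * d * u⁻¹)⁻¹ := by group
          _ = d * d := by rw [e, inv_inv]
      have hmem : d * d ∈ T := hcom ▸ mul_mem (conj_mem_T hdH hwT) (inv_mem hwT)
      have := dd_inf_T h huH (mul_mem hd hd) hmem
      have hodd := (dd_odd h huH).of_dvd_nat ((dd T u).orderOf_dvd_natCard hd)
      rw [orderOf_eq_two this hd1, Nat.odd_iff] at hodd
      omega
  have horb : ∀ z : G ⧸ nrm T, d • z = z → z ≠ a → ∃ α : G, Commute α d ∧ z = α • b := by
    intro z hz hza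
    induction z using QuotientGroup.induction_on with
    | H g =>
      -- an involution interchanging the two points inverts `d`
      have hse := stronglyEmbedded h
      obtain ⟨x0, hx0, hx0a⟩ := exists_involution_fixing hse (a : G ⧸ nrm T)
      obtain ⟨s0, hs0, hs0g⟩ := exists_involution_fixing hse (g : G ⧸ nrm T)
      obtain ⟨v, ⟨⟨hv, hva⟩, -⟩, -⟩ :=
        existsUnique_swap hse (Ne.symm hza) hx0 hx0a hs0 hs0g
      have hvg : v • (g : G ⧸ nrm T) = a := by rw [← hva, smul_smul, mul_self hv, one_smul]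
      have hgH : g ∉ nrm T := fun hg => hza (mk_eq_one_iff.2 hg)
      let K : Subgroup G := nrm T ⊓ (nrm T).map (MulAut.conj g).toMonoidHom
      have hKodd : Odd (Nat.card K) := hse.2.2 g hgH
      have hKmem : ∀ k : G, k ∈ K ↔ k • a = a ∧ k • (g : G ⧸ nrm T) = g := by
        intro k
        rw [ha, fixes_one_iff, fixes_mk_iff, Subgroup.mem_inf, Subgroup.mem_map_equiv,
          MulAut.conj_symm_apply]
      have hKn : ∀ k ∈ K, v * k * v⁻¹ ∈ K := by
        intro k hk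
        rw [hKmem] at hk ⊢
        constructor
        · rw [mul_smul, mul_smul, inv_eq hv, hva, hk.2, hvg]
        · rw [mul_smul, mul_smul, inv_eq hv, hvg, hk.1, hva]
      have hvd := inverts h hv hKodd hKn d ((hKmem d).2 ⟨hda, hz⟩)
      refine ⟨v * u, ?_, ?_⟩
      · rw [commute_iff_eq, ← mul_inv_eq_iff_eq_mul, mul_inv_rev]
        calc v * u * d * (u⁻¹ * v⁻¹) = v * (u * d * u⁻¹) * v⁻¹ := by group
          _ = (v * d * v⁻¹)⁻¹ := by rw [u_inverts h hu huH d hd]; group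
          _ = d := by rw [hvd, inv_inv]
      · rw [mul_smul, hub, hva]
  -- hence the centraliser of `d` fixes `a`
  have hA : ∀ α : G, Commute α d → α • a = a := by
    intro α hα
    by_contra hne
    obtain ⟨β, hβ, he⟩ := horb (α • a) (by rw [smul_smul, ← hα.eq, mul_smul, hda]) hne
    exact hnot (β⁻¹ * α) ((Commute.inv_left hβ).mul_left hα)
      (by rw [mul_smul, he, inv_smul_smul])
  by_contra hne
  push Not at hne
  obtain ⟨α, hα, rfl⟩ := horb y hy hne.1
  apply hne.2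
  have e := hA α⁻¹ (Commute.inv_left hα)
  calc α • b = α • u • a := by rw [hua]
    _ = (u * (u * α * u⁻¹)) • a := by rw [smul_smul, inv_eq hu, ← mul_assoc, ← mul_assoc, mul_self hu, one_mul]
    _ = b := by rw [hinv α hα, mul_smul, e, hua]

theorem dd_comm {d e : G} (hd : d ∈ dd T u) (he : e ∈ dd T u) : Commute d e := by
  rw [commute_iff_eq]
  calc d * e = (u * d * u⁻¹)⁻¹ * (u * e * u⁻¹)⁻¹ := by
        rw [u_inverts h hu huH d hd, u_inverts h hu huH e he, inv_inv, inv_inv]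
    _ = (u * (e * d) * u⁻¹)⁻¹ := by group
    _ = e * d := by rw [u_inverts h hu huH _ (mul_mem he hd), inv_inv]

/-- Elements normalising `D` permute `{H, uH}`. -/
theorem mem_or_mul_mem {g : G} {d : G} (hd : d ∈ dd T u) (hd1 : d ≠ 1)
    (hg : g⁻¹ * d * g ∈ dd T u) : g ∈ dd T u ∨ g * u ∈ dd T u := by
  have hd1' : g⁻¹ * d * g ≠ 1 := fun e => hd1 (by
    calc d = g * (g⁻¹ * d * g) * g⁻¹ := by group
      _ = 1 := by rw [e]; group)
  have key : ∀ y : G ⧸ nrm T, (g⁻¹ * d * g) • y = y →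
      g • y = ((1 : G) : G ⧸ nrm T) ∨ g • y = (u : G ⧸ nrm T) := by
    intro y hy
    refine fix_eq h hu huH hd hd1 ?_
    conv_rhs => rw [← hy, smul_smul, show g * (g⁻¹ * d * g) = d * g by group, mul_smul]
  obtain ⟨ha, hb⟩ := mem_dd_iff.1 hg
  have hne : g • ((1 : G) : G ⧸ nrm T) ≠ g • (u : G ⧸ nrm T) := fun e =>
    huH (mk_eq_one_iff.1 (smul_left_cancel g e).symm)
  rcases key _ ha with h1 | h1 <;> rcases key _ hb with h2 | h2
  · exact absurd (h1.trans h2.symm) hne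
  · exact Or.inl (mem_dd_iff.2 ⟨h1, h2⟩)
  · refine Or.inr (mem_dd_iff.2 ⟨?_, ?_⟩)
    · rw [mul_smul, smul_one_eq u, h2]
    · rw [mul_smul, smul_u hu, h1]
  · exact absurd (h1.trans h2.symm) hne

theorem normalizer_dd :
    Subgroup.normalizer ((dd T u : Subgroup G) : Set G) = dd T u ⊔ Subgroup.zpowers u := by
  refine le_antisymm (fun g hg => ?_) (sup_le Subgroup.le_normalizer (Subgroup.zpowers_le.2 ?_))
  · obtain ⟨d, hd, hd1⟩ := exists_dd_ne_one h hu huH
    rcases mem_or_mul_mem h hu huH hd hd1 ((Subgroup.mem_normalizer_iff.1 hg _).2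
      (by rwa [show g * (g⁻¹ * d * g) * g⁻¹ = d by group])) with hg' | hg'
    · exact Subgroup.mem_sup_left hg'
    · have := mul_mem (Subgroup.mem_sup_left (T := Subgroup.zpowers u) hg')
        (Subgroup.mem_sup_right (Subgroup.mem_zpowers u))
      rwa [mul_assoc, mul_self hu, mul_one] at this
  · rw [Subgroup.mem_normalizer_iff]
    intro x
    refine ⟨fun hx => u_normalizes hu hx, fun hx => ?_⟩
    have := u_normalizes hu hx
    rw [inv_eq hu, show u * (u * x * u) * u = (u * u) * x * (u * u) by group, mul_self hu,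
      one_mul, mul_one] at this
    exact this

theorem fixed_by_dd_iff (g : G) :
    (∀ d ∈ dd T u, d • (g : G ⧸ nrm T) = g) ↔
      (g : G ⧸ nrm T) = ((1 : G) : G ⧸ nrm T) ∨ (g : G ⧸ nrm T) = (u : G ⧸ nrm T) := by
  constructor
  · intro hall
    obtain ⟨d, hd, hd1⟩ := exists_dd_ne_one h hu huH
    exact fix_eq h hu huH hd hd1 (hall d hd)
  · rintro (e | e) d hd <;> rw [e]
    · exact (mem_dd_iff.1 hd).1
    · exact (mem_dd_iff.1 hd).2

omit hu huH

/-- An involution interchanges any two cosets. -/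
theorem exists_swap {x y : G ⧸ nrm T} (hxy : x ≠ y) : ∃ v : G, orderOf v = 2 ∧ v • x = y := by
  have hse := stronglyEmbedded h
  obtain ⟨x0, hx0, hx0x⟩ := exists_involution_fixing hse x
  obtain ⟨y0, hy0, hy0y⟩ := exists_involution_fixing hse y
  obtain ⟨v, ⟨hv, -⟩, -⟩ := existsUnique_swap hse hxy hx0 hx0x hy0 hy0y
  exact ⟨v, hv⟩

/-- An element fixing three cosets is the identity. -/
theorem eq_one_of_fixes_three {g : G} {x₁ x₂ x₃ : G ⧸ nrm T} (h12 : x₁ ≠ x₂) (h13 : x₁ ≠ x₃)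
    (h23 : x₂ ≠ x₃) (h1 : g • x₁ = x₁) (h2 : g • x₂ = x₂) (h3 : g • x₃ = x₃) : g = 1 := by
  induction x₁ using QuotientGroup.induction_on with
  | H c =>
    have hc : c⁻¹ • (c : G ⧸ nrm T) = ((1 : G) : G ⧸ nrm T) := by
      rw [MulAction.Quotient.smul_mk, smul_eq_mul, inv_mul_cancel]
    obtain ⟨v, hv, hvx⟩ := exists_swap h (x := ((1 : G) : G ⧸ nrm T)) (y := c⁻¹ • x₂)
      fun e => h12 (smul_left_cancel c⁻¹ (hc.trans e))
    rw [smul_one_eq] at hvx
    have hvH : v ∉ nrm T := fun hm => h12 (smul_left_cancel c⁻¹ (by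
      rw [hc, ← hvx]; exact (mk_eq_one_iff.2 hm).symm))
    have hfix : ∀ z : G ⧸ nrm T, g • z = z → (c⁻¹ * g * c) • (c⁻¹ • z) = c⁻¹ • z := by
      intro z hz
      rw [smul_smul, show c⁻¹ * g * c * c⁻¹ = c⁻¹ * g by group, mul_smul, hz]
    by_contra hg
    have hg' : c⁻¹ * g * c ≠ 1 := fun e => hg (by
      calc g = c * (c⁻¹ * g * c) * c⁻¹ := by group
        _ = 1 := by rw [e]; group)
    have hmem : c⁻¹ * g * c ∈ dd T v := by
      rw [mem_dd_iff, hvx]
      exact ⟨hc ▸ hfix _ h1, hfix _ h2⟩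
    rcases fix_eq h hv hvH hmem hg' (hfix _ h3) with e | e
    · rw [← hc] at e; exact h13 (smul_left_cancel c⁻¹ e).symm
    · rw [hvx] at e; exact h23 (smul_left_cancel c⁻¹ e).symm

/-- A prime divisor Sylow subgroup of `D` is a Sylow subgroup of `G`. -/
theorem exists_sylow_le {v : G} (hv : orderOf v = 2) (hvH : v ∉ nrm T) {p : ℕ} [Fact p.Prime]
    (hp : p ∣ Nat.card (dd T v)) : ∃ R : Sylow p G, (R : Subgroup G) ≤ dd T v ∧ ∃ r ∈ R, r ≠ 1 := by
  let P : Sylow p (dd T v) := default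
  set P' : Subgroup G := (P : Subgroup (dd T v)).map (dd T v).subtype with hP'
  have hP'le : P' ≤ dd T v := Subgroup.map_subtype_le _
  have hP'c : Nat.card P' = Nat.card P :=
    (Nat.card_congr ((P : Subgroup (dd T v)).equivMapOfInjective _
      (dd T v).subtype_injective).toEquiv).symm
  have hpne : p ≠ 2 := fun e => by
    have := dd_odd h hvH
    rw [Nat.odd_iff] at this
    rw [e] at hp; omega
  have hdvd := P.dvd_card_of_dvd_card hp
  haveI : Nontrivial P' := by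
    rw [← Finite.one_lt_card_iff_nontrivial, hP'c]
    exact lt_of_lt_of_le (Fact.out : p.Prime).one_lt (Nat.le_of_dvd Nat.card_pos hdvd)
  obtain ⟨⟨r, hr⟩, hr1⟩ := exists_ne (1 : P')
  have hr1' : r ≠ 1 := fun e => hr1 (Subtype.ext e)
  obtain ⟨R, hR⟩ := (P.2.map (dd T v).subtype).exists_le_sylow
  suffices hle : (R : Subgroup G) = P' by
    exact ⟨R, hle.le.trans hP'le, r, hR hr, hr1'⟩
  by_contra hne
  haveI := R.2.isNilpotent
  have hlt : P'.subgroupOf (R : Subgroup G) < ⊤ := by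
    rw [lt_top_iff_ne_top, Ne, Subgroup.subgroupOf_eq_top]
    exact fun e => hne (le_antisymm e hR)
  obtain ⟨y, hy, hyP⟩ :=
    SetLike.exists_of_lt (Group.normalizerCondition_of_isNilpotent (G := (R : Subgroup G)) _ hlt)
  have hyr : (y : G)⁻¹ * r * y ∈ P' := by
    have hmem := (Subgroup.mem_normalizer_iff.1 (inv_mem hy) ⟨r, hR hr⟩).1 hr
    simpa [Subgroup.mem_subgroupOf] using hmem
  have hyD : (y : G) ∈ dd T v := by
    rcases mem_or_mul_mem h hv hvH (hP'le hr) hr1' (hP'le hyr) with e | e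
    · exact e
    · -- `y` has odd order
      obtain ⟨k, hk⟩ := IsPGroup.iff_orderOf.1 R.2 y
      rw [← Subgroup.orderOf_coe] at hk
      have hy2 : (y : G) ^ 2 ∈ dd T v := by
        have hv2 := u_normalizes (T := T) hv e
        have : (y : G) ^ 2 = (y * v) * (v * (y * v) * v⁻¹) * 1 := by
          rw [mul_one, pow_two]
          calc (y : G) * y = (y : G) * (v * v) * y := by rw [mul_self hv, mul_one]
            _ = y * v * (v * (y * v) * v⁻¹) := by group
        rw [this]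
        exact mul_mem (mul_mem e hv2) (one_mem _)
      obtain ⟨j, hj⟩ := ((Fact.out : p.Prime).odd_of_ne_two hpne).pow (n := k)
      have hyy : (y : G) = ((y : G) ^ 2) ^ (j + 1) := by
        rw [← pow_mul, show 2 * (j + 1) = orderOf (y : G) + 1 by omega, pow_succ,
          pow_orderOf_eq_one, one_mul]
      rw [hyy]; exact pow_mem hy2 _
  -- contradiction with maximality of `P`
  have hsup : IsPGroup p ↥(P' ⊔ Subgroup.zpowers (y : G)) :=
    R.2.to_le (sup_le hR (Subgroup.zpowers_le.2 y.2))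
  have hPle : (P : Subgroup (dd T v)) ≤ (P' ⊔ Subgroup.zpowers (y : G)).subgroupOf (dd T v) :=
    fun s hs => Subgroup.mem_sup_left ⟨s, hs, rfl⟩
  have e := P.3 (hsup.comap_of_injective _ (dd T v).subtype_injective) hPle
  have hm : (⟨(y : G), hyD⟩ : dd T v) ∈ (P' ⊔ Subgroup.zpowers (y : G)).subgroupOf (dd T v) :=
    Subgroup.mem_sup_right (Subgroup.mem_zpowers _)
  exact hyP ⟨⟨(y : G), hyD⟩, e ▸ hm, rfl⟩

/-- `H` is transitive on the other cosets. -/
theorem nrm_transitive {x y : G ⧸ nrm T} (hx : x ≠ ((1 : G) : G ⧸ nrm T))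
    (hy : y ≠ ((1 : G) : G ⧸ nrm T)) : ∃ g ∈ nrm T, g • x = y := by
  obtain ⟨v, hv, hvx⟩ := exists_swap h (Ne.symm hx)
  obtain ⟨w, hw, hwy⟩ := exists_swap h (Ne.symm hy)
  rw [smul_one_eq] at hvx hwy
  subst hvx hwy
  have hvH : v ∉ nrm T := fun hm => hx (mk_eq_one_iff.2 hm)
  have hwH : w ∉ nrm T := fun hm => hy (mk_eq_one_iff.2 hm)
  obtain ⟨p, hp, hpd⟩ := Nat.exists_prime_and_dvd (n := Nat.card (dd T v)) (by
    have := card_dd h hv hvH
    have := four_le h
    omega)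
  haveI : Fact p.Prime := ⟨hp⟩
  have hcc : Nat.card (dd T w) = Nat.card (dd T v) := by
    have := card_dd h hv hvH
    have := card_dd h hw hwH
    omega
  obtain ⟨R, hR, r, hr, hr1⟩ := exists_sylow_le h hv hvH hpd
  obtain ⟨S, hS, -⟩ := exists_sylow_le h hw hwH (hcc.symm ▸ hpd : p ∣ Nat.card (dd T w))
  obtain ⟨g, hg⟩ := MulAction.exists_smul_eq G R S
  have hmem : g * r * g⁻¹ ∈ dd T w := hS (by
    change g * r * g⁻¹ ∈ S
    rw [← hg, CfsgLib.Involution.Basic.mem_smul_sylow_iff,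
      show g⁻¹ * (g * r * g⁻¹) * g = r by group]
    exact hr)
  have hne : g * r * g⁻¹ ≠ 1 := fun e => hr1 (conj_eq_one_iff.1 e)
  have key : ∀ z : G ⧸ nrm T, r • z = z →
      g • z = ((1 : G) : G ⧸ nrm T) ∨ g • z = (w : G ⧸ nrm T) := by
    intro z hz
    refine fix_eq h hw hwH hmem hne ?_
    rw [smul_smul, show g * r * g⁻¹ * g = g * r by group, mul_smul, hz]
  obtain ⟨hra, hrb⟩ := mem_dd_iff.1 (hR hr)
  have hne' : g • ((1 : G) : G ⧸ nrm T) ≠ g • (v : G ⧸ nrm T) := fun e =>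
    hvH (mk_eq_one_iff.1 (smul_left_cancel g e).symm)
  rcases key _ hra with h1 | h1 <;> rcases key _ hrb with h2 | h2
  · exact absurd (h1.trans h2.symm) hne'
  · exact ⟨g, fixes_one_iff.1 h1, h2⟩
  · refine ⟨g * v, fixes_one_iff.1 ?_, ?_⟩
    · rw [mul_smul, smul_one_eq v, h2]
    · rw [mul_smul, smul_u hv, h1]
  · exact absurd (h1.trans h2.symm) hne'

/-- `T` is regular on the cosets other than `H`. -/
theorem T_regular {x y : G ⧸ nrm T} (hx : x ≠ ((1 : G) : G ⧸ nrm T))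
    (hy : y ≠ ((1 : G) : G ⧸ nrm T)) : ∃! t : G, t ∈ T ∧ t • x = y := by
  obtain ⟨g, hg, hgx⟩ := nrm_transitive h hx hy
  obtain ⟨v, hv, hvx⟩ := exists_swap h (Ne.symm hx)
  rw [smul_one_eq] at hvx
  subst hvx
  have hvH : v ∉ nrm T := fun hm => hx (mk_eq_one_iff.2 hm)
  obtain ⟨t, ht, d, hd, rfl⟩ := exists_decomp h hv hvH hg
  rw [mul_smul, (mem_dd_iff.1 hd).2] at hgx
  refine ⟨t, ⟨ht, hgx⟩, ?_⟩
  rintro t' ⟨ht', ht'x⟩
  have hm : t'⁻¹ * t ∈ dd T v := mem_dd_iff.2
    ⟨fixes_one_iff.2 (mul_mem (inv_mem (Subgroup.le_normalizer ht')) (Subgroup.le_normalizer ht)),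
      by rw [mul_smul, hgx, ← ht'x, inv_smul_smul]⟩
  have := dd_inf_T h hvH hm (mul_mem (inv_mem ht') ht)
  rwa [inv_mul_eq_one] at this

/-- Sharp triple transitivity, existence part. -/
theorem triple {x₁ x₂ x₃ y₁ y₂ y₃ : G ⧸ nrm T} (h12 : x₁ ≠ x₂) (h13 : x₁ ≠ x₃) (h23 : x₂ ≠ x₃)
    (k12 : y₁ ≠ y₂) (k13 : y₁ ≠ y₃) (k23 : y₂ ≠ y₃) :
    ∃ g : G, g • x₁ = y₁ ∧ g • x₂ = y₂ ∧ g • x₃ = y₃ := by
  classical
  haveI := Fintype.ofFinite (G ⧸ nrm T)
  obtain ⟨c, hc⟩ : ∃ c : G, c • x₁ = ((1 : G) : G ⧸ nrm T) := MulAction.exists_smul_eq G x₁ _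
  obtain ⟨e, he⟩ : ∃ e : G, e • y₁ = ((1 : G) : G ⧸ nrm T) := MulAction.exists_smul_eq G y₁ _
  have ne1 : ∀ {k : G} {p q : G ⧸ nrm T}, k • p = ((1 : G) : G ⧸ nrm T) → p ≠ q →
      k • q ≠ ((1 : G) : G ⧸ nrm T) :=
    fun hk hpq e => hpq (smul_left_cancel _ (hk.trans e.symm))
  obtain ⟨g, hg, hg2⟩ := nrm_transitive h (ne1 hc h12) (ne1 he k12)
  set z := g • c • x₃
  obtain ⟨v, hv, hvx⟩ := exists_swap h (Ne.symm (ne1 he k12))
  rw [smul_one_eq] at hvx
  have hvH : v ∉ nrm T := fun hm => ne1 he k12 (hvx ▸ mk_eq_one_iff.2 hm)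
  have hgc : (g * c) • x₁ = ((1 : G) : G ⧸ nrm T) := by
    rw [mul_smul, hc]; exact fixes_one_iff.2 hg
  have hz1 : z ≠ ((1 : G) : G ⧸ nrm T) := by
    have := ne1 hgc h13; rwa [mul_smul] at this
  have hz2 : z ≠ (v : G ⧸ nrm T) := by
    rw [hvx, ← hg2]; exact fun e' => h23 (smul_left_cancel _ (smul_left_cancel _ e')).symm
  -- `D` is regular on the remaining cosets
  let f : dd T v → {w : G ⧸ nrm T // w ∉ ({((1 : G) : G ⧸ nrm T), (v : G ⧸ nrm T)} : Finset (G ⧸ nrm T))} :=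
    fun d => ⟨d.1 • z, by
      simp only [Finset.mem_insert, Finset.mem_singleton, not_or]
      exact ⟨fun e' => hz1 (smul_left_cancel d.1 (e'.trans (mem_dd_iff.1 d.2).1.symm)),
        fun e' => hz2 (smul_left_cancel d.1 (e'.trans (mem_dd_iff.1 d.2).2.symm))⟩⟩
  have hne1v : ((1 : G) : G ⧸ nrm T) ≠ (v : G ⧸ nrm T) := fun e' => hvH (mk_eq_one_iff.1 e'.symm)
  have hTcard : Nat.card T = Nat.card {w : G ⧸ nrm T // w ≠ ((1 : G) : G ⧸ nrm T)} := by
    refine Nat.card_eq_of_bijective (fun t : (T : Subgroup G) =>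
      (⟨t.1 • (v : G ⧸ nrm T), fun e' => hne1v (smul_left_cancel t.1
        (e'.trans (fixes_one_iff.2 (Subgroup.le_normalizer t.2)).symm)).symm⟩ :
        {w : G ⧸ nrm T // w ≠ ((1 : G) : G ⧸ nrm T)})) ⟨?_, ?_⟩
    · intro t t' e'
      obtain ⟨t0, -, hu0⟩ := T_regular h hne1v.symm
        (fun e'' => hne1v (smul_left_cancel t.1
          (e''.trans (fixes_one_iff.2 (Subgroup.le_normalizer t.2)).symm)).symm)
      exact Subtype.ext ((hu0 t.1 ⟨t.2, rfl⟩).trans
        (hu0 t'.1 ⟨t'.2, (congrArg Subtype.val e').symm⟩).symm)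
    · rintro ⟨w, hw⟩
      obtain ⟨t, ⟨ht, htw⟩, -⟩ := T_regular h hne1v.symm hw
      exact ⟨⟨t, ht⟩, Subtype.ext htw⟩
  have hf : Function.Bijective f := by
    rw [Nat.bijective_iff_injective_and_card]
    constructor
    · intro d d' e'
      have e1 : d.1 • z = d'.1 • z := congrArg Subtype.val e'
      have := eq_one_of_fixes_three h hne1v (Ne.symm hz1) (Ne.symm hz2) (g := d'.1⁻¹ * d.1)
        (mem_dd_iff.1 (mul_mem (inv_mem d'.2) d.2)).1 (mem_dd_iff.1 (mul_mem (inv_mem d'.2) d.2)).2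
        (by rw [mul_smul, e1, inv_smul_smul])
      rw [inv_mul_eq_one] at this
      exact Subtype.ext this.symm
    · have hd := card_dd h hv hvH
      rw [hTcard, Nat.card_eq_fintype_card (α := {w : G ⧸ nrm T // w ≠ ((1 : G) : G ⧸ nrm T)}),
        Fintype.card_subtype_compl, Fintype.card_subtype_eq] at hd
      rw [Nat.card_eq_fintype_card (α := {w : G ⧸ nrm T //
        w ∉ ({((1 : G) : G ⧸ nrm T), (v : G ⧸ nrm T)} : Finset (G ⧸ nrm T))}),
        Fintype.card_subtype_compl, Fintype.card_coe, Finset.card_pair hne1v]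
      omega
  obtain ⟨d, hd⟩ := hf.2 ⟨e • y₃, by
    simp only [Finset.mem_insert, Finset.mem_singleton, not_or]
    exact ⟨ne1 he k13, fun e' => k23 (smul_left_cancel e (e'.trans hvx)).symm⟩⟩
  have hd' : d.1 • z = e • y₃ := congrArg Subtype.val hd
  obtain ⟨hd1, hd2⟩ := mem_dd_iff.1 d.2
  refine ⟨e⁻¹ * d.1 * g * c, ?_, ?_, ?_⟩ <;> rw [mul_smul, mul_smul, mul_smul]
  · rw [hc, fixes_one_iff.2 hg, hd1, inv_smul_eq_iff, he]
  · rw [hg2, ← hvx, hd2, hvx, inv_smul_smul]
  · rw [hd', inv_smul_smul]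

end CfsgLib.Involution.ElemCentralizer
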