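import Mathlib
import Cfsg.Agent.Lib.Involution.ElemCentralizer

/-!
# Recognition of `PSL(2, 2^n)` from elementary abelian involution centralisers
-/

namespace CfsgLib.Involution.RecognisePSL2

open CfsgLib.Involution.Dihedral
open CfsgLib.Involution.ElemCentralizer (nrm dd Hyp)

/-- A commutative group `D` regular on the nontrivial elements of an elementary abelian `T`
turns `T` into a field on which `D` acts as the multiplicative group. -/
theorem exists_field {G : Type*} [Group G] [Finite G] (T D : Subgroup G)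
    (hTD : ∀ d ∈ D, ∀ t ∈ T, d * t * d⁻¹ ∈ T) (hT : ∀ x ∈ T, ∀ y ∈ T, x * y = y * x)
    (hD : ∀ x ∈ D, ∀ y ∈ D, x * y = y * x) (hT2 : ∀ x ∈ T, x * x = 1) {t₀ : G} (ht₀ : t₀ ∈ T)
    (ht₁ : t₀ ≠ 1) (htrans : ∀ t ∈ T, t ≠ 1 → ∃ d ∈ D, d * t₀ * d⁻¹ = t) :
    ∃ (F : Type) (_ : Field F) (_ : Fintype F) (τ : F ≃ T),
      (∀ x y : F, (τ (x + y) : G) = τ x * τ y) ∧ (τ 0 : G) = 1 ∧ CharP F 2 ∧
      (∀ d ∈ D, ∃ c : F, c ≠ 0 ∧ ∀ x : F, d * τ x * d⁻¹ = τ (c * x)) ∧
      (∀ c : F, c ≠ 0 → ∃ d ∈ D, ∀ x : F, d * τ x * d⁻¹ = τ (c * x)) := by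
  classical
  letI : CommGroup T := { (inferInstance : Group T) with
    mul_comm := fun a b => Subtype.ext (hT a.1 a.2 b.1 b.2) }
  let A := Additive T
  let ρ : D → AddMonoid.End A := fun d =>
    AddMonoidHom.mk' (fun a => Additive.ofMul ⟨d.1 * (a.toMul : T).1 * d.1⁻¹, hTD _ d.2 _ (a.toMul : T).2⟩)
      (fun a b => congrArg Additive.ofMul (Subtype.ext (by
        change d.1 * ((a.toMul : T).1 * (b.toMul : T).1) * d.1⁻¹ =
          (d.1 * (a.toMul : T).1 * d.1⁻¹) * (d.1 * (b.toMul : T).1 * d.1⁻¹)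
        group)))
  let R : Subring (AddMonoid.End A) := Subring.centralizer (Set.range ρ)
  have hρR : ∀ d : D, ρ d ∈ R := by
    intro d
    rw [Subring.mem_centralizer_iff]
    rintro _ ⟨e, rfl⟩
    refine AddMonoidHom.ext fun a => ?_
    apply Additive.toMul.injective
    apply Subtype.ext
    change e.1 * (d.1 * (a.toMul : T).1 * d.1⁻¹) * e.1⁻¹ = d.1 * (e.1 * (a.toMul : T).1 * e.1⁻¹) * d.1⁻¹
    calc e.1 * (d.1 * (a.toMul : T).1 * d.1⁻¹) * e.1⁻¹
        = (e.1 * d.1) * (a.toMul : T).1 * (e.1 * d.1)⁻¹ := by group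
      _ = d.1 * (e.1 * (a.toMul : T).1 * e.1⁻¹) * d.1⁻¹ := by rw [hD _ e.2 _ d.2]; group
  set a₀ : A := Additive.ofMul ⟨t₀, ht₀⟩ with ha₀
  have hsurj : ∀ a : A, a ≠ 0 → ∃ d : D, ρ d a₀ = a := by
    intro a ha
    obtain ⟨d, hd, he⟩ := htrans _ (a.toMul : T).2
      (fun e => ha (Additive.toMul.injective (Subtype.ext e)))
    exact ⟨⟨d, hd⟩, Additive.toMul.injective (Subtype.ext he)⟩
  let ev : R →+ A := AddMonoidHom.mk' (fun r => r.1 a₀) fun r s => rfl
  have hev : Function.Bijective ev := by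
    constructor
    · intro r s hrs
      refine Subtype.ext (AddMonoidHom.ext fun a => ?_)
      by_cases ha : a = 0
      · rw [ha]; exact (map_zero r.1).trans (map_zero s.1).symm
      · obtain ⟨d, rfl⟩ := hsurj a ha
        have h1 := DFunLike.congr_fun (r.2 _ ⟨d, rfl⟩) a₀
        have h2 := DFunLike.congr_fun (s.2 _ ⟨d, rfl⟩) a₀
        change ρ d (r.1 a₀) = r.1 (ρ d a₀) at h1
        change ρ d (s.1 a₀) = s.1 (ρ d a₀) at h2
        exact h1.symm.trans ((congrArg (ρ d) hrs).trans h2)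
    · intro a
      by_cases ha : a = 0
      · exact ⟨0, ha.symm⟩
      · obtain ⟨d, hd⟩ := hsurj a ha
        exact ⟨⟨ρ d, hρR d⟩, hd⟩
  have hunit : ∀ r : R, r ≠ 0 → ∃ d : D, r = ⟨ρ d, hρR d⟩ := by
    intro r hr
    obtain ⟨d, hd⟩ := hsurj (ev r) (fun e => hr (hev.1 (e.trans (map_zero ev).symm)))
    exact ⟨d, hev.1 hd.symm⟩
  have hcomm : ∀ r s : R, r * s = s * r := by
    intro r s
    by_cases hr : r = 0
    · rw [hr, zero_mul, mul_zero]
    · obtain ⟨d, rfl⟩ := hunit r hr
      exact Subtype.ext (s.2 _ ⟨d, rfl⟩)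
  have ha₀ne : a₀ ≠ 0 := fun e => ht₁ (congrArg (fun a : A => ((a.toMul : T) : G)) e)
  have hinv : ∀ r : R, r ≠ 0 → ∃ s : R, r * s = 1 := by
    intro r hr
    obtain ⟨d, rfl⟩ := hunit r hr
    refine ⟨⟨ρ d⁻¹, hρR d⁻¹⟩, Subtype.ext (AddMonoidHom.ext fun a => ?_)⟩
    apply Additive.toMul.injective
    apply Subtype.ext
    change d.1 * ((d⁻¹ : D).1 * (a.toMul : T).1 * (d⁻¹ : D).1⁻¹) * d.1⁻¹ = (a.toMul : T).1
    rw [InvMemClass.coe_inv]; group
  haveI : Nontrivial R :=
    ⟨⟨0, 1, fun e => ha₀ne (by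
      calc a₀ = ev 1 := rfl
        _ = ev 0 := by rw [← e]
        _ = 0 := map_zero ev)⟩⟩
  have hF : IsField R := ⟨⟨0, 1, zero_ne_one⟩, hcomm, fun {a} ha => hinv a ha⟩
  letI : Field R := hF.toField
  haveI : Finite A := inferInstanceAs (Finite (Additive T))
  haveI : Finite R := Finite.of_injective ev hev.1
  let e : {i : Fin (Nat.card R) // True} ≃ R :=
    (Equiv.subtypeUnivEquiv fun _ => trivial).trans (Finite.equivFin R).symm
  letI : Field {i : Fin (Nat.card R) // True} := Equiv.field e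
  let re : {i : Fin (Nat.card R) // True} ≃+* R :=
    { e with
      map_mul' := fun x y => e.apply_symm_apply (e x * e y)
      map_add' := fun x y => e.apply_symm_apply (e x + e y) }
  let τ : {i : Fin (Nat.card R) // True} ≃ T := (e.trans (Equiv.ofBijective ev hev)).trans Additive.toMul
  have hτ : ∀ x, ((τ x : T) : G) = ((ev (re x)).toMul : T).1 := fun x => by
    simp only [τ, Equiv.trans_apply]
    rfl
  have hadd : ∀ x y, (τ (x + y) : G) = τ x * τ y := by
    intro x y
    rw [hτ, hτ, hτ, map_add, map_add]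
    rfl
  have hzero : (τ 0 : G) = 1 := by rw [hτ, map_zero, map_zero]; rfl
  have hmul : ∀ (d : D) (c : {i : Fin (Nat.card R) // True}), re c = ⟨ρ d, hρR d⟩ →
      ∀ x, d.1 * τ x * d.1⁻¹ = τ (c * x) := by
    intro d c hc x
    rw [hτ, hτ, map_mul, hc]
    rfl
  refine ⟨{i : Fin (Nat.card R) // True}, inferInstance, Fintype.ofFinite _, τ, hadd, hzero, ?_, ?_, ?_⟩
  · haveI : Fact (Nat.Prime 2) := ⟨Nat.prime_two⟩
    refine CharP.charP_iff_prime_eq_zero Nat.prime_two |>.2 ?_
    apply τ.injective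
    refine Subtype.ext ?_
    rw [show ((2 : ℕ) : {i : Fin (Nat.card R) // True}) = 1 + 1 by rw [Nat.cast_ofNat]; exact one_add_one_eq_two.symm,
      hadd, hT2 _ (τ 1).2, hzero]
  · intro d hd
    refine ⟨re.symm ⟨ρ ⟨d, hd⟩, hρR _⟩, fun h => ?_, hmul ⟨d, hd⟩ _ (re.apply_symm_apply _)⟩
    have h' : (⟨ρ ⟨d, hd⟩, hρR _⟩ : R) = 0 := by
      rw [← re.apply_symm_apply ⟨ρ ⟨d, hd⟩, hρR _⟩, h, map_zero]
    have h'' : (((ev ⟨ρ ⟨d, hd⟩, hρR _⟩).toMul : T) : G) = 1 := by rw [h', map_zero]; rfl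
    exact ht₁ (conj_eq_one_iff.1 h'')
  · intro c hc
    obtain ⟨d, hd⟩ := hunit (re c) (fun h => hc (re.injective (h.trans (map_zero re).symm)))
    exact ⟨d.1, d.2, hmul d c hd⟩

open CfsgLib.Involution.ElemCentralizer in
theorem nonempty_mulEquiv {G : Type*} [Group G] [Finite G] {T : Sylow 2 G} (h : Hyp T) :
    ∃ (F : Type) (_ : Field F) (_ : Fintype F), Fintype.card F = Nat.card T ∧
      Nonempty (G ≃* Matrix.ProjectiveSpecialLinearGroup (Fin 2) F) := by
  classical
  have hse := stronglyEmbedded h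
  obtain ⟨x, hx⟩ : ∃ x : G ⧸ nrm T, x ≠ ((1 : G) : G ⧸ nrm T) := by
    by_contra hn
    push Not at hn
    refine hse.1 (Subgroup.eq_top_iff' _ |>.2 fun g => mk_eq_one_iff.1 (hn g))
  obtain ⟨u, hu, hux⟩ := exists_swap h (Ne.symm hx)
  rw [smul_one_eq] at hux
  subst hux
  have huH : u ∉ nrm T := fun hm => hx (mk_eq_one_iff.2 hm)
  set a : G ⧸ nrm T := ((1 : G) : G ⧸ nrm T) with ha
  set b : G ⧸ nrm T := (u : G ⧸ nrm T) with hb
  obtain ⟨z, hz, hz2, -⟩ := exists_central h
  have hz1 := ne_one hz2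
  obtain ⟨F, hFi, hFt, τ, hadd, hzero, hchar, hD1, hD2⟩ := exists_field (T : Subgroup G) (dd T u)
    (fun d hd t ht => conj_mem_T hd.1 ht) (fun x hx y hy => (comm_T h hx hy).eq)
    (fun x hx y hy => (dd_comm h hu huH hx hy).eq) (fun x hx => sq_T h hx) hz hz1
    (fun t ht ht1 => transitive_T h hu huH hz hz1 ht ht1)
  refine ⟨F, hFi, hFt, ?_, ?_⟩
  · rw [← Nat.card_eq_fintype_card]; exact Nat.card_congr τ
  haveI := hchar
  -- the projective line
  let p : OnePoint F → G ⧸ nrm T := fun o => o.elim a fun y => (τ y : G) • b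
  have hfixT : ∀ t ∈ T, (t : G) • a = a := fun t ht => fixes_one_iff.2 (Subgroup.le_normalizer ht)
  have hne : ∀ y : F, (τ y : G) • b ≠ a := fun y e =>
    hx (smul_left_cancel _ (e.trans (hfixT _ (τ y).2).symm))
  have hp : Function.Bijective p := by
    constructor
    · intro o o' e
      cases o with
      | infty => cases o' with
        | infty => rfl
        | coe y => exact absurd e.symm (hne y)
      | coe y => cases o' with
        | infty => exact absurd e (hne y)
        | coe y' =>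
          obtain ⟨t, -, hu0⟩ := T_regular h hx (hne y)
          have := (hu0 _ ⟨(τ y).2, rfl⟩).trans (hu0 _ ⟨(τ y').2, e.symm⟩).symm
          rw [τ.injective (Subtype.ext this)]
    · intro w
      by_cases hw : w = a
      · exact ⟨OnePoint.infty, hw.symm⟩
      · obtain ⟨t, ⟨ht, htw⟩, -⟩ := T_regular h hx hw
        refine ⟨((τ.symm ⟨t, ht⟩ : F) : OnePoint F), ?_⟩
        change (τ (τ.symm ⟨t, ht⟩) : G) • b = w
        rw [Equiv.apply_symm_apply]; exact htw
  let P := Equiv.ofBijective p hp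
  let φ : G →* Equiv.Perm (OnePoint F) :=
    P.symm.permCongrHom.toMonoidHom.comp (MulAction.toPermHom G (G ⧸ nrm T))
  have hφ : ∀ g o, p (φ g o) = g • p o := fun g o => by
    change P (P.symm (g • P o)) = _
    rw [Equiv.apply_symm_apply]; rfl
  have hp0 : p ((0 : F) : OnePoint F) = b := by
    change (τ 0 : G) • b = b
    rw [hzero, one_smul]
  have hφinj : Function.Injective φ := by
    rw [injective_iff_map_eq_one]
    intro g hg
    have hall : ∀ o, g • p o = p o := fun o => by rw [← hφ, hg]; rfl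
    have h01 : ((0 : F) : OnePoint F) ≠ ((1 : F) : OnePoint F) :=
      fun e => zero_ne_one (OnePoint.coe_eq_coe.1 e)
    exact eq_one_of_fixes_three h (hp.1.ne (OnePoint.infty_ne_coe (0 : F)))
      (hp.1.ne (OnePoint.infty_ne_coe (1 : F))) (hp.1.ne h01)
      (hall OnePoint.infty) (hall _) (hall _)
  let ψ : Matrix.SpecialLinearGroup (Fin 2) F →* Equiv.Perm (OnePoint F) :=
    (MulAction.toPermHom (GL (Fin 2) F) (OnePoint F)).comp Matrix.SpecialLinearGroup.toGL
  have hψ : ∀ m o, ψ m o = Matrix.SpecialLinearGroup.toGL m • o := fun m o => rfl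
  have htwo : (2 : F) = 0 := CharTwo.two_eq_zero
  have hsqrt : ∀ c : F, ∃ μ : F, μ * μ = c := fun c => by
    obtain ⟨μ, hμ⟩ := (frobeniusEquiv F 2).surjective c
    exact ⟨μ, by rw [← hμ, frobeniusEquiv_apply, frobenius_def, pow_two]⟩
  -- translations
  have hT : ∀ y : F, φ (τ y : G) ∈ ψ.range := by
    intro y
    obtain ⟨m, hm⟩ : ∃ m : Matrix.SpecialLinearGroup (Fin 2) F,
        (m : Matrix (Fin 2) (Fin 2) F) = !![1, y; 0, 1] := ⟨⟨_, by simp [Matrix.det_fin_two]⟩, rfl⟩
    refine ⟨m, Equiv.ext fun o => hp.1 ?_⟩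
    simp only [hφ, hψ]
    cases o with
    | infty =>
      rw [OnePoint.smul_infty_eq_ite]
      simp only [Matrix.SpecialLinearGroup.coe_GL_coe_matrix, hm, Matrix.of_apply, Matrix.cons_val',
        Matrix.cons_val_zero, Matrix.cons_val_one, Matrix.cons_val_fin_one, if_pos]
      exact (hfixT _ (τ y).2).symm
    | coe w =>
      rw [OnePoint.smul_some_eq_ite]
      simp only [Matrix.SpecialLinearGroup.coe_GL_coe_matrix, hm, Matrix.of_apply, Matrix.cons_val',
        Matrix.cons_val_zero, Matrix.cons_val_one, Matrix.cons_val_fin_one, zero_mul, zero_add,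
        one_ne_zero, if_neg, not_false_iff, one_mul, div_one]
      change (τ (w + y) : G) • b = (τ y : G) • ((τ w : G) • b)
      rw [smul_smul, ← hadd, add_comm]
  -- multiplications
  have hD : ∀ d ∈ dd T u, φ d ∈ ψ.range := by
    intro d hd
    obtain ⟨c, hc, hcx⟩ := hD1 d hd
    obtain ⟨μ, rfl⟩ := hsqrt c
    have hμ : μ ≠ 0 := fun e => hc (by rw [e, mul_zero])
    obtain ⟨m, hm⟩ : ∃ m : Matrix.SpecialLinearGroup (Fin 2) F,
        (m : Matrix (Fin 2) (Fin 2) F) = !![μ, 0; 0, μ⁻¹] :=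
      ⟨⟨_, by simp [Matrix.det_fin_two, hμ]⟩, rfl⟩
    refine ⟨m, Equiv.ext fun o => hp.1 ?_⟩
    simp only [hφ, hψ]
    cases o with
    | infty =>
      rw [OnePoint.smul_infty_eq_ite]
      simp only [Matrix.SpecialLinearGroup.coe_GL_coe_matrix, hm, Matrix.of_apply, Matrix.cons_val',
        Matrix.cons_val_zero, Matrix.cons_val_one, Matrix.cons_val_fin_one, if_pos]
      exact (mem_dd_iff.1 hd).1.symm
    | coe w =>
      rw [OnePoint.smul_some_eq_ite]
      simp only [Matrix.SpecialLinearGroup.coe_GL_coe_matrix, hm, Matrix.of_apply, Matrix.cons_val',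
        Matrix.cons_val_zero, Matrix.cons_val_one, Matrix.cons_val_fin_one, zero_mul, zero_add,
        add_zero, inv_eq_zero, hμ, if_neg, not_false_iff]
      change (τ (μ * w / μ⁻¹) : G) • b = d • ((τ w : G) • b)
      rw [div_inv_eq_mul, show μ * w * μ = μ * μ * w by ring, ← hcx w, mul_smul, mul_smul,
        show d⁻¹ • b = b from inv_smul_eq_iff.2 (mem_dd_iff.1 hd).2.symm]
  -- the involution `u`
  have hua : u • a = b := smul_one_eq u
  have hub : u • b = a := smul_u hu
  have hU : φ u ∈ ψ.range := by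
    -- the image of the point `1`
    have h1a : u • p ((1 : F) : OnePoint F) ≠ a := fun e =>
      (zero_ne_one (α := F)) (OnePoint.coe_eq_coe.1 (hp.1 (hp0.trans (smul_left_cancel u (hub.trans e.symm)))))
    obtain ⟨o, ho⟩ := hp.2 (u • p ((1 : F) : OnePoint F))
    cases o with
    | infty => exact absurd ho.symm h1a
    | coe c =>
    have hc : c ≠ 0 := fun e => by
      rw [e, hp0, ← hua] at ho
      exact hne 1 (smul_left_cancel u ho).symm
    obtain ⟨μ, rfl⟩ := hsqrt c
    have hμ : μ ≠ 0 := fun e => hc (by rw [e, mul_zero])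
    obtain ⟨m, hm⟩ : ∃ m : Matrix.SpecialLinearGroup (Fin 2) F,
        (m : Matrix (Fin 2) (Fin 2) F) = !![0, μ; μ⁻¹, 0] := ⟨⟨_, by
      rw [Matrix.det_fin_two]
      simp only [Matrix.of_apply, Matrix.cons_val', Matrix.cons_val_zero, Matrix.cons_val_one,
        Matrix.cons_val_fin_one, mul_zero, zero_sub, mul_inv_cancel₀ hμ]
      rw [CharTwo.neg_eq]⟩, rfl⟩
    refine ⟨m, Equiv.ext fun o => hp.1 ?_⟩
    simp only [hφ, hψ]
    cases o with
    | infty =>
      rw [OnePoint.smul_infty_eq_ite]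
      simp only [Matrix.SpecialLinearGroup.coe_GL_coe_matrix, hm, Matrix.of_apply, Matrix.cons_val',
        Matrix.cons_val_zero, Matrix.cons_val_one, Matrix.cons_val_fin_one, inv_eq_zero, hμ,
        if_neg, not_false_iff, zero_div]
      exact hp0.trans hua.symm
    | coe w =>
      rw [OnePoint.smul_some_eq_ite]
      simp only [Matrix.SpecialLinearGroup.coe_GL_coe_matrix, hm, Matrix.of_apply, Matrix.cons_val',
        Matrix.cons_val_zero, Matrix.cons_val_one, Matrix.cons_val_fin_one, zero_mul, zero_add,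
        add_zero, mul_eq_zero, inv_eq_zero, hμ, false_or]
      by_cases hw : w = 0
      · subst hw
        rw [if_pos rfl, hp0, hub]
        rfl
      · rw [if_neg hw]
        obtain ⟨d, hd, hdx⟩ := hD2 w hw
        have hdi := u_inverts h hu huH d hd
        have e1 : p ((w : F) : OnePoint F) = d • p ((1 : F) : OnePoint F) := by
          change (τ w : G) • b = d • ((τ 1 : G) • b)
          rw [← mul_one w, ← hdx 1, mul_smul, mul_smul,
            show d⁻¹ • b = b from inv_smul_eq_iff.2 (mem_dd_iff.1 hd).2.symm]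
        rw [e1, smul_smul, show u * d = d⁻¹ * u by
          rw [← hdi, inv_mul_cancel_right], mul_smul, ← ho]
        change (τ (μ / (μ⁻¹ * w)) : G) • b = d⁻¹ • ((τ (μ * μ) : G) • b)
        apply smul_left_cancel d
        rw [smul_inv_smul]
        conv_lhs => rw [← show d⁻¹ • b = b from inv_smul_eq_iff.2 (mem_dd_iff.1 hd).2.symm,
          smul_smul, smul_smul, hdx]
        congr 3
        field_simp
  have hle : φ.range ≤ ψ.range := by
    rintro _ ⟨g, rfl⟩
    have hH : ∀ g ∈ nrm T, φ g ∈ ψ.range := by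
      intro g hg
      obtain ⟨t, ht, d, hd, rfl⟩ := exists_decomp h hu huH hg
      rw [map_mul]
      refine mul_mem ?_ (hD d hd)
      have e := hT (τ.symm ⟨t, ht⟩)
      rwa [Equiv.apply_symm_apply] at e
    by_cases hg : g ∈ nrm T
    · exact hH g hg
    · obtain ⟨t, ⟨ht, htg⟩, -⟩ := T_regular h hx (fun e => hg (mk_eq_one_iff.1 e) :
        (g : G ⧸ nrm T) ≠ a)
      have hm : (t * u)⁻¹ * g ∈ nrm T := by
        rw [← fixes_one_iff, mul_smul, smul_one_eq g, inv_smul_eq_iff, mul_smul, smul_one_eq u]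
        exact htg.symm
      rw [show g = t * u * ((t * u)⁻¹ * g) by group, map_mul, map_mul]
      have e := hT (τ.symm ⟨t, ht⟩)
      rw [Equiv.apply_symm_apply] at e
      exact mul_mem (mul_mem e hU) (hH _ hm)
  have hge : ψ.range ≤ φ.range := by
    rintro _ ⟨m, rfl⟩
    obtain ⟨g, g1, g2, g3⟩ := triple h
      (x₁ := p OnePoint.infty) (x₂ := p ((0 : F) : OnePoint F)) (x₃ := p ((1 : F) : OnePoint F))
      (y₁ := p (ψ m OnePoint.infty)) (y₂ := p (ψ m ((0 : F) : OnePoint F)))
      (y₃ := p (ψ m ((1 : F) : OnePoint F)))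
      (hp.1.ne (OnePoint.infty_ne_coe (0 : F))) (hp.1.ne (OnePoint.infty_ne_coe (1 : F)))
      (hp.1.ne fun e => zero_ne_one (OnePoint.coe_eq_coe.1 e))
      (hp.1.ne ((ψ m).injective.ne (OnePoint.infty_ne_coe (0 : F))))
      (hp.1.ne ((ψ m).injective.ne (OnePoint.infty_ne_coe (1 : F))))
      (hp.1.ne ((ψ m).injective.ne fun e => zero_ne_one (OnePoint.coe_eq_coe.1 e)))
    rw [← hφ] at g1 g2 g3
    obtain ⟨m', hm'⟩ := hle ⟨g, rfl⟩
    refine ⟨g, ?_⟩
    rw [← hm'] at g1 g2 g3 ⊢
    have hfix : ∀ o, ψ (m⁻¹ * m') o = o ↔ ψ m' o = ψ m o := by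
      intro o
      rw [map_mul, map_inv, Equiv.Perm.mul_apply, Equiv.Perm.inv_eq_iff_eq]
    set k := m⁻¹ * m' with hk
    have k1 := (hfix _).2 (hp.1 g1)
    have k2 := (hfix _).2 (hp.1 g2)
    have k3 := (hfix _).2 (hp.1 g3)
    rw [hψ, OnePoint.smul_infty_eq_self_iff] at k1
    rw [hψ, OnePoint.smul_some_eq_ite] at k2 k3
    simp only [Matrix.SpecialLinearGroup.coe_GL_coe_matrix] at k1 k2 k3
    have k11 : (k : Matrix (Fin 2) (Fin 2) F) 1 1 ≠ 0 := by
      intro e
      have := k.2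
      rw [Matrix.det_fin_two, k1, e, mul_zero, mul_zero, sub_zero] at this
      exact zero_ne_one this
    simp only [k1, zero_mul, zero_add, if_neg k11, OnePoint.coe_eq_coe, mul_zero,
      div_eq_zero_iff, or_iff_left k11] at k2
    simp only [k1, zero_mul, zero_add, if_neg k11, OnePoint.coe_eq_coe, k2, add_zero, mul_one,
      div_eq_one_iff_eq k11] at k3
    have hid : ψ k = 1 := by
      refine Equiv.ext fun o => ?_
      rw [hψ]
      cases o with
      | infty =>
        rw [OnePoint.smul_infty_eq_self_iff.2 (by simpa using k1)]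
        rfl
      | coe w =>
        rw [OnePoint.smul_some_eq_ite]
        simp only [Matrix.SpecialLinearGroup.coe_GL_coe_matrix, k1, zero_mul, zero_add,
          if_neg k11, k2, k3, add_zero]
        rw [mul_div_cancel_left₀ _ k11]
        rfl
    rw [map_mul, map_inv, inv_mul_eq_one] at hid
    exact hid.symm
  have hker : ψ.ker = Subgroup.center (Matrix.SpecialLinearGroup (Fin 2) F) := by
    rw [← Projectivization.SL_mulAction_ker (K := F) (ι := Fin 2)]
    ext m
    rw [MonoidHom.mem_ker, MonoidHom.mem_ker, Equiv.ext_iff, Equiv.ext_iff]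
    constructor
    · intro hm q
      have e := hm ((OnePoint.equivProjectivization F).symm q)
      rw [hψ] at e
      have e' := congrArg (OnePoint.equivProjectivization F) e
      rw [OnePoint.equivProjectivization_smul, Equiv.Perm.coe_one, id_eq,
        Equiv.apply_symm_apply] at e'
      exact e'
    · intro hm o
      rw [hψ]
      apply (OnePoint.equivProjectivization F).injective
      rw [OnePoint.equivProjectivization_smul]
      exact hm (OnePoint.equivProjectivization F o)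
  exact ⟨((MonoidHom.ofInjective hφinj).trans (MulEquiv.subgroupCongr (le_antisymm hle hge))).trans
    ((QuotientGroup.quotientKerEquivRange ψ).symm.trans (QuotientGroup.quotientMulEquivOfEq hker))⟩

end CfsgLib.Involution.RecognisePSL2
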