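import Cfsg.Agent.Lib.Involution.QDFusion

/-!
# The four fusion patterns of a quasi-dihedral Sylow 2-subgroup
-/

set_option autoImplicit false

namespace CfsgLib.Involution.QDFusion

open CfsgLib.Involution.QuasiDihedral CfsgLib.Involution.SylowFusionTools

universe u

variable {G : Type u} [Group G] [Finite G] {S : Sylow 2 G} {x y : (S : Subgroup G)} {K : ℕ}
  (h : QDGen x y K)

include h

omit [Finite G] in
theorem two_conj_cases (hF : ¬ FusedTwo x y K) {a g : G} (ha : a ∈ S) (hb : g * a * g⁻¹ ∈ S)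
    (h2 : orderOf a = 2) :
    (a = cz x K ∧ g * a * g⁻¹ = cz x K) ∨
      ∃ m m' : ℤ, a = rf x y (2 * m) ∧ g * a * g⁻¹ = rf x y (2 * m') := by
  have hab : IsConj a (g * a * g⁻¹) := isConj_iff.2 ⟨g, rfl⟩
  rcases two_cases h ha h2 with ea | ⟨m, ea⟩ <;>
    rcases two_cases h hb ((Dihedral.orderOf_conj g a).trans h2) with eb | ⟨m', eb⟩ <;>
      rw [ea] at hab <;> rw [ea] at eb ⊢ <;> rw [eb] at hab ⊢
  · exact Or.inl ⟨rfl, rfl⟩
  · exact absurd ((rf_isConj h (by simp)).trans hab.symm) hF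
  · exact absurd ((rf_isConj h (by simp)).trans hab) hF
  · exact Or.inr ⟨m, m', rfl, rfl⟩

omit [Finite G] in
theorem ri_isConj_inv : IsConj (ri x K) (ri x K)⁻¹ := isConj_iff.2 ⟨(y : G), ri_conj_inv h⟩

omit [Finite G] in
theorem four_conj_cases (hF : ¬ FusedFour x y K) {a g : G} (ha : a ∈ S) (hb : g * a * g⁻¹ ∈ S)
    (h4 : orderOf a = 4) :
    ((a = ri x K ∨ a = (ri x K)⁻¹) ∧ (g * a * g⁻¹ = ri x K ∨ g * a * g⁻¹ = (ri x K)⁻¹)) ∨
      ∃ m m' : ℤ, a = rf x y (2 * m + 1) ∧ g * a * g⁻¹ = rf x y (2 * m' + 1) := by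
  have hab : IsConj a (g * a * g⁻¹) := isConj_iff.2 ⟨g, rfl⟩
  rcases four_cases h ha h4 with ea | ea | ⟨m, ea⟩ <;>
    rcases four_cases h hb ((Dihedral.orderOf_conj g a).trans h4) with eb | eb | ⟨m', eb⟩ <;>
      rw [ea] at hab <;> rw [ea] at eb ⊢ <;> rw [eb] at hab ⊢
  · exact Or.inl ⟨Or.inl rfl, Or.inl rfl⟩
  · exact Or.inl ⟨Or.inl rfl, Or.inr rfl⟩
  · exact absurd ((rf_isConj h (by simp)).trans hab.symm) hF
  · exact Or.inl ⟨Or.inr rfl, Or.inl rfl⟩
  · exact Or.inl ⟨Or.inr rfl, Or.inr rfl⟩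
  · exact absurd ((rf_isConj h (by simp)).trans (hab.symm.trans (ri_isConj_inv h).symm)) hF
  · exact absurd ((rf_isConj h (by simp)).trans hab) hF
  · exact absurd ((rf_isConj h (by simp)).trans (hab.trans (ri_isConj_inv h).symm)) hF
  · exact Or.inr ⟨m, m', rfl, rfl⟩

/-- Elements of order other than two or four: conjugates generate the same cyclic group. -/
theorem high_conj {a g : G} (ha : a ∈ S) (hb : g * a * g⁻¹ ∈ S) (h2 : orderOf a ≠ 2)
    (h4 : orderOf a ≠ 4) :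
    a ∈ Subgroup.zpowers (x : G) ∧
      Subgroup.zpowers (g * a * g⁻¹) = Subgroup.zpowers a := by
  have ho := Dihedral.orderOf_conj g a
  obtain ⟨i, hi⟩ := high_cases h ha h2 h4
  obtain ⟨j, hj⟩ := high_cases h hb (ho ▸ h2) (ho ▸ h4)
  have hi' : a ∈ Subgroup.zpowers (x : G) := ⟨i, by rw [hi, SubgroupClass.coe_zpow]⟩
  have hj' : g * a * g⁻¹ ∈ Subgroup.zpowers (x : G) := ⟨j, by rw [hj, SubgroupClass.coe_zpow]⟩
  exact ⟨hi', zpowers_eq_of_cyclic hj' hi' ho⟩

theorem invariant_of {R : Subgroup G}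
    (h2 : ∀ a ∈ S, ∀ g : G, g * a * g⁻¹ ∈ S → orderOf a = 2 → (a ∈ R ↔ g * a * g⁻¹ ∈ R))
    (h4 : ∀ a ∈ S, ∀ g : G, g * a * g⁻¹ ∈ S → orderOf a = 4 → (a ∈ R ↔ g * a * g⁻¹ ∈ R)) :
    ∀ a ∈ S, ∀ g : G, g * a * g⁻¹ ∈ S → (a ∈ R ↔ g * a * g⁻¹ ∈ R) := by
  intro a ha g hb
  by_cases e2 : orderOf a = 2
  · exact h2 a ha g hb e2
  by_cases e4 : orderOf a = 4
  · exact h4 a ha g hb e4
  rw [← Subgroup.zpowers_le, ← (high_conj h ha hb e2 e4).2, Subgroup.zpowers_le]

omit [Finite G] in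
theorem relIndex_map {R' : Subgroup (S : Subgroup G)} (hR : R'.index = 2) :
    (R'.map (S : Subgroup G).subtype).relIndex (S : Subgroup G) = 2 := by
  rw [Subgroup.relIndex, Subgroup.subgroupOf,
    Subgroup.comap_map_eq_self_of_injective (Subgroup.subtype_injective _), hR]

omit [Finite G] in
theorem mem_map_iff {R' : Subgroup (S : Subgroup G)} (g : (S : Subgroup G)) :
    (g : G) ∈ R'.map (S : Subgroup G).subtype ↔ g ∈ R' :=
  Subgroup.mem_map_iff_mem (Subgroup.subtype_injective _)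

/-! ### Counting classes -/

theorem two_classes_of_not (hF : ¬ FusedTwo x y K) :
    Nat.card {C : ConjClasses G // ∃ t : G, orderOf t = 2 ∧ ConjClasses.mk t = C} = 2 :=
  card_classes_two (cz_orderOf h) (by simpa using rf_orderOf_even h 0) (fun e => hF e.symm)
    (fun _ ht => involution_classes h ht)

theorem one_class_of_two (hF : FusedTwo x y K) :
    Nat.card {C : ConjClasses G // ∃ t : G, orderOf t = 2 ∧ ConjClasses.mk t = C} = 1 :=
  card_classes_one (cz_orderOf h)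
    (fun _ ht => (involution_classes h ht).elim id fun e => hF.symm.trans e)

theorem four_classes_of_not (hF : ¬ FusedFour x y K) :
    Nat.card {C : ConjClasses G // ∃ t : G, orderOf t = 4 ∧ ConjClasses.mk t = C} = 2 :=
  card_classes_two (ri_orderOf h) (by simpa using rf_orderOf_odd h 0) (fun e => hF e.symm)
    (fun _ ht => four_classes h ht)

theorem one_class_of_four (hF : FusedFour x y K) :
    Nat.card {C : ConjClasses G // ∃ t : G, orderOf t = 4 ∧ ConjClasses.mk t = C} = 1 :=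
  card_classes_one (ri_orderOf h)
    (fun _ ht => (four_classes h ht).elim id fun e => hF.symm.trans e)

/-! ### The patterns -/

theorem simple_case {T : Subgroup G} (hT : IsKleinFour T) (hTS : T ≤ S) {Q : Subgroup G}
    (eQ : Q ≃* QuaternionGroup 2) (hQS : Q ≤ S) (hF : FusedTwo x y K) (hF' : FusedFour x y K)
    (H : Subgroup G) : H.index ≠ 2 := by
  intro hH
  have hres := pResidual_le_of_index_two hH
  have hy : (y : G) ∈ H := hres (involutions_mem_pResidual h hT hTS hF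
    (by rw [Subgroup.orderOf_coe]; exact h.ordy))
  have hxy : rf x y 1 ∈ H :=
    hres (fours_mem_pResidual h eQ hQS hF' (by simpa using rf_orderOf_odd h 0))
  have hx : (x : G) ∈ H := by
    rw [rf, zpow_one, Subgroup.coe_mul] at hxy
    exact (Subgroup.mul_mem_cancel_right _ hy).1 hxy
  have hle : (S : Subgroup G) ≤ H := by
    intro w hw
    rcases normal_form h ⟨w, hw⟩ with ⟨i, e⟩ | ⟨i, e⟩ <;>
      rw [show w = _ from congrArg Subtype.val e]
    · rw [SubgroupClass.coe_zpow]; exact zpow_mem hx i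
    · rw [Subgroup.coe_mul, SubgroupClass.coe_zpow]; exact mul_mem (zpow_mem hx i) hy
  have h0 := Subgroup.index_dvd_of_le hle
  rw [hH] at h0
  exact S.not_dvd_index h0

theorem weakly_closed_center (hF : ¬ FusedTwo x y K) :
    Cfsg.IsWeaklyClosed ((Subgroup.center (S : Subgroup G)).map (S : Subgroup G).subtype)
      (S : Subgroup G) := by
  have hZ : (Subgroup.center (S : Subgroup G)).map (S : Subgroup G).subtype =
      Subgroup.zpowers (cz x K) := by
    rw [center_eq h, MonoidHom.map_zpowers]; rfl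
  rw [hZ]
  refine ⟨Subgroup.zpowers_le.2 (x ^ (4 * (K : ℤ))).2, fun g hg => ?_⟩
  rw [MonoidHom.map_zpowers] at hg ⊢
  have hgS : g * cz x K * g⁻¹ ∈ (S : Subgroup G) := hg (Subgroup.mem_zpowers _)
  rcases two_conj_cases (a := cz x K) h hF (x ^ (4 * (K : ℤ))).2 hgS (cz_orderOf h) with ⟨-, e⟩ | ⟨m, -, e, -⟩
  · change Subgroup.zpowers (g * cz x K * g⁻¹) = _
    rw [e]
  · exact absurd (Subtype.ext e).symm (xy_ne_zpow h _ _)

theorem quaternion_case [NeZero K] {Q : Subgroup G} (eQ : Q ≃* QuaternionGroup 2) (hQS : Q ≤ S)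
    (hF : ¬ FusedTwo x y K) (hF' : FusedFour x y K) :
    ∃ M : Subgroup G, M.Normal ∧ M.index = 2 ∧
      (∀ P : Sylow 2 ↥M, ∃ m : ℕ, 1 ≤ m ∧
        Nonempty ((P : Subgroup ↥M) ≃* QuaternionGroup (2 ^ m))) ∧
      ∀ H : Subgroup ↥M, H.index ≠ 2 := by
  set R := (qHom h).range.map (S : Subgroup G).subtype with hRdef
  have hR : R.relIndex (S : Subgroup G) = 2 := relIndex_map h (qHom_index h)
  have hz : cz x K ∈ R := (mem_map_iff h _).2
    ((mem_qHom_range h _).2 ⟨2 * K, Or.inl (by ring_nf)⟩)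
  have hnrf : ∀ m : ℤ, rf x y (2 * m) ∉ R := by
    intro m hm
    obtain ⟨m', e | e⟩ := (mem_qHom_range h _).1 ((mem_map_iff h _).1 hm)
    · exact xy_ne_zpow h _ _ e
    · rw [mul_left_inj, zpow_eq_iff h] at e
      obtain ⟨q, hq⟩ := e
      have : 2 * (m - m' - 4 * (K : ℤ) * q) = 1 := by linarith
      omega
  have hall4 : ∀ w ∈ S, orderOf w = 4 → w ∈ R := by
    intro w hw h4
    have hri : ri x K ∈ R := (mem_map_iff h _).2
      ((mem_qHom_range h _).2 ⟨K, Or.inl rfl⟩)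
    rcases four_cases h hw h4 with e | e | ⟨m, e⟩ <;> rw [e]
    · exact hri
    · exact inv_mem hri
    · exact (mem_map_iff h _).2 ((mem_qHom_range h _).2 ⟨m, Or.inr rfl⟩)
  have hinv := invariant_of h (R := R)
    (fun a ha g hb e2 => by
      rcases two_conj_cases h hF ha hb e2 with ⟨ea, eb⟩ | ⟨m, m', ea, eb⟩ <;> rw [eb, ea]
      exact iff_of_false (hnrf m) (hnrf m'))
    (fun a ha g hb e4 => iff_of_true (hall4 a ha e4)
      (hall4 _ hb ((Dihedral.orderOf_conj g a).trans e4)))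
  obtain ⟨M, hMn, hM, hMS⟩ := exists_index_two S (Subgroup.map_subtype_le _) hR hinv
  refine ⟨M, hMn, hM, fun P => ?_, no_index_two S hMS hM hR fun H' hH' => ?_⟩
  · obtain ⟨e, he⟩ := h.kpow
    obtain ⟨i⟩ := sylow_iso S hMS hM hR P
    refine ⟨e + 1, by omega, ?_⟩
    rw [show 2 ^ (e + 1) = 2 * K by rw [he, pow_succ']]
    exact ⟨i.trans (((MonoidHom.ofInjective (qHom_injective h)).trans
      ((qHom h).range.equivMapOfInjective _ (Subgroup.subtype_injective _))).symm)⟩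
  · have hodd : ∀ m : ℤ, rf x y (2 * m + 1) ∈ H' := fun m =>
      hH' (fours_mem_pResidual h eQ hQS hF' (rf_orderOf_odd h m))
    rintro _ ⟨w, hw, rfl⟩
    obtain ⟨m, rfl | rfl⟩ := (mem_qHom_range h w).1 hw
    · have e : x ^ (2 * m) = (x ^ (2 * m + 1) * y) * (x ^ (2 * (0 : ℤ) + 1) * y)⁻¹ := by
        rw [mul_inv_rev, ← mul_assoc, mul_inv_cancel_right, mul_zero, zero_add, zpow_add,
          mul_inv_cancel_right]
      rw [e, map_mul, map_inv]
      exact mul_mem (hodd m) (inv_mem (hodd 0))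
    · exact hodd m

theorem dihedral_case [NeZero K] {T : Subgroup G} (hT : IsKleinFour T) (hTS : T ≤ S)
    (hF : FusedTwo x y K) (hF' : ¬ FusedFour x y K) :
    ∃ M : Subgroup G, M.Normal ∧ M.index = 2 ∧
      (∀ P : Sylow 2 ↥M, ∃ m : ℕ, Nonempty ((P : Subgroup ↥M) ≃* DihedralGroup m)) ∧
      ∀ H : Subgroup ↥M, H.index ≠ 2 := by
  set R := (dHom h).range.map (S : Subgroup G).subtype with hRdef
  have hR : R.relIndex (S : Subgroup G) = 2 := relIndex_map h (dHom_index h)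
  have hri : ri x K ∈ R := (mem_map_iff h _).2
    ((mem_dHom_range h _).2 ⟨K, Or.inl rfl⟩)
  have hnrf : ∀ m : ℤ, rf x y (2 * m + 1) ∉ R := by
    intro m hm
    obtain ⟨m', e | e⟩ := (mem_dHom_range h _).1 ((mem_map_iff h _).1 hm)
    · exact xy_ne_zpow h _ _ e
    · rw [mul_left_inj, zpow_eq_iff h] at e
      obtain ⟨q, hq⟩ := e
      have : 2 * (m' - m + 4 * (K : ℤ) * q) = 1 := by linarith
      omega
  have hall2 : ∀ w ∈ S, orderOf w = 2 → w ∈ R := by
    intro w hw h2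
    rcases two_cases h hw h2 with e | ⟨m, e⟩ <;> rw [e]
    · exact (mem_map_iff h _).2 ((mem_dHom_range h _).2 ⟨2 * K, Or.inl (by ring_nf)⟩)
    · exact (mem_map_iff h _).2 ((mem_dHom_range h _).2 ⟨m, Or.inr rfl⟩)
  have hinv := invariant_of h (R := R)
    (fun a ha g hb e2 => iff_of_true (hall2 a ha e2)
      (hall2 _ hb ((Dihedral.orderOf_conj g a).trans e2)))
    (fun a ha g hb e4 => by
      rcases four_conj_cases h hF' ha hb e4 with ⟨ea, eb⟩ | ⟨m, m', ea, eb⟩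
      · exact iff_of_true (ea.elim (· ▸ hri) (· ▸ inv_mem hri))
          (eb.elim (· ▸ hri) (· ▸ inv_mem hri))
      · rw [eb, ea]; exact iff_of_false (hnrf m) (hnrf m'))
  obtain ⟨M, hMn, hM, hMS⟩ := exists_index_two S (Subgroup.map_subtype_le _) hR hinv
  refine ⟨M, hMn, hM, fun P => ?_, no_index_two S hMS hM hR fun H' hH' => ?_⟩
  · obtain ⟨i⟩ := sylow_iso S hMS hM hR P
    exact ⟨4 * K, ⟨i.trans (((MonoidHom.ofInjective (dHom_injective h)).trans
      ((dHom h).range.equivMapOfInjective _ (Subgroup.subtype_injective _))).symm)⟩⟩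
  · have hev : ∀ m : ℤ, rf x y (2 * m) ∈ H' := fun m =>
      hH' (involutions_mem_pResidual h hT hTS hF (rf_orderOf_even h m))
    rintro _ ⟨w, hw, rfl⟩
    obtain ⟨m, rfl | rfl⟩ := (mem_dHom_range h w).1 hw
    · have e : x ^ (2 * m) = (x ^ (2 * m) * y) * (x ^ (2 * (0 : ℤ)) * y)⁻¹ := by
        rw [mul_inv_rev, ← mul_assoc, mul_inv_cancel_right, mul_zero, zpow_zero, inv_one, mul_one]
      rw [e, map_mul, map_inv]
      exact mul_mem (hev m) (inv_mem (hev 0))
    · exact hev m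

theorem nilpotent_case (hF : ¬ FusedTwo x y K) (hF' : ¬ FusedFour x y K) :
    Cfsg.HasNormalPComplement 2 G := by
  haveI : Fact (Nat.Prime 2) := ⟨Nat.prime_two⟩
  refine CfsgLib.Fusion.Transfer.npc_of_controls_self S fun a ha g hb => ?_
  have hyS : (y : G) ∈ (S : Subgroup G) := y.2
  have hyi : (y : G) * (ri x K)⁻¹ * (y : G)⁻¹ = ri x K := by
    rw [← conj_inv, ri_conj_inv h, inv_inv]
  by_cases e2 : orderOf a = 2
  · rcases two_conj_cases h hF ha hb e2 with ⟨ea, eb⟩ | ⟨m, m', ea, eb⟩ <;> rw [eb, ea]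
    · exact ⟨1, one_mem _, by simp⟩
    · exact rf_conj h (by omega)
  by_cases e4 : orderOf a = 4
  · rcases four_conj_cases h hF' ha hb e4 with ⟨ea, eb⟩ | ⟨m, m', ea, eb⟩
    · rcases ea with ea | ea <;> rcases eb with eb | eb <;> rw [eb, ea]
      exacts [⟨1, one_mem _, by simp⟩, ⟨_, hyS, ri_conj_inv h⟩, ⟨_, hyS, hyi⟩,
        ⟨1, one_mem _, by simp⟩]
    · rw [eb, ea]; exact rf_conj h (by omega)
  obtain ⟨hax, hz⟩ := high_conj h ha hb e2 e4
  obtain ⟨j, hj⟩ := (IsPGroup.iff_orderOf.1 S.2) ⟨a, ha⟩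
  rw [← Subgroup.orderOf_coe] at hj
  refine exists_conj_of_cyclic S hj (fun s hs => ?_) ?_
  · have hsa : s * a * s⁻¹ ∈ (S : Subgroup G) := mul_mem (mul_mem hs ha) (inv_mem hs)
    obtain ⟨-, hs'⟩ := high_conj h ha hsa e2 e4
    refine TwoGroupLifts.mem_normalizer_of_conj_mem fun w hw => ?_
    rw [← hs']
    obtain ⟨l, rfl⟩ := Subgroup.mem_zpowers_iff.1 hw
    rw [← _root_.conj_zpow]
    exact zpow_mem (Subgroup.mem_zpowers _) l
  · refine TwoGroupLifts.mem_normalizer_of_conj_mem fun w hw => ?_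
    rw [← hz]
    obtain ⟨l, rfl⟩ := Subgroup.mem_zpowers_iff.1 hw
    rw [← _root_.conj_zpow]
    exact zpow_mem (Subgroup.mem_zpowers _) l

end CfsgLib.Involution.QDFusion

namespace CfsgLib.Involution.QDFusion

open CfsgLib.Involution.QuasiDihedral CfsgLib.Involution.SylowFusionTools

universe v

variable {G : Type v} [Group G] [Finite G] {S : Sylow 2 G} {x y : (S : Subgroup G)} {K : ℕ}
  (h : QDGen x y K)

include h

omit [Finite G] in
theorem exists_quat : ∃ Q : Subgroup G, Q ≤ S ∧ Nonempty (Q ≃* QuaternionGroup 2) := by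
  have hr : ri x K ^ (2 * 2) = 1 := by
    have h0 := pow_orderOf_eq_one (ri x K)
    rwa [ri_orderOf h] at h0
  have hs : rf x y 1 * rf x y 1 = ri x K ^ 2 := by
    rw [pow_two, ri_sq h]; simpa using rf_sq h 0
  have hc : rf x y 1 * ri x K * (rf x y 1)⁻¹ = (ri x K)⁻¹ := rf_ri h 1
  refine ⟨(TwoGroupLifts.quaternionHom (m := 2) _ _ hr hs hc).range, ?_, ⟨(MonoidHom.ofInjective
    (TwoGroupLifts.quaternionHom_injective hr hs hc (ri_orderOf h) (rf_not_mem h 1))).symm⟩⟩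
  rintro _ ⟨a | a, rfl⟩
  · exact pow_mem (x ^ (2 * (K : ℤ))).2 _
  · exact mul_mem (x ^ (1 : ℤ) * y).2 (pow_mem (x ^ (2 * (K : ℤ))).2 _)

end CfsgLib.Involution.QDFusion
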