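import Cfsg.Agent.Lib.Involution.SelfCentNoncyclic
import Cfsg.Agent.Lib.OddOrder.Final.Main
import Cfsg.Agent.Lib.Classical.SL2Tori
import Mathlib

/-!
# A simple group with self-centralising non-cyclic subgroups is `PSL₂(q)`, `q = 9` or a Fermat or Mersenne prime
-/

set_option autoImplicit false

namespace CfsgLib.Involution.SelfCentNoncyclic

open Matrix
open scoped MatrixGroups

universe u

variable {G : Type u} [Group G] [Finite G]

theorem two_dvd_card [IsSimpleGroup G] (hna : ¬ IsMulCommutative G) : 2 ∣ Nat.card G := by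
  by_contra h
  have hsol : Group.IsSolvable G := CfsgLib.OddOrder.Final.oddSolvable G (Nat.not_even_iff_odd.1
    fun he => h (even_iff_two_dvd.1 he))
  haveI := hsol
  exact hna ⟨⟨fun a b => (IsSimpleGroup.comm_iff_isSolvable.2 hsol) a b⟩⟩

theorem center_ne_top [IsSimpleGroup G] (hna : ¬ IsMulCommutative G) {t : G}
    (ht : t ≠ 1) (hc : t ∈ Subgroup.center G) : False := by
  rcases (inferInstance : (Subgroup.center G).Normal).eq_bot_or_eq_top with h | h
  · rw [h, Subgroup.mem_bot] at hc; exact ht hc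
  · exact hna ⟨⟨fun a b => (Subgroup.mem_center_iff.1 (h ▸ Subgroup.mem_top b : b ∈ Subgroup.center G) a)⟩⟩

/-- A central involution of a Sylow `2`-subgroup has a commuting companion. -/
theorem exists_two_involutions [IsSimpleGroup G] (hna : ¬ IsMulCommutative G) (S : Sylow 2 G) :
    ∃ t u : G, orderOf t = 2 ∧ orderOf u = 2 ∧ t ∈ (S : Subgroup G) ∧ u ∈ (S : Subgroup G) ∧ u ≠ t ∧
      ∀ s ∈ (S : Subgroup G), s * t = t * s := by
  haveI : Fact (Nat.Prime 2) := ⟨Nat.prime_two⟩
  have h2 := two_dvd_card hna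
  have hS : Nontrivial (S : Subgroup G) := by
    refine Finite.one_lt_card_iff_nontrivial.1 ?_
    have h := S.dvd_card_of_dvd_card h2
    have := Nat.le_of_dvd Nat.card_pos h
    omega
  haveI : Nontrivial (Subgroup.center (S : Subgroup G)) := S.isPGroup'.center_nontrivial
  obtain ⟨z, hz⟩ : ∃ z : Subgroup.center (S : Subgroup G), orderOf z = 2 := by
    refine exists_prime_orderOf_dvd_card' 2 ?_
    obtain ⟨n, hn⟩ := IsPGroup.iff_card.1 (S.isPGroup'.to_subgroup (Subgroup.center (S : Subgroup G)))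
    rw [hn]
    refine dvd_pow_self 2 fun h0 => ?_
    rw [h0, pow_zero] at hn
    exact absurd hn (Finite.one_lt_card).ne'
  set t : G := ((z : ↥(S : Subgroup G)) : G) with ht
  have ht2 : orderOf t = 2 := by rw [ht, Subgroup.orderOf_coe, Subgroup.orderOf_coe, hz]
  have htS : t ∈ (S : Subgroup G) := (z : ↥(S : Subgroup G)).2
  have htc : ∀ s ∈ (S : Subgroup G), s * t = t * s := fun s hs =>
    congrArg Subtype.val (Subgroup.mem_center_iff.1 z.2 ⟨s, hs⟩)
  by_contra hcon
  push Not at hcon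
  obtain ⟨N, hN, hodd, hNt⟩ := CfsgLib.Involution.ZStar.exists_odd_normal_of_sylow S ht2 htS fun g hg => by
    by_contra hne
    have ho : orderOf (g * t * g⁻¹) = 2 := (MulEquiv.orderOf_eq (MulAut.conj g) t).trans ht2
    obtain ⟨s, hs, hst⟩ := hcon t (g * t * g⁻¹) ht2 ho htS hg hne
    exact hst (htc s hs)
  rcases hN.eq_bot_or_eq_top with rfl | rfl
  · refine center_ne_top hna (t := t) (fun e => absurd (ht2.symm.trans (orderOf_eq_one_iff.2 e)) (by decide))
      (Subgroup.mem_center_iff.2 fun g => ?_)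
    have h := hNt g
    rw [Subgroup.mem_bot, mul_inv_eq_one, mul_inv_eq_iff_eq_mul] at h
    exact h.symm
  · rw [Subgroup.card_top] at hodd
    exact absurd (even_iff_two_dvd.2 h2) (Nat.not_even_iff_odd.2 hodd)

/-- The structure of the Sylow `2`-subgroups. -/
theorem sylow_data [IsSimpleGroup G] (hna : ¬ IsMulCommutative G) (hsc : SC G) (S : Sylow 2 G) :
    (∃ t u : G, orderOf t = 2 ∧ orderOf u = 2 ∧ t ∈ (S : Subgroup G) ∧ u ∈ (S : Subgroup G) ∧ u ≠ t ∧
      ∀ s ∈ (S : Subgroup G), s * t = t * s) ∧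
      ((∃ n : ℕ, 2 ≤ n ∧ Nonempty ((S : Subgroup G) ≃* DihedralGroup n)) ∨
        Cfsg.IsQuasiDihedral (S : Subgroup G)) := by
  classical
  haveI : Fact (Nat.Prime 2) := ⟨Nat.prime_two⟩
  obtain ⟨t, u, ht, hu, htS, huS, hne, htc⟩ := exists_two_involutions hna S
  refine ⟨⟨t, u, ht, hu, htS, huS, hne, htc⟩, ?_⟩
  have hut : Commute u t := htc u huS
  let T : ↥(S : Subgroup G) := ⟨t, htS⟩
  let U : ↥(S : Subgroup G) := ⟨u, huS⟩
  set K := Subgroup.centralizer ({U} : Set ↥(S : Subgroup G)) with hK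
  have hfour : ∀ g : ↥(S : Subgroup G), g ∈ K → g = 1 ∨ g = U ∨ g = T ∨ g = U * T := fun g hg => by
    have hgu : Commute (g : G) u := congrArg Subtype.val (Subgroup.mem_centralizer_singleton_iff.1 hg)
    rcases four hsc hu ht hne hut hgu (htc g g.2) with h | h | h | h
    · exact Or.inl (Subtype.ext h)
    · exact Or.inr (Or.inl (Subtype.ext h))
    · exact Or.inr (Or.inr (Or.inl (Subtype.ext h)))
    · exact Or.inr (Or.inr (Or.inr (Subtype.ext h)))
  have hcard : Nat.card K = 4 := by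
    have h1 : Nat.card K ≤ 4 := by
      let s : Finset ↥(S : Subgroup G) := {1, U, T, U * T}
      have hs : ∀ g : K, (g : ↥(S : Subgroup G)) ∈ s := fun g => by
        rcases hfour g g.2 with h | h | h | h <;> simp [s, h]
      calc Nat.card K ≤ Nat.card s := Nat.card_le_card_of_injective (fun g => (⟨g.1, hs g⟩ : s))
            (fun a b h => Subtype.ext (congrArg (fun z : s => (z : ↥(S : Subgroup G))) h))
        _ = s.card := Nat.card_eq_finsetCard s
        _ ≤ 4 := Finset.card_le_four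
    have h3 : 3 ≤ Nat.card K := by
      have hUK : U ∈ K := Subgroup.mem_centralizer_singleton_iff.2 rfl
      have hTK : T ∈ K := Subgroup.mem_centralizer_singleton_iff.2 (Subtype.ext hut.eq.symm)
      let f : Fin 3 → K := ![1, ⟨U, hUK⟩, ⟨T, hTK⟩]
      have hf : Function.Injective f := by
        have h1 : u ≠ 1 := fun e => by rw [e, orderOf_one] at hu; omega
        have h2 : t ≠ 1 := fun e => by rw [e, orderOf_one] at ht; omega
        intro a b hab
        have hval : ∀ i, ((f i : ↥(S : Subgroup G)) : G) = (![1, u, t] : Fin 3 → G) i := fun i => by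
          fin_cases i <;> rfl
        have hab' : (![1, u, t] : Fin 3 → G) a = (![1, u, t] : Fin 3 → G) b := by rw [← hval, ← hval, hab]
        fin_cases a <;> fin_cases b <;>
          simp [h1, h2, hne, Ne.symm h1, Ne.symm h2, Ne.symm hne] at hab' ⊢
      simpa using Nat.card_le_card_of_injective f hf
    obtain ⟨j, hj⟩ := IsPGroup.iff_card.1 (S.isPGroup'.to_subgroup K)
    rcases Nat.lt_or_ge j 2 with h | h
    · rw [hj] at h3
      interval_cases j <;> norm_num at h3
    · have : 2 ^ 2 ≤ 2 ^ j := Nat.pow_le_pow_right two_pos h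
      omega
  have hUo : orderOf U = 2 := by rw [Subgroup.orderOf_mk, hu]
  rcases Cfsg.Agent.S3224.result S.isPGroup' U hUo hcard with ⟨n, ⟨φ⟩⟩ | hqd | h4
  · refine Or.inl ⟨n, ?_, ⟨φ⟩⟩
    have h1 : Nat.card (S : Subgroup G) = 2 * n := by rw [Nat.card_congr φ.toEquiv, DihedralGroup.nat_card]
    have h2 : 4 ≤ Nat.card (S : Subgroup G) := hcard ▸ Subgroup.card_le_card_group K
    omega
  · exact Or.inr hqd
  · have hKtop : K = ⊤ := Subgroup.eq_top_of_card_eq _ (hcard.trans h4.symm)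
    have hT2 : T * T = 1 := Subtype.ext (sq_of_orderOf ht)
    have hU2 : U * U = 1 := Subtype.ext (sq_of_orderOf hu)
    have hUT : U * T * (U * T) = 1 := Subtype.ext (by
      show u * t * (u * t) = 1
      rw [mul_assoc, ← mul_assoc t, ← hut.eq, mul_assoc, sq_of_orderOf ht, mul_one, sq_of_orderOf hu])
    haveI : IsKleinFour ↥(S : Subgroup G) := by
      refine ⟨h4, ?_⟩
      have hd : Monoid.exponent ↥(S : Subgroup G) ∣ 2 := by
        refine Monoid.exponent_dvd_of_forall_pow_eq_one fun g => ?_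
        rcases hfour g (hKtop ▸ Subgroup.mem_top g) with h | h | h | h <;> rw [h, pow_two]
        exacts [one_mul 1, hU2, hT2, hUT]
      rcases (Nat.dvd_prime Nat.prime_two).1 hd with h | h
      · have := Monoid.order_dvd_exponent U
        rw [hUo, h] at this
        exact absurd this (by decide)
      · exact h
    exact Or.inl ⟨2, le_rfl, IsKleinFour.nonempty_mulEquiv⟩

theorem exists_cyclic_index {S : Type*} [Group S] [Finite S]
    (h : (∃ n : ℕ, 2 ≤ n ∧ Nonempty (S ≃* DihedralGroup n)) ∨ Cfsg.IsQuasiDihedral S) :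
    ∃ A : Subgroup S, IsCyclic A ∧ A.index ≤ 2 := by
  rcases h with ⟨n, hn, ⟨φ⟩⟩ | ⟨n, hn, hcard, x, y, hx, hy, hxy⟩
  · refine ⟨Subgroup.zpowers (φ.symm (DihedralGroup.r 1)), inferInstance, ?_⟩
    have h1 := (Subgroup.zpowers (φ.symm (DihedralGroup.r 1))).card_mul_index
    rw [Nat.card_zpowers, MulEquiv.orderOf_eq, DihedralGroup.orderOf_r_one,
      Nat.card_congr φ.toEquiv, DihedralGroup.nat_card] at h1
    exact Nat.le_of_mul_le_mul_left (by rw [h1, mul_comm]) (by omega : 0 < n)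
  · refine ⟨Subgroup.zpowers x, inferInstance, ?_⟩
    have h1 := (Subgroup.zpowers x).card_mul_index
    rw [Nat.card_zpowers, hx, hcard, pow_succ] at h1
    exact Nat.le_of_mul_le_mul_left h1.le (pow_pos two_pos n)

/-- Every involution centraliser is a `2`-group. -/
theorem centralizer_isTwoGroup [IsSimpleGroup G] (hna : ¬ IsMulCommutative G) (hsc : SC G) (x : G)
    (hx : orderOf x = 2) : IsPGroup 2 ↥(Subgroup.centralizer ({x} : Set G)) := by
  classical
  haveI : Fact (Nat.Prime 2) := ⟨Nat.prime_two⟩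
  obtain ⟨P⟩ : Nonempty (Sylow 2 ↥(Subgroup.centralizer ({x} : Set G))) := Sylow.nonempty
  set C := Subgroup.centralizer ({x} : Set G) with hC
  have hP : IsPGroup 2 ↥((P : Subgroup C).map C.subtype) := P.isPGroup'.map _
  obtain ⟨S, hS⟩ := hP.exists_le_sylow
  obtain ⟨⟨t, u, ht, hu, htS, huS, hne, htc⟩, hcases⟩ := sylow_data hna hsc S
  obtain ⟨A, hA, hAi⟩ := exists_cyclic_index hcases
  let ψ : ↥(P : Subgroup C) →* ↥(S : Subgroup G) :=
    { toFun := fun y => ⟨((y : C) : G), hS ⟨y, y.2, rfl⟩⟩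
      map_one' := rfl
      map_mul' := fun _ _ => rfl }
  have hψ : Function.Injective ψ := fun a b h =>
    Subtype.ext (Subtype.ext (congrArg (fun z : ↥(S : Subgroup G) => (z : G)) h))
  haveI := hA
  have hA' : IsCyclic ↥(A.comap ψ) := isCyclic_of_injective
    ((ψ.comp (A.comap ψ).subtype).codRestrict A fun y => y.2)
    (fun a b h => Subtype.ext (hψ (congrArg (fun z : A => (z : ↥(S : Subgroup G))) h)))
  have hA'i : (A.comap ψ).index ≤ 2 := by
    rw [Subgroup.index_comap]
    refine le_trans (Subgroup.relIndex_le_of_le_right le_top ?_) (by rwa [Subgroup.relIndex_top_right])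
    rw [Subgroup.relIndex_top_right]
    exact Subgroup.index_ne_zero_of_finite
  have hxC : x ∈ C := Subgroup.mem_centralizer_singleton_iff.2 rfl
  have hxP : (⟨x, hxC⟩ : C) ∈ (P : Subgroup C) := by
    refine involution_mem hsc hx P ?_
    rw [Subgroup.orderOf_mk, hx]
  have hxS : x ∈ (S : Subgroup G) := hS ⟨⟨x, hxC⟩, hxP, rfl⟩
  by_cases htx : t = x
  · subst htx
    have huC : u ∈ C := Subgroup.mem_centralizer_singleton_iff.2 (htc u huS)
    exact centralizer_eq_sylow hsc hx hC P _ hA' hA'i (u := ⟨u, huC⟩)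
      (by rw [Subgroup.orderOf_mk, hu]) hne
  · have htC : t ∈ C := Subgroup.mem_centralizer_singleton_iff.2 (htc x hxS).symm
    exact centralizer_eq_sylow hsc hx hC P _ hA' hA'i (u := ⟨t, htC⟩)
      (by rw [Subgroup.orderOf_mk, ht]) htx

theorem index_ne_two [IsSimpleGroup G] (hna : ¬ IsMulCommutative G) (H : Subgroup G) : H.index ≠ 2 := by
  intro hH
  rcases (Subgroup.normal_of_index_eq_two hH).eq_bot_or_eq_top with rfl | rfl
  · rw [Subgroup.index_bot] at hH
    haveI : Fact (Nat.Prime 2) := ⟨Nat.prime_two⟩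
    haveI := isCyclic_of_prime_card hH
    exact hna IsCyclic.isMulCommutative
  · simp at hH

/-- The group is `PSL₂` over a field of odd order. -/
theorem exists_psl [IsSimpleGroup G] (hna : ¬ IsMulCommutative G) (hsc : SC G) :
    ∃ (F : Type) (_ : Field F) (_ : Fintype F), Odd (Fintype.card F) ∧
      Nonempty (G ≃* Matrix.ProjectiveSpecialLinearGroup (Fin 2) F) := by
  classical
  haveI : Fact (Nat.Prime 2) := ⟨Nat.prime_two⟩
  obtain ⟨S⟩ : Nonempty (Sylow 2 G) := Sylow.nonempty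
  obtain ⟨⟨t, u, ht, hu, htS, huS, hne, htc⟩, hcases⟩ := sylow_data hna hsc S
  have hC := centralizer_isTwoGroup hna hsc t ht
  rcases hcases with ⟨n, hn, hφ⟩ | hqd
  · refine CfsgLib.Characterizations.BSW.psl_of_dihedral S n hn hφ t ht htS htc ⊥ ?_
      (fun h => absurd rfl h) ?_ ?_
    · have hO : Cfsg.oddCore ↥(Subgroup.centralizer ({t} : Set G)) = ⊥ := by
        obtain ⟨j, hj⟩ := IsPGroup.iff_card.1
          (hC.to_subgroup (Cfsg.oddCore ↥(Subgroup.centralizer ({t} : Set G))))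
        have hodd := CfsgLib.Involution.ZStar.odd_card_oddCore (G := ↥(Subgroup.centralizer ({t} : Set G)))
        refine Subgroup.card_eq_one.1 ?_
        rw [hj] at hodd ⊢
        rcases Nat.eq_zero_or_pos j with rfl | h
        · rw [pow_zero]
        · exact absurd ((Nat.odd_pow_iff h.ne').1 hodd) (by decide)
      rw [hO, Subgroup.map_bot]
    · intro s hs hsn
      exact absurd (Subgroup.mem_centralizer_iff.2 fun y hy => by
        rw [SetLike.mem_coe, Subgroup.mem_bot] at hy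
        rw [hy, one_mul, mul_one]) hsn
    · intro Y hY hY'
      exact absurd (le_bot_iff.1 hY) hY'
  · exfalso
    obtain ⟨R, -, ⟨K, -, -, hK2, hKQ⟩, -⟩ :=
      Cfsg.Agent.S1213.result S (Or.inl hqd) (index_ne_two hna) t ht
    obtain ⟨j, hj⟩ := IsPGroup.iff_card.1 (hC.to_subgroup K)
    rcases Nat.eq_zero_or_pos j with rfl | hjpos
    · obtain ⟨P⟩ : Nonempty (Sylow 2 K) := Sylow.nonempty
      obtain ⟨m, hm, ⟨e⟩⟩ := hKQ P
      have h1 : Nat.card (P : Subgroup K) ≤ Nat.card K := Subgroup.card_le_card_group _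
      haveI : NeZero (2 ^ m) := ⟨by positivity⟩
      rw [Nat.card_congr e.toEquiv, Nat.card_eq_fintype_card, QuaternionGroup.card, hj, pow_zero] at h1
      have := Nat.two_pow_pos m
      omega
    · obtain ⟨H, hH⟩ := Sylow.exists_subgroup_card_pow_prime 2 (n := j - 1)
        (G := K) (hj ▸ pow_dvd_pow 2 (Nat.sub_le j 1))
      refine hK2 H ?_
      have h1 := H.card_mul_index
      rw [hH, hj] at h1
      have h2 : 2 ^ j = 2 ^ (j - 1) * 2 := by rw [← pow_succ, Nat.sub_add_cancel hjpos]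
      rw [h2] at h1
      exact Nat.eq_of_mul_eq_mul_left (Nat.two_pow_pos _) h1

section Arith

theorem nine_or_prime_plus {p f k : ℕ} (hp : p.Prime) (hp2 : p ≠ 2) (hf : 0 < f) (h : p ^ f = 2 ^ k + 1) :
    p ^ f = 9 ∨ (p ^ f).Prime := by
  rcases Nat.even_or_odd f with ⟨g, rfl⟩ | ⟨g, rfl⟩
  · left
    obtain ⟨s, hs⟩ : ∃ s, p ^ g = s + 1 := ⟨p ^ g - 1, (Nat.sub_add_cancel (Nat.one_le_pow _ _ hp.pos)).symm⟩
    have h1 : s * (s + 2) = 2 ^ k := by
      rw [pow_add, hs] at h
      nlinarith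
    obtain ⟨a, -, ha⟩ := (Nat.dvd_prime_pow Nat.prime_two).1 (Dvd.intro _ h1)
    obtain ⟨b, -, hb⟩ := (Nat.dvd_prime_pow Nat.prime_two).1 (Dvd.intro_left _ h1)
    rcases a with _ | _ | a
    · rcases b with _ | _ | b <;> simp [ha, pow_succ] at hb <;> omega
    · rw [pow_add, hs, ha]; norm_num
    · rcases b with _ | _ | b <;> simp [ha, pow_succ] at hb <;> omega
  · right
    have hdvd : p - 1 ∣ 2 ^ k := by
      have := Nat.sub_dvd_pow_sub_pow p 1 (2 * g + 1)
      rwa [one_pow, h, Nat.add_sub_cancel] at this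
    obtain ⟨a, -, ha⟩ := (Nat.dvd_prime_pow Nat.prime_two).1 hdvd
    have hp3 : 3 ≤ p := Nat.lt_of_le_of_ne hp.two_le (Ne.symm hp2)
    have hpa : p = 2 ^ a + 1 := by omega
    have ha1 : 1 ≤ a := by
      rcases a with _ | a
      · simp at ha; omega
      · omega
    have hmod : p ^ (2 * g + 1) ≡ p [MOD 2 ^ (a + 1)] := by
      have h2 : p ^ 2 ≡ 1 [MOD 2 ^ (a + 1)] := by
        obtain ⟨b, rfl⟩ := Nat.exists_eq_add_of_le' ha1
        rw [Nat.ModEq, hpa, show (2 ^ (b + 1) + 1) ^ 2 = 1 + 2 ^ (b + 1 + 1) * (1 + 2 ^ b) by ring,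
          Nat.add_mul_mod_self_left]
      have h3 := (h2.pow g).mul_right p
      rwa [one_pow, one_mul, ← pow_mul, ← pow_succ] at h3
    have hka : k = a := by
      rw [h, hpa] at hmod
      have hmod' := Nat.ModEq.add_right_cancel' 1 hmod
      rcases lt_trichotomy k a with hlt | heq | hgt
      · rw [Nat.ModEq, Nat.mod_eq_of_lt (Nat.pow_lt_pow_right one_lt_two (by omega)),
          Nat.mod_eq_of_lt (Nat.pow_lt_pow_right one_lt_two (by omega))] at hmod'
        exact Nat.pow_right_injective le_rfl hmod'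
      · exact heq
      · rw [Nat.ModEq, Nat.mod_eq_zero_of_dvd (pow_dvd_pow 2 hgt),
          Nat.mod_eq_of_lt (Nat.pow_lt_pow_right one_lt_two (by omega))] at hmod'
        exact absurd hmod'.symm (pow_ne_zero _ two_ne_zero)
    rw [h, hka, ← hpa]; exact hp

theorem prime_minus {p f k : ℕ} (hp : p.Prime) (hp2 : p ≠ 2) (hf : 0 < f) (h : p ^ f + 1 = 2 ^ k) :
    (p ^ f).Prime := by
  have hp3 : 3 ≤ p := Nat.lt_of_le_of_ne hp.two_le (Ne.symm hp2)
  have hodd : Odd p := hp.odd_of_ne_two hp2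
  rcases Nat.even_or_odd f with ⟨g, rfl⟩ | ⟨g, rfl⟩
  · exfalso
    obtain ⟨w, hw⟩ : Odd (p ^ g) := hodd.pow
    rw [pow_add, hw] at h
    rcases k with _ | _ | k
    · simp at h
    · have h9 : p ^ 1 ≤ p ^ g := Nat.pow_le_pow_right hp.pos (by omega)
      rw [pow_one, hw] at h9
      have : 1 ≤ w := by omega
      norm_num at h
      nlinarith
    · have h4 : 2 ^ (k + 1 + 1) = 4 * 2 ^ k := by ring
      rw [h4] at h
      have : (2 * w + 1) * (2 * w + 1) + 1 = 4 * (w * w + w) + 2 := by ring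
      omega
  · have hdvd : p + 1 ∣ 2 ^ k := by
      have := Odd.nat_add_dvd_pow_add_pow p 1 (n := 2 * g + 1) ⟨g, rfl⟩
      rwa [one_pow, h] at this
    obtain ⟨a, -, ha⟩ := (Nat.dvd_prime_pow Nat.prime_two).1 hdvd
    have ha2 : 2 ≤ a := by
      rcases a with _ | _ | a
      · simp at ha; omega
      · simp at ha; omega
      · omega
    have hmod : p ^ (2 * g + 1) + 1 ≡ p + 1 [MOD 2 ^ (a + 1)] := by
      have h2 : p ^ 2 ≡ 1 [MOD 2 ^ (a + 1)] := by
        refine ((Nat.modEq_iff_dvd' (Nat.one_le_pow _ _ hp.pos)).2 ?_).symm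
        obtain ⟨w, hw⟩ := hodd
        rw [show p ^ 2 - 1 = (p + 1) * (p - 1) by rw [← Nat.sq_sub_sq, one_pow], ha, pow_succ]
        exact mul_dvd_mul_left _ ⟨w, by omega⟩
      have h3 := (h2.pow g).mul_right p
      rw [one_pow, one_mul, ← pow_mul, ← pow_succ] at h3
      exact h3.add_right 1
    rw [h, ha] at hmod
    have hka : k = a := by
      rcases lt_trichotomy k a with hlt | heq | hgt
      · rw [Nat.ModEq, Nat.mod_eq_of_lt (Nat.pow_lt_pow_right one_lt_two (by omega)),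
          Nat.mod_eq_of_lt (Nat.pow_lt_pow_right one_lt_two (by omega))] at hmod
        exact Nat.pow_right_injective le_rfl hmod
      · exact heq
      · rw [Nat.ModEq, Nat.mod_eq_zero_of_dvd (pow_dvd_pow 2 hgt),
          Nat.mod_eq_of_lt (Nat.pow_lt_pow_right one_lt_two (by omega))] at hmod
        exact absurd hmod.symm (pow_ne_zero _ two_ne_zero)
    rw [hka, ← ha] at h
    rw [Nat.add_right_cancel h]; exact hp

end Arith

theorem psl_exists_order {F : Type*} [Field F] [Fintype F] (h2 : (2 : F) ≠ 0) {g : SL(2, F)} {m : ℕ}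
    (hg : orderOf g = 2 * m) :
    orderOf (g : Matrix.ProjectiveSpecialLinearGroup (Fin 2) F) = m := by
  have hm : 0 < m := by
    have := orderOf_pos g
    omega
  have hsq : g ^ m * g ^ m = 1 := by rw [← pow_add, ← two_mul, ← hg, pow_orderOf_eq_one]
  have hne : g ^ m ≠ 1 := pow_ne_one_of_lt_orderOf hm.ne' (by omega)
  have hneg := CfsgLib.Classical.sl2_eq_neg_one h2 hne hsq
  refine (orderOf_eq_iff hm).2 ⟨?_, fun k hk hk0 hkeq => ?_⟩
  · rw [← QuotientGroup.mk_pow, hneg, QuotientGroup.eq_one_iff, Subgroup.mem_center_iff]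
    exact fun x => by rw [mul_neg, neg_mul, one_mul, mul_one]
  · rw [← QuotientGroup.mk_pow, QuotientGroup.eq_one_iff,
      Matrix.SpecialLinearGroup.mem_center_iff] at hkeq
    obtain ⟨r, hr, hrg⟩ := hkeq
    rw [Fintype.card_fin] at hr
    have h4 : g ^ (k * 2) = 1 := by
      rw [pow_mul]
      refine Subtype.ext ?_
      rw [Matrix.SpecialLinearGroup.coe_pow, ← hrg, ← map_pow, hr, map_one]
      rfl
    have h5 := Nat.le_of_dvd (by omega) (orderOf_dvd_of_pow_eq_one h4)
    omega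

/-- The forward direction. -/
theorem forward [IsSimpleGroup G] (hna : ¬ IsMulCommutative G) (hsc : SC G) :
    ∃ (F : Type) (_ : Field F) (_ : Fintype F),
      (Fintype.card F = 4 ∨ Fintype.card F = 9 ∨ ((Fintype.card F).Prime ∧
        ∃ k : ℕ, Fintype.card F = 2 ^ k + 1 ∨ Fintype.card F = 2 ^ k - 1)) ∧
      Nonempty (G ≃* Matrix.ProjectiveSpecialLinearGroup (Fin 2) F) := by
  classical
  obtain ⟨F, hF, hFt, hodd, ⟨φ⟩⟩ := exists_psl hna hsc
  refine ⟨F, hF, hFt, ?_, ⟨φ⟩⟩
  obtain ⟨p, hpc⟩ := CharP.exists F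
  obtain ⟨f, hp, hq⟩ := FiniteField.card F p
  haveI : Fact p.Prime := ⟨hp⟩
  have hp2 : p ≠ 2 := fun h => by
    subst h
    rw [hq, Nat.odd_pow_iff f.ne_zero] at hodd
    exact absurd hodd (by decide)
  have h2 : (2 : F) ≠ 0 := fun h => hp2 ((Nat.prime_dvd_prime_iff_eq hp Nat.prime_two).1
    ((CharP.cast_eq_zero_iff F p 2).1 (by exact_mod_cast h)))
  set q := Fintype.card F with hqdef
  have hq3 : 3 ≤ q := by
    have : 2 ≤ q := Fintype.one_lt_card
    obtain ⟨r, hr⟩ := hodd
    omega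
  have key : ∀ (g : SL(2, F)) (m : ℕ), orderOf g = 2 * m → Even m → ∃ j, m = 2 ^ j := by
    intro g m hg ⟨r, hr⟩
    have ho : orderOf (φ.symm (g : Matrix.ProjectiveSpecialLinearGroup (Fin 2) F)) = m :=
      (MulEquiv.orderOf_eq φ.symm _).trans (psl_exists_order h2 hg)
    set c := φ.symm (g : Matrix.ProjectiveSpecialLinearGroup (Fin 2) F) with hc
    have hm0 : 0 < m := by
      have := orderOf_pos g
      omega
    have hx : orderOf (c ^ r) = 2 := by
      rw [orderOf_pow' c (by omega : r ≠ 0), ho, hr, ← two_mul, Nat.gcd_mul_left_left,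
        Nat.mul_div_cancel _ (by omega : 0 < r)]
    have hcC : c ∈ Subgroup.centralizer ({c ^ r} : Set G) :=
      Subgroup.mem_centralizer_singleton_iff.2 ((Commute.refl c).pow_right r).eq
    obtain ⟨j, hj⟩ := (centralizer_isTwoGroup hna hsc _ hx) ⟨c, hcC⟩
    have hd : m ∣ 2 ^ j := by
      rw [← ho]
      exact orderOf_dvd_of_pow_eq_one (congrArg Subtype.val hj)
    obtain ⟨i, -, hi⟩ := (Nat.dvd_prime_pow Nat.prime_two).1 hd
    exact ⟨i, hi⟩
  obtain ⟨r, hr⟩ := hodd
  rcases Nat.even_or_odd r with he | ⟨w, hw⟩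
  · obtain ⟨g, hg⟩ := CfsgLib.Classical.exists_sl2_minus (F := F)
    obtain ⟨j, hj⟩ := key g r (by rw [hg, ← hqdef]; omega) he
    have hq' : p ^ (f : ℕ) = 2 ^ (j + 1) + 1 := by rw [← hq, hr, hj, pow_succ]; ring
    rcases nine_or_prime_plus hp hp2 f.pos hq' with h | h
    · exact Or.inr (Or.inl (hq.trans h))
    · exact Or.inr (Or.inr ⟨hq ▸ h, j + 1, Or.inl (hq.trans hq')⟩)
  · obtain ⟨g, hg⟩ := CfsgLib.Classical.exists_sl2_plus (F := F) p
    obtain ⟨j, hj⟩ := key g (r + 1) (by rw [hg, ← hqdef]; omega) ⟨w + 1, by omega⟩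
    have hq' : p ^ (f : ℕ) + 1 = 2 ^ (j + 1) := by rw [← hq, pow_succ, ← hj]; omega
    refine Or.inr (Or.inr ⟨hq ▸ prime_minus hp hp2 f.pos hq', j + 1, Or.inr ?_⟩)
    rw [hq, ← hq', Nat.add_sub_cancel]

end CfsgLib.Involution.SelfCentNoncyclic
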