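import Mathlib
import Cfsg.Prelude.Def_CaseTheorems

/-!
# Recognizing a quasi-dihedral or wreathed Sylow 2-subgroup from elements of the group
-/

namespace CfsgLib.Involution.SylowTwoType

open Subgroup

variable {G : Type*} [Group G] [Finite G]

theorem isPGroup_two_zpowers {a : G} {k : ℕ} (h : orderOf a = 2 ^ k) : IsPGroup 2 (zpowers a) :=
  IsPGroup.of_card (n := k) (by rw [Nat.card_zpowers, h])

omit [Finite G] in
theorem mem_normalizer_zpowers [Finite G] {a b : G} {k : ℕ} (h : b * a * b⁻¹ = a ^ k) :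
    b ∈ normalizer (zpowers a : Set G) := by
  refine Subgroup.mem_normalizer_iff_map_conj_eq.2 (eq_of_le_of_card_ge ?_ ?_)
  · rw [MonoidHom.map_zpowers, zpowers_le]
    exact ⟨k, by simp [h]⟩
  · rw [card_map_of_injective (MulAut.conj b).injective]

theorem card_eq_of_bounds {H : Subgroup G} (hH : IsPGroup 2 H) {a m : ℕ} (hm : Odd m)
    (hG : Nat.card G = 2 ^ (a + 1) * m) (hlt : 2 ^ a < Nat.card H) : Nat.card H = 2 ^ (a + 1) := by
  obtain ⟨k, hk⟩ := hH.exists_card_eq
  have h1 : 2 ^ k ∣ 2 ^ (a + 1) := by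
    refine Nat.Coprime.dvd_of_dvd_mul_right ?_ (hG ▸ hk ▸ Subgroup.card_subgroup_dvd_card H)
    exact Nat.Coprime.pow_left _ (Nat.coprime_two_left.2 hm)
  have h2 := (Nat.pow_dvd_pow_iff_le_right (by norm_num : 1 < 2)).1 h1
  have h3 := (Nat.pow_lt_pow_iff_right (by norm_num : 1 < 2)).1 (hk ▸ hlt)
  rw [hk, show k = a + 1 by omega]

/-- A 2-subgroup of full 2-part order is carried onto any Sylow 2-subgroup by an inner automorphism. -/
theorem exists_hom_into_sylow {H : Subgroup G} {a m : ℕ} (hm : Odd m)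
    (hG : Nat.card G = 2 ^ a * m) (hH : Nat.card H = 2 ^ a) (P : Sylow 2 G) :
    ∃ f : H →* (P : Subgroup G), Function.Injective f ∧ Nat.card P = 2 ^ a := by
  have hP : Nat.card P = 2 ^ a := by
    have h2 : ¬ 2 ∣ m := by rwa [← even_iff_two_dvd, Nat.not_even_iff_odd]
    have hm0 : m ≠ 0 := fun h => h2 (h ▸ dvd_zero 2)
    rw [P.card_eq_multiplicity, hG, Nat.factorization_mul (by positivity) hm0, Finsupp.add_apply,
      Nat.factorization_eq_zero_of_not_dvd h2, add_zero, Nat.factorization_pow, Finsupp.smul_apply,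
      Nat.prime_two.factorization_self, smul_eq_mul, mul_one]
  obtain ⟨Q, hQ⟩ := (IsPGroup.of_card hH).exists_le_sylow
  exact ⟨(Q.equiv P).toMonoidHom.comp (Subgroup.inclusion hQ),
    (Q.equiv P).injective.comp (Subgroup.inclusion_injective hQ), hP⟩

/-- Elements satisfying the quasi-dihedral relations at full 2-part order. -/
theorem isQuasiDihedral_sylow {n m : ℕ} (hn : 3 ≤ n) (hm : Odd m)
    (hG : Nat.card G = 2 ^ (n + 1) * m) {x y : G} (hx : orderOf x = 2 ^ n) (hy : orderOf y = 2)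
    (hxy : y * x * y⁻¹ = x ^ (2 ^ (n - 1) - 1)) (P : Sylow 2 G) :
    Cfsg.IsQuasiDihedral (P : Subgroup G) := by
  have hyn : y ∉ zpowers x := by
    rintro ⟨i, hi⟩
    have hi' : x ^ i = y := hi
    have hc : y * x * y⁻¹ = x := by
      rw [← hi', ((Commute.refl x).zpow_left i).eq, mul_inv_cancel_right]
    rw [hc] at hxy
    have h1 : x ^ 1 = x ^ (2 ^ (n - 1) - 1) := by rwa [pow_one]
    have h2 : 2 ^ 2 ≤ 2 ^ (n - 1) := Nat.pow_le_pow_right two_pos (by omega)
    have h3 : 2 ^ (n - 1) < 2 ^ n := Nat.pow_lt_pow_right one_lt_two (by omega)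
    rw [pow_eq_pow_iff_modEq, hx, Nat.ModEq, Nat.mod_eq_of_lt (by omega),
      Nat.mod_eq_of_lt (by omega)] at h1
    omega
  set H := zpowers x ⊔ zpowers y with hH
  have hp : IsPGroup 2 H :=
    IsPGroup.to_sup_of_normal_left' (isPGroup_two_zpowers hx)
      (isPGroup_two_zpowers (k := 1) (by rw [hy, pow_one]))
      (zpowers_le.2 (mem_normalizer_zpowers hxy))
  have hlt : 2 ^ n < Nat.card H := by
    rw [← hx, ← Nat.card_zpowers]
    refine lt_of_le_of_ne (Subgroup.card_le_of_le le_sup_left) fun he => hyn ?_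
    rw [eq_of_le_of_card_ge (le_sup_left : zpowers x ≤ H) he.ge]
    exact le_sup_right (a := zpowers x) (mem_zpowers y)
  obtain ⟨f, hf, hP⟩ := exists_hom_into_sylow hm hG (card_eq_of_bounds hp hm hG hlt) P
  let x' : H := ⟨x, le_sup_left (b := zpowers y) (mem_zpowers x)⟩
  let y' : H := ⟨y, le_sup_right (a := zpowers x) (mem_zpowers y)⟩
  refine ⟨n, hn, hP, f x', f y', ?_, ?_, ?_⟩
  · rw [orderOf_injective f hf, ← orderOf_submonoid]; exact hx
  · rw [orderOf_injective f hf, ← orderOf_submonoid]; exact hy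
  · rw [← map_inv, ← map_mul, ← map_mul, ← map_pow]
    exact congrArg f (Subtype.ext hxy)

/-- Elements satisfying the wreathed relations at full 2-part order. -/
theorem isWreathed_sylow {n m : ℕ} (hn : 2 ≤ n) (hm : Odd m)
    (hG : Nat.card G = 2 ^ (2 * n + 1) * m) {x y z : G} (hx : orderOf x = 2 ^ n)
    (hxy : x * y = y * x) (hd : zpowers x ⊓ zpowers y = ⊥) (hz : orderOf z = 2)
    (hzx : z * x * z⁻¹ = y) (P : Sylow 2 G) : Cfsg.IsWreathed (P : Subgroup G) := by
  have hzz : z⁻¹ = z := inv_eq_of_mul_eq_one_left (by rw [← pow_two, ← hz, pow_orderOf_eq_one])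
  have hzy : z * y * z⁻¹ = x := by
    rw [← hzx, hzz]
    have h1 : z * z = 1 := by rw [← pow_two, ← hz, pow_orderOf_eq_one]
    rw [← mul_assoc, ← mul_assoc, h1, one_mul, mul_assoc, h1, mul_one]
  have hy : orderOf y = 2 ^ n := by
    rw [← hzx, ← MulAut.conj_apply, MulEquiv.orderOf_eq, hx]
  set A := zpowers x ⊔ zpowers y with hA
  have hcent : A ≤ centralizer ({x} : Set G) :=
    sup_le (zpowers_le.2 (mem_centralizer_singleton_iff.2 rfl))
      (zpowers_le.2 (mem_centralizer_singleton_iff.2 hxy.symm))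
  have hzn : z ∈ normalizer (A : Set G) := by
    refine Subgroup.mem_normalizer_iff_map_conj_eq.2 ?_
    rw [hA, Subgroup.map_sup, MonoidHom.map_zpowers, MonoidHom.map_zpowers, sup_comm]
    congr 2
  have hpA : IsPGroup 2 A := by
    refine IsPGroup.to_sup_of_normal_left' (isPGroup_two_zpowers hx) (isPGroup_two_zpowers hy)
      (zpowers_le.2 (mem_normalizer_zpowers (k := 1) ?_))
    rw [pow_one, ← hxy, mul_inv_cancel_right]
  have hcardA : 2 ^ (2 * n) ≤ Nat.card A := by
    have := Nat.card_le_card_of_injective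
      (fun g : zpowers x × zpowers y => (⟨(g.1 : G) * g.2,
        mul_mem (le_sup_left (b := zpowers y) g.1.2) (le_sup_right (a := zpowers x) g.2.2)⟩ : A))
      (fun g g' h => Subgroup.mul_injective_of_disjoint (disjoint_iff.2 hd) (congrArg Subtype.val h))
    rwa [Nat.card_prod, Nat.card_zpowers, Nat.card_zpowers, hx, hy, ← pow_add, ← two_mul] at this
  have hzA : z ∉ A := fun h => by
    have h1 := mem_centralizer_singleton_iff.1 (hcent h)
    rw [h1, mul_inv_cancel_right] at hzx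
    rw [← hzx, inf_idem] at hd
    have h2 : x = 1 := by simpa using hd
    rw [h2, orderOf_one] at hx
    have h3 : 2 ^ 2 ≤ 2 ^ n := Nat.pow_le_pow_right two_pos hn
    omega
  set H := A ⊔ zpowers z with hH
  have hp : IsPGroup 2 H :=
    IsPGroup.to_sup_of_normal_left' hpA (isPGroup_two_zpowers (k := 1) (by rw [hz, pow_one]))
      (zpowers_le.2 hzn)
  have hlt : 2 ^ (2 * n) < Nat.card H := by
    refine hcardA.trans_lt (lt_of_le_of_ne (Subgroup.card_le_of_le le_sup_left) fun he => hzA ?_)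
    rw [eq_of_le_of_card_ge (le_sup_left : A ≤ H) he.ge]
    exact le_sup_right (a := A) (mem_zpowers z)
  obtain ⟨f, hf, hP⟩ := exists_hom_into_sylow hm hG (card_eq_of_bounds hp hm hG hlt) P
  let x' : H := ⟨x, le_sup_left (b := zpowers z) (le_sup_left (b := zpowers y) (mem_zpowers x))⟩
  let y' : H := ⟨y, le_sup_left (b := zpowers z) (le_sup_right (a := zpowers x) (mem_zpowers y))⟩
  let z' : H := ⟨z, le_sup_right (a := A) (mem_zpowers z)⟩
  refine ⟨n, hn, hP, f x', f y', f z', ?_, ?_, ?_, ?_, ?_⟩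
  · rw [orderOf_injective f hf, ← orderOf_submonoid]; exact hx
  · rw [← map_mul, ← map_mul]; exact congrArg f (Subtype.ext hxy)
  · rw [eq_bot_iff, ← MonoidHom.map_zpowers, ← MonoidHom.map_zpowers, ← Subgroup.map_inf _ _ _ hf,
      ← Subgroup.map_bot f]
    refine Subgroup.map_mono ?_
    rintro g ⟨⟨i, hi⟩, ⟨j, hj⟩⟩
    have h1 : (g : G) ∈ zpowers x ⊓ zpowers y :=
      ⟨⟨i, congrArg Subtype.val hi⟩, ⟨j, congrArg Subtype.val hj⟩⟩
    rw [hd, Subgroup.mem_bot] at h1
    exact Subgroup.mem_bot.2 (Subtype.ext h1)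
  · rw [orderOf_injective f hf, ← orderOf_submonoid]; exact hz
  · rw [← map_inv, ← map_mul, ← map_mul]; exact congrArg f (Subtype.ext hzx)

end CfsgLib.Involution.SylowTwoType
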