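import Cfsg.Agent.Lib.Classical.HermMatrix
import Cfsg.Agent.Lib.Involution.SylowTwoType

/-!
# The Sylow 2-subgroup of `U₃(4)`
-/

set_option autoImplicit false
set_option linter.unusedSectionVars false

namespace CfsgLib.Involution.U34Sylow

open Matrix

variable {F : Type*} [Field F]

/-- Unitary Heisenberg group over the field with sixteen elements. -/
@[ext]
structure Heis (F : Type*) [Field F] where
  c : F
  b : F
  hb : b + b ^ 4 = c ^ 5

section
variable [Fintype F] [h16 : Fact (Fintype.card F = 16)]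

theorem two0 : (2 : F) = 0 := by
  have h : (Fintype.card F : F) = 0 := Nat.cast_card_eq_zero F
  rw [h16.out] at h
  exact pow_eq_zero_iff (n := 4) (by norm_num) |>.1 (show (2 : F) ^ 4 = 0 by rw [← h]; norm_num)

theorem pow16 (x : F) : x ^ 16 = x := by
  have := FiniteField.pow_card x
  rwa [h16.out] at this

theorem add_self (x : F) : x + x = 0 := by linear_combination x * two0 (F := F)

theorem add4 (x y : F) : (x + y) ^ 4 = x ^ 4 + y ^ 4 := by
  linear_combination (norm := ring_nf) (2 * x ^ 3 * y + 3 * x ^ 2 * y ^ 2 + 2 * x * y ^ 3) * two0 (F := F)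

instance : Mul (Heis F) :=
  ⟨fun g h => ⟨g.c + h.c, g.b + h.b + g.c ^ 4 * h.c, by
    rw [pow_succ _ 4, add4 g.c, add4 (g.b + h.b), add4, mul_pow, ← pow_mul]
    linear_combination g.hb + h.hb + h.c ^ 4 * pow16 g.c⟩⟩

instance : One (Heis F) := ⟨⟨0, 0, by ring⟩⟩

instance : Inv (Heis F) :=
  ⟨fun g => ⟨g.c, g.b + g.c ^ 5, by
    rw [add4, ← pow_mul]
    linear_combination g.hb + g.c ^ 4 * pow16 g.c + g.c ^ 5 * two0 (F := F)⟩⟩

theorem mul_c (g h : Heis F) : (g * h).c = g.c + h.c := rfl
theorem mul_b (g h : Heis F) : (g * h).b = g.b + h.b + g.c ^ 4 * h.c := rfl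
theorem one_c : (1 : Heis F).c = 0 := rfl
theorem one_b : (1 : Heis F).b = 0 := rfl
theorem inv_c (g : Heis F) : (g⁻¹).c = g.c := rfl
theorem inv_b (g : Heis F) : (g⁻¹).b = g.b + g.c ^ 5 := rfl

instance : Group (Heis F) :=
  Group.ofLeftAxioms
    (fun a b c => Heis.ext (by simp [mul_c]; ring) (by simp [mul_b, mul_c, add4]; ring))
    (fun a => Heis.ext (by simp [mul_c, one_c]) (by simp [mul_b, one_b, one_c]))
    (fun a => Heis.ext (by simp [mul_c, one_c, inv_c, add_self])
      (by simp only [mul_b, one_b, inv_b, inv_c]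
          linear_combination (a.b + a.c ^ 5) * two0 (F := F)))

theorem sq_val (g : Heis F) : (g * g).c = 0 ∧ (g * g).b = g.c ^ 5 :=
  ⟨by simp [mul_c, add_self], by rw [mul_b]; linear_combination g.b * two0 (F := F)⟩

theorem mul_self_eq_one_iff' (g : Heis F) : g * g = 1 ↔ g.c = 0 := by
  constructor
  · intro h
    have h1 := congrArg Heis.b h
    rw [(sq_val g).2, one_b] at h1
    exact pow_eq_zero_iff (by norm_num) |>.1 h1
  · intro h
    exact Heis.ext (by rw [(sq_val g).1, one_c]) (by rw [(sq_val g).2, one_b, h]; ring)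

theorem orderOf_two_iff (g : Heis F) : orderOf g = 2 ↔ g.c = 0 ∧ g ≠ 1 := by
  rw [orderOf_eq_prime_iff, pow_two, mul_self_eq_one_iff']

variable [σh : Fact (∃ σ : F →+* F, (∀ x, σ x = x ^ 4) ∧ CfsgLib.Classical.IsConjugation σ)]

theorem trace_surj {a : F} (ha : a ^ 4 = a) : ∃ b : F, b + b ^ 4 = a := by
  obtain ⟨σ, hσ, hc⟩ := σh.out
  obtain ⟨b, hb⟩ := hc.exists_trace_eq (a := a) (by rw [hσ, ha])
  exact ⟨b, by rw [← hσ, hb]⟩

theorem pow5_fixed (c : F) : (c ^ 5) ^ 4 = c ^ 5 := by
  linear_combination c ^ 4 * pow16 c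

theorem exists_elt (c : F) : ∃ g : Heis F, g.c = c := by
  obtain ⟨b, hb⟩ := trace_surj (pow5_fixed c)
  exact ⟨⟨c, b, hb⟩, rfl⟩

theorem mem_center_iff' (g : Heis F) : g ∈ Subgroup.center (Heis F) ↔ g.c = 0 := by
  rw [Subgroup.mem_center_iff]
  constructor
  · intro h
    by_contra hc
    have key : ∀ t : F, t ^ 4 = t := fun t => by
      obtain ⟨k, hk⟩ := exists_elt (g.c * t)
      have h1 := congrArg Heis.b (h k)
      rw [mul_b, mul_b, hk] at h1
      have h2 : g.c ^ 5 * (t ^ 4 - t) = 0 := by linear_combination h1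
      exact sub_eq_zero.1 ((mul_eq_zero.1 h2).resolve_left (pow_ne_zero _ hc))
    obtain ⟨σ, hσ, hsc⟩ := σh.out
    exact hsc.ne_id (RingHom.ext fun x => by rw [hσ, key]; rfl)
  · intro hc k
    exact Heis.ext (by simp [mul_c, add_comm]) (by simp [mul_b, hc, add_comm])

theorem card_fix : Nat.card {x : F // x ^ 4 = x} = 4 := by
  classical
  let e : {x : F // x ^ 4 = x} ≃ Option {c : Fˣ // c ^ 3 = 1} :=
    { toFun := fun x => if h : x.1 = 0 then none else some ⟨Units.mk0 x.1 h, Units.ext (by
        rw [Units.val_pow_eq_pow_val, Units.val_mk0, Units.val_one]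
        exact mul_left_cancel₀ h (by linear_combination x.2))⟩
      invFun := fun o => o.elim ⟨0, by ring⟩ fun c => ⟨c.1, by
        have := congrArg Units.val c.2
        rw [Units.val_pow_eq_pow_val, Units.val_one] at this
        linear_combination (c.1 : F) * this⟩
      left_inv := fun x => by
        by_cases h : x.1 = 0
        · exact Subtype.ext (by simp [h])
        · exact Subtype.ext (by simp [h])
      right_inv := fun o => by
        rcases o with _ | c
        · simp
        · simp }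
  rw [Nat.card_congr e, Finite.card_option, CfsgLib.Classical.card_pow_eq_one_units (by rw [h16.out]; norm_num)]

theorem card_heis : Nat.card (Heis F) = 64 := by
  let f : (Heis F) → F := Heis.c
  have e : Heis F ≃ F × {x : F // x ^ 4 = x} :=
    { toFun := fun g => (g.c, ⟨g.b - (exists_elt g.c).choose.b, by
        have h0 := (exists_elt g.c).choose.hb
        rw [(exists_elt g.c).choose_spec] at h0
        have h1 := g.hb
        rw [sub_eq_add_neg, add4]
        have hneg : ∀ z : F, (-z) ^ 4 = z ^ 4 := fun z => by ring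
        rw [hneg]
        linear_combination h1 + h0 + (g.b * (-1) + g.c ^ 5) * two0 (F := F)⟩)
      invFun := fun p => ⟨p.1, (exists_elt p.1).choose.b + p.2.1, by
        have h0 := (exists_elt p.1).choose.hb
        rw [(exists_elt p.1).choose_spec] at h0
        rw [add4]
        linear_combination h0 + p.2.2 + p.2.1 * two0 (F := F)⟩
      left_inv := fun g => Heis.ext rfl (add_sub_cancel _ _)
      right_inv := fun p => Prod.ext rfl (Subtype.ext (add_sub_cancel_left _ _)) }
  rw [Nat.card_congr e, Nat.card_prod, card_fix, Nat.card_eq_fintype_card, h16.out]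

theorem card_center : Nat.card (Subgroup.center (Heis F)) = 4 := by
  refine Eq.trans (Nat.card_congr ?_) (card_fix (F := F))
  exact
    { toFun := fun g => ⟨g.1.b, by
        have h := g.1.hb
        rw [(mem_center_iff' g.1).1 g.2] at h
        linear_combination h - g.1.b * two0 (F := F)⟩
      invFun := fun x => ⟨⟨0, x.1, by linear_combination x.2 + x.1 * two0 (F := F)⟩,
        (mem_center_iff' _).2 rfl⟩
      left_inv := fun g => Subtype.ext (Heis.ext ((mem_center_iff' g.1).1 g.2).symm rfl)
      right_inv := fun x => rfl }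

theorem center_klein : IsKleinFour (Subgroup.center (Heis F)) := by
  refine ⟨card_center, ?_⟩
  haveI : Finite (Subgroup.center (Heis F)) := Nat.finite_of_card_ne_zero (by rw [card_center]; norm_num)
  haveI : Nontrivial (Subgroup.center (Heis F)) :=
    Finite.one_lt_card_iff_nontrivial.1 (by rw [card_center]; norm_num)
  refine (Nat.dvd_prime Nat.prime_two).1 (Monoid.exponent_dvd_of_forall_pow_eq_one fun g => ?_)
    |>.resolve_left fun h => ?_
  · exact Subtype.ext (by
      rw [Subgroup.coe_pow, pow_two]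
      exact (mul_self_eq_one_iff' _).2 ((mem_center_iff' g.1).1 g.2))
  · exact not_subsingleton _ (Monoid.exp_eq_one_iff.1 h)

theorem center_closure :
    Subgroup.center (Heis F) = Subgroup.closure {x : Heis F | orderOf x = 2} := by
  apply le_antisymm
  · intro g hg
    by_cases h1 : g = 1
    · rw [h1]; exact one_mem _
    · exact Subgroup.subset_closure ((orderOf_two_iff g).2 ⟨(mem_center_iff' g).1 hg, h1⟩)
  · exact (Subgroup.closure_le _).2 fun g hg => (mem_center_iff' g).2 ((orderOf_two_iff g).1 hg).1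

open scoped commutatorElement in
theorem center_commutator : Subgroup.center (Heis F) = commutator (Heis F) := by
  apply le_antisymm
  · intro g hg
    have hc := (mem_center_iff' g).1 hg
    have hfix : g.b ^ 4 = g.b := by
      have h := g.hb
      rw [hc] at h
      linear_combination h - g.b * two0 (F := F)
    obtain ⟨d, hd⟩ := trace_surj hfix
    obtain ⟨u, hu⟩ := exists_elt (1 : F)
    obtain ⟨v, hv⟩ := exists_elt d
    have : g = ⁅u, v⁆ := by
      refine Heis.ext ?_ ?_
      · rw [commutatorElement_def, mul_c, mul_c, mul_c, inv_c, inv_c, hc]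
        linear_combination -(u.c + v.c) * two0 (F := F)
      · rw [commutatorElement_def]
        simp only [mul_b, mul_c, inv_b, inv_c, hu, hv, add4]
        linear_combination (norm := (ring_nf; simp [two0 (F := F)])) hd.symm
    rw [this]
    exact Subgroup.commutator_mem_commutator (Subgroup.mem_top _) (Subgroup.mem_top _)
  · rw [_root_.commutator_def, Subgroup.commutator_le]
    intro u _ v _
    refine (mem_center_iff' _).2 ?_
    rw [commutatorElement_def, mul_c, mul_c, mul_c, inv_c, inv_c]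
    linear_combination (u.c + v.c) * two0 (F := F)

theorem sq_mem_center (g : Heis F) : g ^ 2 ∈ Subgroup.center (Heis F) := by
  rw [mem_center_iff', pow_two]; exact (sq_val g).1

/-- The matrices realising `Heis` inside `SU(3,4)`. -/
def repMat (g : Heis F) : Matrix (Fin 3) (Fin 3) F :=
  !![1 + g.b, g.b, g.c ^ 4; g.b, 1 + g.b, g.c ^ 4; g.c, g.c, 1]

theorem repMat_mul (g h : Heis F) : repMat (g * h) = repMat g * repMat h := by
  ext i j
  fin_cases i <;> fin_cases j <;>
    simp [repMat, Matrix.mul_apply, Fin.sum_univ_three, mul_b, mul_c, add4] <;>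
    ring_nf <;> simp [two0 (F := F)]

theorem repMat_det (g : Heis F) : (repMat g).det = 1 := by
  rw [repMat, Matrix.det_fin_three]
  simp
  ring_nf
  simp [two0 (F := F)]

theorem repMat_one : repMat (1 : Heis F) = 1 := by
  ext i j
  fin_cases i <;> fin_cases j <;> simp [repMat, one_b, one_c]

/-- `Heis` inside `SL(3,16)`. -/
def repSL : Heis F →* SpecialLinearGroup (Fin 3) F where
  toFun g := ⟨repMat g, repMat_det g⟩
  map_one' := Subtype.ext repMat_one
  map_mul' g h := Subtype.ext (repMat_mul g h)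

theorem repSL_mem (g : Heis F) : repSL g ∈ Cfsg.SU 3 F 4 := by
  intro u v
  change Cfsg.hermForm 3 F 4 (repMat g *ᵥ u) (repMat g *ᵥ v) = _
  simp [Cfsg.hermForm, repMat, Matrix.mulVec, dotProduct, Fin.sum_univ_three, add4, mul_pow, ← pow_mul,
    pow16]
  linear_combination (norm := (ring_nf; simp [two0 (F := F)]))
    ((u 0 + u 1) * (v 0 ^ 4 + v 1 ^ 4)) * g.hb

/-- `Heis` inside `PSU(3,4)`. -/
def repPSU : Heis F →* Cfsg.PSU 3 F 4 :=
  (QuotientGroup.mk' (Subgroup.center (Cfsg.SU 3 F 4))).comp (repSL.codRestrict _ repSL_mem)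

theorem repPSU_injective : Function.Injective (repPSU (F := F)) := by
  have hcen : Subgroup.center (Cfsg.SU 3 F 4) = ⊥ := Subgroup.eq_bot_of_card_eq _ (by
    rw [CfsgLib.Classical.card_center_SU (F := F) (q := 4) (by rw [h16.out]; norm_num) (by norm_num)]
    norm_num)
  refine (injective_iff_map_eq_one _).2 fun g hg => ?_
  rw [repPSU, MonoidHom.comp_apply, ← MonoidHom.mem_ker, QuotientGroup.ker_mk', hcen,
    Subgroup.mem_bot] at hg
  have h1 := congrArg (fun x : Cfsg.SU 3 F 4 => (x.1.1 : Matrix (Fin 3) (Fin 3) F) 2 0) hg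
  have h2 := congrArg (fun x : Cfsg.SU 3 F 4 => (x.1.1 : Matrix (Fin 3) (Fin 3) F) 1 0) hg
  simp [repSL, repMat] at h1 h2
  exact Heis.ext h1 h2

theorem card_PSU : Nat.card (Cfsg.PSU 3 F 4) = 2 ^ 6 * 975 := by
  have hF : Fintype.card F = 4 ^ 2 := by rw [h16.out]; norm_num
  have h1 := CfsgLib.Classical.card_SU_mul (F := F) hF (show 1 ≤ 3 by norm_num)
  rw [CfsgLib.Classical.card_GU hF 3] at h1
  simp [Finset.prod_range_succ, Nat.even_iff] at h1
  have h2 := Subgroup.card_eq_card_quotient_mul_card_subgroup (Subgroup.center (Cfsg.SU 3 F 4))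
  rw [CfsgLib.Classical.card_center_SU (F := F) (q := 4) hF (by norm_num)] at h2
  norm_num at h1 h2 ⊢
  change Nat.card (Cfsg.SU 3 F 4 ⧸ Subgroup.center (Cfsg.SU 3 F 4)) = 62400
  omega

theorem sylow_equiv (S : Sylow 2 (Cfsg.PSU 3 F 4)) :
    Nonempty (Heis F ≃* (S : Subgroup (Cfsg.PSU 3 F 4))) := by
  haveI : Fact (Nat.Prime 2) := ⟨Nat.prime_two⟩
  haveI : Finite (Heis F) := Nat.finite_of_card_ne_zero (by rw [card_heis]; norm_num)
  have hH : Nat.card (repPSU (F := F)).range = 2 ^ 6 := by
    rw [← Nat.card_congr (MonoidHom.ofInjective (repPSU_injective (F := F))).toEquiv, card_heis]; norm_num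
  haveI : Finite (Cfsg.PSU 3 F 4) := Nat.finite_of_card_ne_zero (by rw [card_PSU]; norm_num)
  obtain ⟨f, hf, hS⟩ := SylowTwoType.exists_hom_into_sylow (m := 975) (by decide) card_PSU hH S
  refine ⟨(MonoidHom.ofInjective (repPSU_injective (F := F))).trans (MulEquiv.ofBijective f ?_)⟩
  exact (Nat.bijective_iff_injective_and_card f).2 ⟨hf, hH.trans hS.symm⟩

end

theorem structure_thm {F : Type*} [Field F] [Fintype F] (hF : Fintype.card F = 16)
    (S : Sylow 2 (Cfsg.PSU 3 F 4)) :
    Nat.card S = 64 ∧ IsKleinFour (Subgroup.center (S : Subgroup (Cfsg.PSU 3 F 4))) ∧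
    Subgroup.center (S : Subgroup (Cfsg.PSU 3 F 4)) =
      Subgroup.closure {x : (S : Subgroup (Cfsg.PSU 3 F 4)) | orderOf x = 2} ∧
    Subgroup.center (S : Subgroup (Cfsg.PSU 3 F 4)) = commutator (S : Subgroup (Cfsg.PSU 3 F 4)) ∧
    Nat.card ((S : Subgroup (Cfsg.PSU 3 F 4)) ⧸ Subgroup.center (S : Subgroup (Cfsg.PSU 3 F 4))) = 16 ∧
    ∀ x : (S : Subgroup (Cfsg.PSU 3 F 4)) ⧸ Subgroup.center (S : Subgroup (Cfsg.PSU 3 F 4)), x ^ 2 = 1 := by
  haveI : Fact (Fintype.card F = 16) := ⟨hF⟩
  haveI : Fact (∃ σ : F →+* F, (∀ x, σ x = x ^ 4) ∧ CfsgLib.Classical.IsConjugation σ) :=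
    ⟨CfsgLib.Classical.exists_frob (q := 4) (by rw [hF]; norm_num)⟩
  obtain ⟨e⟩ := sylow_equiv S
  have hcmap : (Subgroup.center (Heis F)).map e.toMonoidHom = Subgroup.center (S : Subgroup (Cfsg.PSU 3 F 4)) := by
    ext x
    simp only [Subgroup.mem_map, Subgroup.mem_center_iff]
    constructor
    · rintro ⟨y, hy, rfl⟩ z
      obtain ⟨w, rfl⟩ := e.surjective z
      change e w * e y = e y * e w
      rw [← map_mul, ← map_mul, hy]
    · intro hx
      exact ⟨e.symm x, fun w => e.injective (by rw [map_mul, map_mul, MulEquiv.apply_symm_apply, hx]),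
        e.apply_symm_apply x⟩
  have hS : Nat.card S = 64 := (Nat.card_congr e.toEquiv).symm.trans card_heis
  have hZ : Nat.card (Subgroup.center (S : Subgroup (Cfsg.PSU 3 F 4))) = 4 := by
    rw [← hcmap, Subgroup.card_map_of_injective e.injective, card_center]
  refine ⟨hS, ?_, ?_, ?_, ?_, ?_⟩
  · haveI := center_klein (F := F)
    let ec := (Subgroup.equivMapOfInjective (Subgroup.center (Heis F)) e.toMonoidHom e.injective).trans
      (MulEquiv.subgroupCongr hcmap)
    exact ⟨hZ, by rw [← Monoid.exponent_eq_of_mulEquiv ec]; exact IsKleinFour.exponent_two⟩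
  · rw [← hcmap, center_closure, MonoidHom.map_closure]
    congr 1
    ext x
    constructor
    · rintro ⟨y, hy, rfl⟩
      exact (MulEquiv.orderOf_eq e y).trans hy
    · intro hx
      exact ⟨e.symm x, (MulEquiv.orderOf_eq e.symm x).trans hx, by simp⟩
  · rw [← hcmap, center_commutator, _root_.commutator_def, _root_.commutator_def,
      Subgroup.map_commutator, ← MonoidHom.range_eq_map, MonoidHom.range_eq_top.2 e.surjective]
  · have h := Subgroup.card_eq_card_quotient_mul_card_subgroup
      (Subgroup.center (S : Subgroup (Cfsg.PSU 3 F 4)))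
    rw [hZ] at h
    have : Nat.card (S : Subgroup (Cfsg.PSU 3 F 4)) = 64 := hS
    omega
  · intro x
    obtain ⟨y, rfl⟩ := QuotientGroup.mk_surjective x
    rw [← QuotientGroup.mk_pow, QuotientGroup.eq_one_iff, ← hcmap]
    exact ⟨e.symm y ^ 2, sq_mem_center _, by simp⟩

end CfsgLib.Involution.U34Sylow
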