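import Mathlib
import Cfsg.Prelude.Def_CaseTheorems
import Cfsg.Agent.Lib.Fusion.NormalRankTwo
import Cfsg.Agent.Lib.Involution.U34Sylow

/-!
# Two-groups with three involutions permuted transitively by an automorphism

Such a group is homocyclic of rank two or isomorphic to a Sylow `2`-subgroup of `U₃(4)`.
-/

set_option autoImplicit false

namespace CfsgLib.Involution.ThreeInvolutions

open scoped commutatorElement
open CfsgLib.Fusion.NormalRankTwo

section comm
variable {G : Type*} [Group G]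

theorem comm_mul_right (g u w : G) : ⁅g, u * w⁆ = ⁅g, u⁆ * (u * ⁅g, w⁆ * u⁻¹) := by
  rw [commutatorElement_def, commutatorElement_def, commutatorElement_def]; group

theorem comm_mul_left (u w g : G) : ⁅u * w, g⁆ = u * ⁅w, g⁆ * u⁻¹ * ⁅u, g⁆ := by
  rw [commutatorElement_def, commutatorElement_def, commutatorElement_def]; group

theorem comm_sq {b c : G} : (b * c) ^ 2 = b ^ 2 * (b⁻¹ * c * b) * c := by
  rw [pow_two, pow_two]; group

end comm

variable {T : Type*} [Group T] [Finite T]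

/-- Three involutions, all central, permuted transitively by an automorphism of `3`-power order. -/
structure Three (ψ : MulAut T) (z : T) : Prop where
  two : IsPGroup 2 T
  sq : z ^ 2 = 1
  ne_one : z ≠ 1
  moved : ψ z ≠ z
  trans : ψ (ψ z) = z * ψ z
  inv : ∀ x : T, x ^ 2 = 1 → x = 1 ∨ x = z ∨ x = ψ z ∨ x = z * ψ z
  central : ∀ x : T, x ^ 2 = 1 → ∀ g : T, Commute x g
  three : ∃ k : ℕ, ψ ^ 3 ^ k = 1

/-- The elements squaring to one. -/
def omega {ψ : MulAut T} {z : T} (h : Three ψ z) : Subgroup T where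
  carrier := {x | x ^ 2 = 1}
  one_mem' := one_pow 2
  mul_mem' := fun {a b} (ha : a ^ 2 = 1) (hb : b ^ 2 = 1) => by
    show (a * b) ^ 2 = 1
    rw [(h.central a ha b).mul_pow, ha, hb, one_mul]
  inv_mem' := fun {a} (ha : a ^ 2 = 1) => by show a⁻¹ ^ 2 = 1; rw [inv_pow, ha, inv_one]

variable {ψ : MulAut T} {z : T} (h : Three ψ z)

/-- `ψ` maps a subgroup into itself. -/
def Inv (ψ : MulAut T) (A : Subgroup T) : Prop := ∀ a ∈ A, ψ a ∈ A

include h

omit [Finite T] in
theorem mem_omega {x : T} : x ∈ omega h ↔ x ^ 2 = 1 := Iff.rfl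

omit [Finite T] in
theorem omega_normal : (omega h).Normal :=
  ⟨fun x hx g => by rwa [((h.central x hx g).eq).symm, mul_inv_cancel_right]⟩

omit [Finite T] in
theorem omega_inv : Inv ψ (omega h) := fun a (ha : a ^ 2 = 1) => show (ψ a) ^ 2 = 1 by
  rw [← map_pow, ha, map_one]

omit [Finite T] in
theorem psi_sq : (ψ z) ^ 2 = 1 := by rw [← map_pow, h.sq, map_one]

omit [Finite T] in
theorem card_omega : Nat.card (omega h) = 4 := by
  classical
  have hz : z ∈ omega h := h.sq
  have hw : ψ z ∈ omega h := psi_sq h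
  have hw1 : ψ z ≠ 1 := fun e => h.ne_one (ψ.injective (by rw [e, map_one]))
  have hne : ∀ s ∈ omega h, ∀ t ∈ omega h, s ≠ t → s * t ≠ 1 := fun s hs t ht hst e =>
    hst (mul_left_cancel (a := s) ((show s * s = 1 by rw [← pow_two]; exact hs).trans e.symm))
  have hS : ((omega h : Subgroup T) : Set T) = ({1, z, ψ z, z * ψ z} : Finset T) := by
    classical
    ext x
    simp only [SetLike.mem_coe, Finset.coe_insert, Finset.coe_singleton, Set.mem_insert_iff,
      Set.mem_singleton_iff]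
    constructor
    · exact h.inv x
    · rintro (rfl | rfl | rfl | rfl)
      · exact one_mem _
      · exact hz
      · exact hw
      · exact mul_mem hz hw
  classical
  show Nat.card ((omega h : Subgroup T) : Set T) = 4
  rw [hS, SetLike.coe_sort_coe, Nat.card_eq_finsetCard, Finset.card_insert_of_notMem, Finset.card_insert_of_notMem,
    Finset.card_pair]
  · intro e
    exact h.ne_one (mul_eq_right.1 e.symm)
  · simp only [Finset.mem_insert, Finset.mem_singleton, not_or]
    exact ⟨fun e => h.moved e.symm, fun e => hw1 (mul_eq_left.1 e.symm)⟩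
  · simp only [Finset.mem_insert, Finset.mem_singleton, not_or]
    exact ⟨h.ne_one.symm, hw1.symm, (hne z hz _ hw fun e => h.moved e.symm).symm⟩

omit [Finite T] in
theorem omega_fixed {x : T} (hx : x ^ 2 = 1) (hf : ψ x = x) : x = 1 := by
  rcases h.inv x hx with e | rfl | rfl | rfl
  · exact e
  · exact absurd hf h.moved
  · rw [h.trans] at hf
    exact absurd (mul_eq_right.1 hf) h.ne_one
  · have hzw := (h.central z h.sq (ψ z)).eq
    rw [map_mul, h.trans, ← mul_assoc, ← hzw, mul_assoc, ← pow_two, psi_sq h, mul_one] at hf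
    exact absurd (mul_eq_left.1 hf.symm) fun e => h.ne_one (ψ.injective (by rw [e, map_one]))

omit [Finite T] in
theorem omega_psi3 {x : T} (hx : x ^ 2 = 1) : ψ (ψ (ψ x)) = x := by
  have hzw := (h.central z h.sq (ψ z)).eq
  have h3 : ψ (ψ (ψ z)) = z := by
    rw [h.trans, map_mul, h.trans, ← mul_assoc, ← hzw, mul_assoc, ← pow_two, psi_sq h, mul_one]
  rcases h.inv x hx with rfl | rfl | rfl | rfl
  · simp
  · exact h3
  · rw [h3]
  · simp only [map_mul, h3]

omit [Finite T] in
theorem omega_prod {x : T} (hx : x ^ 2 = 1) : x * ψ x * ψ (ψ x) = 1 := by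
  have hp : (x * ψ x * ψ (ψ x)) ^ 2 = 1 :=
    mul_mem (mul_mem (show x ∈ omega h from hx) (omega_inv h x hx)) (omega_inv h _ (omega_inv h x hx))
  refine omega_fixed h hp ?_
  have hψ : (ψ x) ^ 2 = 1 := omega_inv h x hx
  rw [map_mul, map_mul, omega_psi3 h hx, ← (h.central x hx _).eq, ← mul_assoc]

theorem fpf {x : T} (hf : ψ x = x) : x = 1 := by
  by_contra hx
  obtain ⟨j, hj⟩ := IsPGroup.iff_orderOf.1 h.two x
  have hj0 : j ≠ 0 := fun e => hx (orderOf_eq_one_iff.1 (by rw [hj, e, pow_zero]))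
  have h1 : (x ^ 2 ^ (j - 1)) ^ 2 = 1 := by
    rw [← pow_mul, ← pow_succ, show j - 1 + 1 = j by omega, ← hj, pow_orderOf_eq_one]
  have h2 := omega_fixed h h1 (by rw [map_pow, hf])
  have h3 := Nat.le_of_dvd (pow_pos (by norm_num) _) (orderOf_dvd_of_pow_eq_one h2)
  rw [hj] at h3
  exact absurd ((Nat.pow_le_pow_iff_right (by norm_num : 1 < 2)).1 h3) (by omega)

/-- No nontrivial coset of an invariant subgroup is fixed. -/
theorem coset {N : Subgroup T} (hN : Inv ψ N) {b : T} (hb : b⁻¹ * ψ b ∈ N) : b ∈ N := by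
  let f : N → N := fun a => ⟨(a : T) * (ψ a)⁻¹, mul_mem a.2 (inv_mem (hN a a.2))⟩
  have hf : Function.Injective f := by
    intro a a' e
    have e' : (a : T) * (ψ a)⁻¹ = (a' : T) * (ψ a')⁻¹ := congrArg Subtype.val e
    have hfix : ψ ((a' : T)⁻¹ * a) = (a' : T)⁻¹ * a := by
      rw [map_mul, map_inv]
      calc (ψ a')⁻¹ * ψ a = (a' : T)⁻¹ * ((a' : T) * (ψ a')⁻¹) * ψ a := by group
        _ = (a' : T)⁻¹ * a := by rw [← e']; group
    exact Subtype.ext (inv_mul_eq_one.1 (fpf h hfix)).symm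
  obtain ⟨a, ha⟩ := (Finite.injective_iff_surjective.1 hf) ⟨_, hb⟩
  have ha' : (a : T) * (ψ a)⁻¹ = b⁻¹ * ψ b := congrArg Subtype.val ha
  have hfix : ψ (b * a) = b * a := by
    rw [map_mul]
    calc ψ b * ψ a = b * (b⁻¹ * ψ b) * ψ a := by group
      _ = b * a := by rw [← ha']; group
  rw [eq_inv_of_mul_eq_one_left (fpf h hfix)]
  exact inv_mem a.2

/-- An abelian invariant subgroup is generated by any element of maximal order and its image. -/
theorem homocyclic {A : Subgroup T} (hAi : Inv ψ A) (hAc : ∀ a ∈ A, ∀ b ∈ A, Commute a b) {n : ℕ}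
    (hn : ∀ a ∈ A, a ^ 2 ^ n = 1) {x : T} (hxA : x ∈ A) (hx : orderOf x = 2 ^ n) :
    Nat.card A = 4 ^ n ∧
      (∀ a ∈ A, ∃ i k : ℕ, a = x ^ i * ψ x ^ k) ∧ (∀ i k : ℕ, x ^ i * ψ x ^ k = 1 → 2 ^ n ∣ i ∧ 2 ^ n ∣ k) := by
  have hind : ∀ i k : ℕ, x ^ i * ψ x ^ k = 1 → 2 ^ n ∣ i ∧ 2 ^ n ∣ k := by
    intro i k e
    have key : ∀ j, j ≤ n → 2 ^ j ∣ i ∧ 2 ^ j ∣ k := by
      intro j
      induction j with
      | zero => exact fun _ => ⟨one_dvd i, one_dvd k⟩
      | succ j ihj =>
        intro hjn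
        obtain ⟨⟨u, rfl⟩, ⟨v, rfl⟩⟩ := ihj (by omega)
        set m := n - 1 - j
        have hm : j + m + 1 = n := by omega
        set s := x ^ 2 ^ (j + m)
        have hs : s ^ 2 = 1 := by rw [← pow_mul, ← pow_succ, hm, ← hx, pow_orderOf_eq_one]
        have hs1 : s ≠ 1 := fun e1 => by
          have h3 := Nat.le_of_dvd (pow_pos (by norm_num) _) (orderOf_dvd_of_pow_eq_one e1)
          rw [hx] at h3
          exact absurd ((Nat.pow_le_pow_iff_right (by norm_num : 1 < 2)).1 h3) (by omega)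
        have hsne : ψ s ≠ s := fun e1 => hs1 (fpf h e1)
        have hψs1 : ψ s ≠ 1 := fun e1 => hs1 (ψ.injective (by rw [e1, map_one]))
        have e2 : s ^ u * ψ s ^ v = 1 := by
          have h4 := congrArg (· ^ 2 ^ m) e
          simp only [one_pow] at h4
          rw [((hAc x hxA _ (hAi x hxA)).pow_pow _ _).mul_pow, ← pow_mul, ← pow_mul] at h4
          rw [← h4, map_pow, ← pow_mul, ← pow_mul, pow_add]
          ring_nf
        have hmod : ∀ t : T, t ^ 2 = 1 → ∀ u : ℕ, t ^ u = t ^ (u % 2) := fun t ht u => by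
          conv_lhs => rw [← Nat.mod_add_div u 2, pow_add, pow_mul, ht, one_pow, mul_one]
        rw [hmod s hs, hmod (ψ s) (by rw [← map_pow, hs, map_one])] at e2
        rw [pow_succ]
        rcases Nat.mod_two_eq_zero_or_one u with hu | hu <;> rcases Nat.mod_two_eq_zero_or_one v with hv | hv
        · exact ⟨mul_dvd_mul_left _ (Nat.dvd_of_mod_eq_zero hu), mul_dvd_mul_left _ (Nat.dvd_of_mod_eq_zero hv)⟩
        · rw [hu, hv, pow_zero, pow_one, one_mul] at e2; exact absurd e2 hψs1
        · rw [hu, hv, pow_zero, pow_one, mul_one] at e2; exact absurd e2 hs1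
        · rw [hu, hv, pow_one, pow_one] at e2
          refine absurd ?_ hsne
          exact mul_left_cancel (a := s) (e2.trans (by rw [← hs, pow_two]))
    exact key n le_rfl
  have hcard : ∀ (j : ℕ) (B : Subgroup T), B ≤ A → (∀ b ∈ B, b ^ 2 ^ j = 1) → Nat.card B ≤ 4 ^ j := by
    intro j
    induction j with
    | zero =>
      intro B _ hB
      have hbot : B = ⊥ := (Subgroup.eq_bot_iff_forall B).2 fun b hb => by simpa using hB b hb
      rw [hbot, Subgroup.card_bot]
      simp
    | succ j ihj =>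
      intro B hBA hB
      let f : B →* T :=
        { toFun := fun b => (b : T) ^ 2
          map_one' := one_pow 2
          map_mul' := fun a b => (hAc a (hBA a.2) b (hBA b.2)).mul_pow 2 }
      have h1 : Nat.card f.range ≤ 4 ^ j := by
        refine ihj _ ?_ ?_
        · rintro _ ⟨b, rfl⟩
          exact pow_mem (hBA b.2) 2
        · rintro _ ⟨b, rfl⟩
          show ((b : T) ^ 2) ^ 2 ^ j = 1
          rw [← pow_mul, ← pow_succ']
          exact hB b b.2
      have h2 : Nat.card f.ker ≤ 4 :=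
        card_omega h ▸ Nat.card_le_card_of_injective (fun b : f.ker => (⟨((b : B) : T), b.2⟩ : omega h))
          fun a b e => Subtype.ext (Subtype.ext (congrArg Subtype.val e :))
      rw [← f.ker.card_mul_index, Subgroup.index_ker, pow_succ']
      exact Nat.mul_le_mul h2 h1
  let g : Fin (2 ^ n) × Fin (2 ^ n) → A := fun p =>
    ⟨x ^ (p.1 : ℕ) * ψ x ^ (p.2 : ℕ), mul_mem (pow_mem hxA _) (pow_mem (hAi x hxA) _)⟩
  have hg : Function.Injective g := by
    rintro ⟨a, b⟩ ⟨a', b'⟩ e
    have e' : x ^ (a : ℕ) * ψ x ^ (b : ℕ) = x ^ (a' : ℕ) * ψ x ^ (b' : ℕ) := congrArg Subtype.val e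
    have hxo : x ^ 2 ^ n = 1 := hn x hxA
    have hyo : ψ x ^ 2 ^ n = 1 := hn _ (hAi x hxA)
    have hc := hAc x hxA _ (hAi x hxA)
    have e2 : x ^ ((a : ℕ) + (2 ^ n - a')) * ψ x ^ ((b : ℕ) + (2 ^ n - b')) = 1 := by
      rw [pow_add, pow_add, (hc.pow_pow (2 ^ n - (a' : ℕ)) (b : ℕ)).mul_mul_mul_comm, e',
        ← (hc.pow_pow (2 ^ n - (a' : ℕ)) (b' : ℕ)).mul_mul_mul_comm, ← pow_add, ← pow_add,
        Nat.add_sub_cancel' a'.2.le, Nat.add_sub_cancel' b'.2.le, hxo, hyo, one_mul]
    obtain ⟨⟨u, hu⟩, ⟨v, hv⟩⟩ := hind _ _ e2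
    have ha := a.2; have hb := b.2; have ha' := a'.2; have hb' := b'.2
    have hu1 : u = 1 := by
      rcases Nat.lt_trichotomy u 1 with hh | hh | hh
      · obtain rfl : u = 0 := by omega
        omega
      · exact hh
      · have := Nat.mul_le_mul_left (2 ^ n) (show 2 ≤ u by omega)
        omega
    have hv1 : v = 1 := by
      rcases Nat.lt_trichotomy v 1 with hh | hh | hh
      · obtain rfl : v = 0 := by omega
        omega
      · exact hh
      · have := Nat.mul_le_mul_left (2 ^ n) (show 2 ≤ v by omega)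
        omega
    subst hu1 hv1
    refine Prod.ext (Fin.ext ?_) (Fin.ext ?_) <;> dsimp only <;> simp only [mul_one] at hu hv <;> omega
  have h4 : Nat.card (Fin (2 ^ n) × Fin (2 ^ n)) = 4 ^ n := by
    rw [Nat.card_prod, Nat.card_eq_fintype_card, Fintype.card_fin, ← mul_pow]; norm_num
  have hle := Nat.card_le_card_of_injective g hg
  have hge := hcard n A le_rfl hn
  have heq : Nat.card A = 4 ^ n := le_antisymm hge (h4 ▸ hle)
  refine ⟨heq, fun a ha => ?_, hind⟩
  obtain ⟨⟨i, k⟩, e⟩ := ((Nat.bijective_iff_injective_and_card g).2 ⟨hg, h4.trans heq.symm⟩).2 ⟨a, ha⟩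
  exact ⟨i, k, (congrArg Subtype.val e).symm⟩

/-- A commutator of `x` and `ψ x` lies in `M` when everything commutes enough modulo `M`. -/
theorem commutator_mem {M : Subgroup T} [M.Normal] (hM : Inv ψ M) {x s : T} (hs : x * ψ x * ψ (ψ x) = s)
    (h1 : ⁅x, ⁅x, ψ x⁆⁆ ∈ M) (h2 : ⁅ψ x, ⁅x, ψ x⁆⁆ ∈ M) (h3 : ⁅ψ x, s⁆ ∈ M) : ⁅x, ψ x⁆ ∈ M := by
  set y := ψ x
  refine coset h hM ?_
  rw [← QuotientGroup.eq_one_iff, QuotientGroup.mk_mul, QuotientGroup.mk_inv, inv_mul_eq_one]
  have hy : ψ y = y⁻¹ * x⁻¹ * s := by rw [← hs]; group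
  rw [← QuotientGroup.eq_one_iff] at h1 h2 h3
  let π := QuotientGroup.mk' M
  change π _ = π _
  have e1 : Commute (π x) ⁅π x, π y⁆ := by
    rw [commute_iff_eq, ← commutatorElement_eq_one_iff_mul_comm, ← map_commutatorElement, ← map_commutatorElement]
    exact h1
  have e2 : Commute (π y) ⁅π x, π y⁆ := by
    rw [commute_iff_eq, ← commutatorElement_eq_one_iff_mul_comm, ← map_commutatorElement, ← map_commutatorElement]
    exact h2
  have e3 : Commute (π y) (π s) := by
    rw [commute_iff_eq, ← commutatorElement_eq_one_iff_mul_comm, ← map_commutatorElement]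
    exact h3
  rw [map_commutatorElement ψ x y, show ψ x = y from rfl, hy, map_commutatorElement, map_commutatorElement,
    map_mul, map_mul, map_inv, map_inv]
  set a := π x
  set b := π y
  set t := π s
  calc ⁅a, b⁆ = (b * a)⁻¹ * (⁅a, b⁆ * (b * a)) := by
        rw [← (e2.mul_left e1).eq, inv_mul_cancel_left]
    _ = b * (b⁻¹ * a⁻¹) * (t * b⁻¹ * t⁻¹) * (a * b) := by
        rw [show t * b⁻¹ * t⁻¹ = b⁻¹ by rw [← e3.inv_left.eq, mul_inv_cancel_right], commutatorElement_def]
        group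
    _ = ⁅b, b⁻¹ * a⁻¹ * t⁆ := by rw [commutatorElement_def]; group

/-- `2` times the order of a proper subgroup is at most the order of the group. -/
theorem two_mul_card_le {L M : Subgroup T} (hLM : L < M) : 2 * Nat.card L ≤ Nat.card M := by
  obtain ⟨k, hk⟩ := Subgroup.card_dvd_of_le hLM.le
  have hlt : Nat.card L < Nat.card M := Set.Finite.card_lt_card (Set.toFinite _) hLM
  rw [hk, mul_comm (Nat.card L)]
  refine Nat.mul_le_mul_right _ ?_
  by_contra hk2
  interval_cases k <;> omega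

/-- An abelian invariant normal subgroup strictly above the involutions, if `T` is not that small. -/
theorem exists_base (hne : omega h ≠ ⊤) : ∃ A : Subgroup T, A.Normal ∧ Inv ψ A ∧
    (∀ a ∈ A, ∀ b ∈ A, Commute a b) ∧ omega h < A := by
  classical
  haveI := omega_normal h
  set Ω := omega h
  let π := QuotientGroup.mk' Ω
  let B : Subgroup T :=
    { carrier := {x | x ^ 2 ∈ Ω ∧ ∀ g : T, ⁅g, x⁆ ∈ Ω}
      one_mem' := ⟨by rw [one_pow]; exact one_mem _, fun g => by rw [commutatorElement_one_right]; exact one_mem _⟩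
      mul_mem' := fun {a b} ha hb => by
        refine ⟨?_, fun g => ?_⟩
        · have hc : Commute (π a) (π b) := by
            rw [commute_iff_eq, ← commutatorElement_eq_one_iff_mul_comm, ← map_commutatorElement]
            exact (QuotientGroup.eq_one_iff _).2 (hb.2 a)
          rw [← QuotientGroup.eq_one_iff]
          show π ((a * b) ^ 2) = 1
          rw [map_pow, map_mul, hc.mul_pow, ← map_pow, ← map_pow,
            show π (a ^ 2) = 1 from (QuotientGroup.eq_one_iff _).2 ha.1,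
            show π (b ^ 2) = 1 from (QuotientGroup.eq_one_iff _).2 hb.1, one_mul]
        · rw [comm_mul_right]
          exact mul_mem (ha.2 g) ((omega_normal h).conj_mem _ (hb.2 g) a)
      inv_mem' := fun {a} ha => by
        refine ⟨by rw [inv_pow]; exact inv_mem ha.1, fun g => ?_⟩
        have e : ⁅g, a⁻¹⁆ = a⁻¹ * ⁅g, a⁆⁻¹ * a⁻¹⁻¹ := by
          rw [commutatorElement_def, commutatorElement_def]; group
        rw [e]
        exact (omega_normal h).conj_mem _ (inv_mem (ha.2 g)) a⁻¹ }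
  have hBn : ∀ L : Subgroup T, Ω ≤ L → L ≤ B → L.Normal := fun L hΩ hL => ⟨fun l hl g => by
    have := mul_mem (hΩ ((hL hl).2 g)) hl
    rwa [commutatorElement_def, inv_mul_cancel_right] at this⟩
  have hBi : Inv ψ B := fun b hb => ⟨by rw [← map_pow]; exact omega_inv h _ hb.1, fun g => by
    rw [← ψ.apply_symm_apply g, ← map_commutatorElement]
    exact omega_inv h _ (hb.2 _)⟩
  have hΩB : Ω ≤ B := fun x hx => ⟨by rw [show x ^ 2 = 1 from hx]; exact one_mem _, fun g => by
    rw [commutatorElement_eq_one_iff_mul_comm.2 (h.central x hx g).eq.symm]; exact one_mem _⟩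
  have hnot : ¬ (⊤ : Subgroup T) ≤ Ω := fun e => hne (top_le_iff.1 e)
  obtain ⟨x, -, hxΩ, hx2, hxc⟩ := exists_central_of_lt h.two hnot
  have hxB : x ∈ B := ⟨hx2, hxc⟩
  have hΩ4 := card_omega h
  have hstep : ∀ L : Subgroup T, Ω ≤ L → L ≤ B → ∀ y ∈ B, y ∉ L →
      Nat.card (L ⊔ Subgroup.zpowers y : Subgroup T) = 2 * Nat.card L := by
    intro L hΩL hLB y hy hyL
    haveI := hBn L hΩL hLB
    exact sup_zpowers_card hyL (hΩL hy.1)
  -- abelian subgroups of `B` have order at most sixteen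
  have hab : ∀ Y : Subgroup T, Y ≤ B → (∀ a ∈ Y, ∀ b ∈ Y, Commute a b) → Nat.card Y ≤ 16 := by
    intro Y hYB hYc
    let f : Y →* T :=
      { toFun := fun b => (b : T) ^ 2
        map_one' := one_pow 2
        map_mul' := fun a b => (hYc a a.2 b b.2).mul_pow 2 }
    have h1 : Nat.card f.range ≤ 4 := by
      rw [← hΩ4]
      refine Subgroup.card_le_of_le ?_
      rintro _ ⟨b, rfl⟩
      exact (hYB b.2).1
    have h2 : Nat.card f.ker ≤ 4 :=
      hΩ4 ▸ Nat.card_le_card_of_injective (fun b : f.ker => (⟨((b : Y) : T), b.2⟩ : omega h))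
        fun a b e => Subtype.ext (Subtype.ext (congrArg Subtype.val e :))
    rw [← f.ker.card_mul_index, Subgroup.index_ker]
    exact (Nat.mul_le_mul h2 h1)
  have hcomm : ∀ S : Set T, (∀ a ∈ S, ∀ b ∈ S, a * b = b * a) →
      ∀ a ∈ Subgroup.closure S, ∀ b ∈ Subgroup.closure S, Commute a b := by
    intro S hS a ha b hb
    haveI := Subgroup.isMulCommutative_closure hS
    exact congrArg Subtype.val (IsMulCommutative.is_comm.comm (⟨a, ha⟩ : Subgroup.closure S) ⟨b, hb⟩)
  -- the centralizer of `x` in `B`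
  set X := Ω ⊔ Subgroup.zpowers x
  have hX8 : Nat.card X = 8 := by rw [hstep Ω le_rfl hΩB x hxB hxΩ, hΩ4]
  have hXB : X ≤ B := sup_le hΩB (Subgroup.zpowers_le.2 hxB)
  set K := B ⊓ Subgroup.centralizer ({x} : Set T)
  have hXK : X ≤ K := le_inf hXB (sup_le (fun t ht => Subgroup.mem_centralizer_singleton_iff.2 (h.central t ht x).eq)
    (Subgroup.zpowers_le.2 (Subgroup.mem_centralizer_singleton_iff.2 rfl)))
  have hpair : ∀ u t : T, u ∈ K → t ∈ K → u ∉ X → t ∉ X ⊔ Subgroup.zpowers u → u * t ≠ t * u := by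
    intro u t hu ht huX htX e
    set S := (Ω : Set T) ∪ {x, u, t}
    have hS : ∀ a ∈ S, ∀ b ∈ S, a * b = b * a := by
      have hxu := Subgroup.mem_centralizer_singleton_iff.1 hu.2
      have hxt := Subgroup.mem_centralizer_singleton_iff.1 ht.2
      rintro a (ha | rfl | rfl | rfl) b (hb | rfl | rfl | rfl)
      all_goals first
        | exact (h.central _ ha _).eq
        | exact (h.central _ hb _).eq.symm
        | rfl
        | exact hxu
        | exact hxu.symm
        | exact hxt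
        | exact hxt.symm
        | exact e
        | exact e.symm
    have hSB : Subgroup.closure S ≤ B := by
      rw [Subgroup.closure_le]
      rintro a (ha | rfl | rfl | rfl)
      exacts [hΩB ha, hxB, hu.1, ht.1]
    have h16 := hab _ hSB (hcomm S hS)
    have hle : X ⊔ Subgroup.zpowers u ⊔ Subgroup.zpowers t ≤ Subgroup.closure S := by
      refine sup_le (sup_le (sup_le (fun a ha => Subgroup.subset_closure (Or.inl ha)) ?_) ?_) ?_
      all_goals exact Subgroup.zpowers_le.2 (Subgroup.subset_closure (by simp [S]))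
    have h32 := Subgroup.card_le_of_le hle
    rw [hstep _ ((le_sup_left : Ω ≤ X).trans le_sup_left) (sup_le hXB (Subgroup.zpowers_le.2 hu.1)) t ht.1 htX,
      hstep X le_sup_left hXB u hu.1 huX, hX8] at h32
    omega
  have hK32 : Nat.card K ≤ 32 := by
    by_contra hK
    have hpick : ∀ L : Subgroup T, Nat.card L ≤ 32 → ∃ y ∈ K, y ∉ L := fun L hL => by
      by_contra hno
      push Not at hno
      exact hK ((Subgroup.card_le_of_le hno).trans hL)
    obtain ⟨y₁, hy₁, hy₁X⟩ := hpick X (by omega)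
    have c1 := hstep X le_sup_left hXB y₁ hy₁.1 hy₁X
    obtain ⟨y₂, hy₂, hy₂X⟩ := hpick (X ⊔ Subgroup.zpowers y₁) (by rw [c1, hX8]; norm_num)
    have hX1B : X ⊔ Subgroup.zpowers y₁ ≤ B := sup_le hXB (Subgroup.zpowers_le.2 hy₁.1)
    have c2 := hstep _ ((le_sup_left : Ω ≤ X).trans le_sup_left) hX1B y₂ hy₂.1 hy₂X
    obtain ⟨y₃, hy₃, hy₃X⟩ := hpick (X ⊔ Subgroup.zpowers y₁ ⊔ Subgroup.zpowers y₂) (by rw [c2, c1, hX8])
    have m1 : ∀ {g}, g ∈ X → g ∈ X ⊔ Subgroup.zpowers y₁ := fun hg => Subgroup.mem_sup_left hg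
    have hy1m : y₁ ∈ X ⊔ Subgroup.zpowers y₁ := Subgroup.mem_sup_right (Subgroup.mem_zpowers _)
    have hy2m : y₂ ∈ X ⊔ Subgroup.zpowers y₁ ⊔ Subgroup.zpowers y₂ := Subgroup.mem_sup_right (Subgroup.mem_zpowers _)
    have n1 : y₂ * y₃ ∉ X ⊔ Subgroup.zpowers y₁ := fun hh => hy₃X (by
      have := mul_mem (inv_mem hy2m) (Subgroup.mem_sup_left (T := Subgroup.zpowers y₂) hh)
      rwa [inv_mul_cancel_left] at this)
    have n2 : y₁ * y₃ ∉ X ⊔ Subgroup.zpowers y₂ := fun hh => hy₃X (by
      have := mul_mem (inv_mem (Subgroup.mem_sup_left (T := Subgroup.zpowers y₂) hy1m))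
        ((sup_le_sup_right (le_sup_left : X ≤ X ⊔ Subgroup.zpowers y₁) _) hh)
      rwa [inv_mul_cancel_left] at this)
    have n3 : y₁ * y₂ ∉ X := fun hh => hy₂X (by
      have := mul_mem (inv_mem hy1m) (m1 hh)
      rwa [inv_mul_cancel_left] at this)
    have n4 : y₃ ∉ X := fun hh => hy₃X (Subgroup.mem_sup_left (m1 hh))
    have n5 : y₁ * y₂ ∉ X ⊔ Subgroup.zpowers y₃ := by
      intro hh
      have hs : ∀ w ∈ Subgroup.zpowers y₃, w ∈ X ∨ y₃⁻¹ * w ∈ X := by
        intro w hw
        obtain ⟨i, rfl⟩ := Subgroup.mem_zpowers_iff.1 hw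
        have hsq : y₃ ^ 2 ∈ X := Subgroup.mem_sup_left hy₃.1.1
        rcases Int.even_or_odd i with ⟨k, rfl⟩ | ⟨k, rfl⟩
        · left
          rw [← two_mul, zpow_mul, show y₃ ^ (2 : ℤ) = y₃ ^ 2 from zpow_natCast y₃ 2]
          exact zpow_mem hsq k
        · right
          rw [add_comm, zpow_add, zpow_one, inv_mul_cancel_left, zpow_mul,
            show y₃ ^ (2 : ℤ) = y₃ ^ 2 from zpow_natCast y₃ 2]
          exact zpow_mem hsq k
      haveI := hBn X le_sup_left hXB
      rw [← SetLike.mem_coe, Subgroup.normal_mul] at hh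
      obtain ⟨a, ha, w, hw, e⟩ := hh
      have e' : a * w = y₁ * y₂ := e
      rcases hs w hw with hwX | hwX
      · exact n3 (e' ▸ mul_mem ha hwX)
      · refine hy₃X ?_
        have : y₃ = a⁻¹ * (y₁ * y₂) * (y₃⁻¹ * w)⁻¹ := by rw [← e']; group
        rw [this]
        exact mul_mem (mul_mem (inv_mem (Subgroup.mem_sup_left (m1 ha)))
          (mul_mem (Subgroup.mem_sup_left hy1m) hy2m)) (inv_mem (Subgroup.mem_sup_left (m1 hwX)))
    set c12 := ⁅y₁, y₂⁆; set c13 := ⁅y₁, y₃⁆; set c23 := ⁅y₂, y₃⁆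
    have m12 : c12 ∈ Ω := hy₂.1.2 y₁
    have m13 : c13 ∈ Ω := hy₃.1.2 y₁
    have m23 : c23 ∈ Ω := hy₃.1.2 y₂
    have hc : ∀ c ∈ Ω, ∀ g : T, g * c * g⁻¹ = c := fun c hc g => by
      rw [← (h.central c hc g).eq, mul_inv_cancel_right]
    have hmr : ∀ g a b : T, ⁅g, b⁆ ∈ Ω → ⁅g, a * b⁆ = ⁅g, a⁆ * ⁅g, b⁆ := fun g a b hm => by
      rw [comm_mul_right, hc _ hm]
    have hml : ∀ g a b : T, ⁅b, g⁆ ∈ Ω → ⁅a * b, g⁆ = ⁅b, g⁆ * ⁅a, g⁆ := fun g a b hm => by
      rw [comm_mul_left, hc _ hm]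
    have d12 : c12 ≠ 1 := fun e => hpair y₁ y₂ hy₁ hy₂ hy₁X hy₂X (commutatorElement_eq_one_iff_mul_comm.1 e)
    have d13 : c13 ≠ 1 := fun e => hpair y₁ y₃ hy₁ hy₃ hy₁X (fun hh => hy₃X (Subgroup.mem_sup_left hh))
      (commutatorElement_eq_one_iff_mul_comm.1 e)
    have d23 : c23 ≠ 1 := fun e => hpair y₂ y₃ hy₂ hy₃ (fun hh => hy₂X (m1 hh))
      (fun hh => hy₃X ((sup_le_sup_right (le_sup_left : X ≤ X ⊔ Subgroup.zpowers y₁) _) hh))
      (commutatorElement_eq_one_iff_mul_comm.1 e)
    have hsq : ∀ c : T, c ∈ Ω → c * c = 1 := fun c hc => by rw [← pow_two]; exact hc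
    have e1 : ⁅y₁, y₂ * y₃⁆ ≠ 1 := fun e => hpair y₁ _ hy₁ (mul_mem hy₂ hy₃) hy₁X n1
      (commutatorElement_eq_one_iff_mul_comm.1 e)
    have e2 : ⁅y₂, y₁ * y₃⁆ ≠ 1 := fun e => hpair y₂ _ hy₂ (mul_mem hy₁ hy₃) (fun hh => hy₂X (m1 hh)) n2
      (commutatorElement_eq_one_iff_mul_comm.1 e)
    have e3 : ⁅y₃, y₁ * y₂⁆ ≠ 1 := fun e => hpair y₃ _ hy₃ (mul_mem hy₁ hy₂) n4 n5
      (commutatorElement_eq_one_iff_mul_comm.1 e)
    have e4 : ⁅y₁ * y₂, y₂ * y₃⁆ ≠ 1 := fun e => hpair _ _ (mul_mem hy₁ hy₂) (mul_mem hy₂ hy₃) n3 (fun hh => hy₃X (by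
        have hle : X ⊔ Subgroup.zpowers (y₁ * y₂) ≤ X ⊔ Subgroup.zpowers y₁ ⊔ Subgroup.zpowers y₂ :=
          sup_le (le_sup_left.trans le_sup_left)
            (Subgroup.zpowers_le.2 (mul_mem (Subgroup.mem_sup_left hy1m) hy2m))
        have := mul_mem (inv_mem hy2m) (hle hh)
        rwa [inv_mul_cancel_left] at this)) (commutatorElement_eq_one_iff_mul_comm.1 e)
    have c21 : ⁅y₂, y₁⁆ = c12 := by
      rw [← commutatorElement_inv, inv_eq_iff_mul_eq_one]; exact hsq _ m12
    have c31 : ⁅y₃, y₁⁆ = c13 := by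
      rw [← commutatorElement_inv, inv_eq_iff_mul_eq_one]; exact hsq _ m13
    have c32 : ⁅y₃, y₂⁆ = c23 := by
      rw [← commutatorElement_inv, inv_eq_iff_mul_eq_one]; exact hsq _ m23
    rw [hmr _ _ _ m13] at e1
    rw [hmr _ _ _ m23, c21] at e2
    rw [hmr _ _ _ (by rw [c32]; exact m23), c31, c32] at e3
    have hy22 : ⁅y₂, y₂⁆ = 1 := commutatorElement_self y₂
    rw [hml _ _ _ (by rw [hmr _ _ _ m23, hy22, one_mul]; exact m23), hmr _ _ _ m23, hy22, one_mul,
      hmr _ _ _ m13] at e4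
    -- three distinct involutions have product one
    have p12 : c12 ≠ c13 := fun e => e1 (by show c12 * c13 = 1; rw [e]; exact hsq _ m13)
    have p13 : c12 ≠ c23 := fun e => e2 (by show c12 * c23 = 1; rw [e]; exact hsq _ m23)
    have p23 : c13 ≠ c23 := fun e => e3 (by show c13 * c23 = 1; rw [e]; exact hsq _ m23)
    refine e4 ?_
    show c23 * (c12 * c13) = 1
    have hcard4 : ({1, c12, c13, c23} : Finset T).card = 4 := by
      rw [Finset.card_insert_of_notMem, Finset.card_insert_of_notMem, Finset.card_pair p23]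
      · simp [p12, p13]
      · simp [d12.symm, d13.symm, d23.symm]
    have hmem : c12 * c13 ∈ ({1, c12, c13, c23} : Finset T) := by
      by_contra hmem
      have h5 : (insert (c12 * c13) ({1, c12, c13, c23} : Finset T)).card ≤ 4 := by
        rw [← hΩ4]
        refine (Nat.card_eq_finsetCard _).symm.le.trans (Nat.card_le_card_of_injective
          (fun a => (⟨(a : T), ?_⟩ : Ω)) fun a b e => Subtype.ext (congrArg (fun o : Ω => (o : T)) e :))
        have ha := a.2
        simp only [Finset.mem_insert, Finset.mem_singleton] at ha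
        rcases ha with e | e | e | e | e <;> rw [e]
        exacts [mul_mem m12 m13, one_mem _, m12, m13, m23]
      rw [Finset.card_insert_of_notMem hmem, hcard4] at h5
      omega
    simp only [Finset.mem_insert, Finset.mem_singleton] at hmem
    rcases hmem with e | e | e | e
    · exact absurd (mul_left_cancel (e.trans (hsq _ m12).symm)).symm p12
    · exact absurd (mul_eq_left.1 e) d13
    · exact absurd (mul_eq_right.1 e) d12
    · rw [e]; exact hsq _ m23
  have hidx : (B ⊓ Subgroup.centralizer ({x} : Set T)).relIndex B ≤ 4 := by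
    let f : B →* T :=
      { toFun := fun b => ⁅(b : T), x⁆
        map_one' := commutatorElement_one_left x
        map_mul' := fun a b => by
          show ⁅(a : T) * b, x⁆ = ⁅(a : T), x⁆ * ⁅(b : T), x⁆
          have hb : ⁅(b : T), x⁆ ∈ Ω := hxc b
          rw [comm_mul_left, ← (h.central _ hb (a : T)).eq, mul_inv_cancel_right, (h.central _ hb _).eq] }
    have hker : f.ker = (B ⊓ Subgroup.centralizer ({x} : Set T)).subgroupOf B := by
      ext b
      rw [MonoidHom.mem_ker, Subgroup.mem_subgroupOf, Subgroup.mem_inf, Subgroup.mem_centralizer_singleton_iff]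
      exact ⟨fun e => ⟨b.2, commutatorElement_eq_one_iff_mul_comm.1 e⟩,
        fun e => commutatorElement_eq_one_iff_mul_comm.2 e.2⟩
    rw [Subgroup.relIndex, ← hker, Subgroup.index_ker, ← hΩ4]
    refine Subgroup.card_le_of_le ?_
    rintro _ ⟨b, rfl⟩
    exact hxc b
  have hB128 : Nat.card B ≤ 128 := by
    rw [← (K.subgroupOf B).index_mul_card, Nat.card_congr (Subgroup.subgroupOfEquivOfLe inf_le_left).toEquiv]
    exact (Nat.mul_le_mul hidx hK32)
  -- a point of period three on `B ⧸ Ω`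
  set β := B ⧸ Ω.subgroupOf B
  have hβ : Nat.card β * 4 = Nat.card B := by
    have e := (Ω.subgroupOf B).index_mul_card
    rwa [Nat.card_congr (Subgroup.subgroupOfEquivOfLe hΩB).toEquiv, hΩ4, Subgroup.index_eq_card] at e
  have hBe : ∀ b : B, (⟨ψ b, hBi b b.2⟩ : B) ∈ (⊤ : Subgroup B) := fun b => Subgroup.mem_top _
  have hσ0 : Function.Injective (fun q : β => Quotient.liftOn' q (fun b : B => ((⟨ψ b, hBi b b.2⟩ : B) : β))
      fun a b hab => by
        rw [QuotientGroup.leftRel_apply] at hab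
        rw [QuotientGroup.eq]
        have e := omega_inv h _ hab
        simpa [Subgroup.mem_subgroupOf] using e) := by
    intro a b
    refine QuotientGroup.induction_on a fun a => ?_
    refine QuotientGroup.induction_on b fun b e => ?_
    have e'' := QuotientGroup.eq.1 (show
      ((⟨ψ a, hBi a a.2⟩ : B) : β) = ((⟨ψ b, hBi b b.2⟩ : B) : β) from e)
    have e' : ((ψ (a : T))⁻¹ * ψ (b : T)) ∈ Ω := by simpa [Subgroup.mem_subgroupOf] using e''
    rw [QuotientGroup.eq, Subgroup.mem_subgroupOf]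
    show ((a : T)⁻¹ * (b : T)) ^ 2 = 1
    apply ψ.injective
    rw [map_pow, map_mul, map_inv, map_one]
    exact e'
  let σ : Equiv.Perm β := Equiv.ofBijective _ ⟨hσ0, Finite.injective_iff_surjective.1 hσ0⟩
  have hσ : ∀ (m : ℕ) (b : B), ∃ hm : (ψ ^ m) (b : T) ∈ B, (σ ^ m) (b : β) = ((⟨_, hm⟩ : B) : β) := by
    intro m
    induction m with
    | zero => exact fun b => ⟨b.2, rfl⟩
    | succ m ihm =>
      intro b
      obtain ⟨hm, e⟩ := ihm b
      refine ⟨by rw [pow_succ', MulAut.mul_apply]; exact hBi _ hm, ?_⟩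
      rw [pow_succ', Equiv.Perm.mul_apply, e]
      show ((⟨ψ ((ψ ^ m) (b : T)), hBi _ hm⟩ : B) : β) = _
      congr 2
      rw [pow_succ', MulAut.mul_apply]
  obtain ⟨v, hv, hv3⟩ : ∃ v : B, (v : T) ∉ Ω ∧ (σ ^ 3) (v : β) = (v : β) := by
    by_contra hno
    push Not at hno
    haveI := Fintype.ofFinite β
    obtain ⟨k, hk⟩ := h.three
    have hσk : σ ^ 3 ^ k = 1 := Equiv.ext fun q => QuotientGroup.induction_on q fun b => by
      obtain ⟨hm, e⟩ := hσ (3 ^ k) b
      rw [e]
      show _ = (b : β)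
      congr 1
      apply Subtype.ext
      show (ψ ^ 3 ^ k) (b : T) = b
      rw [hk]; rfl
    have hsupp : σ.support = Finset.univ.erase ((1 : B) : β) := by
      ext q
      refine QuotientGroup.induction_on q fun b => ?_
      rw [Equiv.Perm.mem_support, Finset.mem_erase]
      simp only [Finset.mem_univ, and_true]
      constructor
      · intro hne' e
        apply hne'
        rw [e]
        show ((⟨ψ ((1 : B) : T), _⟩ : B) : β) = _
        congr 1
        exact Subtype.ext (map_one ψ)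
      · intro hne' e
        have e' : (b : T)⁻¹ * ψ b ∈ Ω := by
          have := QuotientGroup.eq.1 (show (b : β) = ((⟨ψ b, hBi b b.2⟩ : B) : β) from e.symm)
          simpa [Subgroup.mem_subgroupOf] using this
        exact hne' ((QuotientGroup.eq).2 (by simpa [Subgroup.mem_subgroupOf] using inv_mem (coset h (omega_inv h) e')))
    have h9 : 9 ∣ σ.support.card := by
      rw [← Equiv.Perm.sum_cycleType]
      refine Multiset.dvd_sum fun c hc => ?_
      have hc2 := Equiv.Perm.two_le_of_mem_cycleType hc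
      have hcd : c ∣ 3 ^ k := (Equiv.Perm.dvd_of_mem_cycleType hc).trans (orderOf_dvd_of_pow_eq_one hσk)
      obtain ⟨i, -, rfl⟩ := (Nat.dvd_prime_pow Nat.prime_three).1 hcd
      rcases Nat.lt_or_ge i 2 with hi | hi
      · exfalso
        interval_cases i
        · simp at hc2
        · rw [Equiv.Perm.cycleType_def, Multiset.mem_map] at hc
          obtain ⟨τ, hτ, hτc⟩ := hc
          obtain ⟨q, hq⟩ := (Equiv.Perm.mem_cycleFactorsFinset_iff.1 hτ).1.nonempty_support
          obtain ⟨b, rfl⟩ := QuotientGroup.mk_surjective q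
          have hτo : τ ^ 3 = 1 := by
            have h3 := (Equiv.Perm.mem_cycleFactorsFinset_iff.1 hτ).1.orderOf
            simp only [Function.comp_apply] at hτc
            rw [hτc] at h3
            exact orderOf_dvd_iff_pow_eq_one.1 (h3 ▸ dvd_of_eq (by norm_num))
          have e : (σ ^ 3) (b : β) = (b : β) := by
            rw [← Equiv.Perm.cycleOf_pow_apply_self, ← Equiv.Perm.cycle_is_cycleOf hq hτ, hτo]
            rfl
          refine hno b (fun hbΩ => ?_) e
          have hb1 : (b : β) = ((1 : B) : β) := QuotientGroup.eq.2 (by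
            simpa [Subgroup.mem_subgroupOf] using inv_mem hbΩ)
          have := Equiv.Perm.mem_cycleFactorsFinset_support_le hτ hq
          rw [hsupp, hb1] at this
          exact (Finset.mem_erase.1 this).1 rfl
      · exact pow_dvd_pow 3 hi
    rw [hsupp, Finset.card_erase_of_mem (Finset.mem_univ _), Finset.card_univ, ← Nat.card_eq_fintype_card] at h9
    obtain ⟨j, hj⟩ := (h.two.to_subgroup B).exists_card_eq
    have hlt : 4 < Nat.card B := by
      have hlt' : Ω < B := lt_of_le_of_ne hΩB fun e => hxΩ (e ▸ hxB)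
      have := two_mul_card_le h hlt'
      rw [show Nat.card Ω = 4 from hΩ4] at this
      omega
    have hj7 : j ≤ 7 := by
      have : 2 ^ j ≤ 2 ^ 7 := by rw [← hj]; omega
      exact (Nat.pow_le_pow_iff_right (by norm_num)).1 this
    rw [hj] at hlt hβ
    rw [Nat.card_eq_fintype_card] at h9 hβ
    generalize Fintype.card β = N at h9 hβ
    rcases Nat.lt_or_ge j 3 with h3 | h3
    · exact absurd ((Nat.pow_lt_pow_iff_right (by norm_num : 1 < 2)).1 (show 2 ^ 2 < 2 ^ j from hlt)) (by omega)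
    · obtain rfl | rfl | rfl | rfl | rfl : j = 3 ∨ j = 4 ∨ j = 5 ∨ j = 6 ∨ j = 7 := by omega
      all_goals omega
  have hv3' : (v : T)⁻¹ * ψ (ψ (ψ v)) ∈ Ω := by
    obtain ⟨hm, e⟩ := hσ 3 v
    rw [hv3] at e
    have e'' := QuotientGroup.eq.1 e
    rw [Subgroup.mem_subgroupOf] at e''
    exact e''
  set x' := (v : T)
  have hx'B : x' ∈ B := v.2
  set y := ψ x'
  set y' := ψ y
  have hyB : y ∈ B := hBi _ hx'B
  have hy'B : y' ∈ B := hBi _ hyB
  set s := x' * y * y'
  have hsΩ : s ∈ Ω := by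
    refine coset h (omega_inv h) ?_
    rw [← QuotientGroup.eq_one_iff, QuotientGroup.mk_mul, QuotientGroup.mk_inv, inv_mul_eq_one]
    show π s = π (ψ s)
    have hπc : ∀ a ∈ B, ∀ g : T, Commute (π g) (π a) := fun a ha g => by
      rw [commute_iff_eq, ← commutatorElement_eq_one_iff_mul_comm, ← map_commutatorElement]
      exact (QuotientGroup.eq_one_iff _).2 (ha.2 g)
    have e : π (ψ y') = π x' := (QuotientGroup.eq.2 hv3').symm
    rw [show ψ s = y * y' * ψ y' by simp only [s, map_mul, y, y'], map_mul π (y * y'), map_mul π y, e]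
    simp only [s]
    rw [map_mul π, map_mul π, mul_assoc]
    exact (hπc x' hx'B _).eq.symm.trans (by rw [← map_mul π, ← map_mul π]; simp [mul_assoc])
  haveI hΩn := omega_normal h
  have hc2 : ⁅x', y⁆ ∈ Ω := hyB.2 x'
  haveI hbotn : (⊥ : Subgroup T).Normal := inferInstance
  have hxy : ⁅x', y⁆ ∈ (⊥ : Subgroup T) := by
    refine commutator_mem h (M := (⊥ : Subgroup T)) (fun a ha => by rw [Subgroup.mem_bot] at ha ⊢; rw [ha, map_one])
      (s := s) rfl ?_ ?_ ?_ <;> rw [Subgroup.mem_bot, commutatorElement_eq_one_iff_mul_comm]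
    · exact (h.central _ hc2 x').eq.symm
    · exact (h.central _ hc2 _).eq.symm
    · exact (h.central _ hsΩ _).eq.symm
  rw [Subgroup.mem_bot, commutatorElement_eq_one_iff_mul_comm] at hxy
  set S : Set T := (Ω : Set T) ∪ {x', y}
  have hSc : ∀ a ∈ S, ∀ b ∈ S, a * b = b * a := by
    rintro a (ha | rfl | rfl) b (hb | rfl | rfl)
    all_goals first
      | exact (h.central _ ha _).eq
      | exact (h.central _ hb _).eq.symm
      | rfl
      | exact hxy
      | exact hxy.symm
  have hΩS : Ω ≤ Subgroup.closure S := fun a ha => Subgroup.subset_closure (Or.inl ha)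
  have hSB : Subgroup.closure S ≤ B := by
    rw [Subgroup.closure_le]
    rintro a (ha | rfl | rfl)
    exacts [hΩB ha, hx'B, hyB]
  refine ⟨Subgroup.closure S, hBn _ hΩS hSB, ?_, hcomm S hSc, lt_of_le_of_ne hΩS fun e => hv (e ▸
    Subgroup.subset_closure (Or.inr (Or.inl rfl)))⟩
  intro a ha
  have hle : Subgroup.closure S ≤ (Subgroup.closure S).comap ψ.toMonoidHom := by
    rw [Subgroup.closure_le]
    rintro b (hb | rfl | rfl)
    · exact Subgroup.subset_closure (Or.inl (omega_inv h b hb))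
    · exact Subgroup.subset_closure (Or.inr (Or.inr rfl))
    · show y' ∈ Subgroup.closure S
      have : y' = (x' * y)⁻¹ * s := by simp only [s]; group
      rw [this]
      exact mul_mem (inv_mem (mul_mem (Subgroup.subset_closure (Or.inr (Or.inl rfl)))
        (Subgroup.subset_closure (Or.inr (Or.inr rfl))))) (hΩS hsΩ)
  exact hle ha

end CfsgLib.Involution.ThreeInvolutions
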