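import Mathlib
import Cfsg.Agent.Lib.Involution.ThreeInvolutions

/-!
# No involutory swap on a group of order 64 with three equivalent involutions

If a group of order 64, all of whose squares are central of exponent two and whose three
involutions are permuted transitively, has an automorphism acting as an involution modulo the
involutions and interchanging two of them, a count of square roots gives a contradiction.
-/

set_option autoImplicit false

namespace CfsgLib.Involution.RankTwoSwap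

open scoped commutatorElement
open CfsgLib.Involution.ThreeInvolutions (comm_mul_left comm_mul_right)

variable {R : Type*} [Group R] [Finite R]

theorem no_swap {z u : R} (hcard : Nat.card R = 64)
    (hz : z * z = 1) (hu : u * u = 1) (hz1 : z ≠ 1) (hu1 : u ≠ 1) (hzu : z ≠ u)
    (hW : ∀ x : R, x * x = 1 → x = 1 ∨ x = z ∨ x = u ∨ x = z * u)
    (hcent : ∀ x : R, x * x = 1 → ∀ g : R, Commute x g)
    (hsq : ∀ r : R, r * r * (r * r) = 1)
    (φ : MulAut R) (hφ : ∀ v : R, v * v = 1 → v ≠ 1 → ∃ k : ℕ, (φ ^ k) z = v)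
    (α : MulAut R) (hαz : α z = z) (hαu : α u = z * u)
    (hα : ∀ r : R, (α (α r) * r⁻¹) * (α (α r) * r⁻¹) = 1) : False := by
  classical
  let W : Subgroup R :=
    { carrier := {x | x * x = 1}
      one_mem' := one_mul 1
      mul_mem' := fun {a b} (ha : a * a = 1) (hb : b * b = 1) => by
        show a * b * (a * b) = 1
        rw [mul_assoc, ← mul_assoc b a b, (hcent b hb a).eq, mul_assoc a b b, hb, mul_one, ha]
      inv_mem' := fun {a} (ha : a * a = 1) => by
        show a⁻¹ * a⁻¹ = 1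
        rw [← mul_inv_rev, ha, inv_one] }
  have hWm : ∀ x : R, x ∈ W ↔ x * x = 1 := fun x => Iff.rfl
  have hcW : ∀ x ∈ W, ∀ g : R, Commute x g := hcent
  have hzu1 : z * u ≠ 1 := fun e => hzu (mul_left_cancel (a := z) (hz.trans e.symm))
  have hne1 : z * u ≠ z := fun e => hu1 (mul_eq_left.1 e)
  have hne2 : z * u ≠ u := fun e => hz1 (mul_eq_right.1 e)
  have hzuW : z * u * (z * u) = 1 := mul_mem (show z ∈ W from hz) (show u ∈ W from hu)
  have hW4 : Nat.card W = 4 := by
    have e : (W : Set R) = (({1, z, u, z * u} : Finset R) : Set R) := by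
      ext x
      simp only [Finset.coe_insert, Finset.coe_singleton, Set.mem_insert_iff, Set.mem_singleton_iff,
        SetLike.mem_coe, hWm]
      refine ⟨hW x, ?_⟩
      rintro (rfl | rfl | rfl | rfl)
      exacts [one_mul 1, hz, hu, hzuW]
    have : Nat.card W = (W : Set R).ncard := rfl
    rw [this, e, Set.ncard_coe_finset, Finset.card_insert_of_notMem (by
        simp [hz1.symm, hu1.symm, hzu1.symm]),
      Finset.card_insert_of_notMem (by simp [hzu, hne1.symm]),
      Finset.card_pair hne2.symm]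
  -- squares and commutators
  have hsW : ∀ r : R, r * r ∈ W := hsq
  have hcomm : ∀ a b : R, ⁅a, b⁆ ∈ W := by
    intro a b
    have hsc : ∀ c g : R, Commute (c * c) g := fun c g => hcW _ (hsW c) g
    have e : ⁅a, b⁆ = (a * b) * (a * b) * ((b * b)⁻¹ * (a * a)⁻¹) := by
      have h1 := (hsc (b⁻¹) (a⁻¹)).eq
      rw [commutatorElement_def]
      calc a * b * a⁻¹ * b⁻¹
          = a * b * a⁻¹ * b⁻¹ := rfl
        _ = (a * b) * (a * b) * ((b⁻¹ * a⁻¹ * a⁻¹) * b⁻¹) := by group
        _ = (a * b) * (a * b) * ((b * b)⁻¹ * (a * a)⁻¹) := by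
            congr 1
            have h2 : Commute (a⁻¹ * a⁻¹) b⁻¹ := hsc a⁻¹ b⁻¹
            rw [mul_assoc b⁻¹ a⁻¹ a⁻¹, mul_assoc b⁻¹, h2.eq]
            group
    rw [e]
    exact mul_mem (hsW _) (mul_mem (inv_mem (hsW _)) (inv_mem (hsW _)))
  have hmulr : ∀ g a b : R, ⁅g, a * b⁆ = ⁅g, a⁆ * ⁅g, b⁆ := fun g a b => by
    rw [comm_mul_right, ← (hcW _ (hcomm g b) a).eq, mul_inv_cancel_right]
  have hmull : ∀ a b g : R, ⁅a * b, g⁆ = ⁅b, g⁆ * ⁅a, g⁆ := fun a b g => by
    rw [comm_mul_left, ← (hcW _ (hcomm b g) a).eq, mul_inv_cancel_right]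
  have hprod : ∀ a b : R, (a * b) * (a * b) = ⁅b, a⁆ * (a * a) * (b * b) := fun a b => by
    have h := (hcW _ (hcomm b a) a).eq
    calc (a * b) * (a * b) = a * ⁅b, a⁆ * a * b * b := by rw [commutatorElement_def]; group
      _ = ⁅b, a⁆ * a * a * b * b := by rw [h]
      _ = _ := by group
  -- the action on the involutions
  have hαW : ∀ w ∈ W, α w ∈ W := fun w (hw : w * w = 1) => by
    show α w * α w = 1
    rw [← map_mul, hw, map_one]
  have hαzu : α (z * u) = u := by rw [map_mul, hαz, hαu, ← mul_assoc, hz, one_mul]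
  have hfix : ∀ w ∈ W, α w = w → w = 1 ∨ w = z := fun w hw e => by
    rcases hW w hw with rfl | rfl | rfl | rfl
    · exact Or.inl rfl
    · exact Or.inr rfl
    · exact absurd (hαu.symm.trans e) hne2
    · exact absurd (hαzu.symm.trans e).symm hne2
  -- the elements fixed modulo the involutions
  let F : Subgroup R :=
    { carrier := {r | r⁻¹ * α r ∈ W}
      one_mem' := by show (1 : R)⁻¹ * α 1 ∈ W; rw [map_one, inv_one, one_mul]; exact one_mem _
      mul_mem' := fun {a b} (ha : a⁻¹ * α a ∈ W) (hb : b⁻¹ * α b ∈ W) => by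
        show (a * b)⁻¹ * α (a * b) ∈ W
        have e : (a * b)⁻¹ * α (a * b) = (a⁻¹ * α a) * (b⁻¹ * α b) := by
          rw [map_mul, ← mul_assoc (a⁻¹ * α a) b⁻¹ (α b), (hcW _ ha b⁻¹).eq]
          group
        rw [e]; exact mul_mem ha hb
      inv_mem' := fun {a} (ha : a⁻¹ * α a ∈ W) => by
        show a⁻¹⁻¹ * α a⁻¹ ∈ W
        have e : a⁻¹⁻¹ * α a⁻¹ = (a⁻¹ * α a)⁻¹ := by
          have h := (hcW _ (inv_mem ha) a).eq
          calc a⁻¹⁻¹ * α a⁻¹ = a * (a⁻¹ * α a)⁻¹ * a⁻¹ := by rw [map_inv]; group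
            _ = (a⁻¹ * α a)⁻¹ := by rw [← h, mul_inv_cancel_right]
        rw [e]; exact inv_mem ha }
  have hFm : ∀ r : R, r ∈ F ↔ r⁻¹ * α r ∈ W := fun r => Iff.rfl
  have hWF : W ≤ F := fun w hw => mul_mem (inv_mem hw) (hαW w hw)
  have hdF : ∀ r : R, r⁻¹ * α r ∈ F := fun r => by
    have hs : ((α r)⁻¹ * r) * ((α r)⁻¹ * r) ∈ W := hsW _
    have ht : r⁻¹ * α (α r) ∈ W := by
      have h := hα r
      have : α (α r) * r⁻¹ ∈ W := h
      rw [show r⁻¹ * α (α r) = r⁻¹ * (α (α r) * r⁻¹) * r by group, ← (hcW _ this r⁻¹).eq,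
        inv_mul_cancel_right]
      exact this
    show (r⁻¹ * α r)⁻¹ * α (r⁻¹ * α r) ∈ W
    rw [map_mul, map_inv, show (r⁻¹ * α r)⁻¹ * ((α r)⁻¹ * α (α r)) =
      ((α r)⁻¹ * r) * ((α r)⁻¹ * r) * (r⁻¹ * α (α r)) by group]
    exact mul_mem hs ht
  have hFsq : ∀ f ∈ F, f ∉ W → f * f = z := by
    intro f hf hfW
    have e : α (f * f) = f * f := by
      obtain ⟨t, ht, hft⟩ : ∃ t ∈ W, α f = f * t := ⟨_, hf, (mul_inv_cancel_left f (α f)).symm⟩
      rw [map_mul, hft, mul_assoc f t, ← mul_assoc t f t, (hcW t ht f).eq, mul_assoc f t t, ht,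
        mul_one]
    exact (hfix _ (hsW f) e).resolve_left hfW
  -- every coset of `F` contains a square root of `z`
  have hcoset : (∀ w, w ∈ F → w ∉ W → ∃ f ∈ F, f ∉ W ∧ w * f ∉ W) →
      ∀ r : R, r ∉ F → ∃ f ∈ F, (r * f) * (r * f) = z := by
    intro hbig r hr
    by_contra hno
    push Not at hno
    have hvals : ∀ f ∈ F, (r * f) * (r * f) = u ∨ (r * f) * (r * f) = z * u := fun f hf => by
      rcases hW _ (hsW (r * f)) with e | e | e | e
      · exact absurd (by simpa using mul_mem (hWF (show r * f ∈ W from e)) (inv_mem hf)) hr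
      · exact absurd e (hno f hf)
      · exact Or.inl e
      · exact Or.inr e
    have hq0 : r * r = u ∨ r * r = z * u := by simpa using hvals 1 (one_mem F)
    set w := r⁻¹ * α r with hwdef
    have hwF : w ∈ F := hdF r
    have hwW : w ∉ W := fun h => hr h
    have hrw : α r = r * w := (mul_inv_cancel_left r (α r)).symm
    have hswap : ∀ q : R, (q = u ∨ q = z * u) → α q = z * q := by
      rintro q (rfl | rfl)
      · exact hαu
      · rw [hαzu, ← mul_assoc, hz, one_mul]
    have hw2 : w * w = z := hFsq w hwF hwW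
    have hwr : ⁅w, r⁆ = 1 := by
      have e1 := hprod r w
      rw [← hrw, ← map_mul, hswap _ hq0, hw2, mul_assoc, ← (hcent z hz (r * r)).eq] at e1
      exact mul_right_cancel (e1.symm.trans (one_mul _).symm)
    obtain ⟨f, hf, hfW, hwfW⟩ := hbig w hwF hwW
    have hf2 : f * f = z := hFsq f hf hfW
    have hfw : ⁅f, w⁆ = z := by
      have e1 := hprod w f
      rw [hFsq _ (mul_mem hwF hf) hwfW, hw2, hf2, mul_assoc, hz, mul_one] at e1
      exact e1.symm
    have hfr : ⁅f, r⁆ = 1 ∨ ⁅f, r⁆ = z := by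
      have e1 := hprod r f
      rw [hf2] at e1
      have e2 : ⁅f, r⁆ = (r * f) * (r * f) * z * (r * r) := by
        rw [e1, mul_assoc (⁅f, r⁆ * (r * r)) z z, hz, mul_one, mul_assoc, hsq r, mul_one]
      rcases hvals f hf with a | a <;> rcases hq0 with b | b <;> rw [e2, a, b]
      · exact Or.inr (by rw [(hcent u hu z).eq, mul_assoc, hu, mul_one])
      · exact Or.inl (by rw [mul_assoc u z, ← mul_assoc z z u, hz, one_mul, hu])
      · refine Or.inl ?_
        rw [(hcent u hu z).eq.symm, mul_assoc u z z, hz, mul_one, hu]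
      · refine Or.inr ?_
        rw [mul_assoc, ← mul_assoc z z u, hz, one_mul, mul_assoc, hu, mul_one]
    obtain ⟨t, ht, hft⟩ : ∃ t ∈ W, α f = f * t := ⟨_, hf, (mul_inv_cancel_left f (α f)).symm⟩
    have htr : ⁅t, r * w⁆ = 1 := commutatorElement_eq_one_iff_mul_comm.2 (hcW t ht _).eq
    have e1 : α ⁅f, r⁆ = ⁅f, r⁆ * z := by
      rw [map_commutatorElement, hft, hrw, hmull, htr, one_mul, hmulr, hfw]
    have e2 : α ⁅f, r⁆ = ⁅f, r⁆ := by
      rcases hfr with e | e <;> rw [e]
      · exact map_one α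
      · exact hαz
    exact hz1 (mul_eq_left.1 (e1.symm.trans e2))
  -- counting square roots
  let N : R → Set R := fun v => {r | r * r = v}
  have hN : ∀ v : R, v * v = 1 → v ≠ 1 → (N v).ncard = (N z).ncard := by
    intro v hv hv1
    obtain ⟨k, hk⟩ := hφ v hv hv1
    have e : N v = (φ ^ k) '' N z := by
      ext r
      constructor
      · intro (hr : r * r = v)
        refine ⟨(φ ^ k).symm r, (φ ^ k).injective ?_, (φ ^ k).apply_symm_apply r⟩
        rw [map_mul, (φ ^ k).apply_symm_apply, hr, hk]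
      · rintro ⟨x, hx, rfl⟩
        show (φ ^ k) x * (φ ^ k) x = v
        rw [← map_mul, show x * x = z from hx, hk]
    rw [e, Set.ncard_image_of_injective _ (φ ^ k).injective]
  have hN20 : (N z).ncard = 20 := by
    have hu' := hN u hu hu1
    have hzu' := hN (z * u) hzuW hzu1
    have h1 : (N 1).ncard = 4 := hW4
    have hd : ∀ a b : R, a ≠ b → Disjoint (N a) (N b) := fun a b hab =>
      Set.disjoint_left.2 fun r ha hb => hab (ha.symm.trans hb)
    have hun : N 1 ∪ N z ∪ N u ∪ N (z * u) = Set.univ := by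
      rw [Set.eq_univ_iff_forall]
      intro r
      rcases hW _ (hsW r) with e | e | e | e
      exacts [Or.inl (Or.inl (Or.inl e)), Or.inl (Or.inl (Or.inr e)), Or.inl (Or.inr e), Or.inr e]
    have h4 := Set.ncard_univ R
    rw [hcard, ← hun, Set.ncard_union_eq, Set.ncard_union_eq, Set.ncard_union_eq, h1, hu', hzu'] at h4
    · omega
    · exact hd _ _ hz1.symm
    · exact Disjoint.union_left (hd _ _ hu1.symm) (hd _ _ hzu)
    · exact Disjoint.union_left (Disjoint.union_left (hd _ _ hzu1.symm) (hd _ _ hne1.symm))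
        (hd _ _ hne2.symm)
  have hFpow : ∃ j, Nat.card F = 2 ^ j ∧ j ≤ 6 := by
    have hdvd : Nat.card F ∣ 2 ^ 6 := by
      rw [show (2 : ℕ) ^ 6 = 64 by norm_num, ← hcard]; exact Subgroup.card_subgroup_dvd_card F
    obtain ⟨j, hj6, hj⟩ := (Nat.dvd_prime_pow Nat.prime_two (m := 6)).1 hdvd
    exact ⟨j, hj, hj6⟩
  -- `F` is large
  haveI hWn : W.Normal := ⟨fun w hw g => by rw [← (hcW w hw g).eq, mul_inv_cancel_right]; exact hw⟩
  have hF16 : 16 ≤ Nat.card F := by
    have hqc : ∀ p q : R, ((p * q : R) : R ⧸ W) = ((q * p : R) : R ⧸ W) := fun p q => by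
      rw [QuotientGroup.eq]
      have e : (p * q)⁻¹ * (q * p) = ⁅q⁻¹, p⁻¹⁆ := by rw [commutatorElement_def]; group
      rw [e]; exact hcomm _ _
    let d : R →* R ⧸ W := MonoidHom.mk' (fun r => ((r⁻¹ * α r : R) : R ⧸ W)) (fun a b => by
      rw [show (a * b)⁻¹ * α (a * b) = b⁻¹ * ((a⁻¹ * α a) * b) * (b⁻¹ * α b) by
        rw [map_mul]; group, QuotientGroup.mk_mul, hqc, mul_inv_cancel_right])
    have hker : d.ker = F := by
      ext r
      rw [MonoidHom.mem_ker]
      exact (QuotientGroup.eq_one_iff _).trans (hFm r).symm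
    have hrange : d.range ≤ F.map (QuotientGroup.mk' W) := by
      rintro _ ⟨r, rfl⟩
      exact ⟨_, hdF r, rfl⟩
    have h1 := d.ker.card_mul_index
    rw [Subgroup.index_ker, hker, hcard] at h1
    have h2 := Subgroup.card_le_of_le hrange
    have h3 : Nat.card (F.map (QuotientGroup.mk' W)) * 4 = Nat.card F := by
      have := (QuotientGroup.mk' W).subgroupMap F |>.ker.card_mul_index
      rw [Subgroup.index_ker, MonoidHom.range_eq_top.2 ((QuotientGroup.mk' W).subgroupMap_surjective F),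
        Subgroup.card_top] at this
      rw [← this, mul_comm]
      congr 1
      rw [← hW4]
      refine Nat.card_congr
        { toFun := fun w => ⟨⟨w.1, hWF w.2⟩, Subtype.ext ((QuotientGroup.eq_one_iff _).2 w.2)⟩
          invFun := fun x => ⟨x.1.1, (QuotientGroup.eq_one_iff _).1 (congrArg Subtype.val x.2)⟩
          left_inv := fun _ => rfl
          right_inv := fun _ => rfl }
    obtain ⟨j, hj, hj6⟩ := hFpow
    have h5 : 256 ≤ Nat.card F * Nat.card F := by
      have := Nat.mul_le_mul_left (Nat.card F) h2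
      rw [h1] at this
      nlinarith
    rw [hj] at h5 ⊢
    interval_cases j <;> first | omega | (norm_num at h5)
  have hbig : ∀ w, w ∈ F → w ∉ W → ∃ f ∈ F, f ∉ W ∧ w * f ∉ W := by
    intro w hw hwW
    by_contra hno
    push Not at hno
    have hsub : (F : Set R) ⊆ (W : Set R) ∪ (fun t => w⁻¹ * t) '' (W : Set R) := by
      intro f hf
      by_cases hfW : f ∈ W
      · exact Or.inl hfW
      · exact Or.inr ⟨w * f, hno f hf hfW, inv_mul_cancel_left w f⟩
    have h1 := (Set.ncard_le_ncard hsub (Set.toFinite _)).trans (Set.ncard_union_le _ _)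
    rw [Set.ncard_image_of_injective _ (mul_right_injective _)] at h1
    have e1 : (F : Set R).ncard = Nat.card F := rfl
    have e2 : (W : Set R).ncard = Nat.card W := rfl
    omega
  have hFN : Nat.card F ≤ 4 + ((N z) ∩ (F : Set R)).ncard := by
    have hsub : (F : Set R) ⊆ (W : Set R) ∪ (N z ∩ (F : Set R)) := fun f hf => by
      by_cases hfW : f ∈ W
      · exact Or.inl hfW
      · exact Or.inr ⟨hFsq f hf hfW, hf⟩
    have h1 := (Set.ncard_le_ncard hsub (Set.toFinite _)).trans (Set.ncard_union_le _ _)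
    have e1 : (F : Set R).ncard = Nat.card F := rfl
    have e2 : (W : Set R).ncard = Nat.card W := rfl
    omega
  have hout : (F.index - 1) * 4 ≤ (N z \ (F : Set R)).ncard := by
    choose f hf hf2 using fun q : {q : R ⧸ F // q ≠ ((1 : R) : R ⧸ F)} =>
      hcoset hbig q.1.out (fun h => q.2 (by
        rw [← q.1.out_eq]; exact QuotientGroup.eq.2 (by simpa using inv_mem h)))
    let g : {q : R ⧸ F // q ≠ ((1 : R) : R ⧸ F)} × W → R := fun p => p.1.1.out * f p.1 * p.2.1
    have hgF : ∀ p, (QuotientGroup.mk (g p) : R ⧸ F) = p.1.1 := fun p => by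
      conv_rhs => rw [← p.1.1.out_eq]
      refine QuotientGroup.eq.2 ?_
      rw [show (g p)⁻¹ * p.1.1.out = (f p.1 * p.2.1)⁻¹ by simp [g, mul_assoc]]
      exact inv_mem (mul_mem (hf _) (hWF p.2.2))
    have hinj : Function.Injective g := fun p p' e => by
      have h1 : p.1 = p'.1 := Subtype.ext ((hgF p).symm.trans ((congrArg _ e).trans (hgF p')))
      obtain ⟨q, t⟩ := p; obtain ⟨q', t'⟩ := p'
      subst h1
      exact congrArg (Prod.mk q) (Subtype.ext (mul_left_cancel e))
    have hrng : Set.range g ⊆ N z \ (F : Set R) := by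
      rintro _ ⟨p, rfl⟩
      refine ⟨?_, fun h => p.1.2 ?_⟩
      · show g p * g p = z
        simp only [g]
        rw [mul_assoc, ← mul_assoc p.2.1, (hcW _ p.2.2 _).eq, mul_assoc _ p.2.1 p.2.1,
          show p.2.1 * p.2.1 = 1 from p.2.2, mul_one, hf2]
      · rw [← hgF p]
        exact QuotientGroup.eq.2 (by simpa using inv_mem h)
    have h1 := Set.ncard_le_ncard hrng (Set.toFinite _)
    rw [Set.ncard_range_of_injective hinj, Nat.card_prod, hW4] at h1
    have h2 : Nat.card {q : R ⧸ F // q ≠ ((1 : R) : R ⧸ F)} = F.index - 1 := by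
      rw [Subgroup.index_eq_card]
      haveI : Fintype (R ⧸ F) := Fintype.ofFinite _
      rw [Nat.card_eq_fintype_card, Nat.card_eq_fintype_card, Fintype.card_subtype_compl,
        Fintype.card_subtype_eq]
    rwa [h2] at h1
  have hsplit := Set.ncard_inter_add_ncard_sdiff_eq_ncard (N z) (F : Set R) (Set.toFinite _)
  have hidx := F.card_mul_index
  rw [hcard] at hidx
  obtain ⟨j, hj, hj6⟩ := hFpow
  rw [hj] at hidx hF16 hFN
  interval_cases j <;> norm_num at * <;> omega

end CfsgLib.Involution.RankTwoSwap
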