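import Mathlib
import Cfsg.Prelude.Def_Transfer

/-!
# Transfer through a subgroup of index prime to `p`
-/

set_option autoImplicit false

namespace CfsgLib.Involution.TransferControl

variable {G : Type*} [Group G] [Finite G] {p : ℕ} [Fact p.Prime]

/-- The transfer is the power map on an element whose powers are fused only within fibres. -/
theorem transfer_eq_pow {H : Subgroup G} {A : Type*} [CommGroup A] (φ : H →* A) (x : H)
    (key : ∀ (m : ℕ) (g : G) (hx : g⁻¹ * (x : G) ^ m * g ∈ H), φ ⟨_, hx⟩ = φ (x ^ m)) :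
    MonoidHom.transfer φ (x : G) = φ x ^ H.index := by
  classical
  have : Fintype (Quotient (MulAction.orbitRel (Subgroup.zpowers (x : G)) (G ⧸ H))) :=
    Fintype.ofFinite _
  rw [Subgroup.index_eq_sum_minimalPeriod H (x : G), ← Finset.prod_pow_eq_pow_sum,
    MonoidHom.transfer_eq_prod_quotient_orbitRel_zpowers_quot]
  refine Finset.prod_congr rfl fun q _ => ?_
  rw [← map_pow]
  exact key (Function.minimalPeriod ((x : G) • ·) q.out) q.out.out
    (QuotientGroup.out_conj_pow_minimalPeriod_mem H (x : G) q.out)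

theorem eq_one_of_pow_coprime {A : Type*} [Group A] {a : A} {k i : ℕ} (ha : a ^ p ^ k = 1)
    (hi : Nat.Coprime p i) (h : a ^ i = 1) : a = 1 := by
  have h1 : orderOf a ∣ Nat.gcd (p ^ k) i :=
    Nat.dvd_gcd (orderOf_dvd_of_pow_eq_one ha) (orderOf_dvd_of_pow_eq_one h)
  rw [(hi.pow_left k).gcd_eq_one, Nat.dvd_one, orderOf_eq_one_iff] at h1
  exact h1

/-- Every element is a product of a `p`-element and an element of order prime to `p`. -/
theorem exists_decomp (x : G) : ∃ a b : G, (∃ k, orderOf a = p ^ k) ∧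
    Nat.Coprime (orderOf b) p ∧ a * b = x ∧ a ∈ Subgroup.zpowers x ∧ b ∈ Subgroup.zpowers x := by
  obtain ⟨k, m, hm, hn⟩ := Nat.exists_eq_pow_mul_and_not_dvd (orderOf_pos x).ne' p
    (Fact.out : p.Prime).ne_one
  have hpm : Nat.Coprime p m := (Fact.out : p.Prime).coprime_iff_not_dvd.2 hm
  have hb : IsCoprime ((p ^ k : ℕ) : ℤ) (m : ℤ) :=
    (Nat.Coprime.pow_left k hpm).isCoprime
  obtain ⟨u, v, huv⟩ := hb
  refine ⟨x ^ (v * m), x ^ (u * (p ^ k : ℕ)), ?_, ?_, ?_, ⟨_, rfl⟩, ⟨_, rfl⟩⟩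
  · have : (x ^ (v * (m : ℤ))) ^ p ^ k = 1 := by
      rw [← zpow_natCast, ← zpow_mul,
        show v * (m : ℤ) * ((p ^ k : ℕ) : ℤ) = ((orderOf x : ℕ) : ℤ) * v by rw [hn]; push_cast; ring,
        zpow_mul, zpow_natCast, pow_orderOf_eq_one, one_zpow]
    obtain ⟨j, -, hj⟩ := (Nat.dvd_prime_pow Fact.out).1 (orderOf_dvd_of_pow_eq_one this)
    exact ⟨j, hj⟩
  · have : (x ^ (u * ((p ^ k : ℕ) : ℤ))) ^ m = 1 := by
      rw [← zpow_natCast, ← zpow_mul,
        show u * ((p ^ k : ℕ) : ℤ) * (m : ℤ) = ((orderOf x : ℕ) : ℤ) * u by rw [hn]; push_cast; ring,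
        zpow_mul, zpow_natCast, pow_orderOf_eq_one, one_zpow]
    exact hpm.symm.of_dvd_left (orderOf_dvd_of_pow_eq_one this)
  · rw [← zpow_add, show v * (m : ℤ) + u * ((p ^ k : ℕ) : ℤ) = 1 by linarith, zpow_one]

/-- An element outside `K` whose powers are fused only within cosets of `K` is not a commutator. -/
theorem not_mem_commutator (H K : Subgroup G) (hKn : (K.subgroupOf H).Normal)
    (hab : ∀ x ∈ H, ∀ y ∈ H, x * y * x⁻¹ * y⁻¹ ∈ K) (hidx : Nat.Coprime p H.index) (g : G)
    (hgH : g ∈ H) (hgK : g ∉ K) (hgp : ∃ k : ℕ, orderOf g = p ^ k)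
    (hctrl : ∀ (m : ℤ) (a : G), a * g ^ m * a⁻¹ ∈ H → (a * g ^ m * a⁻¹) * (g ^ m)⁻¹ ∈ K) :
    g ∉ commutator G := by
  let A := H ⧸ K.subgroupOf H
  letI : CommGroup A :=
    { (inferInstance : Group A) with
      mul_comm := fun a b => by
        induction a using QuotientGroup.induction_on with | H x =>
        induction b using QuotientGroup.induction_on with | H y =>
        rw [← QuotientGroup.mk_mul, ← QuotientGroup.mk_mul, QuotientGroup.eq,
          Subgroup.mem_subgroupOf]
        have := hab _ (inv_mem y.2) _ (inv_mem x.2)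
        push_cast
        simpa [mul_assoc] using this }
  set φ : H →* A := QuotientGroup.mk' (K.subgroupOf H) with hφ
  intro hg
  have h1 : MonoidHom.transfer φ g = 1 := by
    have := Abelianization.commutator_subset_ker (MonoidHom.transfer φ) hg
    exact this
  rw [show g = ((⟨g, hgH⟩ : H) : G) from rfl, transfer_eq_pow φ ⟨g, hgH⟩ ?_] at h1
  · obtain ⟨k, hk⟩ := hgp
    have h2 := eq_one_of_pow_coprime (k := k) (by
      rw [← map_pow, show (⟨g, hgH⟩ : H) ^ p ^ k = 1 from
        Subtype.ext (by rw [SubgroupClass.coe_pow, ← hk]; exact pow_orderOf_eq_one g), map_one]) hidx h1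
    rw [hφ, QuotientGroup.mk'_apply, QuotientGroup.eq_one_iff, Subgroup.mem_subgroupOf] at h2
    exact hgK h2
  · intro m a hx
    rw [hφ, QuotientGroup.mk'_apply, QuotientGroup.mk'_apply, eq_comm, QuotientGroup.eq,
      Subgroup.mem_subgroupOf]
    simp only at hx
    have h3 := hctrl (m : ℤ) a⁻¹ (by rw [inv_inv, zpow_natCast]; exact hx)
    rw [inv_inv, zpow_natCast] at h3
    push_cast
    have h4 := hKn.conj_mem ⟨_, mul_mem hx (inv_mem (pow_mem hgH m))⟩ h3 (⟨g, hgH⟩ ^ m)⁻¹
    rw [Subgroup.mem_subgroupOf] at h4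
    push_cast at h4
    simpa [mul_assoc] using h4

/-- Control of fusion of `p`-elements gives control of the largest abelian `p`-quotient. -/
theorem pResidual_sup_commutator_inf (H : Subgroup G) (hidx : Nat.Coprime p H.index)
    (hfus : ∀ g ∈ H, (∃ k : ℕ, orderOf g = p ^ k) → ∀ a : G, a * g * a⁻¹ ∈ H →
      ∃ h ∈ H, h * g * h⁻¹ = a * g * a⁻¹) :
    (Cfsg.pResidual p G ⊔ commutator G) ⊓ H =
      (Cfsg.pResidual p ↥H ⊔ commutator ↥H).map H.subtype := by
  set M := Cfsg.pResidual p H ⊔ commutator H with hM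
  have hMn : M.Normal := by
    refine ⟨fun x hx g => ?_⟩
    have : g * x * g⁻¹ = (g * x * g⁻¹ * x⁻¹) * x := by group
    rw [this]
    exact mul_mem (Subgroup.mem_sup_right (Subgroup.commutator_mem_commutator (Subgroup.mem_top g)
      (Subgroup.mem_top x))) hx
  refine le_antisymm ?_ ?_
  swap
  · refine le_inf ?_ (Subgroup.map_subtype_le _)
    rw [hM, Subgroup.map_sup]
    refine sup_le_sup ?_ ?_
    · rw [Cfsg.pResidual, MonoidHom.map_closure]
      refine Subgroup.closure_mono ?_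
      rintro _ ⟨x, hx, rfl⟩
      change Nat.Coprime (orderOf (x : G)) p
      rwa [Subgroup.orderOf_coe]
    · rw [commutator_def, Subgroup.map_commutator]
      exact Subgroup.commutator_mono le_top le_top
  let A := H ⧸ M
  letI : CommGroup A :=
    { (inferInstance : Group A) with
      mul_comm := fun a b => by
        induction a using QuotientGroup.induction_on with | H x =>
        induction b using QuotientGroup.induction_on with | H y =>
        rw [← QuotientGroup.mk_mul, ← QuotientGroup.mk_mul, QuotientGroup.eq]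
        refine Subgroup.mem_sup_right ?_
        rw [show (x * y)⁻¹ * (y * x) = y⁻¹ * x⁻¹ * y⁻¹⁻¹ * x⁻¹⁻¹ by group]
        exact Subgroup.commutator_mem_commutator (Subgroup.mem_top _) (Subgroup.mem_top _) }
  set φ : H →* A := QuotientGroup.mk' M with hφ
  have hA : ∀ a : A, ∃ k : ℕ, a ^ p ^ k = 1 := by
    intro a
    induction a using QuotientGroup.induction_on with | H x =>
    obtain ⟨s, t, ⟨k, hs⟩, ht, rfl, -⟩ := exists_decomp (p := p) x
    refine ⟨k, ?_⟩
    rw [QuotientGroup.mk_mul, (QuotientGroup.eq_one_iff (N := M) t).2 (Subgroup.mem_sup_left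
      (Subgroup.subset_closure ht)), mul_one, ← QuotientGroup.mk_pow, ← hs, pow_orderOf_eq_one,
      QuotientGroup.mk_one]
  have hker : Cfsg.pResidual p G ⊔ commutator G ≤ (MonoidHom.transfer φ).ker := by
    refine sup_le ?_ (Abelianization.commutator_subset_ker _)
    rw [Cfsg.pResidual, Subgroup.closure_le]
    intro x hx
    obtain ⟨k, hk⟩ := hA (MonoidHom.transfer φ x)
    refine eq_one_of_pow_coprime hk (Nat.Coprime.symm hx) ?_
    rw [← map_pow, pow_orderOf_eq_one, map_one]
  intro x hx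
  obtain ⟨hxO, hxH⟩ := Subgroup.mem_inf.1 hx
  refine ⟨⟨x, hxH⟩, ?_, rfl⟩
  obtain ⟨s, t, ⟨k, hs⟩, ht, hst, -, -⟩ := exists_decomp (p := p) (⟨x, hxH⟩ : H)
  rw [← hst]
  refine mul_mem ?_ (Subgroup.mem_sup_left (Subgroup.subset_closure ht))
  change s ∈ M
  rw [← QuotientGroup.eq_one_iff (N := M)]
  refine eq_one_of_pow_coprime (k := k) (by
    rw [← QuotientGroup.mk_pow, ← hs, pow_orderOf_eq_one, QuotientGroup.mk_one]) hidx ?_
  have hsO : (s : G) ∈ Cfsg.pResidual p G ⊔ commutator G := by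
    have : (s : G) = x * (t : G)⁻¹ := by
      rw [show x = (s : G) * t from (congrArg Subtype.val hst).symm, mul_inv_cancel_right]
    rw [this]
    refine mul_mem hxO (inv_mem (Subgroup.mem_sup_left (Subgroup.subset_closure ?_)))
    change Nat.Coprime (orderOf (t : G)) p
    rwa [Subgroup.orderOf_coe]
  have h1 : MonoidHom.transfer φ (s : G) = 1 := hker hsO
  rw [transfer_eq_pow φ s ?_] at h1
  · exact h1
  intro m g hmem
  obtain ⟨h, hh, he⟩ := hfus ((s : G) ^ m) (pow_mem s.2 m) (by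
    obtain ⟨j, -, hj⟩ := (Nat.dvd_prime_pow Fact.out).1 ((orderOf_pow_dvd m).trans
      (by rw [← hs, Subgroup.orderOf_coe] : orderOf (s : G) ∣ p ^ k))
    exact ⟨j, hj⟩) g⁻¹ (by rw [inv_inv]; exact hmem)
  rw [inv_inv] at he
  have : (⟨g⁻¹ * (s : G) ^ m * g, hmem⟩ : H) = ⟨h, hh⟩ * s ^ m * ⟨h, hh⟩⁻¹ :=
    Subtype.ext (by push_cast; exact he.symm)
  rw [this, map_mul, map_mul, map_inv, mul_comm (φ _) (φ (s ^ m)), mul_inv_cancel_right]

end CfsgLib.Involution.TransferControl
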