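import Cfsg.Agent.Lib.Fusion.Transfer
import Cfsg.Agent.Lib.Involution.TransferControl
import Cfsg.Agent.Lib.Involution.Basic

/-!
# Tools for the fusion analysis of small Sylow 2-subgroups
-/

set_option autoImplicit false

namespace CfsgLib.Involution.SylowFusionTools

variable {G : Type*} [Group G] [Finite G]

theorem conj_inj {g a b : G} (h : g * a * g⁻¹ = g * b * g⁻¹) : a = b :=
  mul_left_cancel (mul_right_cancel h)

theorem zpowers_eq_of_mem {a b : G} (h : orderOf a = orderOf b) (hm : a ∈ Subgroup.zpowers b) :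
    Subgroup.zpowers a = Subgroup.zpowers b :=
  Subgroup.eq_of_le_of_card_ge (Subgroup.zpowers_le.2 hm)
    (by rw [Nat.card_zpowers, Nat.card_zpowers, h])

/-- In a cyclic subgroup elements of equal order generate the same subgroup. -/
theorem zpowers_eq_of_cyclic {c a b : G} (ha : a ∈ Subgroup.zpowers c) (hb : b ∈ Subgroup.zpowers c)
    (h : orderOf a = orderOf b) : Subgroup.zpowers a = Subgroup.zpowers b := by
  classical
  refine zpowers_eq_of_mem h ?_
  haveI := Fintype.ofFinite G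
  let C := Subgroup.zpowers c
  let Ω : Finset C := Finset.univ.filter fun w => w ^ orderOf b = 1
  have hΩ : Ω.card ≤ orderOf b := IsCyclic.card_pow_eq_one_le (orderOf_pos b)
  have hsub : ((Subgroup.zpowers (⟨b, hb⟩ : C) : Subgroup C) : Set C).toFinset ⊆ Ω := by
    intro w hw
    rw [Set.mem_toFinset] at hw
    obtain ⟨l, rfl⟩ := Subgroup.mem_zpowers_iff.1 hw
    simp only [Ω, Finset.mem_filter, Finset.mem_univ, true_and]
    rw [← zpow_natCast, ← zpow_mul, mul_comm, zpow_mul, zpow_natCast]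
    have : (⟨b, hb⟩ : C) ^ orderOf b = 1 := Subtype.ext (by
      rw [SubgroupClass.coe_pow]; exact pow_orderOf_eq_one b)
    rw [this, one_zpow]
  have heq := Finset.eq_of_subset_of_card_le hsub (by
    rw [Set.toFinset_card, ← Nat.card_eq_fintype_card]
    simp only [SetLike.coe_sort_coe]
    rw [Nat.card_zpowers, ← Subgroup.orderOf_coe]
    exact hΩ)
  have haΩ : (⟨a, ha⟩ : C) ∈ Ω := by
    simp only [Ω, Finset.mem_filter, Finset.mem_univ, true_and]
    apply Subtype.ext
    rw [SubgroupClass.coe_pow, ← h]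
    exact pow_orderOf_eq_one a
  rw [← heq, Set.mem_toFinset] at haΩ
  obtain ⟨l, hl⟩ := Subgroup.mem_zpowers_iff.1 haΩ
  exact ⟨l, congrArg Subtype.val hl⟩

theorem eq_or_eq_inv_of_four {a b : G} (ha : orderOf a = 4) (hb : orderOf b = 4)
    (hm : b ∈ Subgroup.zpowers a) : b = a ∨ b = a⁻¹ := by
  obtain ⟨n, rfl⟩ := Subgroup.mem_zpowers_iff.1 hm
  have h1 : a ^ n = a ^ (n % 4) := by
    have := zpow_mod_orderOf a n
    rw [ha] at this
    exact_mod_cast this.symm
  have h4 : a ^ 4 = 1 := ha ▸ pow_orderOf_eq_one a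
  have hn : 0 ≤ n % 4 ∧ n % 4 < 4 := ⟨Int.emod_nonneg _ (by norm_num), Int.emod_lt_of_pos _ (by norm_num)⟩
  rw [h1] at hb ⊢
  have hcases : n % 4 = 0 ∨ n % 4 = 1 ∨ n % 4 = 2 ∨ n % 4 = 3 := by omega
  rcases hcases with e | e | e | e <;> rw [e] at hb ⊢
  · rw [zpow_zero, orderOf_one] at hb; omega
  · left; exact zpow_one a
  · exfalso
    have h2 : (a ^ (2 : ℤ)) ^ 2 = 1 := by
      rw [← zpow_natCast, ← zpow_mul]; exact_mod_cast h4
    have h3 := Nat.le_of_dvd two_pos (orderOf_dvd_of_pow_eq_one h2)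
    omega
  · right
    rw [eq_inv_iff_mul_eq_one, ← zpow_add_one]
    exact_mod_cast h4

/-- An element normalising `Q` can be followed by an element centralising `z` so as to carry
`Q` into the Sylow subgroup, provided `z` is centralised by the Sylow subgroup and by `Q`. -/
theorem exists_centralizing_conj_into (S : Sylow 2 G) {K : Subgroup G} (hSK : (S : Subgroup G) ≤ K)
    {P : Subgroup G} (hP : IsPGroup 2 P) (hPK : P ≤ K) :
    ∃ l ∈ K, ∀ p ∈ P, l * p * l⁻¹ ∈ S := by
  haveI : Fact (Nat.Prime 2) := ⟨Nat.prime_two⟩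
  obtain ⟨l, hl⟩ := Basic.exists_conj_le (S.subtype hSK)
    (hP.of_equiv (Subgroup.subgroupOfEquivOfLe hPK).symm)
  exact ⟨l, l.2, fun p hp => hl ⟨p, hPK hp⟩ hp⟩

/-- Conjugates inside a cyclic 2-subgroup normalised by a Sylow 2-subgroup are conjugate in it. -/
theorem exists_conj_of_cyclic (S : Sylow 2 G) {a : G} {j : ℕ} (ha : orderOf a = 2 ^ j)
    (hS : (S : Subgroup G) ≤ Subgroup.normalizer ((Subgroup.zpowers a : Subgroup G) : Set G)) {g : G}
    (hg : g ∈ Subgroup.normalizer ((Subgroup.zpowers a : Subgroup G) : Set G)) :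
    ∃ s ∈ S, s * a * s⁻¹ = g * a * g⁻¹ := by
  haveI : Fact (Nat.Prime 2) := ⟨Nat.prime_two⟩
  set A := Subgroup.zpowers a with hA
  set N := Subgroup.normalizer (A : Set G) with hN
  let ψ : N →* MulAut A := MulEquiv.toMonoidHom (MulEquiv.refl (MulAut A)) |>.comp
    ({ toFun := fun n =>
        { toFun := fun x => ⟨(n : G) * x * (n : G)⁻¹, (Subgroup.mem_normalizer_iff.1 n.2 _).1 x.2⟩
          invFun := fun x => ⟨(n : G)⁻¹ * x * (n : G), by
            simpa using (Subgroup.mem_normalizer_iff.1 (inv_mem n.2) _).1 x.2⟩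
          left_inv := fun x => Subtype.ext (by simp [mul_assoc])
          right_inv := fun x => Subtype.ext (by simp [mul_assoc])
          map_mul' := fun x y => Subtype.ext (by simp [mul_assoc]) }
       map_one' := MulEquiv.ext fun x => Subtype.ext (by simp)
       map_mul' := fun m n => MulEquiv.ext fun x => Subtype.ext (by simp [mul_assoc]) } :
      N →* MulAut A)
  have hψ : ∀ (n : N) (x : A), ((ψ n x : A) : G) = (n : G) * x * (n : G)⁻¹ := fun n x => rfl
  set θ : N →* (ZMod (Nat.card A))ˣ := (IsCyclic.mulAutMulEquiv A).toMonoidHom.comp ψ with hθ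
  have hθeq : ∀ m n : N, θ m = θ n → (m : G) * a * (m : G)⁻¹ = (n : G) * a * (n : G)⁻¹ := by
    intro m n h
    have h1 : ψ m = ψ n := (IsCyclic.mulAutMulEquiv A).injective h
    rw [← hψ m ⟨a, Subgroup.mem_zpowers a⟩, h1, hψ]
  obtain ⟨s, t, ⟨e, hs⟩, ht, hst, -, -⟩ :=
    TransferControl.exists_decomp (p := 2) (⟨g, hg⟩ : N)
  have ht1 : θ t = 1 := by
    haveI : NeZero (Nat.card A) := ⟨Nat.card_pos.ne'⟩
    have h2 : ∀ u : (ZMod (Nat.card A))ˣ, orderOf u ∣ 2 ^ (j - 1) := by
      intro u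
      have := orderOf_dvd_natCard u
      have hcard : Nat.card (ZMod (Nat.card A))ˣ = (2 ^ j).totient := by
        have h3 : Nat.card A = 2 ^ j := by rw [hA, Nat.card_zpowers, ha]
        rw [← h3, Nat.card_eq_fintype_card, ZMod.card_units_eq_totient]
      rw [hcard] at this
      refine this.trans ?_
      rcases j with - | j
      · simp
      · rw [Nat.totient_prime_pow_succ Nat.prime_two, Nat.add_sub_cancel]
        exact dvd_of_eq (by norm_num)
    rw [← orderOf_eq_one_iff, ← Nat.dvd_one]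
    have hgcd := Nat.dvd_gcd (orderOf_map_dvd θ t) (h2 (θ t))
    rwa [(Nat.Coprime.pow_right _ ht).gcd_eq_one] at hgcd
  obtain ⟨l, hl⟩ := Basic.exists_conj_le (S.subtype hS) (Basic.isPGroup_zpowers hs)
  have hls := hl s (Subgroup.mem_zpowers s)
  refine ⟨((l * s * l⁻¹ : N) : G), hls, ?_⟩
  refine hθeq _ ⟨g, hg⟩ ?_
  rw [← hst, map_mul θ s t, ht1, mul_one, map_mul, map_mul, map_inv, mul_comm (θ l) (θ s),
    mul_inv_cancel_right]

/-- If three divides the index of a normal subgroup in a subgroup, an element of odd order lies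
outside it. -/
theorem exists_odd_of_three_dvd {C N : Subgroup G} (hCn : (C.subgroupOf N).Normal)
    (h3 : 3 ∣ C.relIndex N) : ∃ b ∈ N, Odd (orderOf b) ∧ b ∉ C := by
  haveI : Fact (Nat.Prime 3) := ⟨Nat.prime_three⟩
  haveI : Fact (Nat.Prime 2) := ⟨Nat.prime_two⟩
  rw [Subgroup.relIndex, Subgroup.index_eq_card] at h3
  obtain ⟨q, hq⟩ := exists_prime_orderOf_dvd_card' (G := N ⧸ C.subgroupOf N) 3 h3
  obtain ⟨n, rfl⟩ := QuotientGroup.mk'_surjective (C.subgroupOf N) q
  obtain ⟨s, t, ⟨e, hs⟩, ht, hst, -, -⟩ := TransferControl.exists_decomp (p := 2) n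
  refine ⟨t, t.2, by rw [Subgroup.orderOf_coe]; exact Nat.coprime_two_right.1 ht, fun htC => ?_⟩
  have h1 : QuotientGroup.mk' (C.subgroupOf N) t = 1 := (QuotientGroup.eq_one_iff t).2 htC
  rw [← hst, map_mul, h1, mul_one] at hq
  have h2 := orderOf_map_dvd (QuotientGroup.mk' (C.subgroupOf N)) s
  rw [hq, hs] at h2
  have := Nat.prime_three.dvd_of_dvd_pow h2
  omega

/-- The 2-residual contains every commutator with an element of odd order. -/
theorem commutator_mem_pResidual {b : G} (hb : Odd (orderOf b)) (q : G) :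
    q * b * q⁻¹ * b⁻¹ ∈ Cfsg.pResidual 2 G := by
  have h1 : b ∈ Cfsg.pResidual 2 G :=
    CfsgLib.Fusion.Basic.mem_pResidual_of_coprime (Nat.coprime_two_right.2 hb)
  exact mul_mem (CfsgLib.Fusion.Basic.pResidual_normal.conj_mem b h1 q) (inv_mem h1)

/-- A subgroup of index two contains the 2-residual, also of a subgroup containing it. -/
theorem pResidual_le_of_index_two {H : Subgroup G} (hH : H.index = 2) :
    Cfsg.pResidual 2 G ≤ H := by
  rw [Cfsg.pResidual, Subgroup.closure_le]
  intro x hx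
  obtain ⟨k, hk⟩ := Nat.coprime_two_right.1 hx
  have h2 := pow_mem (Subgroup.mul_self_mem_of_index_two hH x) (k + 1)
  rwa [← pow_two, ← pow_mul, show 2 * (k + 1) = orderOf x + 1 by omega, pow_succ,
    pow_orderOf_eq_one, one_mul] at h2

/-- A subgroup of index two of the Sylow subgroup preserved by fusion is cut out by a normal
subgroup of index two. -/
theorem exists_index_two (S : Sylow 2 G) {R : Subgroup G} (hRS : R ≤ S)
    (hR : R.relIndex (S : Subgroup G) = 2)
    (hinv : ∀ a ∈ S, ∀ g : G, g * a * g⁻¹ ∈ S → (a ∈ R ↔ g * a * g⁻¹ ∈ R)) :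
    ∃ M : Subgroup G, M.Normal ∧ M.index = 2 ∧ M ⊓ S = R := by
  classical
  haveI : Fact (Nat.Prime 2) := ⟨Nat.prime_two⟩
  set R' := R.subgroupOf (S : Subgroup G) with hR'
  haveI : R'.Normal := Subgroup.normal_of_index_eq_two hR
  let A := (S : Subgroup G) ⧸ R'
  have hA : Nat.card A = 2 := hR
  letI : CommGroup A :=
    { (inferInstance : Group A) with
      mul_comm := fun a b => by
        have := isCyclic_of_prime_card (p := 2) hA
        exact IsCyclic.isMulCommutative.is_comm.comm a b }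
  set φ : (S : Subgroup G) →* A := QuotientGroup.mk' R'
  have hmem : ∀ s : (S : Subgroup G), φ s = 1 ↔ (s : G) ∈ R := fun s => by
    rw [QuotientGroup.mk'_apply, QuotientGroup.eq_one_iff]; exact Subgroup.mem_subgroupOf
  have key : ∀ (x : (S : Subgroup G)) (g : G) (hx : g⁻¹ * (x : G) * g ∈ (S : Subgroup G)),
      φ ⟨_, hx⟩ = φ x := by
    intro x g hx
    have h := hinv x x.2 g⁻¹ (by rw [inv_inv]; exact hx)
    rw [inv_inv] at h
    have htwo : ∀ a b : A, (a = 1 ↔ b = 1) → a = b := by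
      intro a b hab
      haveI : Fintype A := Fintype.ofFinite A
      by_contra hne
      have ha : a ≠ 1 := fun e => hne (e.trans (hab.1 e).symm)
      have hb : b ≠ 1 := fun e => ha (hab.2 e)
      have hsub : ({1, a, b} : Finset A).card ≤ Fintype.card A := Finset.card_le_univ _
      rw [Finset.card_eq_three.2 ⟨_, _, _, Ne.symm ha, Ne.symm hb, hne, rfl⟩,
        ← Nat.card_eq_fintype_card, hA] at hsub
      omega
    refine htwo _ _ ?_
    rw [hmem, hmem]
    exact h.symm
  set T := MonoidHom.transfer φ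
  have hT : ∀ s : (S : Subgroup G), T (s : G) = φ s := by
    intro s
    rw [CfsgLib.Fusion.Transfer.transfer_eq_pow_of_invariant φ key s]
    have hodd : Odd (S : Subgroup G).index := by
      have := S.not_dvd_index
      rw [Nat.odd_iff]; omega
    obtain ⟨k, hk⟩ := hodd
    have h2 : φ s ^ 2 = 1 := by
      have h3 := pow_card_eq_one' (x := φ s)
      rwa [hA] at h3
    rw [hk, pow_succ, pow_mul, h2, one_pow, one_mul]
  refine ⟨T.ker, inferInstance, ?_, ?_⟩
  · rw [Subgroup.index_ker]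
    have htop : T.range = ⊤ := by
      refine eq_top_iff.2 fun a _ => ?_
      obtain ⟨s, rfl⟩ := QuotientGroup.mk'_surjective R' a
      exact ⟨(s : G), hT s⟩
    rw [htop, Subgroup.card_top, hA]
  · ext g
    constructor
    · rintro ⟨hgT, hgS⟩
      refine (hmem ⟨g, hgS⟩).1 ?_
      rw [← hT]; exact hgT
    · intro hg
      refine ⟨?_, hRS hg⟩
      change T g = 1
      exact (hT ⟨g, hRS hg⟩).trans ((hmem _).2 hg)

/-- Sylow subgroups of a normal subgroup cut out `R`. -/
theorem sylow_iso (S : Sylow 2 G) {M R : Subgroup G} [M.Normal] (hMS : M ⊓ S = R)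
    (hM : M.index = 2) (hR : R.relIndex (S : Subgroup G) = 2)
    (P : Sylow 2 M) : Nonempty ((P : Subgroup M) ≃* R) := by
  haveI : Fact (Nat.Prime 2) := ⟨Nat.prime_two⟩
  obtain ⟨Q, hQ⟩ : ∃ Q : Sylow 2 M, (Q : Subgroup M) = R.subgroupOf M := by
    have hp : IsPGroup 2 (R.subgroupOf M) := by
      refine (IsPGroup.to_le S.2 (?_ : R ≤ (S : Subgroup G))).of_equiv
        (Subgroup.subgroupOfEquivOfLe (?_ : R ≤ M)).symm
      · rw [← hMS]; exact inf_le_right
      · rw [← hMS]; exact inf_le_left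
    have hidx : ¬ 2 ∣ (R.subgroupOf M).index := by
      have h1 : R.relIndex M * 2 = R.index := by
        rw [← hM]; exact Subgroup.relIndex_mul_index (by rw [← hMS]; exact inf_le_left)
      have h2 : 2 * (S : Subgroup G).index = R.index := by
        have h3 := Subgroup.relIndex_mul_index (show R ≤ (S : Subgroup G) by rw [← hMS]; exact inf_le_right)
        rwa [hR] at h3
      rw [← Subgroup.relIndex, show R.relIndex M = (S : Subgroup G).index by omega]
      exact S.not_dvd_index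
    exact ⟨hp.toSylow hidx, rfl⟩
  obtain ⟨g, hg⟩ := MulAction.exists_smul_eq M P Q
  have e1 : (P : Subgroup M) ≃* (Q : Subgroup M) := hg ▸ Sylow.equiv P (g • P)
  exact ⟨e1.trans ((MulEquiv.subgroupCongr hQ).trans
    (Subgroup.subgroupOfEquivOfLe (by rw [← hMS]; exact inf_le_left)))⟩

/-- A normal subgroup of index two has no subgroup of index two when its part of the Sylow
subgroup lies in every subgroup that contains the 2-residual. -/
theorem no_index_two (S : Sylow 2 G) {M R : Subgroup G} (hMS : M ⊓ S = R) (hM : M.index = 2)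
    (hR : R.relIndex (S : Subgroup G) = 2)
    (hgen : ∀ H' : Subgroup G, Cfsg.pResidual 2 G ≤ H' → R ≤ H') (H : Subgroup M) :
    H.index ≠ 2 := by
  haveI : Fact (Nat.Prime 2) := ⟨Nat.prime_two⟩
  intro hH
  have hRM : R ≤ M := hMS ▸ inf_le_left
  have hres : Cfsg.pResidual 2 G ≤ H.map M.subtype := by
    rw [Cfsg.pResidual, Subgroup.closure_le]
    intro g hg
    have hgM : g ∈ M := pResidual_le_of_index_two hM (Subgroup.subset_closure hg)
    refine ⟨⟨g, hgM⟩, pResidual_le_of_index_two hH (Subgroup.subset_closure ?_), rfl⟩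
    simpa using hg
  have hle : R.subgroupOf M ≤ H := by
    intro r hr
    obtain ⟨r', hr', he⟩ := hgen _ hres hr
    exact (Subtype.ext he : r' = r) ▸ hr'
  have h0 := Subgroup.index_dvd_of_le hle
  rw [hH, ← Subgroup.relIndex] at h0
  have h1 : R.relIndex M * 2 = R.index := by
    rw [← hM]; exact Subgroup.relIndex_mul_index hRM
  have h2 : 2 * (S : Subgroup G).index = R.index := by
    have h3 := Subgroup.relIndex_mul_index (show R ≤ (S : Subgroup G) from hMS ▸ inf_le_right)
    rwa [hR] at h3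
  exact S.not_dvd_index (by rwa [show R.relIndex M = (S : Subgroup G).index by omega] at h0)

/-- A fusion-invariant homomorphism of the Sylow subgroup onto an abelian 2-group extends. -/
theorem exists_normal_kernel (S : Sylow 2 G) {A : Type*} [CommGroup A] (φ : (S : Subgroup G) →* A)
    (hφ : Function.Surjective φ) {k : ℕ} (hA : Nat.card A = 2 ^ k)
    (hinv : ∀ (a b : (S : Subgroup G)) (g : G), g * (a : G) * g⁻¹ = b → φ a = φ b) :
    ∃ M : Subgroup G, M.Normal ∧ M.index = 2 ^ k ∧
      M ⊓ S = φ.ker.map (S : Subgroup G).subtype := by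
  haveI : Fact (Nat.Prime 2) := ⟨Nat.prime_two⟩
  have key : ∀ (a : (S : Subgroup G)) (g : G) (ha : g⁻¹ * (a : G) * g ∈ (S : Subgroup G)),
      φ ⟨_, ha⟩ = φ a := fun a g ha => hinv _ _ g (by group)
  set T := MonoidHom.transfer φ
  set i := (S : Subgroup G).index with hi
  have hT : ∀ s : (S : Subgroup G), T (s : G) = φ s ^ i :=
    CfsgLib.Fusion.Transfer.transfer_eq_pow_of_invariant φ key
  have hcop : (Nat.card A).Coprime i := by
    rw [hA]
    exact Nat.Coprime.pow_left _ ((Nat.prime_two.coprime_iff_not_dvd).2 S.not_dvd_index)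
  refine ⟨T.ker, inferInstance, ?_, ?_⟩
  · rw [Subgroup.index_ker]
    have htop : T.range = ⊤ := by
      refine eq_top_iff.2 fun a _ => ?_
      obtain ⟨b, hb⟩ : ∃ b, b ^ i = a := hcop.pow_left_bijective.surjective a
      obtain ⟨s, rfl⟩ := hφ b
      exact ⟨(s : G), (hT s).trans hb⟩
    rw [htop, Subgroup.card_top, hA]
  · ext g
    constructor
    · rintro ⟨hgT, hgS⟩
      refine ⟨⟨g, hgS⟩, ?_, rfl⟩
      refine hcop.pow_left_bijective.injective ?_
      change φ ⟨g, hgS⟩ ^ i = (1 : A) ^ i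
      rw [one_pow, ← hT]; exact hgT
    · rintro ⟨s, hs, rfl⟩
      refine ⟨?_, s.2⟩
      change T (s : G) = 1
      rw [hT, (hs : φ s = 1), one_pow]

/-- A normal subgroup cutting `R` out of the Sylow subgroup has `R` as a Sylow subgroup. -/
theorem sylow_iso_normal (S : Sylow 2 G) {M R : Subgroup G} [M.Normal] (hMS : M ⊓ S = R)
    (P : Sylow 2 M) : Nonempty ((P : Subgroup M) ≃* R) := by
  haveI : Fact (Nat.Prime 2) := ⟨Nat.prime_two⟩
  have hRM : R ≤ M := hMS ▸ inf_le_left
  have hp : IsPGroup 2 (R.subgroupOf M) :=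
    (S.2.to_le (hMS ▸ inf_le_right)).of_equiv (Subgroup.subgroupOfEquivOfLe hRM).symm
  have hidx : ¬ 2 ∣ (R.subgroupOf M).index := by
    rw [← Subgroup.relIndex, ← hMS, inf_comm]
    exact CfsgLib.Fusion.Basic.not_dvd_relIndex_of_normal S M
  obtain ⟨g, hg⟩ := MulAction.exists_smul_eq M P (hp.toSylow hidx)
  have e1 : (P : Subgroup M) ≃* (hp.toSylow hidx : Sylow 2 M) := hg ▸ Sylow.equiv P (g • P)
  exact ⟨e1.trans (Subgroup.subgroupOfEquivOfLe hRM)⟩

/-- A normal subgroup of 2-power index has no subgroup of index two when its part of the Sylow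
subgroup lies in every subgroup that contains the 2-residual. -/
theorem no_index_two_normal (S : Sylow 2 G) {M R : Subgroup G} [M.Normal] (hMS : M ⊓ S = R)
    {k : ℕ} (hM : M.index = 2 ^ k)
    (hgen : ∀ H' : Subgroup G, Cfsg.pResidual 2 G ≤ H' → R ≤ H') (H : Subgroup M) :
    H.index ≠ 2 := by
  haveI : Fact (Nat.Prime 2) := ⟨Nat.prime_two⟩
  intro hH
  have hres : Cfsg.pResidual 2 G ≤ H.map M.subtype := by
    rw [Cfsg.pResidual, Subgroup.closure_le]
    intro g hg
    have hgM : g ∈ M :=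
      CfsgLib.Fusion.Basic.pResidual_le_of_index_eq_pow hM (Subgroup.subset_closure hg)
    refine ⟨⟨g, hgM⟩, pResidual_le_of_index_two hH (Subgroup.subset_closure ?_), rfl⟩
    simpa using hg
  have hle : R.subgroupOf M ≤ H := by
    intro r hr
    obtain ⟨r', hr', he⟩ := hgen _ hres hr
    exact (Subtype.ext he : r' = r) ▸ hr'
  have h0 := Subgroup.index_dvd_of_le hle
  rw [hH, ← Subgroup.relIndex, ← hMS, inf_comm] at h0
  exact CfsgLib.Fusion.Basic.not_dvd_relIndex_of_normal S M h0

omit [Finite G] in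
theorem card_classes_one {n : ℕ} {a : G} (ha : orderOf a = n)
    (hall : ∀ t : G, orderOf t = n → IsConj a t) :
    Nat.card {C : ConjClasses G // ∃ t : G, orderOf t = n ∧ ConjClasses.mk t = C} = 1 := by
  rw [Nat.card_eq_one_iff_unique]
  refine ⟨⟨?_⟩, ⟨⟨ConjClasses.mk a, a, ha, rfl⟩⟩⟩
  rintro ⟨_, t, ht, rfl⟩ ⟨_, u, hu, rfl⟩
  exact Subtype.ext (ConjClasses.mk_eq_mk_iff_isConj.2 ((hall t ht).symm.trans (hall u hu)))

omit [Finite G] in
theorem card_classes_two {n : ℕ} {a b : G} (ha : orderOf a = n) (hb : orderOf b = n)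
    (hne : ¬ IsConj a b) (hall : ∀ t : G, orderOf t = n → IsConj a t ∨ IsConj b t) :
    Nat.card {C : ConjClasses G // ∃ t : G, orderOf t = n ∧ ConjClasses.mk t = C} = 2 := by
  rw [Nat.card_eq_two_iff]
  refine ⟨⟨ConjClasses.mk a, a, ha, rfl⟩, ⟨ConjClasses.mk b, b, hb, rfl⟩,
    fun h => hne (ConjClasses.mk_eq_mk_iff_isConj.1 (congrArg Subtype.val h)), ?_⟩
  ext ⟨C, t, ht, rfl⟩
  simp only [Set.mem_insert_iff, Set.mem_singleton_iff, Set.mem_univ, iff_true, Subtype.mk.injEq,
    ConjClasses.mk_eq_mk_iff_isConj]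
  exact (hall t ht).imp IsConj.symm IsConj.symm

omit [Finite G] in
theorem card_classes_three {n : ℕ} {a b c : G} (ha : orderOf a = n) (hb : orderOf b = n)
    (hc : orderOf c = n) (hab : ¬ IsConj a b) (hac : ¬ IsConj a c) (hbc : ¬ IsConj b c)
    (hall : ∀ t : G, orderOf t = n → IsConj a t ∨ IsConj b t ∨ IsConj c t) :
    Nat.card {C : ConjClasses G // ∃ t : G, orderOf t = n ∧ ConjClasses.mk t = C} = 3 := by
  rw [← Nat.card_fin 3]
  refine (Nat.card_eq_of_bijective (fun i : Fin 3 =>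
    (![(⟨ConjClasses.mk a, a, ha, rfl⟩ : {C : ConjClasses G // ∃ t : G, orderOf t = n ∧
      ConjClasses.mk t = C}), ⟨ConjClasses.mk b, b, hb, rfl⟩, ⟨ConjClasses.mk c, c, hc, rfl⟩] i))
    ⟨?_, ?_⟩).symm
  · intro i j hij
    have hv := congrArg Subtype.val hij
    fin_cases i <;> fin_cases j <;>
      first
        | rfl
        | exact absurd (ConjClasses.mk_eq_mk_iff_isConj.1 hv) hab
        | exact absurd (ConjClasses.mk_eq_mk_iff_isConj.1 hv).symm hab
        | exact absurd (ConjClasses.mk_eq_mk_iff_isConj.1 hv) hac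
        | exact absurd (ConjClasses.mk_eq_mk_iff_isConj.1 hv).symm hac
        | exact absurd (ConjClasses.mk_eq_mk_iff_isConj.1 hv) hbc
        | exact absurd (ConjClasses.mk_eq_mk_iff_isConj.1 hv).symm hbc
  · rintro ⟨_, t, ht, rfl⟩
    rcases hall t ht with e | e | e
    exacts [⟨0, Subtype.ext (ConjClasses.mk_eq_mk_iff_isConj.2 e)⟩,
      ⟨1, Subtype.ext (ConjClasses.mk_eq_mk_iff_isConj.2 e)⟩,
      ⟨2, Subtype.ext (ConjClasses.mk_eq_mk_iff_isConj.2 e)⟩]

end CfsgLib.Involution.SylowFusionTools
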