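import Mathlib
import Cfsg.Agent.Lib.Involution.ThreeInvolutions

/-!
# The structure of two-groups with three transitively permuted involutions
-/

set_option autoImplicit false

namespace CfsgLib.Involution.ThreeInvolutions

open scoped commutatorElement
open CfsgLib.Fusion.NormalRankTwo

/-- The defining relations of a Sylow `2`-subgroup of `U₃(4)`. -/
structure Rel {G : Type*} [Group G] (a e x y : G) : Prop where
  a4 : a ^ 4 = 1
  e4 : e ^ 4 = 1
  ae : Commute a e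
  x2 : x ^ 2 = e ^ 2
  y2 : y ^ 2 = a ^ 2 * e ^ 2
  xy : Commute x y
  xa : x * a = a ^ 3 * x
  xe : x * e = a ^ 2 * e ^ 3 * x
  ya : y * a = a ^ 3 * e ^ 2 * y
  ye : y * e = e ^ 3 * y
  gen : Subgroup.closure {a, e, x, y} = ⊤

/-- A group with these relations has order at most `64`. -/
theorem Rel.card_le {G : Type*} [Group G] [Finite G] {a e x y : G} (h : Rel a e x y) : Nat.card G ≤ 64 := by
  haveI : Fact (Nat.Prime 2) := ⟨Nat.prime_two⟩
  set z₁ := a ^ 2 with hz₁
  set z₂ := e ^ 2 with hz₂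
  have a22 : z₁ * z₁ = 1 := by rw [hz₁, ← pow_add]; exact h.a4
  have e22 : z₂ * z₂ = 1 := by rw [hz₂, ← pow_add]; exact h.e4
  have haz : Commute a z₁ := (Commute.refl a).pow_right 2
  have haz2 : Commute a z₂ := h.ae.pow_right 2
  have hez : Commute e z₁ := h.ae.symm.pow_right 2
  have hez2 : Commute e z₂ := (Commute.refl e).pow_right 2
  have hz12 : Commute z₁ z₂ := haz2.pow_left 2
  have sq_conj : ∀ g w b : G, g * b = w * g → g * b ^ 2 = w ^ 2 * g := fun g w b hgb => by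
    rw [pow_two, pow_two, ← mul_assoc, hgb, mul_assoc, hgb, ← mul_assoc]
  have hxz : Commute x z₁ := by
    show x * a ^ 2 = a ^ 2 * x
    rw [sq_conj x _ _ h.xa, ← pow_mul, show 3 * 2 = 4 + 2 from rfl, pow_add, h.a4, one_mul]
  have hxz2 : Commute x z₂ := by
    show x * e ^ 2 = e ^ 2 * x
    rw [sq_conj x _ _ h.xe, (h.ae.pow_pow 2 3).mul_pow, ← pow_mul, ← pow_mul, h.a4, one_mul,
      show 3 * 2 = 4 + 2 from rfl, pow_add, h.e4, one_mul]
  have hyz : Commute y z₁ := by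
    show y * a ^ 2 = a ^ 2 * y
    rw [sq_conj y _ _ h.ya, (h.ae.pow_pow 3 2).mul_pow, ← pow_mul, ← pow_mul, h.e4, mul_one,
      show 3 * 2 = 4 + 2 from rfl, pow_add, h.a4, one_mul]
  have hyz2 : Commute y z₂ := by
    show y * e ^ 2 = e ^ 2 * y
    rw [sq_conj y _ _ h.ye, ← pow_mul, show 3 * 2 = 4 + 2 from rfl, pow_add, h.e4, one_mul]
  have hcenter : ∀ z : G, Commute a z → Commute e z → Commute x z → Commute y z → z ∈ Subgroup.center G := by
    intro z h1 h2 h3 h4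
    rw [Subgroup.mem_center_iff]
    have hle : (⊤ : Subgroup G) ≤ Subgroup.centralizer {z} := by
      rw [← h.gen, Subgroup.closure_le]
      rintro g (rfl | rfl | rfl | rfl) <;> rw [SetLike.mem_coe, Subgroup.mem_centralizer_singleton_iff]
      exacts [h1.eq, h2.eq, h3.eq, h4.eq]
    exact fun g => Subgroup.mem_centralizer_singleton_iff.1 (hle (Subgroup.mem_top g))
  set Z := Subgroup.zpowers z₁ ⊔ Subgroup.zpowers z₂ with hZ
  have hZc : Z ≤ Subgroup.center G := sup_le (Subgroup.zpowers_le.2 (hcenter _ haz hez hxz hyz))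
    (Subgroup.zpowers_le.2 (hcenter _ haz2 hez2 hxz2 hyz2))
  haveI hZn : Z.Normal := ⟨fun z hz g => by
    rwa [Subgroup.mem_center_iff.1 (hZc hz) g, mul_inv_cancel_right]⟩
  have hm1 : z₁ ∈ Z := Subgroup.mem_sup_left (Subgroup.mem_zpowers _)
  have hm2 : z₂ ∈ Z := Subgroup.mem_sup_right (Subgroup.mem_zpowers _)
  have hstep : ∀ (M : Subgroup G) [M.Normal] (g : G), g ^ 2 ∈ M →
      Nat.card (M ⊔ Subgroup.zpowers g : Subgroup G) ≤ 2 * Nat.card M := by
    intro M _ g hg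
    by_cases hgM : g ∈ M
    · rw [sup_eq_left.2 (Subgroup.zpowers_le.2 hgM)]; omega
    · exact (sup_zpowers_card hgM hg).le
  have hz4 : Nat.card Z ≤ 4 := by
    haveI : (Subgroup.zpowers z₁).Normal := ⟨fun z hz g => by
      rwa [Subgroup.mem_center_iff.1 (hZc (Subgroup.mem_sup_left hz)) g, mul_inv_cancel_right]⟩
    refine (hstep _ z₂ (by rw [pow_two, e22]; exact one_mem _)).trans ?_
    have h1 : Nat.card (Subgroup.zpowers z₁) ≤ 2 := by
      rw [Nat.card_zpowers]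
      exact Nat.le_of_dvd (by norm_num) (orderOf_dvd_of_pow_eq_one (by rw [pow_two, a22]))
    omega
  -- every element commutes with each generator modulo `Z`
  let π := QuotientGroup.mk' Z
  have hπ : ∀ g ∈ Z, π g = 1 := fun g hg => (QuotientGroup.eq_one_iff g).2 hg
  have hpa : π a ^ 2 = 1 := by rw [← map_pow]; exact hπ _ hm1
  have hpe : π e ^ 2 = 1 := by rw [← map_pow]; exact hπ _ hm2
  have c_ae : Commute (π a) (π e) := h.ae.map π
  have c_xy : Commute (π x) (π y) := h.xy.map π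
  have c_xa : Commute (π x) (π a) := by
    have hh := congrArg π h.xa
    rwa [map_mul, map_mul, map_pow, pow_succ, hpa, one_mul] at hh
  have c_xe : Commute (π x) (π e) := by
    have hh := congrArg π h.xe
    rwa [map_mul, map_mul, map_mul, map_pow, map_pow, pow_succ (π e) 2, hpa, hpe, one_mul, one_mul] at hh
  have c_ya : Commute (π y) (π a) := by
    have hh := congrArg π h.ya
    rwa [map_mul, map_mul, map_mul, map_pow, map_pow, pow_succ (π a) 2, hpa, hpe, one_mul, mul_one] at hh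
  have c_ye : Commute (π y) (π e) := by
    have hh := congrArg π h.ye
    rwa [map_mul, map_mul, map_pow, pow_succ, hpe, one_mul] at hh
  have hab : ∀ g w : G, ⁅g, w⁆ ∈ Z := by
    have hgen : Subgroup.closure {π a, π e, π x, π y} = ⊤ := by
      have := congrArg (Subgroup.map π) h.gen
      rwa [MonoidHom.map_closure, Subgroup.map_top_of_surjective π (QuotientGroup.mk'_surjective Z),
        Set.image_insert_eq, Set.image_insert_eq, Set.image_insert_eq, Set.image_singleton] at this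
    have hc : ∀ s ∈ ({π a, π e, π x, π y} : Set (G ⧸ Z)), ∀ t ∈ ({π a, π e, π x, π y} : Set (G ⧸ Z)),
        s * t = t * s := by
      rintro s (rfl | rfl | rfl | rfl) t (rfl | rfl | rfl | rfl)
      all_goals first
        | rfl
        | exact c_ae.eq
        | exact c_ae.eq.symm
        | exact c_xy.eq
        | exact c_xy.eq.symm
        | exact c_xa.eq
        | exact c_xa.eq.symm
        | exact c_xe.eq
        | exact c_xe.eq.symm
        | exact c_ya.eq
        | exact c_ya.eq.symm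
        | exact c_ye.eq
        | exact c_ye.eq.symm
    intro g w
    haveI := Subgroup.isMulCommutative_closure hc
    have hm : ∀ q : G ⧸ Z, q ∈ Subgroup.closure {π a, π e, π x, π y} := fun q => by rw [hgen]; exact Subgroup.mem_top q
    rw [← QuotientGroup.eq_one_iff]
    show π ⁅g, w⁆ = 1
    rw [map_commutatorElement, commutatorElement_eq_one_iff_mul_comm]
    exact congrArg Subtype.val (IsMulCommutative.is_comm.comm
      (⟨π g, hm _⟩ : Subgroup.closure {π a, π e, π x, π y}) ⟨π w, hm _⟩)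
  have hn : ∀ M : Subgroup G, Z ≤ M → M.Normal := fun M hM => ⟨fun m hm g => by
    have := mul_mem (hM (hab g m)) hm
    rwa [commutatorElement_def, inv_mul_cancel_right] at this⟩
  set M₁ := Z ⊔ Subgroup.zpowers a
  set M₂ := M₁ ⊔ Subgroup.zpowers e
  set M₃ := M₂ ⊔ Subgroup.zpowers x
  set M₄ := M₃ ⊔ Subgroup.zpowers y
  have l1 : Nat.card M₁ ≤ 2 * Nat.card Z := hstep Z a hm1
  have l2 : Nat.card M₂ ≤ 2 * Nat.card M₁ := by
    haveI := hn M₁ le_sup_left
    exact hstep M₁ e (Subgroup.mem_sup_left hm2)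
  have l3 : Nat.card M₃ ≤ 2 * Nat.card M₂ := by
    haveI := hn M₂ ((le_sup_left : Z ≤ M₁).trans le_sup_left)
    exact hstep M₂ x (h.x2 ▸ Subgroup.mem_sup_left (Subgroup.mem_sup_left hm2))
  have l4 : Nat.card M₄ ≤ 2 * Nat.card M₃ := by
    haveI := hn M₃ (((le_sup_left : Z ≤ M₁).trans le_sup_left).trans le_sup_left)
    exact hstep M₃ y (h.y2 ▸ Subgroup.mem_sup_left (Subgroup.mem_sup_left (Subgroup.mem_sup_left (mul_mem hm1 hm2))))
  have htop : M₄ = ⊤ := by
    rw [eq_top_iff, ← h.gen, Subgroup.closure_le]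
    rintro g (rfl | rfl | rfl | rfl)
    · exact Subgroup.mem_sup_left (Subgroup.mem_sup_left (Subgroup.mem_sup_left
        (Subgroup.mem_sup_right (Subgroup.mem_zpowers _))))
    · exact Subgroup.mem_sup_left (Subgroup.mem_sup_left (Subgroup.mem_sup_right (Subgroup.mem_zpowers _)))
    · exact Subgroup.mem_sup_left (Subgroup.mem_sup_right (Subgroup.mem_zpowers _))
    · exact Subgroup.mem_sup_right (Subgroup.mem_zpowers _)
  rw [htop, Subgroup.card_top] at l4
  omega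

/-- Two groups of order `64` with these relations are isomorphic. -/
theorem Rel.iso {G H : Type*} [Group G] [Finite G] [Group H] [Finite H] {a e x y : G} {a' e' x' y' : H}
    (h : Rel a e x y) (h' : Rel a' e' x' y') (hG : Nat.card G = 64) (hH : Nat.card H = 64) :
    Nonempty (G ≃* H) := by
  set D := Subgroup.closure ({(a, a'), (e, e'), (x, x'), (y, y')} : Set (G × H))
  have hm : ∀ {g}, g ∈ ({(a, a'), (e, e'), (x, x'), (y, y')} : Set (G × H)) → g ∈ D :=
    fun hg => Subgroup.subset_closure hg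
  have hD : Rel (⟨(a, a'), hm (by simp)⟩ : D) ⟨(e, e'), hm (by simp)⟩ ⟨(x, x'), hm (by simp)⟩
      ⟨(y, y'), hm (by simp)⟩ := by
    refine ⟨?_, ?_, ?_, ?_, ?_, ?_, ?_, ?_, ?_, ?_, ?_⟩
    · exact Subtype.ext (Prod.ext h.a4 h'.a4)
    · exact Subtype.ext (Prod.ext h.e4 h'.e4)
    · exact Subtype.ext (Prod.ext h.ae h'.ae)
    · exact Subtype.ext (Prod.ext h.x2 h'.x2)
    · exact Subtype.ext (Prod.ext h.y2 h'.y2)
    · exact Subtype.ext (Prod.ext h.xy h'.xy)
    · exact Subtype.ext (Prod.ext h.xa h'.xa)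
    · exact Subtype.ext (Prod.ext h.xe h'.xe)
    · exact Subtype.ext (Prod.ext h.ya h'.ya)
    · exact Subtype.ext (Prod.ext h.ye h'.ye)
    · apply Subgroup.map_injective D.subtype_injective
      rw [MonoidHom.map_closure, ← MonoidHom.range_eq_map, Subgroup.range_subtype, Set.image_insert_eq,
        Set.image_insert_eq, Set.image_insert_eq, Set.image_singleton]
      rfl
  have hle := hD.card_le
  let p₁ := (MonoidHom.fst G H).comp D.subtype
  let p₂ := (MonoidHom.snd G H).comp D.subtype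
  have s₁ : Function.Surjective p₁ := by
    rw [← MonoidHom.range_eq_top, eq_top_iff, ← h.gen, Subgroup.closure_le]
    rintro g (rfl | rfl | rfl | rfl)
    exacts [⟨⟨_, hm (Or.inl rfl)⟩, rfl⟩, ⟨⟨_, hm (Or.inr (Or.inl rfl))⟩, rfl⟩,
      ⟨⟨_, hm (Or.inr (Or.inr (Or.inl rfl)))⟩, rfl⟩, ⟨⟨_, hm (Or.inr (Or.inr (Or.inr rfl)))⟩, rfl⟩]
  have s₂ : Function.Surjective p₂ := by
    rw [← MonoidHom.range_eq_top, eq_top_iff, ← h'.gen, Subgroup.closure_le]
    rintro g (rfl | rfl | rfl | rfl)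
    exacts [⟨⟨_, hm (Or.inl rfl)⟩, rfl⟩, ⟨⟨_, hm (Or.inr (Or.inl rfl))⟩, rfl⟩,
      ⟨⟨_, hm (Or.inr (Or.inr (Or.inl rfl)))⟩, rfl⟩, ⟨⟨_, hm (Or.inr (Or.inr (Or.inr rfl)))⟩, rfl⟩]
  have hge : 64 ≤ Nat.card D := hG ▸ Nat.card_le_card_of_surjective p₁ s₁
  have hc : Nat.card D = 64 := le_antisymm hle hge
  exact ⟨(MulEquiv.ofBijective p₁ ((Nat.bijective_iff_surjective_and_card p₁).2 ⟨s₁, hc.trans hG.symm⟩)).symm.trans
    (MulEquiv.ofBijective p₂ ((Nat.bijective_iff_surjective_and_card p₂).2 ⟨s₂, hc.trans hH.symm⟩))⟩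

variable {T : Type*} [Group T] [Finite T] {ψ : MulAut T} {z : T} (h : Three ψ z)

include h

/-- Data of an abelian invariant normal subgroup of exponent `2 ^ n`. -/
theorem exists_generator {A : Subgroup T} (hA : omega h ≤ A) :
    ∃ (n : ℕ) (x : T), x ∈ A ∧ orderOf x = 2 ^ n ∧ 1 ≤ n ∧ ∀ a ∈ A, a ^ 2 ^ n = 1 := by
  classical
  haveI := Fintype.ofFinite A
  obtain ⟨x, -, hmax⟩ := Finset.univ.exists_max_image (fun a : A => orderOf (a : T)) ⟨1, Finset.mem_univ _⟩
  obtain ⟨n, hn⟩ := IsPGroup.iff_orderOf.1 h.two (x : T)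
  refine ⟨n, x, x.2, hn, ?_, fun a ha => ?_⟩
  · by_contra h0
    have := hmax ⟨z, hA h.sq⟩ (Finset.mem_univ _)
    rw [hn, show n = 0 by omega, pow_zero] at this
    rw [orderOf_eq_prime h.sq h.ne_one] at this
    omega
  · obtain ⟨m, hm⟩ := IsPGroup.iff_orderOf.1 h.two a
    have := hmax ⟨a, ha⟩ (Finset.mem_univ _)
    rw [hm, hn] at this
    have hmn := (Nat.pow_le_pow_iff_right (by norm_num : 1 < 2)).1 this
    exact orderOf_dvd_iff_pow_eq_one.1 (hm ▸ pow_dvd_pow 2 hmn)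

/-- The structure theorem. -/
theorem structure_thm :
    (∃ (n : ℕ) (x : T), 1 ≤ n ∧ (∀ a b : T, Commute a b) ∧ Nat.card T = 4 ^ n ∧
      ∀ g : T, ∃ i k : ℕ, g = x ^ i * ψ x ^ k ∧ x ^ 2 ^ n = 1) ∨
    ∃ a e x y : T, Rel a e x y ∧ Nat.card T = 64 := by
  classical
  haveI hΩn := omega_normal h
  set Ω := omega h with hΩ
  have hΩ4 := card_omega h
  have hfin : ∀ A : Subgroup T, A = ⊤ → (∀ a ∈ A, ∀ b ∈ A, Commute a b) → Inv ψ A → Ω ≤ A →
      ∃ (n : ℕ) (x : T), 1 ≤ n ∧ (∀ a b : T, Commute a b) ∧ Nat.card T = 4 ^ n ∧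
        ∀ g : T, ∃ i k : ℕ, g = x ^ i * ψ x ^ k ∧ x ^ 2 ^ n = 1 := by
    intro A hA hAc hAi hΩA
    obtain ⟨n, x, hxA, hx, hn1, hn⟩ := exists_generator h hΩA
    obtain ⟨hc, hg, -⟩ := homocyclic h hAi hAc hn hxA hx
    refine ⟨n, x, hn1, fun a b => hAc a (hA ▸ Subgroup.mem_top a) b (hA ▸ Subgroup.mem_top b), ?_, fun g => ?_⟩
    · rwa [hA, Subgroup.card_top] at hc
    · obtain ⟨i, k, e⟩ := hg g (hA ▸ Subgroup.mem_top g)
      exact ⟨i, k, e, hn x hxA⟩
  by_cases hΩtop : Ω = ⊤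
  · exact Or.inl (hfin Ω hΩtop (fun a ha b _ => h.central a ha b) (omega_inv h) le_rfl)
  obtain ⟨A₀, hA₀n, hA₀i, hA₀c, hA₀⟩ := exists_base h hΩtop
  obtain ⟨A, ⟨hAn, hAi, hAc, hA₀A⟩, hmax⟩ := Set.Finite.exists_maximal
    (Set.toFinite {A : Subgroup T | A.Normal ∧ Inv ψ A ∧ (∀ a ∈ A, ∀ b ∈ A, Commute a b) ∧ A₀ ≤ A})
    ⟨A₀, hA₀n, hA₀i, hA₀c, le_rfl⟩
  by_cases hAtop : A = ⊤
  · exact Or.inl (hfin A hAtop hAc hAi (hA₀.le.trans hA₀A))
  right
  haveI := hAn
  have hΩA : Ω ≤ A := hA₀.le.trans hA₀A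
  obtain ⟨n, x₀, hx₀A, hx₀, hn1, hn⟩ := exists_generator h hΩA
  obtain ⟨hcardA, hgenA, hindA⟩ := homocyclic h hAi hAc hn hx₀A hx₀
  have hn2 : 2 ≤ n := by
    by_contra h'
    have h1 : n = 1 := by omega
    have hle : A ≤ Ω := fun a ha => by
      have := hn a ha
      rw [h1, pow_one] at this
      exact this
    exact not_le_of_gt hA₀ (hA₀A.trans hle)
  -- powers in `A`
  let pw : ℕ → Subgroup T := fun m =>
    { carrier := {g | ∃ a ∈ A, a ^ 2 ^ m = g}
      one_mem' := ⟨1, one_mem A, one_pow _⟩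
      mul_mem' := fun {g g'} ⟨a, ha, e⟩ ⟨b, hb, e'⟩ =>
        ⟨a * b, mul_mem ha hb, by rw [(hAc a ha b hb).mul_pow, e, e']⟩
      inv_mem' := fun {g} ⟨a, ha, e⟩ => ⟨a⁻¹, inv_mem ha, by rw [inv_pow, e]⟩ }
  have hpwA : ∀ m, pw m ≤ A := fun m g ⟨a, ha, e⟩ => e ▸ pow_mem ha _
  have hpwn : ∀ m, (pw m).Normal := fun m => ⟨fun g ⟨a, ha, e⟩ k =>
    ⟨k * a * k⁻¹, hAn.conj_mem a ha k, by rw [conj_pow, e]⟩⟩
  have hpwi : ∀ m, Inv ψ (pw m) := fun m g ⟨a, ha, e⟩ => ⟨ψ a, hAi a ha, by rw [← map_pow, e]⟩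
  have hpw_mem : ∀ a ∈ A, ∀ j : ℕ, j ≤ n → (a ^ 2 ^ (n - j) = 1 ↔ a ∈ pw j) := by
    intro a ha j hj
    constructor
    · intro e
      obtain ⟨i, k, rfl⟩ := hgenA a ha
      rw [((hAc x₀ hx₀A _ (hAi x₀ hx₀A)).pow_pow _ _).mul_pow, ← pow_mul, ← pow_mul] at e
      obtain ⟨h1, h2⟩ := hindA _ _ e
      have hsplit : 2 ^ n = 2 ^ j * 2 ^ (n - j) := by rw [← pow_add, Nat.add_sub_cancel' hj]
      rw [hsplit] at h1 h2
      obtain ⟨u, hu⟩ := Nat.dvd_of_mul_dvd_mul_right (pow_pos (by norm_num) _) h1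
      obtain ⟨v, hv⟩ := Nat.dvd_of_mul_dvd_mul_right (pow_pos (by norm_num) _) h2
      refine ⟨x₀ ^ u * ψ x₀ ^ v, mul_mem (pow_mem hx₀A _) (pow_mem (hAi x₀ hx₀A) _), ?_⟩
      rw [((hAc x₀ hx₀A _ (hAi x₀ hx₀A)).pow_pow _ _).mul_pow, ← pow_mul, ← pow_mul, hu, hv, mul_comm u,
        mul_comm v]
    · rintro ⟨b, hb, rfl⟩
      rw [← pow_mul, ← pow_add, Nat.add_sub_cancel' hj]
      exact hn b hb
  have hΩpw : ∀ j, j + 1 ≤ n → Ω ≤ pw j := fun j hj g hg => (hpw_mem g (hΩA hg) j (by omega)).1 (by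
    obtain ⟨m, hm⟩ : ∃ m, n - j = m + 1 := ⟨n - j - 1, by omega⟩
    rw [hm, pow_succ', pow_mul, show g ^ 2 = 1 from hg, one_pow])
  have hexp : ∀ a ∈ A, a ^ 2 ^ (n - 1) ∈ Ω := fun a ha => by
    show (a ^ 2 ^ (n - 1)) ^ 2 = 1
    rw [← pow_mul, ← pow_succ, show n - 1 + 1 = n by omega, hn a ha]
  have homega_prodA : ∀ a ∈ A, a * ψ a * ψ (ψ a) ∈ pw 1 := by
    intro a ha
    have hb := hAi a ha
    have hc := hAi _ hb
    refine (hpw_mem _ (mul_mem (mul_mem ha hb) hc) 1 (by omega)).1 ?_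
    rw [(hAc _ (mul_mem ha hb) _ hc).mul_pow, (hAc a ha _ hb).mul_pow, ← map_pow, ← map_pow, ← map_pow]
    exact omega_prod h (hexp a ha)
  have hpsi3A : ∀ a ∈ A, a⁻¹ * ψ (ψ (ψ a)) ∈ pw 1 := by
    intro a ha
    have hd := hAi _ (hAi _ (hAi a ha))
    refine (hpw_mem _ (mul_mem (inv_mem ha) hd) 1 (by omega)).1 ?_
    rw [(hAc _ (inv_mem ha) _ hd).mul_pow, inv_pow, ← map_pow, ← map_pow, ← map_pow,
      omega_psi3 h (hexp a ha), inv_mul_cancel]
  have hpwne : ∀ j, j < n → x₀ ^ 2 ^ j ∉ pw (j + 1) := by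
    intro j hj hmem
    have e := (hpw_mem _ (pow_mem hx₀A _) (j + 1) (by omega)).2 hmem
    rw [← pow_mul, ← pow_add] at e
    have h3 := Nat.le_of_dvd (pow_pos (by norm_num) _) (orderOf_dvd_of_pow_eq_one e)
    rw [hx₀] at h3
    exact absurd ((Nat.pow_le_pow_iff_right (by norm_num : 1 < 2)).1 h3) (by omega)
  -- `C(A) = A`
  set C := Subgroup.centralizer (A : Set T)
  have hCA : C ≤ A := by
    by_contra hCA
    obtain ⟨x, hxC, hxA, hx2, hxc⟩ := exists_central_of_lt h.two hCA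
    have hconst : ∀ g ∈ C, ∀ a ∈ A, Commute g a := fun g hg a ha => (Subgroup.mem_centralizer_iff.1 hg a ha).symm
    have hCi : Inv ψ C := by
      intro g hg
      refine Subgroup.mem_centralizer_iff.2 fun a ha => ?_
      obtain ⟨b, hb, rfl⟩ : ∃ b ∈ A, ψ b = a := by
        obtain ⟨⟨b, hb⟩, e⟩ := ((Finite.injective_iff_surjective (f := fun a : A => (⟨ψ a, hAi a a.2⟩ : A))).1
          fun a b e => Subtype.ext (ψ.injective (congrArg Subtype.val e))) ⟨a, ha⟩
        exact ⟨b, hb, congrArg Subtype.val e⟩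
      rw [← map_mul, ← map_mul, Subgroup.mem_centralizer_iff.1 hg b hb]
    set y := ψ x with hy
    set y' := ψ y with hy'
    have hyC : y ∈ C := hCi x hxC
    have hy'C : y' ∈ C := hCi y hyC
    have hyc : ∀ g : T, ⁅g, y⁆ ∈ A := fun g => by
      rw [← ψ.apply_symm_apply g, hy, ← map_commutatorElement]
      exact hAi _ (hxc _)
    set s := x * y * y' with hs
    have hsC : s ∈ C := mul_mem (mul_mem hxC hyC) hy'C
    have hy2 : y ^ 2 ∈ A := by rw [hy, ← map_pow]; exact hAi _ hx2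
    have hy'2 : y' ^ 2 ∈ A := by rw [hy', ← map_pow]; exact hAi _ hy2
    -- squares are multiplicative modulo `pw 1`
    have hsq : ∀ b ∈ C, ∀ b' ∈ C, ⁅b, b'⁆ ∈ A → b ^ 2 ∈ A → (b * b') ^ 2 * (b ^ 2 * b' ^ 2)⁻¹ ∈ pw 1 := by
      intro b hb b' hb' hc hb2
      set c := ⁅b, b'⁆
      have hcb : Commute c b := (hconst b hb c hc).symm
      have hcb' : Commute c b' := (hconst b' hb' c hc).symm
      have hc2 : c ^ 2 = 1 := by
        have e : ⁅b ^ 2, b'⁆ = c * c := by
          rw [pow_two, comm_mul_left, ← hcb.eq, mul_inv_cancel_right]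
        rw [pow_two, ← e, commutatorElement_eq_one_iff_mul_comm]
        exact (hconst b' hb' _ hb2).eq.symm
      have e : (b * b') ^ 2 = b ^ 2 * b' ^ 2 * c⁻¹ := by
        have hbb : b' * b = c⁻¹ * (b * b') := by simp only [c, commutatorElement_def]; group
        calc (b * b') ^ 2 = b * (b' * b) * b' := by rw [pow_two]; group
          _ = b * c⁻¹ * (b * b') * b' := by rw [hbb]; group
          _ = c⁻¹ * (b ^ 2 * b' ^ 2) := by rw [← hcb.inv_left.eq, pow_two, pow_two]; group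
          _ = _ := ((hcb.inv_left.pow_right 2).mul_right (hcb'.inv_left.pow_right 2)).eq
      rw [e, ((hcb.inv_left.pow_right 2).mul_right (hcb'.inv_left.pow_right 2)).eq.symm, mul_inv_cancel_right]
      exact inv_mem (hΩpw 1 (by omega) hc2)
    have hsA : s ∈ A := by
      by_contra hsA
      have h1 := hsq x hxC y hyC (hyc x) hx2
      have hxy2 : (x * y) ^ 2 ∈ A := by
        have := mul_mem (hpwA 1 h1) (mul_mem hx2 hy2)
        rwa [inv_mul_cancel_right] at this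
      have h2 := hsq (x * y) (mul_mem hxC hyC) y' hy'C (by
        rw [hy', ← ψ.apply_symm_apply (x * y), ← map_commutatorElement]; exact hAi _ (hyc _)) hxy2
      have h3 : x ^ 2 * y ^ 2 * y' ^ 2 ∈ pw 1 := by
        rw [hy', hy, ← map_pow, ← map_pow, ← map_pow]; exact homega_prodA _ hx2
      have hs2 : s ^ 2 ∈ pw 1 := by
        have e : s ^ 2 = ((x * y * y') ^ 2 * ((x * y) ^ 2 * y' ^ 2)⁻¹) * ((x * y) ^ 2 * (x ^ 2 * y ^ 2)⁻¹) *
            (x ^ 2 * y ^ 2 * y' ^ 2) := by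
          have hc1 : Commute ((x * y) ^ 2 * (x ^ 2 * y ^ 2)⁻¹) (x ^ 2 * y ^ 2) := hAc _ (hpwA 1 h1) _ (mul_mem hx2 hy2)
          rw [mul_assoc _ ((x * y) ^ 2 * (x ^ 2 * y ^ 2)⁻¹), ← mul_assoc ((x * y) ^ 2 * (x ^ 2 * y ^ 2)⁻¹),
            inv_mul_cancel_right, inv_mul_cancel_right, hs]
        rw [e]
        exact mul_mem (mul_mem h2 h1) h3
      obtain ⟨a, ha, e⟩ := hs2
      rw [pow_one] at e
      refine hsA ?_
      have : (s * a⁻¹) ^ 2 = 1 := by rw [((hconst s hsC a ha).inv_right).mul_pow, inv_pow, ← e, mul_inv_cancel]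
      have := mul_mem (hΩA this) ha
      rwa [inv_mul_cancel_right] at this
    have hxy : Commute x y := by
      have hc : ⁅x, y⁆ ∈ A := hyc x
      have := commutator_mem h (M := (⊥ : Subgroup T)) (fun a ha => by rw [Subgroup.mem_bot] at ha ⊢; rw [ha, map_one])
        (s := s) rfl ?_ ?_ ?_
      · exact commutatorElement_eq_one_iff_mul_comm.1 (Subgroup.mem_bot.1 this)
      all_goals rw [Subgroup.mem_bot, commutatorElement_eq_one_iff_mul_comm]
      · exact (hconst x hxC _ hc).eq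
      · exact (hconst y hyC _ hc).eq
      · exact (hconst y hyC s hsA).eq
    set S : Set T := (A : Set T) ∪ {x, y}
    have hSc : ∀ a ∈ S, ∀ b ∈ S, a * b = b * a := by
      rintro a (ha | rfl | rfl) b (hb | rfl | rfl)
      all_goals first
        | exact (hAc _ ha _ hb).eq
        | rfl
        | exact hxy.eq
        | exact hxy.eq.symm
        | exact (hconst _ hxC _ hb).eq
        | exact (hconst _ hxC _ ha).eq.symm
        | exact (hconst _ hyC _ hb).eq
        | exact (hconst _ hyC _ ha).eq.symm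
    have hAS : A ≤ Subgroup.closure S := fun a ha => Subgroup.subset_closure (Or.inl ha)
    refine hxA (hmax ⟨?_, ?_, ?_, hA₀A.trans hAS⟩ hAS (Subgroup.subset_closure (Or.inr (Or.inl rfl))))
    · refine ⟨fun m hm g => ?_⟩
      have hle : Subgroup.closure S ≤ (Subgroup.closure S).comap (MulAut.conj g).toMonoidHom := by
        rw [Subgroup.closure_le]
        rintro b (hb | rfl | rfl)
        · exact hAS (hAn.conj_mem b hb g)
        · have := mul_mem (hAS (hxc g)) (Subgroup.subset_closure (k := S) (Or.inr (Or.inl rfl)))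
          rw [commutatorElement_def, inv_mul_cancel_right] at this
          exact this
        · have := mul_mem (hAS (hyc g)) (Subgroup.subset_closure (k := S) (Or.inr (Or.inr rfl)))
          rw [commutatorElement_def, inv_mul_cancel_right] at this
          exact this
      exact hle hm
    · intro a ha
      have hle : Subgroup.closure S ≤ (Subgroup.closure S).comap ψ.toMonoidHom := by
        rw [Subgroup.closure_le]
        rintro b (hb | rfl | rfl)
        · exact hAS (hAi b hb)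
        · exact Subgroup.subset_closure (Or.inr (Or.inr rfl))
        · show y' ∈ Subgroup.closure S
          rw [show y' = (x * y)⁻¹ * s by rw [hs]; group]
          exact mul_mem (inv_mem (mul_mem (Subgroup.subset_closure (Or.inr (Or.inl rfl)))
            (Subgroup.subset_closure (Or.inr (Or.inr rfl))))) (hAS hsA)
      exact hle ha
    · intro a ha b hb
      haveI := Subgroup.isMulCommutative_closure hSc
      exact congrArg Subtype.val (IsMulCommutative.is_comm.comm (⟨a, ha⟩ : Subgroup.closure S) ⟨b, hb⟩)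
  have hsameA : ∀ g : T, (∀ a ∈ A, Commute g a) → g ∈ A := fun g hg =>
    hCA (Subgroup.mem_centralizer_iff.2 fun a ha => (hg a ha).eq.symm)
  -- commutators with `A`
  have hmemA : ∀ (b : T), ∀ a ∈ A, ⁅b, a⁆ ∈ A := fun b a ha => by
    rw [commutatorElement_def]; exact mul_mem (hAn.conj_mem a ha b) (inv_mem ha)
  have hcr : ∀ (b : T), ∀ a ∈ A, ∀ a' ∈ A, ⁅b, a * a'⁆ = ⁅b, a⁆ * ⁅b, a'⁆ := fun b a ha a' ha' => by
    rw [comm_mul_right, (hAc a ha _ (hmemA b a' ha')).eq, mul_inv_cancel_right]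
  have hcpow : ∀ (b : T), ∀ a ∈ A, ∀ m : ℕ, ⁅b, a ^ m⁆ = ⁅b, a⁆ ^ m := fun b a ha m => by
    induction m with
    | zero => rw [pow_zero, pow_zero, commutatorElement_one_right]
    | succ m ihm => rw [pow_succ, hcr b _ (pow_mem ha m) a ha, ihm, pow_succ]
  have hc1 : ∀ (b : T), ∀ a ∈ A, ⁅b, a⁆ ∈ pw 1 := fun b a ha => (hpw_mem _ (hmemA b a ha) 1 (by omega)).1 (by
    rw [← hcpow b a ha, commutatorElement_eq_one_iff_mul_comm]
    exact (h.central _ (hexp a ha) b).eq.symm)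
  have hψA : ∀ b : T, ∀ a ∈ A, ∃ a' ∈ A, ψ a' = a ∧ ⁅ψ b, a⁆ = ψ ⁅b, a'⁆ := by
    intro b a ha
    obtain ⟨⟨a', ha'⟩, e⟩ := ((Finite.injective_iff_surjective (f := fun a : A => (⟨ψ a, hAi a a.2⟩ : A))).1
      fun a b e => Subtype.ext (ψ.injective (congrArg Subtype.val e))) ⟨a, ha⟩
    exact ⟨a', ha', congrArg Subtype.val e, by rw [map_commutatorElement, show ψ a' = a from congrArg Subtype.val e]⟩
  obtain ⟨x, -, hxA, hx2, hxc⟩ := exists_central_of_lt h.two (show ¬ (⊤ : Subgroup T) ≤ A from fun e => hAtop (top_le_iff.1 e))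
  rcases lt_or_eq_of_le hn2 with hn3 | rfl
  · -- exponent at least eight is impossible
    exfalso
    have hn3 : 3 ≤ n := hn3
    have hc2 : ∀ (b : T), ∀ a ∈ pw 1, ⁅b, a⁆ ∈ pw 2 := fun b a ⟨c, hc, e⟩ => by
      obtain ⟨d, hd, e'⟩ := hc1 b c hc
      refine ⟨d, hd, ?_⟩
      rw [← e, hcpow b c hc, ← e', ← pow_mul]
      norm_num
    set X : T → T → T := fun b a => ⁅b, a⁆ ^ 2 ^ (n - 2)
    have hXΩ : ∀ b, ∀ a ∈ A, X b a ∈ Ω := fun b a ha => by
      obtain ⟨d, hd, e⟩ := hc1 b a ha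
      show (⁅b, a⁆ ^ 2 ^ (n - 2)) ^ 2 = 1
      rw [← e, ← pow_mul, ← pow_mul,
        show 2 ^ 1 * (2 ^ (n - 2) * 2) = 2 ^ n by rw [← pow_succ, ← pow_add]; congr 1; omega]
      exact hn d hd
    have hX2 : ∀ b a, ⁅b, a⁆ ∈ pw 2 → X b a = 1 := fun b a hm =>
      (hpw_mem _ (hpwA 2 hm) 2 (by omega)).2 hm
    have hXmul : ∀ b, ∀ a ∈ A, ∀ a' ∈ A, X b (a * a') = X b a * X b a' := fun b a ha a' ha' => by
      simp only [X]
      rw [hcr b a ha a' ha', (hAc _ (hmemA b a ha) _ (hmemA b a' ha')).mul_pow]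
    have hXpsi : ∀ b, ∀ a ∈ A, X (ψ b) (ψ a) = ψ (X b a) := fun b a _ => by
      simp only [X]; rw [← map_commutatorElement, map_pow]
    have hXkill : ∀ b, ∀ a ∈ pw 1, X b a = 1 := fun b a ha => hX2 b a (hc2 b a ha)
    have hXleft : ∀ b b', ∀ a ∈ A, X (b * b') a = X b a * X b' a := fun b b' a ha => by
      have h1 : ⁅b * b', a⁆ = ⁅b, ⁅b', a⁆⁆ * ⁅b', a⁆ * ⁅b, a⁆ := by
        rw [comm_mul_left, commutatorElement_def b ⁅b', a⁆]; group
      simp only [X]
      rw [h1, (hAc _ (mul_mem (hmemA b _ (hmemA b' a ha)) (hmemA b' a ha)) _ (hmemA b a ha)).mul_pow,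
        (hAc _ (hmemA b _ (hmemA b' a ha)) _ (hmemA b' a ha)).mul_pow,
        show ⁅b, ⁅b', a⁆⁆ ^ 2 ^ (n - 2) = 1 from hX2 _ _ (hc2 b _ (hc1 b' a ha)), one_mul]
      exact (hAc _ (pow_mem (hmemA b' a ha) _) _ (pow_mem (hmemA b a ha) _)).eq
    have hidem : ∀ b, b ^ 2 ∈ A → ∀ a ∈ A, ∃ c ∈ A, c ^ 2 ^ (n - 1) = X b a ∧ X b c = X b a := by
      intro b hb a ha
      obtain ⟨c, hc, e⟩ := hc1 b a ha
      rw [pow_one] at e
      have hee : c ^ 2 ^ (n - 1) = X b a := by
        show _ = ⁅b, a⁆ ^ 2 ^ (n - 2)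
        rw [← e, ← pow_mul, ← pow_succ', show n - 2 + 1 = n - 1 by omega]
      refine ⟨c, hc, hee, ?_⟩
      have h0 : ⁅b * b, a⁆ = 1 := commutatorElement_eq_one_iff_mul_comm.2 (by rw [← pow_two]; exact (hAc _ hb a ha).eq)
      have h1 : ⁅b * b, a⁆ = ⁅b, ⁅b, a⁆⁆ * ⁅b, a⁆ * ⁅b, a⁆ := by
        rw [comm_mul_left, commutatorElement_def b ⁅b, a⁆]; group
      rw [h0, ← e, hcpow b c hc, mul_assoc, ← pow_add, show c ^ (2 + 2) = (c ^ 2) ^ 2 by rw [← pow_mul],
        ← (hAc _ (hmemA b c hc) _ (pow_mem hc 2)).mul_pow] at h1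
      have h2 : (⁅b, c⁆ * c ^ 2) ^ 2 ^ (n - 2) = 1 :=
        (hpw_mem _ (mul_mem (hmemA b c hc) (pow_mem hc 2)) 2 (by omega)).2 (hΩpw 2 (by omega) h1.symm)
      rw [(hAc _ (hmemA b c hc) _ (pow_mem hc 2)).mul_pow, ← pow_mul, ← pow_succ',
        show n - 2 + 1 = n - 1 by omega, hee] at h2
      have hsq := hXΩ b a ha
      calc X b c = X b c * (X b a * X b a) := by rw [← pow_two, show X b a ^ 2 = 1 from hsq, mul_one]
        _ = X b a := by rw [← mul_assoc, show X b c * X b a = 1 from h2, one_mul]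
    have hsame : ∀ a ∈ A, ∀ a' ∈ A, a ^ 2 ^ (n - 1) = a' ^ 2 ^ (n - 1) → ∀ b, X b a = X b a' := by
      intro a ha a' ha' e b
      have hm : a⁻¹ * a' ∈ pw 1 := (hpw_mem _ (mul_mem (inv_mem ha) ha') 1 (by omega)).1 (by
        rw [(hAc _ (inv_mem ha) _ ha').mul_pow, inv_pow, e, inv_mul_cancel])
      rw [show a' = a * (a⁻¹ * a') by group, hXmul b a ha _ (hpwA 1 hm), hXkill b _ hm, mul_one]
    set y := ψ x with hy
    set y' := ψ y with hy'
    have hy2 : y ^ 2 ∈ A := by rw [hy, ← map_pow]; exact hAi _ hx2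
    have hy'2 : y' ^ 2 ∈ A := by rw [hy', ← map_pow]; exact hAi _ hy2
    have hπc : ∀ g g' : T, g ^ 2 ∈ A → (∀ k : T, ⁅k, g⁆ ∈ A) → g' ^ 2 ∈ A → (g' * g) ^ 2 ∈ A := by
      intro g g' hg hgc hg'
      have e : (g' * g) ^ 2 = g' * ⁅g, g'⁆ * g'⁻¹ * (g' ^ 2) * g ^ 2 := by
        rw [commutatorElement_def, pow_two, pow_two, pow_two]; group
      rw [e]
      exact mul_mem (mul_mem (hAn.conj_mem _ (by rw [← commutatorElement_inv]; exact inv_mem (hgc g')) g') hg') hg
    have hyc : ∀ g : T, ⁅g, y⁆ ∈ A := fun g => by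
      rw [← ψ.apply_symm_apply g, hy, ← map_commutatorElement]; exact hAi _ (hxc _)
    have hy'c : ∀ g : T, ⁅g, y'⁆ ∈ A := fun g => by
      rw [← ψ.apply_symm_apply g, hy', ← map_commutatorElement]; exact hAi _ (hyc _)
    -- the three idempotents
    have hXx : ∀ a ∈ A, X x a = 1 := by
      set s := x * y * y' with hs
      have hs2 : s ^ 2 ∈ A := hπc y' _ hy'2 hy'c (hπc y x hy2 hyc hx2)
      have hcomp : ∀ g g' k : T, ∀ a ∈ A, X (g * g' * k) a = X g a * X g' a * X k a := fun g g' k a ha => by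
        rw [hXleft _ _ a ha, hXleft _ _ a ha]
      -- `X s` commutes with `ψ`, hence is zero
      have hψ3 : ∀ a ∈ A, X (ψ y') a = X x a := by
        intro a ha
        obtain ⟨a₁, ha₁, e1, -⟩ := hψA x a ha
        obtain ⟨a₂, ha₂, e2, -⟩ := hψA x a₁ ha₁
        obtain ⟨a₃, ha₃, e3, -⟩ := hψA x a₂ ha₂
        have e : X (ψ y') a = ψ (ψ (ψ (X x a₃))) := by
          rw [← e1, hXpsi _ _ ha₁, ← e2, hy', hXpsi _ _ ha₂, ← e3, hy, hXpsi _ _ ha₃]
        rw [e, omega_psi3 h (hXΩ x a₃ ha₃)]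
        refine hsame a₃ ha₃ a ha ?_ x
        rw [← e1, ← e2, ← e3, ← map_pow, ← map_pow, ← map_pow, omega_psi3 h (hexp a₃ ha₃)]
      by_contra hne
      push Not at hne
      obtain ⟨a₀, ha₀, hu0⟩ := hne
      obtain ⟨c, hc, hcu, hXc⟩ := hidem x hx2 a₀ ha₀
      set u := X x a₀ with hu
      have huΩ : u ^ 2 = 1 := hXΩ x a₀ ha₀
      -- the image of `X x` is `{1, u}`
      have himg : ∀ a ∈ A, X x a = 1 ∨ X x a = u := by
        by_contra hbad
        push Not at hbad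
        obtain ⟨a₁, ha₁, hv1, hv2⟩ := hbad
        obtain ⟨c₁, hc₁, hcv, hXc₁⟩ := hidem x hx2 a₁ ha₁
        -- then `X x` is the identity
        have hid : ∀ a ∈ A, X x a = a ^ 2 ^ (n - 1) := by
          intro a ha
          set v := X x a₁
          have hvΩ : v ^ 2 = 1 := hXΩ x a₁ ha₁
          have hfour : ∀ w : T, w ^ 2 = 1 → w = 1 ∨ w = u ∨ w = v ∨ w = u * v := by
            intro w hw
            by_contra hw'
            push Not at hw'
            have huv : u * v ≠ 1 := fun e => hv2 (mul_left_cancel (e.trans (by rw [← huΩ, pow_two])))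
            let f : Fin 5 → Ω := ![⟨1, one_mem _⟩, ⟨u, huΩ⟩, ⟨v, hvΩ⟩, ⟨u * v, mul_mem (show u ∈ Ω from huΩ) hvΩ⟩, ⟨w, hw⟩]
            have hf : Function.Injective f := by
              intro i j e
              have e' := congrArg (fun o : Ω => (o : T)) e
              fin_cases i <;> fin_cases j <;> simp [f] at e' ⊢ <;>
                first
                  | exact absurd e'.symm hu0 | exact absurd e' hu0
                  | exact absurd e'.symm hv1 | exact absurd e' hv1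
                  | exact absurd e'.symm hv2 | exact absurd e' hv2
                  | exact absurd e'.symm huv | exact absurd e' huv
                  | exact absurd e'.symm hw'.1 | exact absurd e' hw'.1
                  | exact absurd e'.symm hw'.2.1 | exact absurd e' hw'.2.1
                  | exact absurd e'.symm hw'.2.2.1 | exact absurd e' hw'.2.2.1
                  | exact absurd e'.symm hw'.2.2.2 | exact absurd e' hw'.2.2.2
            have := Nat.card_le_card_of_injective f hf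
            rw [hΩ4, Nat.card_eq_fintype_card, Fintype.card_fin] at this
            omega
          rcases hfour _ (hexp a ha) with e | e | e | e
          · rw [e]; exact hXkill x a ((hpw_mem a ha 1 (by omega)).1 e)
          · rw [e, hsame a ha c hc (e.trans hcu.symm), hXc]
          · rw [e, hsame a ha c₁ hc₁ (e.trans hcv.symm), hXc₁]
          · rw [e, hsame a ha (c * c₁) (mul_mem hc hc₁) (by rw [e, (hAc c hc c₁ hc₁).mul_pow, hcu, hcv]),
              hXmul x c hc c₁ hc₁, hXc, hXc₁]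
        have hidy : ∀ g, (∀ a ∈ A, X g a = a ^ 2 ^ (n - 1)) → ∀ a ∈ A, X (ψ g) a = a ^ 2 ^ (n - 1) := by
          intro g hg a ha
          obtain ⟨a', ha', e, -⟩ := hψA g a ha
          rw [← e, hXpsi g a' ha', hg a' ha', map_pow]
        -- the product of the three is fixed by `ψ` and equals the identity
        have hs1 : ∀ a ∈ A, X s a = a ^ 2 ^ (n - 1) := fun a ha => by
          rw [hcomp x y y' a ha, hid a ha, hidy x hid a ha, hidy y (hidy x hid) a ha, mul_assoc,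
            ← pow_two, show (a ^ 2 ^ (n - 1)) ^ 2 = 1 from hexp a ha, mul_one]
        -- `s⁻¹ * ψ s` acts trivially, so `s` does
        set K : Subgroup T :=
          { carrier := {g | ∀ a ∈ A, X g a = 1}
            one_mem' := fun a _ => by simp [X]
            mul_mem' := fun {g g'} hg hg' a ha => by rw [hXleft g g' a ha, hg a ha, hg' a ha, one_mul]
            inv_mem' := fun {g} hg a ha => by
              have e := hXleft g g⁻¹ a ha
              rw [hg a ha, one_mul, mul_inv_cancel] at e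
              rw [← e]; simp [X] }
        have hKi : Inv ψ K := fun g hg a ha => by
          obtain ⟨a', ha', e, -⟩ := hψA g a ha
          rw [← e, hXpsi g a' ha', hg a' ha', map_one]
        have hsK : s ∈ K := coset h hKi fun a ha => by
          have e := hXleft s⁻¹ s a ha
          rw [inv_mul_cancel, show X 1 a = 1 by simp [X]] at e
          rw [hXleft _ _ a ha, hidy s hs1 a ha, ← hs1 a ha]
          exact e.symm
        have := hs1 x₀ hx₀A
        rw [hsK x₀ hx₀A] at this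
        exact hpwne 0 (by omega) (by simpa using (hpw_mem x₀ hx₀A 1 (by omega)).1 this.symm)
      -- `X s = 1`
      set K : Subgroup T :=
        { carrier := {g | ∀ a ∈ A, X g a = 1}
          one_mem' := fun a _ => by simp [X]
          mul_mem' := fun {g g'} hg hg' a ha => by rw [hXleft g g' a ha, hg a ha, hg' a ha, one_mul]
          inv_mem' := fun {g} hg a ha => by
            have e := hXleft g g⁻¹ a ha
            rw [hg a ha, one_mul, mul_inv_cancel] at e
            rw [← e]; simp [X] }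
      have hKi : Inv ψ K := fun g hg a ha => by
        obtain ⟨a', ha', e, -⟩ := hψA g a ha
        rw [← e, hXpsi g a' ha', hg a' ha', map_one]
      have hsK : s ∈ K := coset h hKi fun a ha => by
        have e := hXleft s⁻¹ s a ha
        rw [inv_mul_cancel, show X 1 a = 1 by simp [X]] at e
        rw [hXleft _ _ a ha]
        have e' : X (ψ s) a = X s a := by
          rw [show ψ s = y * y' * ψ y' by rw [hs, map_mul, map_mul], hcomp y y' _ a ha, hs, hcomp x y y' a ha,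
            hψ3 a ha, (hAc _ (hΩA (hXΩ x a ha)) _ (hΩA (hXΩ y a ha))).eq, mul_assoc, mul_assoc]
          congr 1
          exact (hAc _ (hΩA (hXΩ y' a ha)) _ (hΩA (hXΩ x a ha))).eq
        rw [e']
        exact e.symm
      have hprod : ∀ a ∈ A, X x a * X y a * X y' a = 1 := fun a ha => by rw [← hcomp x y y' a ha]; exact hsK a ha
      have hψu : ψ u ≠ u := fun e => hu0 (fpf h e)
      have himgy : ∀ a ∈ A, X y a = 1 ∨ X y a = ψ u := by
        intro a ha
        obtain ⟨a', ha', e, -⟩ := hψA x a ha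
        rw [hy, ← e, hXpsi x a' ha']
        rcases himg a' ha' with e1 | e1
        · exact Or.inl (by rw [e1, map_one])
        · exact Or.inr (by rw [e1])
      have himgy' : ∀ a ∈ A, X y' a = 1 ∨ X y' a = ψ (ψ u) := by
        intro a ha
        obtain ⟨a', ha', e, -⟩ := hψA y a ha
        rw [hy', ← e, hXpsi y a' ha']
        rcases himgy a' ha' with e1 | e1
        · exact Or.inl (by rw [e1, map_one])
        · exact Or.inr (by rw [e1])
      -- evaluate at `c`
      have hc3 := hprod c hc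
      rw [hXc] at hc3
      have hu2 : u * u = 1 := by rw [← pow_two]; exact huΩ
      have hpr := omega_prod h huΩ
      have hyc' : X y c = ψ u ∧ X y' c = ψ (ψ u) := by
        rcases himgy c hc with e1 | e1 <;> rcases himgy' c hc with e2 | e2 <;> rw [e1, e2] at hc3
        · rw [mul_one, mul_one] at hc3; exact absurd hc3 hu0
        · rw [mul_one] at hc3
          exact absurd (ψ.injective (ψ.injective (by
            rw [omega_psi3 h huΩ]; exact (mul_left_cancel (hu2.trans hc3.symm)).symm : ψ (ψ u) = ψ (ψ (ψ u))))).symm hψu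
        · rw [mul_one] at hc3
          exact absurd (mul_left_cancel (hu2.trans hc3.symm)).symm hψu
        · exact ⟨e1, e2⟩
      -- so `X x` is `u` on the other two involutions
      obtain ⟨c₁, hc₁, ec₁, -⟩ := hψA x c hc
      obtain ⟨c₂, hc₂, ec₂, -⟩ := hψA x c₁ hc₁
      have e1 : X x c₁ = u := by
        refine ψ.injective ?_
        rw [← hXpsi x c₁ hc₁, ec₁]
        exact hyc'.1
      have e2 : X x c₂ = u := by
        refine ψ.injective (ψ.injective ?_)
        rw [← hXpsi x c₂ hc₂, ec₂, ← hXpsi _ c₁ hc₁, ec₁]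
        exact hyc'.2
      have hsum : (c₂ * c₁) ^ 2 ^ (n - 1) = c ^ 2 ^ (n - 1) := by
        have hw := omega_prod h (hexp c₂ hc₂)
        rw [map_pow, map_pow, ec₂, ec₁, ← (hAc c₂ hc₂ c₁ hc₁).mul_pow] at hw
        exact mul_right_cancel (hw.trans (by rw [← pow_two]; exact (hexp c hc).symm))
      have := hsame _ (mul_mem hc₂ hc₁) c hc hsum x
      rw [hXmul x c₂ hc₂ c₁ hc₁, e1, e2, hu2, hXc] at this
      exact hu0 this.symm
    -- now squares
    have hd : ∀ g, (∀ a ∈ A, X g a = 1) → ∀ a ∈ A, ⁅g, a⁆ ∈ pw 2 := fun g hg a ha =>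
      (hpw_mem _ (hmemA g a ha) 2 (by omega)).1 (hg a ha)
    have hd' : ∀ g : T, (∀ a ∈ A, ⁅g, a⁆ ∈ pw 2) → ∀ j, ∀ a ∈ pw j, ⁅g, a⁆ ∈ pw (j + 2) := by
      intro g hg j a ⟨c, hc, e⟩
      obtain ⟨d, hd, e'⟩ := hg c hc
      exact ⟨d, hd, by rw [← e, hcpow g c hc, ← e', ← pow_mul, ← pow_add, add_comm]⟩
    have hXy : ∀ a ∈ A, X y a = 1 := fun a ha => by
      obtain ⟨a', ha', e, -⟩ := hψA x a ha
      rw [hy, ← e, hXpsi x a' ha', hXx a' ha', map_one]
    have hXy' : ∀ a ∈ A, X y' a = 1 := fun a ha => by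
      obtain ⟨a', ha', e, -⟩ := hψA y a ha
      rw [hy', ← e, hXpsi y a' ha', hXy a' ha', map_one]
    -- square kernel
    have hker : ∀ g, g ^ 2 ∈ pw 1 → (∀ a ∈ A, ⁅g, a⁆ ∈ pw 2) → g ∈ A := by
      intro g hg2 hg
      let f : A → A := fun a => ⟨g⁻¹ * a * g * a, mul_mem (by
        have := hAn.conj_mem a a.2 g⁻¹; simpa using this) a.2⟩
      have hf : ∀ a : A, (f a : T) = (a : T) ^ 2 * ⁅g⁻¹, (a : T)⁆ := fun a => by
        have hc := (hAc (a : T) a.2 _ (hmemA g⁻¹ a a.2)).eq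
        rw [pow_two, mul_assoc, hc, ← mul_assoc, ← (hAc _ a.2 _ (mul_mem a.2 (hmemA g⁻¹ a a.2))).eq]
        show g⁻¹ * a * g * a = _
        rw [commutatorElement_def]
        rw [(hAc _ a.2 _ (mul_mem a.2 (by rw [← commutatorElement_def]; exact hmemA g⁻¹ a a.2))).eq]
        have hc' : Commute (a : T) (g⁻¹ * a * g) := hAc _ a.2 _ (by simpa using hAn.conj_mem a a.2 g⁻¹)
        rw [← hc'.eq]
        group
      let F : A →* A :=
        { toFun := f
          map_one' := Subtype.ext (by simp [f])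
          map_mul' := fun a b => Subtype.ext (by
            show g⁻¹ * ((a : T) * b) * g * ((a : T) * b) = g⁻¹ * a * g * a * (g⁻¹ * b * g * b)
            have hc : Commute (g⁻¹ * (b : T) * g) (a : T) := hAc _ (by simpa using hAn.conj_mem b b.2 g⁻¹) _ a.2
            calc g⁻¹ * ((a : T) * b) * g * ((a : T) * b) = (g⁻¹ * a * g) * ((g⁻¹ * b * g) * a) * b := by group
              _ = (g⁻¹ * a * g) * (a * (g⁻¹ * b * g)) * b := by rw [hc.eq]
              _ = _ := by group) }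
      have hg' : ∀ a ∈ A, ⁅g⁻¹, a⁆ ∈ pw 2 := fun a ha => by
        have e : ⁅g⁻¹, a⁆ = g⁻¹ * ⁅g, a⁆⁻¹ * g⁻¹⁻¹ := by
          rw [commutatorElement_def, commutatorElement_def]; group
        rw [e]
        exact (hpwn 2).conj_mem _ (inv_mem (hg a ha)) _
      have hrange : F.range ≤ (pw 1).subgroupOf A := by
        rintro _ ⟨a, rfl⟩
        show ((f a : A) : T) ∈ pw 1
        rw [hf]
        refine mul_mem ⟨a, a.2, by rw [pow_one]⟩ ?_
        obtain ⟨d, hd, e⟩ := hg' a a.2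
        exact ⟨d ^ 2, pow_mem hd 2, by rw [← e, ← pow_mul]; norm_num⟩
      have hFker : ∀ a : A, F a = 1 → (a : T) ∈ Ω := by
        intro a ha
        have e : (a : T) ^ 2 * ⁅g⁻¹, (a : T)⁆ = 1 := (hf a).symm.trans (congrArg Subtype.val ha)
        have key : ∀ j, j + 1 ≤ n → (a : T) ∈ pw j := by
          intro j
          induction j with
          | zero => exact fun _ => ⟨a, a.2, by simp⟩
          | succ j ihj =>
            intro hj
            obtain ⟨c, hc, ec⟩ := ihj (by omega)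
            obtain ⟨d, hd, ed⟩ := hd' g⁻¹ hg' j _ ⟨c, hc, ec⟩
            have e1 : (a : T) ^ 2 = (d ^ 2 ^ (j + 2))⁻¹ := by rw [ed]; exact eq_inv_of_mul_eq_one_left e
            have e2 : ((a : T) * d ^ 2 ^ (j + 1)) ^ 2 = 1 := by
              rw [(hAc _ a.2 _ (pow_mem hd _)).mul_pow, e1, ← pow_mul, ← pow_succ, inv_mul_cancel]
            have hm := mul_mem (hΩpw (j + 1) (by omega) e2) (inv_mem (show d ^ 2 ^ (j + 1) ∈ pw (j + 1) from ⟨d, hd, rfl⟩))
            rwa [mul_inv_cancel_right] at hm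
        have hm := key (n - 1) (by omega)
        have := (hpw_mem _ a.2 (n - 1) (by omega)).2 hm
        rwa [show n - (n - 1) = 1 by omega, pow_one] at this
      have hle : (pw 1).subgroupOf A ≤ F.range := by
        refine (Subgroup.eq_of_le_of_card_ge hrange ?_).ge
        have h1 := F.ker.card_mul_index
        rw [Subgroup.index_ker, hcardA] at h1
        have h2 : Nat.card F.ker ≤ 4 := hΩ4 ▸ Nat.card_le_card_of_injective
          (fun b : F.ker => (⟨((b : A) : T), hFker b b.2⟩ : Ω))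
          fun a b e => Subtype.ext (Subtype.ext (congrArg Subtype.val e :))
        have h3 : Nat.card ((pw 1).subgroupOf A) * 4 ≤ 4 ^ n := by
          rw [Nat.card_congr (Subgroup.subgroupOfEquivOfLe (hpwA 1)).toEquiv]
          let G1 : A →* A :=
            { toFun := fun a => a ^ 2
              map_one' := one_pow 2
              map_mul' := fun a b => (show Commute a b from Subtype.ext (hAc _ a.2 _ b.2).eq).mul_pow 2 }
          have hG := G1.ker.card_mul_index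
          rw [Subgroup.index_ker, hcardA] at hG
          have hk4 : Nat.card G1.ker = 4 := by
            rw [← hΩ4]
            exact Nat.card_congr
              { toFun := fun b => ⟨((b : A) : T), congrArg Subtype.val b.2⟩
                invFun := fun o => ⟨⟨o, hΩA o.2⟩, Subtype.ext o.2⟩
                left_inv := fun b => rfl
                right_inv := fun o => rfl }
          have hr : Nat.card G1.range = Nat.card (pw 1) := Nat.card_congr
            { toFun := fun r => ⟨((r : A) : T), by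
                obtain ⟨b, e⟩ := r.2
                exact ⟨b, b.2, by rw [pow_one]; exact congrArg Subtype.val e⟩⟩
              invFun := fun g => ⟨⟨g, hpwA 1 g.2⟩, by
                obtain ⟨b, hb, e⟩ := g.2
                exact ⟨⟨b, hb⟩, Subtype.ext (by rw [pow_one] at e; exact e)⟩⟩
              left_inv := fun r => rfl
              right_inv := fun g => rfl }
          rw [hk4, hr] at hG
          omega
        have h4 : Nat.card F.ker * Nat.card F.range = 4 ^ n := h1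
        nlinarith [Nat.mul_le_mul_right (Nat.card F.range) h2]
      have hg2A := hpwA 1 hg2
      obtain ⟨a, ha⟩ := hle (show (⟨(g ^ 2)⁻¹, inv_mem hg2A⟩ : A) ∈ (pw 1).subgroupOf A from inv_mem hg2)
      have e : g⁻¹ * (a : T) * g * a = (g ^ 2)⁻¹ := congrArg Subtype.val ha
      have hga : (g * (a : T)) ^ 2 = 1 := by
        have : (g * (a : T)) ^ 2 = g ^ 2 * (g⁻¹ * a * g * a) := by rw [pow_two, pow_two]; group
        rw [this, e, mul_inv_cancel]
      have := mul_mem (hΩA hga) (inv_mem a.2)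
      rwa [mul_inv_cancel_right] at this
    set s := x * y * y' with hs
    have hcmodA : ∀ g g' : T, (∀ a ∈ A, ⁅g, a⁆ ∈ pw 2) → (∀ a ∈ A, ⁅g', a⁆ ∈ pw 2) → g ^ 2 ∈ A → g' ^ 2 ∈ A →
        ⁅g, g'⁆ ∈ A → (g * g') ^ 2 * (g ^ 2 * g' ^ 2)⁻¹ ∈ pw 1 := by
      intro g g' hg hg' hg2 hg'2 hc
      set c := ⁅g, g'⁆ with hcdef
      have hc1' : c ∈ pw 1 := by
        have e1 : ⁅g ^ 2, g'⁆ = ⁅g, c⁆ * c * c := by
          simp only [hcdef, commutatorElement_def, pow_two]; group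
        have e2 : ⁅g', g ^ 2⁆ ∈ pw 2 := hg' _ hg2
        have e3 : c * c ∈ pw 2 := by
          have hm : ⁅g, c⁆ * c * c ∈ pw 2 := e1 ▸ (by rw [← commutatorElement_inv]; exact inv_mem e2)
          rw [mul_assoc] at hm
          exact (Subgroup.mul_mem_cancel_left _ (hg c hc)).1 hm
        obtain ⟨d, hd, e⟩ := e3
        have e4 : (c * (d ^ 2)⁻¹) ^ 2 = 1 := by
          rw [(hAc c hc _ (inv_mem (pow_mem hd 2))).mul_pow, inv_pow, ← pow_mul, show 2 * 2 = 2 ^ 2 from rfl, e, pow_two,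
            mul_inv_cancel]
        have hm := mul_mem (hΩpw 1 (by omega) e4) (show d ^ 2 ∈ pw 1 from ⟨d, hd, by rw [pow_one]⟩)
        rwa [inv_mul_cancel_right] at hm
      have e : (g * g') ^ 2 * (g ^ 2 * g' ^ 2)⁻¹ = g * c⁻¹ * g⁻¹ := by
        rw [hcdef, commutatorElement_def, pow_two, pow_two, pow_two]; group
      rw [e]
      exact (hpwn 1).conj_mem _ (inv_mem hc1') g
    have hdx := hd x hXx
    have hdy := hd y hXy
    have hdy' := hd y' hXy'
    have hdxy : ∀ a ∈ A, ⁅x * y, a⁆ ∈ pw 2 := hd _ fun a ha => by rw [hXleft x y a ha, hXx a ha, hXy a ha, one_mul]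
    have hds : ∀ a ∈ A, ⁅s, a⁆ ∈ pw 2 := hd _ fun a ha => by
      rw [hXleft _ y' a ha, hXy' a ha, mul_one, hXleft x y a ha, hXx a ha, hXy a ha, one_mul]
    have hsA : s ∈ A := by
      refine hker s ?_ hds
      have h1 := hcmodA x y hdx hdy hx2 hy2 (hyc x)
      have hxy2 := hπc y x hy2 hyc hx2
      have h2 := hcmodA (x * y) y' hdxy hdy' hxy2 hy'2 (hy'c _)
      have h3 : x ^ 2 * y ^ 2 * y' ^ 2 ∈ pw 1 := by
        rw [hy', hy, ← map_pow, ← map_pow, ← map_pow]; exact homega_prodA _ hx2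
      have e : s ^ 2 = ((x * y * y') ^ 2 * ((x * y) ^ 2 * y' ^ 2)⁻¹) * ((x * y) ^ 2 * (x ^ 2 * y ^ 2)⁻¹) *
          (x ^ 2 * y ^ 2 * y' ^ 2) := by
        rw [mul_assoc _ ((x * y) ^ 2 * (x ^ 2 * y ^ 2)⁻¹), ← mul_assoc ((x * y) ^ 2 * (x ^ 2 * y ^ 2)⁻¹),
          inv_mul_cancel_right, inv_mul_cancel_right, hs]
      rw [e]
      exact mul_mem (mul_mem h2 h1) h3
    -- `x²` and its image generate `A`
    have hx2n : x ^ 2 ∉ pw 1 := fun e => hxA (hker x e hdx)
    have hord : orderOf (x ^ 2) = 2 ^ n := by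
      obtain ⟨m, hm⟩ := IsPGroup.iff_orderOf.1 h.two (x ^ 2)
      have hmn : m ≤ n := by
        have hdd : 2 ^ m ∣ 2 ^ n := hm ▸ orderOf_dvd_of_pow_eq_one (hn _ hx2)
        exact (Nat.pow_dvd_pow_iff_le_right (by norm_num)).1 hdd
      rcases lt_or_eq_of_le hmn with hlt | rfl
      · exfalso
        refine hx2n ((hpw_mem _ hx2 1 (by omega)).1 ?_)
        exact orderOf_dvd_iff_pow_eq_one.1 (hm ▸ pow_dvd_pow 2 (by omega))
      · exact hm
    obtain ⟨-, hgen2, -⟩ := homocyclic h hAi hAc hn hx2 hord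
    have hcx : ∀ j, ⁅x, y⁆ ∈ pw j → ∀ a ∈ A, ⁅x, a⁆ ∈ pw (j + 1) := by
      intro j hj a ha
      obtain ⟨i, k, rfl⟩ := hgen2 a ha
      have hψx2 : ψ (x ^ 2) = y ^ 2 := map_pow ψ x 2
      rw [hψx2, hcr x _ (pow_mem hx2 i) _ (pow_mem hy2 k), hcpow x _ hx2, hcpow x _ hy2,
        commutatorElement_eq_one_iff_mul_comm.2 ((Commute.refl x).pow_right 2).eq, one_pow, one_mul]
      refine pow_mem ?_ k
      have e : ⁅x, y ^ 2⁆ = ⁅x, y⁆ * ⁅y, ⁅x, y⁆⁆ * ⁅x, y⁆ := by
        rw [pow_two, comm_mul_right, commutatorElement_def y ⁅x, y⁆]; group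
      rw [e, (hAc _ (hyc x) _ (hmemA y _ (hyc x))).eq, mul_assoc]
      refine mul_mem ?_ ?_
      · obtain ⟨d, hd, e'⟩ := hd' y hdy j _ hj
        exact ⟨d ^ 2, pow_mem hd 2, by rw [← e', ← pow_mul, ← pow_succ']⟩
      · obtain ⟨d, hd, e'⟩ := hj
        exact ⟨d, hd, by rw [← e', ← pow_add, ← two_mul, ← pow_succ']⟩
    have hall : ∀ j, j ≤ n → ⁅x, y⁆ ∈ pw j := by
      intro j
      induction j with
      | zero => exact fun _ => ⟨_, hyc x, by simp⟩
      | succ j ihj =>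
        intro hj
        have hjj := ihj (by omega)
        haveI := hpwn (j + 1)
        refine commutator_mem h (hpwi (j + 1)) (s := s) rfl (hcx j hjj _ (hyc x)) ?_ ?_
        · obtain ⟨d, hd, e'⟩ := hd' y hdy j _ hjj
          exact ⟨d ^ 2, pow_mem hd 2, by rw [← e', ← pow_mul, ← pow_succ']⟩
        · obtain ⟨a', ha', -, e⟩ := hψA x s hsA
          show ⁅y, s⁆ ∈ pw (j + 1)
          rw [hy, e]
          exact hpwi (j + 1) _ (hcx j hjj a' ha')
    refine hxA (hsameA x fun a ha => ?_)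
    obtain ⟨d, hd, e⟩ := hcx n (hall n le_rfl) a ha
    rw [pow_succ, pow_mul, hn d hd, one_pow] at e
    exact commutatorElement_eq_one_iff_mul_comm.1 e.symm
  · -- exponent four
    have hsqΩ : ∀ a ∈ A, a ^ 2 ∈ Ω := fun a ha => by simpa using hexp a ha
    have hpw1 : ∀ g ∈ pw 1, g ∈ Ω := fun g ⟨a, ha, e⟩ => e ▸ (by rw [pow_one]; exact hsqΩ a ha)
    have hYΩ : ∀ b : T, ∀ a ∈ A, ⁅b, a⁆ ∈ Ω := fun b a ha => hpw1 _ (hc1 b a ha)
    have hYΩ0 : ∀ b : T, ∀ a ∈ Ω, ⁅b, a⁆ = 1 := fun b a ha =>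
      commutatorElement_eq_one_iff_mul_comm.2 (h.central a ha b).eq.symm
    have hYleft : ∀ b b' : T, ∀ a ∈ A, ⁅b * b', a⁆ = ⁅b', a⁆ * ⁅b, a⁆ := fun b b' a ha => by
      rw [comm_mul_left, ← (h.central _ (hYΩ b' a ha) b).eq, mul_inv_cancel_right]
    have hsq1 : ∀ t ∈ Ω, t * t = 1 := fun t ht => by rw [← pow_two]; exact ht
    have hfour : ∀ a' ∈ A, a' ^ 4 = 1 := fun a' ha' => by simpa using hn a' ha'
    -- `ψ` cubed is trivial on commutators
    have hψ3Y : ∀ b : T, ∀ a ∈ A, ⁅ψ (ψ (ψ b)), a⁆ = ⁅b, a⁆ := by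
      intro b a ha
      obtain ⟨a₁, ha₁, e₁, -⟩ := hψA b a ha
      obtain ⟨a₂, ha₂, e₂, -⟩ := hψA b a₁ ha₁
      obtain ⟨a₃, ha₃, e₃, -⟩ := hψA b a₂ ha₂
      have hm := hpw1 _ (hpsi3A a₃ ha₃)
      rw [e₃, e₂, e₁] at hm
      rw [show a = a₃ * (a₃⁻¹ * a) by group, hcr b a₃ ha₃ _ (hΩA hm), hYΩ0 b _ hm, mul_one,
        hcr _ a₃ ha₃ _ (hΩA hm), hYΩ0 _ _ hm, mul_one]
      conv_rhs => rw [← omega_psi3 h (hYΩ b a₃ ha₃)]
      rw [map_commutatorElement, map_commutatorElement, map_commutatorElement, e₃, e₂, e₁]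
      have e : a₃ * (a₃⁻¹ * a) = a := by group
      conv_rhs => rw [← e, hcr _ a₃ ha₃ _ (hΩA hm), hYΩ0 _ _ hm, mul_one]
    have hprodA : ∀ b : T, b * ψ b * ψ (ψ b) ∈ A := by
      intro b
      refine coset h hAi (hsameA _ fun a ha => ?_)
      set s := b * ψ b * ψ (ψ b)
      have hm : ∀ p q r : T, ⁅p * q * r, a⁆ = ⁅r, a⁆ * (⁅q, a⁆ * ⁅p, a⁆) := fun p q r => by
        rw [hYleft _ _ a ha, hYleft _ _ a ha]
      have h1 : ⁅ψ s, a⁆ = ⁅s, a⁆ := by
        rw [show ψ s = ψ b * ψ (ψ b) * ψ (ψ (ψ b)) by simp only [s, map_mul], hm, hm, hψ3Y b a ha]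
        have c1 := (h.central _ (hYΩ b a ha) (⁅ψ (ψ b), a⁆ * ⁅ψ b, a⁆)).eq
        rw [c1, mul_assoc]
      rw [commute_iff_eq, ← commutatorElement_eq_one_iff_mul_comm, hYleft _ _ a ha, h1, ← hYleft _ _ a ha,
        inv_mul_cancel, commutatorElement_one_left]
    -- no element outside `A` centralizes a generator of `A`
    have hinj : ∀ b : T, b ∉ A → ∀ u ∈ A, u ∉ Ω → ⁅b, u⁆ ≠ 1 := by
      intro b hb u hu huΩ e
      set p := ⁅b, ψ u⁆
      have hu1 := hAi u hu
      have hu2 := hAi _ hu1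
      have hsumu : u * ψ u * ψ (ψ u) ∈ Ω := hpw1 _ (homega_prodA u hu)
      have hp2 : ⁅b, ψ (ψ u)⁆ = p := by
        have e0 := hYΩ0 b _ hsumu
        rw [hcr b _ (mul_mem hu hu1) _ hu2, hcr b u hu _ hu1, e, one_mul] at e0
        exact mul_left_cancel (e0.trans (hsq1 p (hYΩ b _ hu1)).symm)
      have hψu3 : ∀ g : T, ⁅g, ψ (ψ (ψ u))⁆ = ⁅g, u⁆ := fun g => by
        have hm := hpw1 _ (hpsi3A u hu)
        rw [show ψ (ψ (ψ u)) = u * (u⁻¹ * ψ (ψ (ψ u))) by group, hcr g u hu _ (hΩA hm), hYΩ0 g _ hm, mul_one]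
      have h1 : ⁅ψ b, u⁆ = ψ p := by rw [← hψu3, ← map_commutatorElement, hp2]
      have h2 : ⁅ψ (ψ b), u⁆ = ψ (ψ p) := by
        rw [← hψu3 (ψ (ψ b))]
        show _ = ψ (ψ ⁅b, ψ u⁆)
        rw [map_commutatorElement, map_commutatorElement]
      have h0 : ⁅b * ψ b * ψ (ψ b), u⁆ = 1 :=
        commutatorElement_eq_one_iff_mul_comm.2 (hAc _ (hprodA b) u hu).eq
      rw [hYleft _ _ u hu, hYleft _ _ u hu, e, mul_one, h1, h2, ← map_mul] at h0
      have hp : p = 1 := by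
        rw [← map_one ψ] at h0
        have h0' : ψ p * p = 1 := ψ.injective h0
        exact fpf h (mul_left_cancel (a := ψ p) (h0'.trans (hsq1 _ (omega_inv h _ (hYΩ b _ hu1))).symm)).symm
      -- `u` and `ψ u` generate `A`
      refine hb (hsameA b fun a ha => ?_)
      rw [commute_iff_eq, ← commutatorElement_eq_one_iff_mul_comm]
      have hou : orderOf u = 2 ^ 2 := by
        obtain ⟨m, hm⟩ := IsPGroup.iff_orderOf.1 h.two u
        have hmn : m ≤ 2 := (Nat.pow_dvd_pow_iff_le_right (by norm_num)).1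
          (hm ▸ orderOf_dvd_of_pow_eq_one (hn u hu))
        have hm2 : ¬ m ≤ 1 := fun hm1 => huΩ (by
          show u ^ 2 = 1
          exact orderOf_dvd_iff_pow_eq_one.1 (hm ▸ (pow_dvd_pow 2 hm1)))
        rw [hm, show m = 2 by omega]
      obtain ⟨i, k, rfl⟩ := (homocyclic h hAi hAc hn hu hou).2.1 a ha
      rw [hcr b _ (pow_mem hu i) _ (pow_mem hu1 k), hcpow b u hu, hcpow b _ hu1, e,
        show ⁅b, ψ u⁆ = 1 from hp, one_pow, one_pow, one_mul]
    have hx₀Ω : x₀ ∉ Ω := fun e => by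
      have h3 := Nat.le_of_dvd (by norm_num) (orderOf_dvd_of_pow_eq_one (show x₀ ^ 2 = 1 from e))
      rw [hx₀] at h3
      norm_num at h3
    -- evaluation at `x₀`
    have heval : ∀ t ∈ Ω, ∃ b : T, ⁅b, x₀⁆ = t := by
      intro t ht
      by_cases ht1 : t = 1
      · exact ⟨1, by rw [ht1, commutatorElement_one_left]⟩
      let f : T →* T :=
        { toFun := fun b => ⁅b, x₀⁆
          map_one' := commutatorElement_one_left x₀
          map_mul' := fun b b' => by
            rw [hYleft b b' x₀ hx₀A, (h.central _ (hYΩ b' x₀ hx₀A) _).eq] }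
      have hle : f.range ≤ Ω := by rintro _ ⟨b, rfl⟩; exact hYΩ b x₀ hx₀A
      have h2 : 2 < Nat.card f.range := by
        have hx : x ∉ A := hxA
        have hψx : ψ x ∉ A := fun hh => hx (by
          obtain ⟨⟨b, hb⟩, e⟩ := ((Finite.injective_iff_surjective (f := fun a : A => (⟨ψ a, hAi a a.2⟩ : A))).1
            fun a b e => Subtype.ext (ψ.injective (congrArg Subtype.val e))) ⟨ψ x, hh⟩
          exact ψ.injective (congrArg Subtype.val e) ▸ hb)
        have hne : ⁅x, x₀⁆ ≠ ⁅ψ x, x₀⁆ := fun e => by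
          have hm : x⁻¹ * ψ x ∈ A := by
            by_contra hm
            refine hinj _ hm x₀ hx₀A hx₀Ω ?_
            rw [hYleft _ _ x₀ hx₀A, ← e, ← hYleft _ _ x₀ hx₀A, inv_mul_cancel, commutatorElement_one_left]
          exact hx (coset h hAi hm)
        haveI := Fintype.ofFinite f.range
        rw [Nat.card_eq_fintype_card, Fintype.two_lt_card_iff]
        exact ⟨1, ⟨_, x, rfl⟩, ⟨_, ψ x, rfl⟩,
          fun e => hinj x hx x₀ hx₀A hx₀Ω (congrArg Subtype.val e).symm,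
          fun e => hinj _ hψx x₀ hx₀A hx₀Ω (congrArg Subtype.val e).symm,
          fun e => hne (congrArg Subtype.val e)⟩
      have heq : f.range = Ω := by
        refine Subgroup.eq_of_le_of_card_ge hle ?_
        rw [hΩ4]
        obtain ⟨m, hm⟩ := (h.two.to_subgroup f.range).exists_card_eq
        have hd4 : Nat.card f.range ∣ 4 := hΩ4 ▸ Subgroup.card_dvd_of_le hle
        rw [hm] at h2 ⊢
        have h21 := (Nat.pow_lt_pow_iff_right (by norm_num : 1 < 2)).1 (show 2 ^ 1 < 2 ^ m from h2)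
        calc 4 = 2 ^ 2 := by norm_num
          _ ≤ 2 ^ m := Nat.pow_le_pow_right (by norm_num) h21
      exact (heq ▸ ht : t ∈ f.range)
    set a := x₀ with hadef
    set e := ψ a with hedef
    have haA : a ∈ A := hx₀A
    have heA : e ∈ A := hAi a haA
    set z₁ := a ^ 2 with hz₁
    set z₂ := e ^ 2 with hz₂
    have hz₁Ω : z₁ ∈ Ω := hsqΩ a haA
    have hz₂Ω : z₂ ∈ Ω := hsqΩ e heA
    have hz₁1 : z₁ ≠ 1 := fun e => hx₀Ω e
    have hψz₁ : ψ z₁ = z₂ := by rw [hz₁, map_pow]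
    have hψz₂ : ψ z₂ = z₁ * z₂ := by
      have hp := omega_prod h hz₁Ω
      rw [hψz₁] at hp
      exact mul_left_cancel (hp.trans (hsq1 _ (mul_mem hz₁Ω hz₂Ω)).symm)
    have hz12 : z₁ ≠ z₂ := fun e => hz₁1 (fpf h (hψz₁.trans e.symm))
    have hz₂1 : z₂ ≠ 1 := fun e => hz₁1 (ψ.injective (by rw [hψz₁, e, map_one]))
    have hz121 : z₁ * z₂ ≠ 1 := fun e => hz12 (mul_left_cancel ((hsq1 _ hz₁Ω).trans e.symm))
    have hΩlist : ∀ t ∈ Ω, t = 1 ∨ t = z₁ ∨ t = z₂ ∨ t = z₁ * z₂ := by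
      intro t ht
      by_contra ht'
      push Not at ht'
      let f : Fin 5 → Ω := ![⟨1, one_mem _⟩, ⟨z₁, hz₁Ω⟩, ⟨z₂, hz₂Ω⟩, ⟨z₁ * z₂, mul_mem hz₁Ω hz₂Ω⟩, ⟨t, ht⟩]
      have hf : Function.Injective f := by
        intro i j e
        have e' := congrArg (fun o : Ω => (o : T)) e
        fin_cases i <;> fin_cases j <;> simp [f] at e' ⊢ <;>
          first
            | exact absurd e'.symm hz₁1 | exact absurd e' hz₁1
            | exact absurd e'.symm hz₂1 | exact absurd e' hz₂1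
            | exact absurd e'.symm hz12 | exact absurd e' hz12
            | exact absurd e'.symm hz121 | exact absurd e' hz121
            | exact absurd e'.symm ht'.1 | exact absurd e' ht'.1
            | exact absurd e'.symm ht'.2.1 | exact absurd e' ht'.2.1
            | exact absurd e'.symm ht'.2.2.1 | exact absurd e' ht'.2.2.1
            | exact absurd e'.symm ht'.2.2.2 | exact absurd e' ht'.2.2.2
      have := Nat.card_le_card_of_injective f hf
      rw [hΩ4, Nat.card_eq_fintype_card, Fintype.card_fin] at this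
      omega
    obtain ⟨w₀, hw₀⟩ := heval z₁ hz₁Ω
    have hw₀A : w₀ ∉ A := fun hh => hz₁1 (hw₀.symm.trans
      (commutatorElement_eq_one_iff_mul_comm.2 (hAc _ hh a haA).eq))
    have hsum : a * e * ψ e ∈ Ω := hpw1 _ (homega_prodA a haA)
    have hψe : ∀ g : T, ⁅g, ψ e⁆ = ⁅g, a⁆ * ⁅g, e⁆ := by
      intro g
      have e0 := hYΩ0 g _ hsum
      rw [hcr g _ (mul_mem haA heA) _ (hAi e heA), hcr g a haA e heA] at e0
      exact (mul_left_cancel (e0.trans (hsq1 _ (mul_mem (hYΩ g a haA) (hYΩ g e heA))).symm))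
    have hψ3a : ∀ g : T, ⁅g, ψ (ψ e)⁆ = ⁅g, a⁆ := fun g => by
      have hm := hpw1 _ (hpsi3A a haA)
      rw [show ψ (ψ e) = a * (a⁻¹ * ψ (ψ e)) by group, hcr g a haA _ (hΩA hm), hYΩ0 g _ hm, mul_one]
    -- `[x, e]`
    have hxe0 : ⁅w₀, e⁆ = z₁ * z₂ := by
      rcases hΩlist _ (hYΩ w₀ e heA) with h' | h' | h' | h'
      · exact absurd h' (hinj w₀ hw₀A e heA fun hh => hz₂1 hh)
      · refine absurd ?_ (hinj w₀ hw₀A (a * e) (mul_mem haA heA) fun hh => hz121 ?_)
        · rw [hcr w₀ a haA e heA, hw₀, h', hsq1 z₁ hz₁Ω]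
        · rw [hz₁, hz₂, ← (hAc a haA e heA).mul_pow]; exact hh
      · exfalso
        have hy1 : ⁅ψ w₀, e⁆ = z₂ := by rw [← map_commutatorElement, hw₀, hψz₁]
        refine hw₀A (coset h hAi ?_)
        by_contra hm
        refine hinj _ hm e heA (fun hh => hz₂1 hh) ?_
        rw [hYleft _ _ e heA, hy1, ← h', ← hYleft _ _ e heA, inv_mul_cancel, commutatorElement_one_left]
      · exact h'
    -- squares of elements outside `A`
    have hb2A : ∀ b : T, b ^ 2 ∈ A := fun b => hsameA _ fun a' ha' => by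
      rw [commute_iff_eq, ← commutatorElement_eq_one_iff_mul_comm, pow_two, hYleft b b a' ha']
      exact hsq1 _ (hYΩ b a' ha')
    have hb2Ω : ∀ b : T, b ∉ A → b ^ 2 ∈ Ω := fun b hb => by
      by_contra hh
      exact hinj b hb _ (hb2A b) hh (commutatorElement_eq_one_iff_mul_comm.2 ((Commute.refl b).pow_right 2).eq)
    have hsqmul : ∀ b : T, ∀ a' ∈ A, (b * a') ^ 2 = b ^ 2 * ⁅b, a'⁆ * a' ^ 2 := fun b a' ha' => by
      have hc := hYΩ b a' ha'
      have e1 : b⁻¹ * a' * b = ⁅b, a'⁆ * a' := by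
        have e2 : ⁅b⁻¹, a'⁆ = ⁅b, a'⁆ := by
          have e3 := hYleft b⁻¹ b a' ha'
          rw [inv_mul_cancel, commutatorElement_one_left] at e3
          exact (mul_left_cancel (e3.symm.trans (hsq1 _ hc).symm))
        rw [← e2, commutatorElement_def]; group
      rw [comm_sq, e1, pow_two a']; group
    have hnotsq : ∀ b : T, b ∉ A → b ^ 2 ≠ 1 := fun b hb e => hb (hΩA e)
    -- choice of `x`
    obtain ⟨x₁, hx₁a, hx₁e, hx₁sq, hx₁A⟩ :
        ∃ x₁, ⁅x₁, a⁆ = z₁ ∧ ⁅x₁, e⁆ = z₁ * z₂ ∧ x₁ ^ 2 = z₂ ∧ x₁ ∉ A := by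
      have hmul : ∀ a' ∈ A, ∀ g ∈ A, ⁅w₀ * a', g⁆ = ⁅w₀, g⁆ := fun a' ha' g hg => by
        rw [hYleft _ _ g hg, commutatorElement_eq_one_iff_mul_comm.2 (hAc a' ha' g hg).eq, one_mul]
      have hwe : (w₀ * e) ^ 2 = w₀ ^ 2 * z₁ := by
        rw [hsqmul w₀ e heA, hxe0, ← hz₂, mul_assoc, mul_assoc, hsq1 z₂ hz₂Ω, mul_one]
      rcases hΩlist _ (hb2Ω w₀ hw₀A) with h' | h' | h' | h'
      · exact absurd h' (hnotsq w₀ hw₀A)
      · refine absurd ?_ (hnotsq (w₀ * e) fun hh => hw₀A ((Subgroup.mul_mem_cancel_right A heA).1 hh))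
        rw [hwe, h', hsq1 z₁ hz₁Ω]
      · exact ⟨w₀, hw₀, hxe0, h', hw₀A⟩
      · refine ⟨w₀ * e, by rw [hmul e heA a haA, hw₀], by rw [hmul e heA e heA, hxe0], ?_,
          fun hh => hw₀A ((Subgroup.mul_mem_cancel_right A heA).1 hh)⟩
        rw [hwe, h', (h.central z₁ hz₁Ω z₂).eq, mul_assoc, hsq1 z₁ hz₁Ω, mul_one]
    set y₁ := ψ x₁ with hy₁
    have hye : ⁅y₁, e⁆ = z₂ := by rw [hy₁, hedef, ← map_commutatorElement, hx₁a, hψz₁]
    have hya : ⁅y₁, a⁆ = z₁ * z₂ := by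
      rw [← hψ3a y₁, hy₁, ← map_commutatorElement, hψe, hx₁a, hx₁e, ← mul_assoc, hsq1 z₁ hz₁Ω, one_mul, hψz₂]
    have hy₁sq : y₁ ^ 2 = z₁ * z₂ := by rw [hy₁, ← map_pow, hx₁sq, hψz₂]
    have hxy₁A : x₁ * y₁ ∉ A := fun hh => by
      have h1 := commutatorElement_eq_one_iff_mul_comm.2 (hAc _ hh a haA).eq
      rw [hYleft _ _ a haA, hya, hx₁a, (h.central z₁ hz₁Ω z₂).eq, mul_assoc, hsq1 z₁ hz₁Ω, mul_one] at h1
      exact hz₂1 h1
    have hcA : ⁅x₁, y₁⁆ ∈ A := hsameA _ fun a' ha' => by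
      have hh : ∀ g g' : T, ⁅g * g', a'⁆ = ⁅g' * g, a'⁆ := fun g g' => by
        rw [hYleft _ _ a' ha', hYleft _ _ a' ha', (h.central _ (hYΩ g' a' ha') _).eq]
      rw [commute_iff_eq, ← commutatorElement_eq_one_iff_mul_comm,
        show ⁅x₁, y₁⁆ = (x₁ * y₁) * (y₁ * x₁)⁻¹ by rw [commutatorElement_def]; group,
        hYleft _ _ a' ha', hh x₁ y₁, ← hYleft _ _ a' ha', mul_inv_cancel, commutatorElement_one_left]
    have hcΩ : ⁅x₁, y₁⁆ ∈ Ω := commutator_mem h (omega_inv h) rfl (hYΩ _ _ hcA) (hYΩ _ _ hcA) (hYΩ _ _ (hprodA x₁))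
    set c := ⁅x₁, y₁⁆ with hcdef
    have hcc : ∀ g : T, Commute c g := h.central c hcΩ
    have hxysq : (x₁ * y₁) ^ 2 = z₁ * c := by
      have e1 : (x₁ * y₁) ^ 2 = x₁ ^ 2 * y₁ ^ 2 * c := by
        have e2 : y₁ * x₁ = c⁻¹ * (x₁ * y₁) := by rw [hcdef, commutatorElement_def]; group
        calc (x₁ * y₁) ^ 2 = x₁ * (y₁ * x₁) * y₁ := by rw [pow_two]; group
          _ = x₁ * c⁻¹ * (x₁ * y₁) * y₁ := by rw [e2]; group
          _ = c⁻¹ * (x₁ ^ 2 * y₁ ^ 2) := by rw [← ((hcc x₁).inv_left).eq, pow_two, pow_two]; group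
          _ = x₁ ^ 2 * y₁ ^ 2 * c := by
            rw [((hcc (x₁ ^ 2 * y₁ ^ 2)).inv_left).eq, inv_eq_of_mul_eq_one_left (hsq1 c hcΩ)]
      rw [e1, hx₁sq, hy₁sq, ← mul_assoc, (h.central z₂ hz₂Ω z₁).eq, mul_assoc z₁, hsq1 z₂ hz₂Ω, mul_one]
    have hc12 : c = 1 ∨ c = z₁ * z₂ := by
      rcases hΩlist c hcΩ with h' | h' | h' | h'
      · exact Or.inl h'
      · exact absurd (by rw [hxysq, h', hsq1 z₁ hz₁Ω]) (hnotsq _ hxy₁A)
      · refine absurd ?_ (hnotsq (x₁ * y₁ * a) fun hh => hxy₁A ((Subgroup.mul_mem_cancel_right A haA).1 hh))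
        have e1 : ⁅x₁ * y₁, a⁆ = z₂ := by
          rw [hYleft _ _ a haA, hya, hx₁a, (h.central z₁ hz₁Ω z₂).eq, mul_assoc, hsq1 z₁ hz₁Ω, mul_one]
        rw [hsqmul _ a haA, hxysq, e1, h', ← hz₁, mul_assoc z₁ z₂, hsq1 z₂ hz₂Ω, mul_one, hsq1 z₁ hz₁Ω]
      · exact Or.inr h'
    obtain ⟨y₂, hy₂sq, hy₂a, hy₂e, hxy₂, hy₂A⟩ : ∃ y₂, y₂ ^ 2 = z₁ * z₂ ∧ ⁅y₂, a⁆ = z₁ * z₂ ∧ ⁅y₂, e⁆ = z₂ ∧
        Commute x₁ y₂ ∧ y₁⁻¹ * y₂ ∈ A := by
      rcases hc12 with hc | hc
      · exact ⟨y₁, hy₁sq, hya, hye, commutatorElement_eq_one_iff_mul_comm.1 hc,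
          by rw [inv_mul_cancel]; exact one_mem A⟩
      · have hmul : ∀ g ∈ A, ⁅y₁ * e, g⁆ = ⁅y₁, g⁆ := fun g hg => by
          rw [hYleft _ _ g hg, commutatorElement_eq_one_iff_mul_comm.2 (hAc e heA g hg).eq, one_mul]
        refine ⟨y₁ * e, ?_, by rw [hmul a haA, hya], by rw [hmul e heA, hye], ?_, by rw [inv_mul_cancel_left]; exact heA⟩
        · rw [hsqmul y₁ e heA, hy₁sq, hye, ← hz₂, mul_assoc (z₁ * z₂), hsq1 z₂ hz₂Ω, mul_one]
        · refine commutatorElement_eq_one_iff_mul_comm.1 ?_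
          rw [comm_mul_right, hx₁e, ← (h.central _ (mul_mem hz₁Ω hz₂Ω) y₁).eq, mul_inv_cancel_right, ← hcdef, hc]
          exact hsq1 _ (mul_mem hz₁Ω hz₂Ω)
    have hswap : ∀ g g' q : T, ⁅g, g'⁆ = q → g * g' = q * g' * g := fun g g' q e => by
      rw [← e, commutatorElement_def]; group
    refine ⟨a, e, x₁, y₂, ⟨hfour a haA, hfour e heA, hAc a haA e heA, hx₁sq, hy₂sq, hxy₂, ?_, ?_, ?_, ?_, ?_⟩, ?_⟩
    · rw [hswap _ _ _ hx₁a, hz₁, ← pow_succ]
    · rw [hswap _ _ _ hx₁e, mul_assoc z₁ z₂, hz₁, hz₂, ← pow_succ]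
    · rw [hswap _ _ _ hy₂a, hz₁, hz₂, mul_assoc (a ^ 2), ((hAc a haA e heA).pow_right 2).eq.symm, ← mul_assoc, ← pow_succ]
    · rw [hswap _ _ _ hy₂e, hz₂, ← pow_succ]
    · rw [eq_top_iff]
      intro g _
      set S : Set T := {a, e, x₁, y₂}
      have hA' : ∀ g ∈ A, g ∈ Subgroup.closure S := fun g hg => by
        obtain ⟨i, k, rfl⟩ := hgenA g hg
        exact mul_mem (pow_mem (Subgroup.subset_closure (by simp [S])) _)
          (pow_mem (Subgroup.subset_closure (by simp [S, hedef])) _)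
      have hx' : x₁ ∈ Subgroup.closure S := Subgroup.subset_closure (by simp [S])
      have hy' : y₁ ∈ Subgroup.closure S := by
        have : y₁ = y₂ * (y₁⁻¹ * y₂)⁻¹ := by group
        rw [this]
        exact mul_mem (Subgroup.subset_closure (by simp [S])) (inv_mem (hA' _ hy₂A))
      -- `g` agrees with a product at `a`
      have key : ∀ w ∈ Subgroup.closure S, ⁅g, a⁆ = ⁅w, a⁆ → g ∈ Subgroup.closure S := by
        intro w hw e
        have hm : w⁻¹ * g ∈ A := by
          by_contra hm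
          refine hinj _ hm a haA hx₀Ω ?_
          rw [hYleft _ _ a haA, e, ← hYleft _ _ a haA, inv_mul_cancel, commutatorElement_one_left]
        have := mul_mem hw (hA' _ hm)
        rwa [mul_inv_cancel_left] at this
      rcases hΩlist _ (hYΩ g a haA) with h' | h' | h' | h'
      · exact key 1 (one_mem _) (by rw [h', commutatorElement_one_left])
      · exact key x₁ hx' (by rw [h', hx₁a])
      · refine key (x₁ * y₁) (mul_mem hx' hy') ?_
        rw [h', hYleft _ _ a haA, hya, hx₁a, (h.central z₁ hz₁Ω z₂).eq, mul_assoc, hsq1 z₁ hz₁Ω, mul_one]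
      · exact key y₁ hy' (by rw [h', hya])
    · -- order
      let f : T →* T :=
        { toFun := fun b => ⁅b, a⁆
          map_one' := commutatorElement_one_left a
          map_mul' := fun b b' => by
            rw [hYleft b b' a haA, (h.central _ (hYΩ b' a haA) _).eq] }
      have hker : f.ker = A := by
        ext g
        rw [MonoidHom.mem_ker]
        refine ⟨fun hh => by_contra fun hg => hinj g hg a haA hx₀Ω hh, fun hg => ?_⟩
        exact commutatorElement_eq_one_iff_mul_comm.2 (hAc g hg a haA).eq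
      have hran : f.range = Ω := le_antisymm (by rintro _ ⟨b, rfl⟩; exact hYΩ b a haA) fun t ht => by
        obtain ⟨b, hb⟩ := heval t ht
        exact ⟨b, hb⟩
      have h1 := f.ker.card_mul_index
      rw [Subgroup.index_ker, hran, hker, hcardA, hΩ4] at h1
      rw [← h1]
      norm_num

end CfsgLib.Involution.ThreeInvolutions
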