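import Mathlib
import Cfsg.Agent.Lib.Involution.ThreeInvolutionsStructure
import Cfsg.Agent.Lib.Involution.U34Sylow

/-!
# Two-groups of rank two with an automorphism transitive on involutions
-/

set_option autoImplicit false

namespace CfsgLib.Involution.ThreeInvolutions

variable {F : Type*} [Field F] [Fintype F]

open CfsgLib.Involution.U34Sylow in
/-- The Sylow subgroup of `U₃(4)` satisfies the relations. -/
theorem rel_U34 (hF : Fintype.card F = 16) (P : Sylow 2 (Cfsg.PSU 3 F 4)) :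
    ∃ a e x y : (P : Subgroup (Cfsg.PSU 3 F 4)), Rel a e x y ∧ Nat.card (P : Subgroup (Cfsg.PSU 3 F 4)) = 64 := by
  classical
  haveI : Fact (Fintype.card F = 16) := ⟨hF⟩
  haveI : Fact (∃ σ : F →+* F, (∀ x, σ x = x ^ 4) ∧ CfsgLib.Classical.IsConjugation σ) :=
    ⟨CfsgLib.Classical.exists_frob (q := 4) (by rw [hF]; norm_num)⟩
  obtain ⟨E⟩ := sylow_equiv P
  haveI : Finite (Heis F) := Nat.finite_of_card_ne_zero (by rw [card_heis]; norm_num)
  obtain ⟨u, hu⟩ : ∃ u : Fˣ, orderOf u = 3 := by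
    haveI := Fact.mk Nat.prime_three
    exact exists_prime_orderOf_dvd_card 3 (by rw [Fintype.card_units, hF]; norm_num)
  set lam : F := (u : F) with hlam
  have l3 : lam ^ 3 = 1 := by
    rw [hlam, ← Units.val_pow_eq_pow_val, ← hu, pow_orderOf_eq_one, Units.val_one]
  have l1 : lam ≠ 1 := fun e => by
    rw [show u = 1 from Units.ext e, orderOf_one] at hu
    norm_num at hu
  have l0 : lam ≠ 0 := u.ne_zero
  have hq : lam ^ 2 + lam + 1 = 0 := by
    refine (mul_eq_zero.1 (?_ : (lam - 1) * (lam ^ 2 + lam + 1) = 0)).resolve_left (sub_ne_zero.2 l1)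
    linear_combination l3
  have h2 := two0 (F := F)
  let f : Heis F → Heis F := fun g => ⟨lam * g.c, lam ^ 2 * g.b, by
    linear_combination lam ^ 2 * g.hb + (lam ^ 5 + lam ^ 2) * g.b ^ 4 * l3 - lam ^ 2 * g.c ^ 5 * l3⟩
  have hf : Function.Injective f := fun g k e => by
    refine Heis.ext ?_ ?_
    · exact mul_left_cancel₀ l0 (congrArg Heis.c e)
    · exact mul_left_cancel₀ (pow_ne_zero 2 l0) (congrArg Heis.b e)
  let F' : Heis F →* Heis F :=
    { toFun := f
      map_one' := Heis.ext (by simp [f, one_c]) (by simp [f, one_b])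
      map_mul' := fun g k => Heis.ext (by simp [f, mul_c, mul_add]) (by
        simp only [f, mul_b]
        linear_combination -(lam ^ 2 * g.c ^ 4 * k.c) * l3) }
  let ψ : MulAut (Heis F) := MulEquiv.ofBijective F' ⟨hf, Finite.injective_iff_surjective.1 hf⟩
  let z : Heis F := ⟨0, 1, by linear_combination h2⟩
  have hψ : ∀ g, ψ g = f g := fun g => rfl
  have hT : Three ψ z := by
    refine ⟨IsPGroup.of_card (n := 6) (by rw [card_heis]; norm_num), ?_, ?_, ?_, ?_, ?_, ?_, ⟨1, ?_⟩⟩
    · rw [pow_two]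
      exact (mul_self_eq_one_iff' z).2 rfl
    · intro e
      exact one_ne_zero (congrArg Heis.b e)
    · intro e
      have e' : lam ^ 2 * 1 = 1 := congrArg Heis.b e
      exact l1 (by linear_combination l3 - lam * e')
    · refine Heis.ext ?_ ?_
      · simp [hψ, f, z, mul_c]
      · simp only [hψ, f, z, mul_b]
        linear_combination lam * l3 - hq + lam * h2
    · intro x hx
      rw [pow_two, mul_self_eq_one_iff'] at hx
      have hb : x.b * ((x.b - 1) * ((x.b - lam) * (x.b - lam ^ 2))) = 0 := by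
        have hb := x.hb
        rw [hx] at hb
        linear_combination (norm := ring_nf) hb - x.b * h2 + (x.b ^ 3 - x.b ^ 2) * (-1) * hq + (x.b ^ 2 - x.b) * l3
      rcases mul_eq_zero.1 hb with e | e
      · exact Or.inl (Heis.ext hx e)
      rcases mul_eq_zero.1 e with e | e
      · exact Or.inr (Or.inl (Heis.ext hx (sub_eq_zero.1 e)))
      rcases mul_eq_zero.1 e with e | e
      · refine Or.inr (Or.inr (Or.inr (Heis.ext (by simp [hψ, f, z, mul_c, hx]) ?_)))
        simp only [hψ, f, z, mul_b]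
        linear_combination e - hq + lam * h2
      · refine Or.inr (Or.inr (Or.inl (Heis.ext (by simp [hψ, f, z, hx]) ?_)))
        simp only [hψ, f, z]
        linear_combination e
    · intro x hx g
      rw [pow_two, mul_self_eq_one_iff', ← mem_center_iff'] at hx
      exact (Subgroup.mem_center_iff.1 hx g).symm
    · refine MulEquiv.ext fun g => ?_
      show (ψ ^ 3 ^ 1) g = g
      rw [show (3:ℕ) ^ 1 = 3 from rfl, pow_succ, pow_two, MulAut.mul_apply, MulAut.mul_apply]
      refine Heis.ext ?_ ?_ <;> simp only [hψ, f, MulAut.one_apply, pow_one, pow_succ, pow_zero, one_mul]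
      · linear_combination g.c * l3
      · linear_combination (lam ^ 3 + 1) * g.b * l3
  rcases structure_thm hT with ⟨n, x, -, hc, -, -⟩ | ⟨a, e, x, y, hrel, hcard⟩
  · exfalso
    have htop : Subgroup.center (Heis F) = ⊤ :=
      eq_top_iff.2 fun g _ => Subgroup.mem_center_iff.2 fun k => (hc k g).eq
    have h4 := card_center (F := F)
    rw [htop, Subgroup.card_top, card_heis] at h4
    norm_num at h4
  · refine ⟨E a, E e, E x, E y, ⟨?_, ?_, ?_, ?_, ?_, ?_, ?_, ?_, ?_, ?_, ?_⟩,
      (Nat.card_congr E.toEquiv).symm.trans hcard⟩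
    · rw [← map_pow, hrel.a4, map_one]
    · rw [← map_pow, hrel.e4, map_one]
    · exact hrel.ae.map E
    · rw [← map_pow, ← map_pow, hrel.x2]
    · rw [← map_pow, ← map_pow, ← map_pow, ← map_mul, hrel.y2]
    · exact hrel.xy.map E
    · rw [← map_pow, ← map_mul, ← map_mul, hrel.xa]
    · rw [← map_pow, ← map_pow, ← map_mul, ← map_mul, ← map_mul, hrel.xe]
    · rw [← map_pow, ← map_pow, ← map_mul, ← map_mul, ← map_mul, hrel.ya]
    · rw [← map_pow, ← map_mul, ← map_mul, hrel.ye]
    · have h := congrArg (Subgroup.map E.toMonoidHom) hrel.gen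
      rw [MonoidHom.map_closure, Subgroup.map_top_of_surjective E.toMonoidHom E.surjective, Set.image_insert_eq,
        Set.image_insert_eq, Set.image_insert_eq, Set.image_singleton] at h
      exact h

theorem main {T : Type*} [Group T] [Finite T] (hT : IsPGroup 2 T) (h2 : Cfsg.PRankLE 2 2 T)
    (h1 : ¬ Cfsg.PRankLE 2 1 T) (φ : MulAut T)
    (htrans : ∀ s t : T, orderOf s = 2 → orderOf t = 2 → ∃ k : ℕ, (φ ^ k) s = t)
    (hF : Fintype.card F = 16) (P : Sylow 2 (Cfsg.PSU 3 F 4)) :
    (∃ n : ℕ, 1 ≤ n ∧ Nonempty (T ≃* Multiplicative (ZMod (2 ^ n) × ZMod (2 ^ n)))) ∨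
      Nonempty (T ≃* (P : Subgroup (Cfsg.PSU 3 F 4))) := by
  classical
  haveI : Fact (Nat.Prime 2) := ⟨Nat.prime_two⟩
  have hord : ∀ x : T, x ^ 2 = 1 → x ≠ 1 → orderOf x = 2 := fun x hx hx1 => orderOf_eq_prime hx hx1
  -- the four group
  obtain ⟨A, hAc, hA2, hA⟩ : ∃ A : Subgroup T, IsMulCommutative A ∧ (∀ a ∈ A, a ^ 2 = 1) ∧ 2 < Nat.card A := by
    simpa [Cfsg.PRankLE] using h1
  haveI : Nontrivial T := by
    have hle := Subgroup.card_le_card_group A
    exact Finite.one_lt_card_iff_nontrivial.1 (by omega)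
  haveI := hT.center_nontrivial
  obtain ⟨j, hj, hjc⟩ := (hT.to_subgroup (Subgroup.center T)).nontrivial_iff_card.1 inferInstance
  obtain ⟨z', hz'⟩ := exists_prime_orderOf_dvd_card' (G := Subgroup.center T) 2 (hjc ▸ dvd_pow_self 2 hj.ne')
  set z : T := (z' : T)
  have hz : orderOf z = 2 := by rw [← hz', Subgroup.orderOf_coe]
  have hzsq : z ^ 2 = 1 := by rw [← hz, pow_orderOf_eq_one]
  have hz1 : z ≠ 1 := fun e => by rw [e, orderOf_one] at hz; omega
  have hcentral : ∀ x : T, x ^ 2 = 1 → ∀ g : T, Commute x g := by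
    intro x hx g
    by_cases hx1 : x = 1
    · rw [hx1]; exact Commute.one_left g
    obtain ⟨k, hk⟩ := htrans z x hz (hord x hx hx1)
    rw [← hk, ← (φ ^ k).apply_symm_apply g]
    exact (show Commute z ((φ ^ k).symm g) from (Subgroup.mem_center_iff.1 z'.2 _).symm).map (φ ^ k)
  let Ω : Subgroup T :=
    { carrier := {x | x ^ 2 = 1}
      one_mem' := one_pow 2
      mul_mem' := fun {a b} (ha : a ^ 2 = 1) (hb : b ^ 2 = 1) => by
        show (a * b) ^ 2 = 1
        rw [(hcentral a ha b).mul_pow, ha, hb, one_mul]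
      inv_mem' := fun {a} (ha : a ^ 2 = 1) => by show a⁻¹ ^ 2 = 1; rw [inv_pow, ha, inv_one] }
  have hΩ4 : Nat.card Ω = 4 := by
    have hle : Nat.card Ω ≤ 4 :=
      h2 Ω ⟨⟨fun a b => Subtype.ext (hcentral a a.2 b).eq⟩⟩ fun a ha => ha
    have hge : Nat.card A ≤ Nat.card Ω := Subgroup.card_le_of_le fun a ha => hA2 a ha
    obtain ⟨m, hm⟩ := (hT.to_subgroup Ω).exists_card_eq
    rw [hm] at hle hge ⊢
    have h3 : m ≤ 2 := (Nat.pow_le_pow_iff_right (by norm_num)).1 (show 2 ^ m ≤ 2 ^ 2 from hle)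
    interval_cases m <;> omega
  -- replace `φ` by its three-part
  obtain ⟨i, r, hr, hro⟩ := Nat.exists_eq_pow_mul_and_not_dvd (orderOf_pos φ).ne' 3 (by norm_num)
  set ψ := φ ^ r with hψdef
  have hψ3 : ψ ^ 3 ^ i = 1 := by rw [hψdef, ← pow_mul, mul_comm, ← hro, pow_orderOf_eq_one]
  have hψsq : ∀ x : T, x ^ 2 = 1 → ψ x ^ 2 = 1 := fun x hx => by rw [← map_pow, hx, map_one]
  have hfour : ∀ a b x : T, a ^ 2 = 1 → b ^ 2 = 1 → a ≠ 1 → b ≠ 1 → a ≠ b → x ^ 2 = 1 →
      x = 1 ∨ x = a ∨ x = b ∨ x = a * b := by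
    intro a b x ha hb ha1 hb1 hab hx
    by_contra hno
    push Not at hno
    have hab1 : a * b ≠ 1 := fun e => hab (mul_left_cancel (a := a) ((show a * a = 1 by rw [← pow_two]; exact ha).trans e.symm))
    let f : Fin 5 → Ω := ![⟨1, one_mem _⟩, ⟨a, ha⟩, ⟨b, hb⟩, ⟨a * b, mul_mem (show a ∈ Ω from ha) hb⟩, ⟨x, hx⟩]
    have hf : Function.Injective f := by
      intro i j e
      have e' := congrArg (fun o : Ω => (o : T)) e
      fin_cases i <;> fin_cases j <;> simp [f] at e' ⊢ <;>
        first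
          | exact absurd e'.symm ha1 | exact absurd e' ha1
          | exact absurd e'.symm hb1 | exact absurd e' hb1
          | exact absurd e'.symm hab | exact absurd e' hab
          | exact absurd e'.symm hab1 | exact absurd e' hab1
          | exact absurd e'.symm hno.1 | exact absurd e' hno.1
          | exact absurd e'.symm hno.2.1 | exact absurd e' hno.2.1
          | exact absurd e'.symm hno.2.2.1 | exact absurd e' hno.2.2.1
          | exact absurd e'.symm hno.2.2.2 | exact absurd e' hno.2.2.2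
    have := Nat.card_le_card_of_injective f hf
    rw [hΩ4, Nat.card_eq_fintype_card, Fintype.card_fin] at this
    omega
  -- `φ` permutes the three involutions cyclically
  have hw1 : φ z ≠ 1 := fun e => hz1 (φ.injective (by rw [e, map_one]))
  have hφsq : ∀ x : T, x ^ 2 = 1 → φ x ^ 2 = 1 := fun x hx => by rw [← map_pow, hx, map_one]
  have hwne : φ z ≠ z := by
    intro e
    obtain ⟨x, hx⟩ : ∃ x : Ω, (x : T) ≠ 1 ∧ (x : T) ≠ z := by
      by_contra hno
      push Not at hno
      have hle : Ω ≤ Subgroup.zpowers z := fun x hx => by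
        by_cases h1x : x = 1
        · rw [h1x]; exact one_mem _
        · have h := hno ⟨x, hx⟩ h1x
          simp only at h
          rw [h]; exact Subgroup.mem_zpowers z
      have := Subgroup.card_le_of_le hle
      rw [Nat.card_zpowers, hz, hΩ4] at this
      omega
    obtain ⟨k, hk⟩ := htrans z x hz (hord x x.2 hx.1)
    refine hx.2 (hk.symm.trans ?_)
    clear hk
    induction k with
    | zero => rfl
    | succ k ih => rw [pow_succ, MulAut.mul_apply, e, ih]
  have hφtrans : φ (φ z) = z * φ z := by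
    have hzw : z * φ z ≠ 1 := fun e => hwne (mul_left_cancel (a := z) (e.trans (by rw [← hzsq, pow_two])))
    rcases hfour z (φ z) (φ (φ z)) hzsq (hφsq z hzsq) hz1 hw1 hwne.symm (hφsq _ (hφsq z hzsq)) with e | e | e | e
    · exact absurd (φ.injective (e.trans (map_one φ).symm)) hw1
    · exfalso
      obtain ⟨k, hk⟩ := htrans z (z * φ z) hz (hord _ (by rw [(hcentral z hzsq _).mul_pow, hzsq, hφsq z hzsq, one_mul]) hzw)
      have hkk : ∀ k : ℕ, (φ ^ k) z = z ∨ (φ ^ k) z = φ z := by
        intro k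
        induction k with
        | zero => exact Or.inl rfl
        | succ k ih =>
          rw [pow_succ', MulAut.mul_apply]
          rcases ih with e' | e' <;> rw [e']
          · exact Or.inr rfl
          · exact Or.inl e
      rcases hkk k with e' | e' <;> rw [hk] at e'
      · exact hw1 (mul_eq_left.1 e')
      · exact hz1 (mul_eq_right.1 e')
    · exact absurd (φ.injective e) hwne
    · exact e
  have hper : ∀ m : ℕ, (φ ^ (m + 3)) z = (φ ^ m) z := fun m => by
    rw [pow_add, MulAut.mul_apply, pow_succ, pow_two, MulAut.mul_apply, MulAut.mul_apply]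
    congr 1
    rw [hφtrans, map_mul, hφtrans, ← mul_assoc, ← (hcentral z hzsq (φ z)).eq, mul_assoc, ← pow_two, hφsq z hzsq,
      mul_one]
  have hmod : ∀ m : ℕ, (φ ^ m) z = (φ ^ (m % 3)) z := by
    intro m
    induction m using Nat.strong_induction_on with
    | _ m ih =>
      rcases Nat.lt_or_ge m 3 with hm | hm
      · rw [Nat.mod_eq_of_lt hm]
      · obtain ⟨m, rfl⟩ : ∃ q, m = q + 3 := ⟨m - 3, by omega⟩
        rw [hper, Nat.add_mod_right]
        exact ih m (by omega)
  have hzmem : ∀ x : T, x ^ 2 = 1 → x ≠ 1 → ∃ m : ℕ, (φ ^ m) z = x := fun x hx hx1 => htrans z x hz (hord x hx hx1)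
  have hψz : ψ z ≠ z ∧ ψ (ψ z) ≠ ψ z ∧ ψ (ψ z) ≠ z := by
    have e1 : ψ z = (φ ^ (r % 3)) z := by rw [hψdef, hmod]
    have e2 : ψ (ψ z) = (φ ^ ((r + r) % 3)) z := by rw [hψdef, ← MulAut.mul_apply, ← pow_add, hmod]
    have n10 : (φ ^ 1) z ≠ z := by rw [pow_one]; exact hwne
    have n20 : (φ ^ 2) z ≠ z := by
      rw [pow_two, MulAut.mul_apply, hφtrans]
      exact fun e => hw1 (mul_eq_left.1 e)
    have n21 : (φ ^ 2) z ≠ (φ ^ 1) z := by
      rw [pow_two, MulAut.mul_apply, pow_one]
      exact fun e => hwne (φ.injective e)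
    have hr3 : r % 3 = 1 ∨ r % 3 = 2 := by omega
    rw [e2, e1]
    rcases hr3 with e | e
    · rw [e, show (r + r) % 3 = 2 by omega]
      exact ⟨n10, n21, n20⟩
    · rw [e, show (r + r) % 3 = 1 by omega]
      exact ⟨n20, n21.symm, n10⟩
  have hψ1 : ψ z ≠ 1 := fun e => hz1 (ψ.injective (by rw [e, map_one]))
  have hT3 : Three ψ z := by
    refine ⟨hT, hzsq, hz1, hψz.1, ?_, fun x hx => hfour z (ψ z) x hzsq (hψsq z hzsq) hz1 hψ1 hψz.1.symm hx,
      hcentral, ⟨i, hψ3⟩⟩
    rcases hfour z (ψ z) (ψ (ψ z)) hzsq (hψsq z hzsq) hz1 hψ1 hψz.1.symm (hψsq _ (hψsq z hzsq)) with e | e | e | e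
    · exact absurd (ψ.injective (e.trans (map_one ψ).symm)) hψ1
    · exact absurd e hψz.2.2
    · exact absurd e hψz.2.1
    · exact e
  rcases structure_thm hT3 with ⟨n, x, hn, hc, hcard, hgen⟩ | ⟨a, e, x, y, hrel, hcard⟩
  · refine Or.inl ⟨n, hn, ?_⟩
    letI : CommGroup T := { (inferInstance : Group T) with mul_comm := fun a b => (hc a b).eq }
    have hxo : x ^ 2 ^ n = 1 := by obtain ⟨-, -, -, h'⟩ := hgen 1; exact h'
    haveI : NeZero (2 ^ n) := ⟨pow_ne_zero n (by norm_num)⟩
    let f : Multiplicative (ZMod (2 ^ n) × ZMod (2 ^ n)) →* T :=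
      { toFun := fun p => x ^ p.toAdd.1.val * ψ x ^ p.toAdd.2.val
        map_one' := by simp
        map_mul' := fun p q => by
          have hy : ψ x ^ 2 ^ n = 1 := by rw [← map_pow, hxo, map_one]
          simp only [toAdd_mul, Prod.fst_add, Prod.snd_add, ZMod.val_add, ← pow_eq_pow_mod _ hxo,
            ← pow_eq_pow_mod _ hy, pow_add]
          exact mul_mul_mul_comm _ _ _ _ }
    have hs : Function.Surjective f := by
      intro g
      obtain ⟨i, k, e, -⟩ := hgen g
      refine ⟨Multiplicative.ofAdd ((i : ZMod (2 ^ n)), (k : ZMod (2 ^ n))), ?_⟩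
      have hy : ψ x ^ 2 ^ n = 1 := by rw [← map_pow, hxo, map_one]
      show x ^ ((i : ZMod (2 ^ n))).val * ψ x ^ ((k : ZMod (2 ^ n))).val = g
      rw [ZMod.val_natCast, ZMod.val_natCast, ← pow_eq_pow_mod _ hxo, ← pow_eq_pow_mod _ hy, e]
    refine ⟨(MulEquiv.ofBijective f ((Nat.bijective_iff_surjective_and_card f).2 ⟨hs, ?_⟩)).symm⟩
    rw [hcard, Nat.card_congr Multiplicative.toAdd, Nat.card_prod, Nat.card_zmod, ← mul_pow]
    norm_num
  · refine Or.inr ?_
    obtain ⟨a', e', x', y', hrel', hcard'⟩ := rel_U34 hF P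
    haveI : Finite (P : Subgroup (Cfsg.PSU 3 F 4)) := Nat.finite_of_card_ne_zero (by rw [hcard']; norm_num)
    exact Rel.iso hrel hrel' hcard hcard'

end CfsgLib.Involution.ThreeInvolutions
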