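import Mathlib
import Cfsg.Agent.Lib.Involution.RankTwoSwap
import Cfsg.Agent.Lib.Involution.ThreeInvolutionsMain
import Cfsg.Agent.Lib.Involution.SylowFusionTools
import Cfsg.Agent.Lib.Involution.TwoGroupLifts
import Cfsg.Agent.Lib.TwoGroups.MaximalClass
import Cfsg.Agent.Lib.Fusion.Alperin
import Cfsg.Prelude.Def_CaseTheorems
import Cfsg.Prelude.Def_TwoFusion

/-!
# Alperin's theorem: Sylow 2-subgroups in groups of 2-rank two without isolated involutions
-/

set_option autoImplicit false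

namespace CfsgLib.Involution.RankTwoSylow

open CfsgLib.Involution

variable {G : Type*} [Group G] [Finite G]

omit [Finite G] in
theorem invo {x : G} (hx : orderOf x = 2) : x * x = 1 ∧ x ≠ 1 :=
  ⟨by rw [← pow_two, ← hx, pow_orderOf_eq_one], fun e => by rw [e, orderOf_one] at hx; omega⟩

omit [Finite G] in
theorem ord {x : G} (hx : x * x = 1) (hx1 : x ≠ 1) : orderOf x = 2 :=
  orderOf_eq_prime (by rw [pow_two]; exact hx) hx1

theorem rank_subgroup (h : Cfsg.PRankLE 2 2 G) (H : Subgroup G) : Cfsg.PRankLE 2 2 H := by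
  intro A hA hA2
  rw [← Subgroup.card_map_of_injective (K := A) H.subtype_injective]
  refine h _ inferInstance ?_
  rintro _ ⟨a, ha, rfl⟩
  exact congrArg H.subtype (hA2 a ha)

omit [Finite G] in
/-- In 2-rank two, three commuting involutions lie in a four group. -/
theorem four_of_rank [Finite G] (h : Cfsg.PRankLE 2 2 G) {a b x : G} (ha : a * a = 1) (hb : b * b = 1)
    (hx : x * x = 1) (ha1 : a ≠ 1) (hb1 : b ≠ 1) (hab : a ≠ b)
    (c1 : Commute a b) (c2 : Commute a x) (c3 : Commute b x) :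
    x = 1 ∨ x = a ∨ x = b ∨ x = a * b := by
  classical
  by_contra hno
  push Not at hno
  set s : Set G := {a, b, x} with hs
  have hgen : ∀ p ∈ s, ∀ q ∈ s, Commute p q := by
    intro p hp q hq
    simp only [hs, Set.mem_insert_iff, Set.mem_singleton_iff] at hp hq
    rcases hp with rfl | rfl | rfl <;> rcases hq with rfl | rfl | rfl <;>
      first | exact Commute.refl _ | assumption | exact Commute.symm (by assumption)
  have hle : Subgroup.closure s ≤ Subgroup.centralizer s :=
    (Subgroup.closure_le _).2 fun p hp => Subgroup.mem_centralizer_iff.2 fun q hq => (hgen q hq p hp).eq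
  have hcomm : ∀ p ∈ Subgroup.closure s, ∀ q ∈ Subgroup.closure s, Commute p q := by
    intro p hp q hq
    have h2 : Subgroup.closure s ≤ Subgroup.centralizer ({q} : Set G) :=
      (Subgroup.closure_le _).2 fun t ht => Subgroup.mem_centralizer_singleton_iff.2
        (Subgroup.mem_centralizer_iff.1 (hle hq) t ht)
    exact Subgroup.mem_centralizer_singleton_iff.1 (h2 hp)
  have hsq : ∀ p ∈ Subgroup.closure s, p ^ 2 = 1 := by
    intro p hp
    induction hp using Subgroup.closure_induction with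
    | mem t ht =>
      simp only [hs, Set.mem_insert_iff, Set.mem_singleton_iff] at ht
      rw [pow_two]
      rcases ht with rfl | rfl | rfl <;> assumption
    | one => exact one_pow 2
    | mul p q hp hq hp' hq' => rw [(hcomm p hp q hq).mul_pow, hp', hq', one_mul]
    | inv p _ hp' => rw [inv_pow, hp', inv_one]
  have hA : Nat.card (Subgroup.closure s) ≤ 4 :=
    h _ ⟨⟨fun p q => Subtype.ext (hcomm p p.2 q q.2).eq⟩⟩ hsq
  have hma : a ∈ Subgroup.closure s := Subgroup.subset_closure (Or.inl rfl)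
  have hmb : b ∈ Subgroup.closure s := Subgroup.subset_closure (Or.inr (Or.inl rfl))
  have hmx : x ∈ Subgroup.closure s := Subgroup.subset_closure (Or.inr (Or.inr rfl))
  have hab1 : a * b ≠ 1 := fun e => hab (mul_left_cancel (a := a) (ha.trans e.symm))
  have hne1 : a * b ≠ a := fun e => hb1 (mul_eq_left.1 e)
  have hne2 : a * b ≠ b := fun e => ha1 (mul_eq_right.1 e)
  have hsub : (({1, a, b, a * b, x} : Finset G) : Set G) ⊆ (Subgroup.closure s : Set G) := by
    simp [Set.insert_subset_iff, hma, hmb, hmx, mul_mem hma hmb, one_mem]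
  have h5 := Set.ncard_le_ncard hsub (Set.toFinite _)
  rw [Set.ncard_coe_finset, Finset.card_insert_of_notMem (by simp [ha1.symm, hb1.symm, hab1.symm, hno.1.symm]),
    Finset.card_insert_of_notMem (by simp [hab, hne1.symm, hno.2.1.symm]),
    Finset.card_insert_of_notMem (by simp [hne2.symm, hno.2.2.1.symm]),
    Finset.card_pair hno.2.2.2.symm] at h5
  have e : (Subgroup.closure s : Set G).ncard = Nat.card (Subgroup.closure s) := rfl
  omega

/-- A non-isolated involution of a Sylow subgroup has a conjugate elsewhere in it. -/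
theorem exists_fused (S : Sylow 2 G) (hiso : ∀ z : G, ¬ Cfsg.IsIsolatedInvolution z) {v : G}
    (hv : orderOf v = 2) : ∃ v' ∈ S, v' ≠ v ∧ IsConj v v' := by
  obtain ⟨g, hg, hne⟩ : ∃ g : G, Commute v (g * v * g⁻¹) ∧ g * v * g⁻¹ ≠ v := by
    by_contra hno
    push Not at hno
    exact hiso v ⟨hv, hno⟩
  set w := g * v * g⁻¹
  obtain ⟨hv2, hv1⟩ := invo hv
  have hw2 : w * w = 1 := by
    show g * v * g⁻¹ * (g * v * g⁻¹) = 1
    rw [show g * v * g⁻¹ * (g * v * g⁻¹) = g * (v * v) * g⁻¹ by group, hv2]; group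
  have hP : IsPGroup 2 (TwoGroupLifts.fourGroup v w hv2 hw2 hg.eq) := by
    rintro ⟨p, hp⟩
    refine ⟨1, Subtype.ext ?_⟩
    rw [pow_one, Subgroup.coe_pow, Subgroup.coe_one, pow_two]
    have hvw : v * w * (v * w) = 1 := by
      rw [mul_assoc, ← mul_assoc w v w, ← hg.eq, mul_assoc v w w, hw2, mul_one, hv2]
    rcases TwoGroupLifts.mem_fourGroup.1 hp with rfl | rfl | rfl | rfl
    exacts [one_mul 1, hv2, hw2, hvw]
  obtain ⟨l, -, hl⟩ := SylowFusionTools.exists_centralizing_conj_into S (K := ⊤) le_top hP le_top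
  have h1 := hl v (TwoGroupLifts.mem_fourGroup.2 (Or.inr (Or.inl rfl)))
  have h2 := hl w (TwoGroupLifts.mem_fourGroup.2 (Or.inr (Or.inr (Or.inl rfl))))
  by_cases he : l * v * l⁻¹ = v
  · refine ⟨_, h2, fun e => hne (SylowFusionTools.conj_inj (g := l) (e.trans he.symm)), ?_⟩
    exact isConj_iff.2 ⟨l * g, by simp [w, mul_assoc]⟩
  · exact ⟨_, h1, he, isConj_iff.2 ⟨l, rfl⟩⟩

/-- Conjugation by `n` permutes `a, b, c` cyclically. -/
def Cyc (a b c n : G) : Prop :=
  n * a * n⁻¹ = b ∧ n * b * n⁻¹ = c ∧ n * c * n⁻¹ = a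

omit [Finite G] in
/-- Elements moving the three points give a three-cycle. -/
theorem exists_cycle (H : Subgroup G) {a b c f g h : G} (hab : a ≠ b) (hac : a ≠ c) (hbc : b ≠ c)
    (hH : ∀ n ∈ H, ∀ x, (x = a ∨ x = b ∨ x = c) →
      n * x * n⁻¹ = a ∨ n * x * n⁻¹ = b ∨ n * x * n⁻¹ = c)
    (hf : f ∈ H) (hfa : f * a * f⁻¹ ≠ a) (hg : g ∈ H) (hgb : g * b * g⁻¹ ≠ b)
    (hh : h ∈ H) (hhc : h * c * h⁻¹ ≠ c) :
    ∃ n ∈ H, Cyc a b c n ∨ Cyc a c b n := by
  have hval : ∀ n ∈ H, (n * a * n⁻¹ = a ∨ n * a * n⁻¹ = b ∨ n * a * n⁻¹ = c) ∧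
      (n * b * n⁻¹ = a ∨ n * b * n⁻¹ = b ∨ n * b * n⁻¹ = c) ∧
      (n * c * n⁻¹ = a ∨ n * c * n⁻¹ = b ∨ n * c * n⁻¹ = c) := fun n hn =>
    ⟨hH n hn a (Or.inl rfl), hH n hn b (Or.inr (Or.inl rfl)), hH n hn c (Or.inr (Or.inr rfl))⟩
  have hinj : ∀ n x y : G, n * x * n⁻¹ = n * y * n⁻¹ → x = y := fun n x y e =>
    mul_left_cancel (mul_right_cancel e)
  have hcomp : ∀ m n x : G, m * n * x * (m * n)⁻¹ = m * (n * x * n⁻¹) * m⁻¹ := fun m n x => by group
  obtain ⟨fa, fb, fc⟩ := hval f hf
  rcases fa with fa | fa | fa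
  · exact absurd fa hfa
  · rcases fc with fc | fc | fc
    · exact ⟨f, hf, Or.inl ⟨fa, (fb.resolve_left fun e => hbc (hinj f b c (e.trans fc.symm))).resolve_left
        fun e => hab (hinj f a b (fa.trans e.symm)), fc⟩⟩
    · exact absurd (hinj f a c (fa.trans fc.symm)) hac
    · have fb' : f * b * f⁻¹ = a := by
        rcases fb with e | e | e
        · exact e
        · exact absurd (hinj f a b (fa.trans e.symm)) hab
        · exact absurd (hinj f b c (e.trans fc.symm)) hbc
      obtain ⟨ha', hb', hc'⟩ := hval h hh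
      rcases hc' with e | e | e
      · rcases hb' with e2 | e2 | e2
        · exact absurd (hinj h b c (e2.trans e.symm)) hbc
        · rcases ha' with e3 | e3 | e3
          · exact absurd (hinj h a c (e3.trans e.symm)) hac
          · exact absurd (hinj h a b (e3.trans e2.symm)) hab
          · exact ⟨f * h, mul_mem hf hh, Or.inr
              ⟨by rw [hcomp, e3, fc], by rw [hcomp, e, fa], by rw [hcomp, e2, fb']⟩⟩
        · refine ⟨h, hh, Or.inl ⟨?_, e2, e⟩⟩
          rcases ha' with e3 | e3 | e3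
          · exact absurd (hinj h a c (e3.trans e.symm)) hac
          · exact e3
          · exact absurd (hinj h a b (e3.trans e2.symm)) hab
      · rcases ha' with e3 | e3 | e3
        · rcases hb' with e2 | e2 | e2
          · exact absurd (hinj h a b (e3.trans e2.symm)) hab
          · exact absurd (hinj h b c (e2.trans e.symm)) hbc
          · exact ⟨f * h, mul_mem hf hh, Or.inl
              ⟨by rw [hcomp, e3, fa], by rw [hcomp, e2, fc], by rw [hcomp, e, fb']⟩⟩
        · exact absurd (hinj h a c (e3.trans e.symm)) hac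
        · refine ⟨h, hh, Or.inr ⟨e3, e, ?_⟩⟩
          rcases hb' with e2 | e2 | e2
          · exact e2
          · exact absurd (hinj h b c (e2.trans e.symm)) hbc
          · exact absurd (hinj h a b (e3.trans e2.symm)) hab
      · exact absurd e hhc
  · rcases fb with fb | fb | fb
    · refine ⟨f, hf, Or.inr ⟨fa, ?_, fb⟩⟩
      rcases fc with e | e | e
      · exact absurd (hinj f b c (fb.trans e.symm)) hbc
      · exact e
      · exact absurd (hinj f a c (fa.trans e.symm)) hac
    · have fc' : f * c * f⁻¹ = a := by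
        rcases fc with e | e | e
        · exact e
        · exact absurd (hinj f b c (fb.trans e.symm)) hbc
        · exact absurd (hinj f a c (fa.trans e.symm)) hac
      obtain ⟨ha', hb', hc'⟩ := hval g hg
      rcases hb' with e | e | e
      · rcases hc' with e2 | e2 | e2
        · exact absurd (hinj g b c (e.trans e2.symm)) hbc
        · refine ⟨g, hg, Or.inr ⟨?_, e2, e⟩⟩
          rcases ha' with e3 | e3 | e3
          · exact absurd (hinj g a b (e3.trans e.symm)) hab
          · exact absurd (hinj g a c (e3.trans e2.symm)) hac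
          · exact e3
        · rcases ha' with e3 | e3 | e3
          · exact absurd (hinj g a b (e3.trans e.symm)) hab
          · exact ⟨f * g, mul_mem hf hg, Or.inl
              ⟨by rw [hcomp, e3, fb], by rw [hcomp, e, fa], by rw [hcomp, e2, fc']⟩⟩
          · exact absurd (hinj g a c (e3.trans e2.symm)) hac
      · exact absurd e hgb
      · rcases ha' with e3 | e3 | e3
        · rcases hc' with e2 | e2 | e2
          · exact absurd (hinj g a c (e3.trans e2.symm)) hac
          · exact ⟨f * g, mul_mem hf hg, Or.inr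
              ⟨by rw [hcomp, e3, fa], by rw [hcomp, e2, fb], by rw [hcomp, e, fc']⟩⟩
          · exact absurd (hinj g b c (e.trans e2.symm)) hbc
        · refine ⟨g, hg, Or.inl ⟨e3, e, ?_⟩⟩
          rcases hc' with e2 | e2 | e2
          · exact e2
          · exact absurd (hinj g a c (e3.trans e2.symm)) hac
          · exact absurd (hinj g b c (e.trans e2.symm)) hbc
        · exact absurd (hinj g a b (e3.trans e.symm)) hab
    · exact absurd (hinj f a b (fa.trans fb.symm)) hab

/-- Conjugation by an element normalising `R`, as an automorphism of `R`. -/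
def conjAut (R : Subgroup G) {n : G} (hn : n ∈ Subgroup.normalizer (R : Set G)) : MulAut R where
  toFun r := ⟨n * r * n⁻¹, (Subgroup.mem_normalizer_iff.1 hn r).1 r.2⟩
  invFun r := ⟨n⁻¹ * r * n⁻¹⁻¹, (Subgroup.mem_normalizer_iff.1 (inv_mem hn) r).1 r.2⟩
  left_inv r := Subtype.ext (by simp [mul_assoc])
  right_inv r := Subtype.ext (by simp [mul_assoc])
  map_mul' r r' := Subtype.ext (by simp [mul_assoc])

omit [Finite G] in
theorem conjAut_apply (R : Subgroup G) {n : G} (hn : n ∈ Subgroup.normalizer (R : Set G)) (r : R) :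
    (conjAut R hn r : G) = n * r * n⁻¹ := rfl

omit [Finite G] in
/-- A three-cycle permutes the involutions transitively. -/
theorem trans_of_cyc (R : Subgroup G) {a b c n : G} (hn : n ∈ Subgroup.normalizer (R : Set G))
    (hcyc : Cyc a b c n) (hall : ∀ x ∈ R, orderOf x = 2 → x = a ∨ x = b ∨ x = c) :
    ∀ s t : R, orderOf s = 2 → orderOf t = 2 → ∃ k : ℕ, ((conjAut R hn) ^ k) s = t := by
  set φ := conjAut R hn
  obtain ⟨h1, h2, h3⟩ := hcyc
  intro s t hs ht
  have e1 : ∀ r : R, ((φ ^ 1) r : G) = n * r * n⁻¹ := fun r => by rw [pow_one]; rfl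
  have e2 : ∀ r : R, ((φ ^ 2) r : G) = n * (n * r * n⁻¹) * n⁻¹ := fun r => by
    rw [pow_two, MulAut.mul_apply]; rfl
  rcases hall s s.2 (by rw [Subgroup.orderOf_coe]; exact hs) with es | es | es <;>
    rcases hall t t.2 (by rw [Subgroup.orderOf_coe]; exact ht) with et | et | et
  · exact ⟨0, Subtype.ext (by rw [pow_zero]; exact es.trans et.symm)⟩
  · exact ⟨1, Subtype.ext (by rw [e1, es, h1, et])⟩
  · exact ⟨2, Subtype.ext (by rw [e2, es, h1, h2, et])⟩
  · exact ⟨2, Subtype.ext (by rw [e2, es, h2, h3, et])⟩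
  · exact ⟨0, Subtype.ext (by rw [pow_zero]; exact es.trans et.symm)⟩
  · exact ⟨1, Subtype.ext (by rw [e1, es, h2, et])⟩
  · exact ⟨1, Subtype.ext (by rw [e1, es, h3, et])⟩
  · exact ⟨2, Subtype.ext (by rw [e2, es, h3, h1, et])⟩
  · exact ⟨0, Subtype.ext (by rw [pow_zero]; exact es.trans et.symm)⟩

omit [Finite G] in
theorem rank_not_one (R : Subgroup G) {a b : G} (haR : a ∈ R) (hbR : b ∈ R) (ha : a * a = 1)
    (hb : b * b = 1) (ha1 : a ≠ 1) (hb1 : b ≠ 1) (hab : a ≠ b) (hc : Commute a b) :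
    ¬ Cfsg.PRankLE 2 1 R := by
  intro h
  have hk := TwoGroupLifts.isKleinFour_of_four (T := TwoGroupLifts.fourGroup a b ha hb hc.eq) ha1 hb1 hab
    ha hb hc.eq fun g => TwoGroupLifts.mem_fourGroup
  have hle : TwoGroupLifts.fourGroup a b ha hb hc.eq ≤ R := fun g hg => by
    rcases TwoGroupLifts.mem_fourGroup.1 hg with rfl | rfl | rfl | rfl
    exacts [one_mem _, haR, hbR, mul_mem haR hbR]
  have h4 := h ((TwoGroupLifts.fourGroup a b ha hb hc.eq).subgroupOf R)
    ⟨⟨fun p q => Subtype.ext (Subtype.ext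
      (TwoGroupLifts.commute_of_isKleinFour hk p.2 q.2))⟩⟩
    (fun p hp => Subtype.ext (by
      rw [Subgroup.coe_pow, Subgroup.coe_one, pow_two]
      exact TwoGroupLifts.mul_self_of_isKleinFour hk hp))
  rw [Nat.card_congr (Subgroup.subgroupOfEquivOfLe hle).toEquiv, hk.card_four] at h4
  norm_num at h4

/-- A 2-group of 2-rank two with an involution whose centraliser has order four. -/
theorem maximal_class {S : Type*} [Group S] [Finite S] (hS : IsPGroup 2 S) {u : S}
    (hu : orderOf u = 2) (hC : Nat.card (Subgroup.centralizer ({u} : Set S)) = 4)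
    (huc : u ∉ Subgroup.center S)
    (hfour : ∃ a b : S, a * a = 1 ∧ b * b = 1 ∧ a ≠ 1 ∧ b ≠ 1 ∧ a ≠ b) :
    (∃ m : ℕ, 2 ≤ m ∧ Nonempty (S ≃* DihedralGroup m)) ∨ Cfsg.IsQuasiDihedral S := by
  haveI : Fact (Nat.Prime 2) := ⟨Nat.prime_two⟩
  obtain ⟨g, hg⟩ : ∃ g, g * u ≠ u * g := by
    by_contra h
    push Not at h
    exact huc (Subgroup.mem_center_iff.2 h)
  obtain ⟨j, hj⟩ := hS.exists_card_eq
  have hj3 : 3 ≤ j := by
    by_contra hlt
    have hne : Subgroup.centralizer ({u} : Set S) ≠ ⊤ := fun e =>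
      hg (Subgroup.mem_centralizer_singleton_iff.1 (e ▸ Subgroup.mem_top g))
    apply hne
    apply Subgroup.eq_top_of_card_eq
    have h1 := Subgroup.card_le_card_group (Subgroup.centralizer ({u} : Set S))
    rw [hC, hj] at h1 ⊢
    have h2 : 2 ^ j ≤ 2 ^ 2 := Nat.pow_le_pow_right two_pos (by omega)
    omega
  obtain ⟨n, rfl⟩ : ∃ n, j = n + 3 := ⟨j - 3, by omega⟩
  obtain ⟨C, hCc, hCi⟩ := TwoGroups.MaximalClass.cyclic_max_of_involution_centralizer n S hj u hu hC
  obtain ⟨a, -, ha⟩ := TwoGroups.Classify.exists_generator hCc hCi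
  rw [hj, show n + 3 = n + 2 + 1 from rfl, pow_succ', Nat.mul_right_inj two_ne_zero] at ha
  obtain ⟨b, hb, hcases⟩ := TwoGroups.Classify.classify (k := n + 2) (by omega)
    (hj.trans (by ring_nf)) ha ⟨g, u, hg⟩
  have hnorm : ∀ g : S, g ∈ Subgroup.zpowers a ∨ ∃ i : ℤ, g = b * a ^ i := by
    intro g
    by_cases hga : g ∈ Subgroup.zpowers a
    · exact Or.inl hga
    · have hi : (Subgroup.zpowers a).index = 2 :=
        TwoGroups.CyclicMax.index_zpowers (hj.trans (by ring_nf)) ha
      have h1 : b⁻¹ * g ∈ Subgroup.zpowers a := by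
        rw [Subgroup.mul_mem_iff_of_index_two hi, inv_mem_iff]
        exact ⟨fun h => absurd h hb, fun h => absurd h hga⟩
      obtain ⟨i, hi'⟩ := h1
      exact Or.inr ⟨i, by rw [show a ^ i = b⁻¹ * g from hi', mul_inv_cancel_left]⟩
  have hak : orderOf a = 2 * 2 ^ (n + 1) := by rw [ha, ← pow_succ']
  rcases hcases with ⟨hb2, hba⟩ | ⟨hb2, hba⟩ | ⟨hk, hb2, hba⟩ | ⟨hk, hb2, hba⟩
  · exact Or.inl ⟨2 ^ (n + 2), le_trans (by norm_num : 2 ≤ 2 ^ 2) (Nat.pow_le_pow_right two_pos (by omega)),
      TwoGroups.CyclicMax.dihedral_iso ha (by rw [hj]; ring) hb (by rw [← pow_two]; exact hb2) hba⟩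
  · exfalso
    have hone : ∀ x : S, x * x = 1 → x ≠ 1 → x = a ^ 2 ^ (n + 1) := by
      intro x hx hx1
      rcases hnorm x with h | ⟨i, rfl⟩
      · exact TwoGroups.MaximalClass.involution_eq_pow hak h hx hx1
      · exfalso
        have e : b * a ^ i * (b * a ^ i) = a ^ 2 ^ (n + 2 - 1) := by
          rw [show b * a ^ i * (b * a ^ i) = (b * a ^ i * b⁻¹) * (b * b) * a ^ i by group,
            ← conj_zpow, hba, ← pow_two b, hb2, inv_zpow', ← zpow_natCast, ← zpow_add, ← zpow_add]
          congr 1; ring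
        rw [e, show n + 2 - 1 = n + 1 by omega, ← orderOf_dvd_iff_pow_eq_one, hak] at hx
        have := Nat.le_of_dvd (by positivity) hx
        have : 0 < 2 ^ (n + 1) := by positivity
        omega
    obtain ⟨p, q, hp, hq, hp1, hq1, hpq⟩ := hfour
    exact hpq ((hone p hp hp1).trans (hone q hq hq1).symm)
  · exfalso
    have hsq : a ^ 2 ∈ Subgroup.center S := by
      rw [Subgroup.mem_center_iff]
      intro x
      have hcb : Commute (a ^ 2) b := by
        have h1 : b * a ^ 2 * b⁻¹ = a ^ 2 := by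
          rw [← conj_pow, hba, ← pow_mul, show (1 + 2 ^ (n + 2 - 1)) * 2 = 2 + 2 ^ (n + 2) by
            rw [show n + 2 - 1 = n + 1 by omega]; ring, pow_add, ← ha, pow_orderOf_eq_one, mul_one]
        exact (mul_inv_eq_iff_eq_mul.1 h1).symm
      rcases hnorm x with ⟨i, rfl⟩ | ⟨i, rfl⟩
      · exact (((Commute.refl a).zpow_left i).pow_right 2).eq
      · exact (hcb.mul_right (((Commute.refl a).pow_left 2).zpow_right i)).eq.symm
    have hle : Subgroup.zpowers (a ^ 2) ≤ Subgroup.centralizer ({u} : Set S) := fun x hx =>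
      Subgroup.mem_centralizer_singleton_iff.2
        (Subgroup.mem_center_iff.1 (Subgroup.zpowers_le.2 hsq hx) u).symm
    have hlt : Subgroup.zpowers (a ^ 2) < Subgroup.centralizer ({u} : Set S) :=
      lt_of_le_of_ne hle fun e => huc (Subgroup.zpowers_le.2 hsq
        (e.symm ▸ Subgroup.mem_centralizer_singleton_iff.2 rfl))
    have hlt' := Set.ncard_lt_ncard (show (Subgroup.zpowers (a ^ 2) : Set S) ⊂
      (Subgroup.centralizer ({u} : Set S) : Set S) from hlt) (Set.toFinite _)
    have e1 : (Subgroup.zpowers (a ^ 2) : Set S).ncard = 2 ^ (n + 1) := by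
      show Nat.card (Subgroup.zpowers (a ^ 2)) = _
      rw [Nat.card_zpowers, orderOf_pow_of_dvd two_ne_zero ⟨_, hak⟩, hak,
        Nat.mul_div_cancel_left _ two_pos]
    have e2 : (Subgroup.centralizer ({u} : Set S) : Set S).ncard = 4 := hC
    have : 2 ^ 2 ≤ 2 ^ (n + 1) := Nat.pow_le_pow_right two_pos (by omega)
    omega
  · refine Or.inr ⟨n + 2, hk, hj.trans (by ring_nf), a, b, ha, orderOf_eq_prime hb2 ?_, hba⟩
    rintro rfl
    exact hb (one_mem _)

end CfsgLib.Involution.RankTwoSylow
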