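import Mathlib
import Cfsg.Agent.Lib.Involution.Dihedral

/-!
# Counting involutions and pairs of involutions
-/

namespace CfsgLib.Involution.Count

open CfsgLib.Involution.Dihedral

variable {G : Type*} [Group G] [Finite G]

/-- A group of even order has an odd number of involutions. -/
theorem odd_card_involutions (heven : Even (Nat.card G)) :
    Odd (Nat.card {t : G // orderOf t = 2}) := by
  classical
  haveI := Fintype.ofFinite G
  haveI : Fact (Nat.Prime 2) := ⟨Nat.prime_two⟩
  set σ : Equiv.Perm G := Equiv.inv G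
  have hσ : σ ^ 2 ^ 1 = 1 := by ext x; simp [σ, pow_succ]
  have h1 := Equiv.Perm.card_compl_support_modEq (p := 2) (n := 1) hσ
  have h2 : (σ.supportᶜ : Finset G) = insert 1 ({t : G | orderOf t = 2} : Finset G) := by
    ext x
    simp only [Finset.mem_compl, Equiv.Perm.mem_support, Finset.mem_insert, Finset.mem_filter,
      Finset.mem_univ, true_and, not_not, σ, Equiv.inv_apply]
    constructor
    · intro h
      by_cases hx : x = 1
      · exact Or.inl hx
      · exact Or.inr (orderOf_eq_two (by nth_rewrite 1 [← h]; exact inv_mul_cancel x) hx)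
    · rintro (rfl | h)
      · exact inv_one
      · exact inv_eq h
  rw [h2, Finset.card_insert_of_notMem (by simp), Nat.ModEq] at h1
  rw [Nat.card_eq_fintype_card, Fintype.card_subtype]
  rw [Nat.card_eq_fintype_card, Nat.even_iff] at heven
  rw [Nat.odd_iff]
  omega

omit [Finite G] in
/-- The second entry of a pair of involutions is determined by the first one. -/
theorem pair_snd {x : G} {p : G × G} (h : orderOf p.1 = 2 ∧ orderOf p.2 = 2 ∧ p.1 * p.2 = x) :
    p.2 = p.1 * x := by
  rw [← h.2.2, ← mul_assoc, mul_self h.1, one_mul]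

omit [Finite G] in
theorem pair_inverts {x : G} {p : G × G} (h : orderOf p.1 = 2 ∧ orderOf p.2 = 2 ∧ p.1 * p.2 = x) :
    p.1 * x * p.1⁻¹ = x⁻¹ := by
  rw [← h.2.2]; exact conj_mul_left h.1 h.2.1

omit [Finite G] in
theorem mul_sq_of_inverts {t x : G} (ht : orderOf t = 2) (h : t * x * t⁻¹ = x⁻¹) :
    (t * x) * (t * x) = 1 := by
  rw [mul_inv_eq_iff_eq_mul] at h
  rw [← mul_assoc (t * x), h, mul_assoc x⁻¹ t t, mul_self ht, mul_one, inv_mul_cancel]

/-- Pairs of involutions with product `x` correspond to suitable involutions inverting `x`. -/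
theorem card_pairs (x : G) :
    Nat.card {p : G × G // orderOf p.1 = 2 ∧ orderOf p.2 = 2 ∧ p.1 * p.2 = x} =
      Nat.card {t : G // (orderOf t = 2 ∧ t * x * t⁻¹ = x⁻¹) ∧ t * x ≠ 1} := by
  refine Nat.card_congr
    { toFun := fun p => ⟨p.1.1, ⟨p.2.1, pair_inverts p.2⟩, by
        rw [← pair_snd p.2]; exact ne_one p.2.2.1⟩
      invFun := fun t => ⟨(t.1, t.1 * x), t.2.1.1,
        orderOf_eq_two (mul_sq_of_inverts t.2.1.1 t.2.1.2) t.2.2,
        by rw [← mul_assoc, mul_self t.2.1.1, one_mul]⟩
      left_inv := fun p => Subtype.ext (Prod.ext rfl (pair_snd p.2).symm)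
      right_inv := fun t => rfl }

omit [Finite G] in
theorem card_inverting (x : G) (hreal : IsConj x x⁻¹) :
    Nat.card {g : G // g * x * g⁻¹ = x⁻¹} =
      Nat.card (Subgroup.centralizer ({x} : Set G)) := by
  obtain ⟨c, hc⟩ := isConj_iff.1 hreal
  refine Nat.card_congr
    { toFun := fun g => ⟨c⁻¹ * g.1, Subgroup.mem_centralizer_singleton_iff.2 ?_⟩
      invFun := fun k => ⟨c * k.1, ?_⟩
      left_inv := fun g => by simp
      right_inv := fun g => by simp }
  · have h : (g : G) * x = c * x * c⁻¹ * g := mul_inv_eq_iff_eq_mul.1 (g.2.trans hc.symm)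
    rw [mul_assoc, h]; group
  · have h := Subgroup.mem_centralizer_singleton_iff.1 k.2
    rw [mul_inv_rev, mul_assoc c, h]
    rw [← hc]; group

theorem card_pairs_le (x : G) :
    Nat.card {p : G × G // orderOf p.1 = 2 ∧ orderOf p.2 = 2 ∧ p.1 * p.2 = x} ≤
      Nat.card (Subgroup.centralizer ({x} : Set G)) := by
  rw [card_pairs]
  by_cases hreal : IsConj x x⁻¹
  · rw [← card_inverting x hreal]
    exact Nat.card_le_card_of_injective (fun t => ⟨t.1, t.2.1.2⟩)
      (fun a b hab => Subtype.ext (Subtype.mk.inj hab))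
  · haveI : IsEmpty {t : G // (orderOf t = 2 ∧ t * x * t⁻¹ = x⁻¹) ∧ t * x ≠ 1} :=
      ⟨fun t => hreal (isConj_iff.2 ⟨_, t.2.1.2⟩)⟩
    simp

theorem card_pairs_involution {x : G} (hx : orderOf x = 2) :
    Nat.card {p : G × G // orderOf p.1 = 2 ∧ orderOf p.2 = 2 ∧ p.1 * p.2 = x} + 1 =
      Nat.card {t : G // orderOf t = 2 ∧ Commute t x} := by
  classical
  haveI := Fintype.ofFinite G
  rw [card_pairs, Nat.card_eq_fintype_card, Nat.card_eq_fintype_card, Fintype.card_subtype,
    Fintype.card_subtype]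
  have : ({t : G | orderOf t = 2 ∧ Commute t x} : Finset G) =
      insert x ({t : G | (orderOf t = 2 ∧ t * x * t⁻¹ = x⁻¹) ∧ t * x ≠ 1} : Finset G) := by
    ext t
    simp only [Finset.mem_filter, Finset.mem_univ, true_and, Finset.mem_insert,
      inv_eq hx, mul_inv_eq_iff_eq_mul, commute_iff_eq]
    constructor
    · rintro ⟨ht, hc⟩
      by_cases htx : t = x
      · exact Or.inl htx
      · refine Or.inr ⟨⟨ht, hc⟩, fun h => htx ?_⟩
        rw [mul_eq_one_iff_eq_inv, inv_eq hx] at h; exact h
    · rintro (rfl | ⟨h, -⟩)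
      · exact ⟨hx, rfl⟩
      · exact h
  rw [this, Finset.card_insert_of_notMem]
  simp [mul_self hx]

/-- Orbit-stabiliser for a conjugacy class. -/
theorem card_eq_class_mul [Fintype G] (s : G) [DecidablePred (IsConj s)] :
    Nat.card G = ({u : G | IsConj s u} : Finset G).card *
      Nat.card (Subgroup.centralizer ({s} : Set G)) := by
  have h := (MulAction.stabilizer (ConjAct G) s).card_mul_index
  rw [MulAction.index_stabilizer] at h
  have h1 : (MulAction.orbit (ConjAct G) s).ncard = ({u : G | IsConj s u} : Finset G).card := by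
    rw [← Set.ncard_coe_finset]
    congr 1
    ext u
    rw [ConjAct.mem_orbit_conjAct]
    rw [isConj_comm]; simp
  have h2 : Nat.card (MulAction.stabilizer (ConjAct G) s) =
      Nat.card (Subgroup.centralizer ({s} : Set G)) := by
    refine Nat.card_congr (Equiv.subtypeEquiv ConjAct.ofConjAct.toEquiv fun g => ?_)
    change g • s = s ↔ _
    rw [ConjAct.smul_def, mul_inv_eq_iff_eq_mul]
    exact Subgroup.mem_centralizer_singleton_iff.symm
  rw [h1, h2, Nat.card_congr (ConjAct.ofConjAct (G := G)).toEquiv] at h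
  rw [← h, mul_comm]

end CfsgLib.Involution.Count
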