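import Mathlib
import Cfsg.Agent.Lib.Involution.Count

/-!
# The Thompson order formula for two classes of involutions
-/

set_option autoImplicit false

namespace CfsgLib.Involution.OrderFormula

open CfsgLib.Involution.Dihedral CfsgLib.Involution.Count

variable {G : Type*} [Group G] [Finite G]

/-- An involution that is a power of `y` is the half power of `y`. -/
theorem eq_half {y x : G} (hx : orderOf x = 2) {m : ℕ} (hm : y ^ m = x) :
    y ^ (orderOf y / 2) = x := by
  have ho := orderOf_pos y
  have h2 : orderOf y ∣ 2 * m := orderOf_dvd_of_pow_eq_one (by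
    rw [two_mul, pow_add, hm]; exact mul_self hx)
  have h1 : ¬ orderOf y ∣ m := fun h => ne_one hx (by rw [← hm]; exact orderOf_dvd_iff_pow_eq_one.1 h)
  obtain ⟨j, hj⟩ := h2
  rcases Nat.even_or_odd j with ⟨i, hi⟩ | ⟨i, hi⟩
  · exact absurd ⟨i, by rw [hi, mul_add] at hj; omega⟩ h1
  · rw [hi, mul_add, mul_one, mul_left_comm] at hj
    obtain ⟨k, hk⟩ : ∃ k, orderOf y = 2 * k := ⟨m - orderOf y * i, by rw [Nat.mul_sub, hj]; omega⟩
    rw [← hm, ← pow_mod_orderOf y m]
    congr 1
    have hm' : m = k + orderOf y * i := by omega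
    rw [hm', Nat.add_mul_mod_self_left, Nat.mod_eq_of_lt (by omega)]
    omega

/-- The pairs `(u, v)`, with `u` and `v` in the classes of `z` and `t`, such that `x` is a power of `u * v`. -/
def Pairs (z t x : G) : Set (G × G) :=
  {p | IsConj z p.1 ∧ IsConj t p.2 ∧ ∃ m : ℕ, (p.1 * p.2) ^ m = x}

theorem card_pairs_conj (z t x g : G) : Nat.card (Pairs z t (g * x * g⁻¹)) = Nat.card (Pairs z t x) := by
  refine (Nat.card_congr (Equiv.subtypeEquiv
    ((MulAut.conj g).toEquiv.prodCongr (MulAut.conj g).toEquiv) fun p => ?_)).symm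
  obtain ⟨u, v⟩ := p
  have key : ∀ a w : G, IsConj a (g * w * g⁻¹) ↔ IsConj a w := fun a w =>
    ⟨fun h => h.trans (isConj_iff.2 ⟨g, rfl⟩).symm, fun h => h.trans (isConj_iff.2 ⟨g, rfl⟩)⟩
  have hmul : g * u * g⁻¹ * (g * v * g⁻¹) = g * (u * v) * g⁻¹ := conj_mul
  simp only [Pairs, Set.mem_setOf_eq, Equiv.prodCongr_apply, Prod.map, MulEquiv.toEquiv_eq_coe,
    EquivLike.coe_coe, MulAut.conj_apply, key, hmul, _root_.conj_pow]
  refine and_congr Iff.rfl (and_congr Iff.rfl (exists_congr fun m => ?_))
  exact ⟨fun h => by rw [h], fun h => mul_left_cancel (mul_right_cancel h)⟩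

/-- **Thompson order formula**: with exactly two classes of involutions, represented by `z` and `t`,
`|G| = a(z) |C(t)| + a(t) |C(z)|`. -/
theorem card_eq (z t : G) (hz : orderOf z = 2) (ht : orderOf t = 2) (hzt : ¬ IsConj z t)
    (hcl : ∀ x : G, orderOf x = 2 → IsConj z x ∨ IsConj t x) :
    Nat.card G = Nat.card (Pairs z t z) * Nat.card (Subgroup.centralizer ({t} : Set G)) +
      Nat.card (Pairs z t t) * Nat.card (Subgroup.centralizer ({z} : Set G)) := by
  classical
  haveI := Fintype.ofFinite G
  set A := ({u : G | IsConj z u} : Finset G) with hA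
  set B := ({u : G | IsConj t u} : Finset G) with hB
  have ho : ∀ a w : G, IsConj a w → orderOf a = 2 → orderOf w = 2 := fun a w h h2 => by
    obtain ⟨c, rfl⟩ := isConj_iff.1 h
    rw [Dihedral.orderOf_conj, h2]
  set half : G × G → G := fun p => (p.1 * p.2) ^ (orderOf (p.1 * p.2) / 2) with hhalf
  have hkey : ∀ p ∈ A ×ˢ B, orderOf (half p) = 2 := fun p hp => by
    simp only [hA, hB, Finset.mem_product, Finset.mem_filter, Finset.mem_univ, true_and] at hp
    exact half_orderOf (even_of_not_isConj (ho _ _ hp.1 hz) (ho _ _ hp.2 ht) fun h =>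
      hzt ((hp.1.trans h).trans hp.2.symm))
  have hmaps : ∀ p ∈ A ×ˢ B, half p ∈ A ∪ B := fun p hp => by
    simp only [hA, hB, Finset.mem_union, Finset.mem_filter, Finset.mem_univ, true_and]
    exact hcl _ (hkey p hp)
  have hfib : ∀ x : G, orderOf x = 2 →
      ((A ×ˢ B).filter fun p => half p = x).card = Nat.card (Pairs z t x) := fun x hx => by
    rw [← Nat.card_eq_finsetCard]
    refine Nat.card_congr (Equiv.subtypeEquivRight fun p => ?_)
    simp only [Finset.mem_filter, Finset.mem_product, hA, hB, Finset.mem_univ, true_and, Pairs,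
      Set.mem_setOf_eq]
    exact ⟨fun h => ⟨h.1.1, h.1.2, _, h.2⟩, fun h => ⟨⟨h.1, h.2.1⟩, eq_half hx h.2.2.choose_spec⟩⟩
  have hdisj : Disjoint A B := by
    rw [Finset.disjoint_left]
    intro u hu hu'
    simp only [hA, hB, Finset.mem_filter, Finset.mem_univ, true_and] at hu hu'
    exact hzt (hu.trans hu'.symm)
  have hsum := Finset.card_eq_sum_card_fiberwise hmaps
  have hconst : ∀ a : G, orderOf a = 2 → ∀ x ∈ ({u : G | IsConj a u} : Finset G),
      ((A ×ˢ B).filter fun p => half p = x).card = Nat.card (Pairs z t a) := fun a ha x hx => by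
    simp only [Finset.mem_filter, Finset.mem_univ, true_and] at hx
    rw [hfib x (ho a x hx ha)]
    obtain ⟨g, rfl⟩ := isConj_iff.1 hx
    exact card_pairs_conj z t a g
  rw [Finset.card_product, Finset.sum_union hdisj, Finset.sum_congr rfl (hconst z hz),
    Finset.sum_congr rfl (hconst t ht), Finset.sum_const, Finset.sum_const, smul_eq_mul,
    smul_eq_mul] at hsum
  have e1 : Nat.card G = A.card * Nat.card (Subgroup.centralizer ({z} : Set G)) := card_eq_class_mul z
  have e2 : Nat.card G = B.card * Nat.card (Subgroup.centralizer ({t} : Set G)) := card_eq_class_mul t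
  refine Nat.eq_of_mul_eq_mul_left (Nat.card_pos (α := G)) ?_
  calc Nat.card G * Nat.card G
      = (A.card * B.card) * (Nat.card (Subgroup.centralizer ({z} : Set G)) *
          Nat.card (Subgroup.centralizer ({t} : Set G))) := by
        conv_lhs => lhs; rw [e1]
        conv_lhs => rhs; rw [e2]
        ring
    _ = _ := by
        rw [hsum]
        conv_rhs => rw [mul_add]; lhs; lhs; rw [e1]
        conv_rhs => rhs; lhs; rw [e2]
        ring

end CfsgLib.Involution.OrderFormula
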