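import Mathlib

/-!
# Element facts in `PSL(3,4)`
-/

set_option autoImplicit false
set_option linter.style.haveILetI false

namespace CfsgLib.Involution.PSL3Four

open Matrix
open scoped MatrixGroups

variable {F : Type*} [Field F] [Fintype F]

local notation "M3" => Matrix (Fin 3) (Fin 3) F

/-- A transvection of `SL(3, F)`. -/
def tv (F : Type*) [Field F] : SL(3, F) :=
  ⟨!![1, 0, 1; 0, 1, 0; 0, 0, 1], by simp [Matrix.det_fin_three]⟩

/-- A scalar of `SL(3, F)`. -/
def smulSL (c : F) (hc : c ^ 3 = 1) : SL(3, F) :=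
  ⟨c • (1 : M3), by rw [Matrix.det_smul, det_one, mul_one, Fintype.card_fin, hc]⟩

omit [Fintype F] in
theorem coe_smulSL (c : F) (hc : c ^ 3 = 1) : (smulSL c hc : M3) = c • 1 := rfl

section
variable (hF : Fintype.card F = 4)
include hF

theorem two_eq_zero : (2 : F) = 0 := by
  have h : ((4 : ℕ) : F) = 0 := by rw [← hF]; exact FiniteField.cast_card_eq_zero F
  have : (2 : F) * 2 = 0 := by norm_num; exact_mod_cast h
  exact mul_self_eq_zero.mp this

theorem cube {a : F} (ha : a ≠ 0) : a ^ 3 = 1 := by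
  have := FiniteField.pow_card_sub_one_eq_one a ha
  rwa [hF] at this

theorem exists_sqrt (a : F) : ∃ l : F, l * l = a := ⟨a * a, by
  rcases eq_or_ne a 0 with rfl | h
  · simp
  · calc a * a * (a * a) = a ^ 3 * a := by ring
      _ = a := by rw [cube hF h, one_mul]⟩

omit hF in
theorem conj_of_columns (g T : SL(3, F)) (M : M3) (hd : M.det = 1)
    (h : (g : M3) * M = M * (T : M3)) : IsConj T g := by
  let m : SL(3, F) := ⟨M, hd⟩
  refine isConj_iff.mpr ⟨m, ?_⟩
  rw [mul_inv_eq_iff_eq_mul]
  exact Subtype.ext h.symm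

/-- Involutions of `SL(3,4)` are transvections, all conjugate. -/
theorem isConj_of_sq_eq_one {g : SL(3, F)} (hg : g * g = 1) (hne : g ≠ 1) :
    IsConj (tv F) g := by
  have h2 := two_eq_zero hF
  set f := Matrix.toLin' ((g : M3) - 1) with hf
  have hff : ∀ v, f (f v) = 0 := fun v => by
    have hm : (g : M3) * (g : M3) = 1 := congrArg Subtype.val hg
    rw [hf, Matrix.toLin'_apply, Matrix.toLin'_apply, Matrix.mulVec_mulVec,
      show ((g : M3) - 1) * ((g : M3) - 1) = (2 : F) • (1 - (g : M3)) by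
        rw [sub_mul, mul_sub, mul_sub, hm, one_mul, mul_one, one_mul, two_smul]; abel,
      h2, zero_smul, Matrix.zero_mulVec]
  obtain ⟨v, hv⟩ : ∃ v, f v ≠ 0 := by
    by_contra h
    push Not at h
    refine hne (Subtype.ext ?_)
    have : f = 0 := LinearMap.ext h
    rw [hf, LinearEquiv.map_eq_zero_iff, sub_eq_zero] at this
    exact this
  set u := f v with hu
  have hle : LinearMap.range f ≤ LinearMap.ker f := by
    rintro _ ⟨w, rfl⟩; exact hff w
  have hk : 2 ≤ Module.finrank F (LinearMap.ker f) := by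
    have h1 := f.finrank_range_add_finrank_ker
    have h2 := Submodule.finrank_mono hle
    rw [Module.finrank_fin_fun] at h1
    omega
  obtain ⟨z, hz, hzu⟩ : ∃ z ∈ LinearMap.ker f, z ∉ Submodule.span F {u} := by
    by_contra h
    push Not at h
    have := Submodule.finrank_mono (h : LinearMap.ker f ≤ Submodule.span F {u})
    rw [finrank_span_singleton hv] at this
    omega
  let M : F → M3 := fun s => !![u 0, s * z 0, v 0; u 1, s * z 1, v 1; u 2, s * z 2, v 2]
  have hM : (M 1).det ≠ 0 := by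
    intro h0
    obtain ⟨c, hc, hcM⟩ := Matrix.exists_mulVec_eq_zero_iff.mpr h0
    have hsum : c 0 • u + c 1 • z + c 2 • v = 0 := by
      funext i
      have := congrFun hcM i
      fin_cases i <;>
        simp [M, Matrix.mulVec, dotProduct, Fin.sum_univ_three] at this ⊢ <;> linear_combination this
    have h3 := congrArg f hsum
    rw [map_add, map_add, map_smul, map_smul, map_smul, map_zero, LinearMap.mem_ker.mp hz, hu, hff,
      smul_zero, smul_zero, zero_add, zero_add, ← hu] at h3
    have hc2 : c 2 = 0 := (smul_eq_zero.mp h3).resolve_right hv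
    rw [hc2, zero_smul, add_zero] at hsum
    have hc1 : c 1 = 0 := by
      by_contra hne1
      refine hzu (Submodule.mem_span_singleton.mpr ⟨-(c 1)⁻¹ * c 0, ?_⟩)
      rw [mul_smul, neg_smul, eq_neg_of_add_eq_zero_left hsum, smul_neg, neg_neg, inv_smul_smul₀ hne1]
    rw [hc1, zero_smul, add_zero] at hsum
    have hc0 : c 0 = 0 := (smul_eq_zero.mp hsum).resolve_right hv
    exact hc (funext fun i => by fin_cases i <;> assumption)
  have hMs : ∀ s, (M s).det = s * (M 1).det := fun s => by
    simp [M, Matrix.det_fin_three]; ring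
  refine conj_of_columns g _ (M (M 1).det⁻¹) (by rw [hMs, inv_mul_cancel₀ hM]) ?_
  have hgf : ∀ w : Fin 3 → F, ∀ i, (g : M3) i 0 * w 0 + (g : M3) i 1 * w 1 + (g : M3) i 2 * w 2 =
      w i + f w i := fun w i => by
    rw [hf, Matrix.toLin'_apply, Matrix.sub_mulVec, Matrix.one_mulVec, Pi.sub_apply, add_sub_cancel]
    simp [Matrix.mulVec, dotProduct, Fin.sum_univ_three]
  have eu : ∀ i, f u i = 0 := fun i => by rw [hu, hff]; rfl
  have ez : ∀ i, f z i = 0 := fun i => by rw [LinearMap.mem_ker.mp hz]; rfl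
  generalize (M 1).det⁻¹ = s
  ext i j
  have e0 := hgf u i
  have e1 := hgf z i
  have e2 := hgf v i
  rw [eu] at e0
  rw [ez] at e1
  rw [← hu] at e2
  fin_cases i <;> fin_cases j <;>
    simp [M, tv, Matrix.mul_apply, Fin.sum_univ_three] at e0 e1 e2 ⊢ <;>
    first | linear_combination e0 | linear_combination s * e1 | linear_combination e2

theorem eq_scalar_of_rank {k : M3} {b : F} (hb : b ≠ 0) (hk3 : k * (k * k) = 1) (hdet : k.det = 1)
    (hker : 2 ≤ Module.finrank F (LinearMap.ker (Matrix.toLin' k - b • 1))) : k = b • 1 := by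
  set f := Matrix.toLin' k - b • 1 with hf
  have hr : Module.finrank F (LinearMap.range f) ≤ 1 := by
    have := f.finrank_range_add_finrank_ker
    rw [Module.finrank_fin_fun] at this
    omega
  obtain ⟨u, hu⟩ := finrank_le_one_iff.mp hr
  choose w hw using fun j => hu ⟨f (Pi.single j 1), LinearMap.mem_range_self _ _⟩
  set W : Fin 3 → F := fun j => b⁻¹ * w j with hW
  set N : M3 := replicateCol Unit (u : Fin 3 → F) * replicateRow Unit W with hN
  have hk : k = b • (1 + N) := by
    ext i j
    have h1 := congrFun (congrArg Subtype.val (hw j)) i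
    simp [hf, Matrix.toLin'_apply, Pi.single_apply] at h1
    simp [hN, hW, Matrix.mul_apply, Matrix.one_apply]
    field_simp
    split_ifs at h1 ⊢ <;> linear_combination -h1
  have hWu : W ⬝ᵥ (u : Fin 3 → F) = 0 := by
    rw [hk, Matrix.det_smul, Fintype.card_fin, cube hF hb, one_mul, hN,
      Matrix.det_one_add_replicateCol_mul_replicateRow] at hdet
    linear_combination hdet
  have hNN : N * N = 0 := by
    rw [hN, Matrix.mul_assoc, ← Matrix.mul_assoc (replicateRow Unit W)]
    have : replicateRow Unit W * replicateCol Unit (u : Fin 3 → F) = 0 := by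
      ext i j
      simpa [Matrix.mul_apply, dotProduct] using hWu
    rw [this, Matrix.zero_mul, Matrix.mul_zero]
  have h3 : (3 : F) = 1 := by linear_combination two_eq_zero hF
  have hN0 : N = 0 := by
    rw [hk] at hk3
    simp only [Matrix.smul_mul, Matrix.mul_smul, smul_smul] at hk3
    rw [show b * b * b = 1 by rw [← cube hF hb]; ring, one_smul,
      show (1 + N) * ((1 + N) * (1 + N)) = 1 + (3 : F) • N by
        simp only [mul_add, add_mul, one_mul, mul_one, hNN, add_zero, mul_zero]
        rw [show (3 : F) = 1 + 1 + 1 by norm_num, add_smul, add_smul, one_smul]; abel,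
      h3, one_smul, add_eq_left] at hk3
    exact hk3
  rw [hk, hN0, add_zero]

theorem cube_one_of_det {k : M3} {c : F} (hc : c ≠ 0) (hk3 : k * (k * k) = c • 1) (hdet : k.det = 1) :
    c = 1 := by
  by_contra hc1
  let v : Fin 3 → F := Pi.single 0 1
  have hv : v ≠ 0 := fun h => one_ne_zero (α := F) (by simpa [v] using congrFun h 0)
  set v1 := k *ᵥ v with hv1
  set v2 := k *ᵥ v1 with hv2
  have hkv2 : k *ᵥ v2 = c • v := by
    rw [hv2, hv1, Matrix.mulVec_mulVec, Matrix.mulVec_mulVec, Matrix.mul_assoc, hk3, Matrix.smul_mulVec, Matrix.one_mulVec]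
  have hno : ∀ l : F, v1 ≠ l • v := by
    intro l hl
    have h2 : v2 = (l * l) • v := by rw [hv2, hl, Matrix.mulVec_smul, ← hv1, hl, smul_smul]
    have h3 : c • v = (l * l * l) • v := by rw [← hkv2, h2, Matrix.mulVec_smul, ← hv1, hl, smul_smul]
    have h4 : c = l * l * l := smul_left_injective F hv h3
    have hl0 : l ≠ 0 := fun e => hc (by rw [h4, e]; ring)
    exact hc1 (by rw [h4, ← cube hF hl0]; ring)
  let C : M3 := !![0, 0, c; 1, 0, 0; 0, 1, 0]
  let M : M3 := !![v 0, v1 0, v2 0; v 1, v1 1, v2 1; v 2, v1 2, v2 2]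
  have hM : M.det ≠ 0 := by
    intro h0
    obtain ⟨d, hd, hdM⟩ := Matrix.exists_mulVec_eq_zero_iff.mpr h0
    have hsum : d 0 • v + d 1 • v1 + d 2 • v2 = 0 := by
      funext i
      have := congrFun hdM i
      fin_cases i <;>
        simp [M, Matrix.mulVec, dotProduct, Fin.sum_univ_three] at this ⊢ <;> linear_combination this
    by_cases h2 : d 2 = 0
    · rw [h2, zero_smul, add_zero] at hsum
      by_cases h1 : d 1 = 0
      · rw [h1, zero_smul, add_zero] at hsum
        have h0' : d 0 = 0 := (smul_eq_zero.mp hsum).resolve_right hv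
        exact hd (funext fun i => by fin_cases i <;> assumption)
      · exact hno (-(d 1)⁻¹ * d 0) (by
          rw [mul_smul, neg_smul, eq_neg_of_add_eq_zero_left hsum, smul_neg, neg_neg, inv_smul_smul₀ h1])
    · obtain ⟨p, r, hpr⟩ : ∃ p r : F, v2 = p • v + r • v1 := ⟨-(d 2)⁻¹ * d 0, -(d 2)⁻¹ * d 1, by
        rw [mul_smul, mul_smul, ← smul_add, neg_smul, eq_neg_of_add_eq_zero_left hsum, smul_neg,
          neg_neg, inv_smul_smul₀ h2]⟩
      have h3 : c • v = (r * p) • v + (p + r * r) • v1 := by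
        rw [← hkv2, hpr, Matrix.mulVec_add, Matrix.mulVec_smul, Matrix.mulVec_smul, ← hv1, ← hv2, hpr,
          smul_add, smul_smul, smul_smul, add_smul]
        abel
      by_cases h4 : p + r * r = 0
      · rw [h4, zero_smul, add_zero] at h3
        have h5 : c = r * p := smul_left_injective F hv h3
        have hr : r ≠ 0 := fun e => hc (by rw [h5, e, zero_mul])
        refine hc1 ?_
        rw [h5, ← cube hF hr]
        linear_combination r * h4 - r ^ 3 * two_eq_zero hF
      · exact hno ((p + r * r)⁻¹ * (c - r * p)) (by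
          rw [mul_smul, sub_smul, h3, add_sub_cancel_left, inv_smul_smul₀ h4])
  have hkM : k * M = M * C := by
    ext i j
    have e0 := congrFun hv1 i
    have e1 := congrFun hv2 i
    have e2 := congrFun hkv2 i
    simp [Matrix.mulVec, dotProduct, Fin.sum_univ_three] at e0 e1 e2
    fin_cases i <;> fin_cases j <;>
      simp [M, C, Matrix.mul_apply, Fin.sum_univ_three] at e0 e1 e2 ⊢ <;>
      first | linear_combination -e0 | linear_combination -e1 | linear_combination e2
  have hd := congrArg Matrix.det hkM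
  rw [Matrix.det_mul, Matrix.det_mul, hdet, one_mul] at hd
  have hC : C.det = c := by simp [C, Matrix.det_fin_three]
  rw [hC] at hd
  exact hc1 (mul_left_cancel₀ hM (hd.symm.trans (mul_one _).symm))

/-- A non-scalar element of order three has no centralising element of order five. -/
theorem eq_one_of_commute {k A : M3} (hk3 : k * (k * k) = 1) (hdet : k.det = 1)
    (hns : ∀ b : F, k ≠ b • 1) (hAk : A * k = k * A) (hA : A ^ 5 = 1) : A = 1 := by
  have h3 : (3 : F) = 1 := by linear_combination two_eq_zero hF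
  have hfix : ∀ b : F, b ≠ 0 → ∀ x : Fin 3 → F, k *ᵥ x = b • x → A *ᵥ x = x := by
    intro b hb x hx
    rcases eq_or_ne x 0 with rfl | hx0
    · rw [Matrix.mulVec_zero]
    have h1 : Module.finrank F (LinearMap.ker (Matrix.toLin' k - b • 1)) ≤ 1 := by
      by_contra h
      exact hns b (eq_scalar_of_rank hF hb hk3 hdet (by omega))
    have hmem : ∀ y : Fin 3 → F, k *ᵥ y = b • y → y ∈ LinearMap.ker (Matrix.toLin' k - b • 1) :=
      fun y hy => by simp [LinearMap.mem_ker, Matrix.toLin'_apply, hy]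
    obtain ⟨⟨u, hu⟩, hspan⟩ := finrank_le_one_iff.mp h1
    obtain ⟨a, ha⟩ := hspan ⟨x, hmem x hx⟩
    obtain ⟨l, hl⟩ := hspan ⟨A *ᵥ x, hmem _ (by
      rw [Matrix.mulVec_mulVec, ← hAk, ← Matrix.mulVec_mulVec, hx, Matrix.mulVec_smul])⟩
    have ha' : a • u = x := congrArg Subtype.val ha
    have hl' : l • u = A *ᵥ x := congrArg Subtype.val hl
    have ha0 : a ≠ 0 := fun e => hx0 (by rw [← ha', e, zero_smul])
    have hAx : A *ᵥ x = (l * a⁻¹) • x := by
      rw [← hl', ← ha', smul_smul, mul_assoc, inv_mul_cancel₀ ha0, mul_one]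
    generalize l * a⁻¹ = m at hAx
    have hpow : ∀ n : ℕ, (A ^ n) *ᵥ x = m ^ n • x := fun n => by
      induction n with
      | zero => rw [pow_zero, pow_zero, Matrix.one_mulVec, one_smul]
      | succ n ih => rw [pow_succ, ← Matrix.mulVec_mulVec, hAx, Matrix.mulVec_smul, ih, smul_smul, pow_succ']
    have h5 := hpow 5
    rw [hA, Matrix.one_mulVec] at h5
    have hm5 : m ^ 5 = 1 := (smul_left_injective F hx0 (by simpa using h5)).symm
    have hm0 : m ≠ 0 := fun e => by simp [e] at hm5
    have hm2 : m ^ 2 = 1 := by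
      calc m ^ 2 = m ^ 3 * m ^ 2 := by rw [cube hF hm0, one_mul]
        _ = 1 := by rw [← hm5]; ring
    have hm : m = 1 := by
      have : (m - 1) * (m - 1) = 0 := by linear_combination hm2 + (1 - m) * two_eq_zero hF
      exact sub_eq_zero.mp (mul_self_eq_zero.mp this)
    rw [hAx, hm, one_smul]
  obtain ⟨w, hw0, hw1⟩ : ∃ w : F, w ≠ 0 ∧ w ≠ 1 := by
    by_contra h
    push Not at h
    have hle : Fintype.card F ≤ 2 := by
      classical
      calc Fintype.card F = (Finset.univ : Finset F).card := rfl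
        _ ≤ ({0, 1} : Finset F).card := Finset.card_le_card fun x _ => by
          rcases eq_or_ne x 0 with hx | hx
          · simp [hx]
          · simp [h x hx]
        _ ≤ 2 := Finset.card_le_two
    omega
  have hw3 := cube hF hw0
  have hsum : 1 + w + w * w = 0 := by
    have : (w - 1) * (1 + w + w * w) = 0 := by linear_combination hw3
    exact (mul_eq_zero.mp this).resolve_left (sub_ne_zero.mpr hw1)
  refine Matrix.toLin'.injective (LinearMap.ext fun x => ?_)
  rw [Matrix.toLin'_apply, Matrix.toLin'_one, LinearMap.id_apply]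
  set x1 := k *ᵥ x with hx1
  set x2 := k *ᵥ x1 with hx2
  have hx3 : k *ᵥ x2 = x := by
    rw [hx2, hx1, Matrix.mulVec_mulVec, Matrix.mulVec_mulVec, Matrix.mul_assoc, hk3, Matrix.one_mulVec]
  let P : F → (Fin 3 → F) := fun b => x + (b * b) • x1 + b • x2
  have hP : ∀ b : F, b ≠ 0 → A *ᵥ P b = P b := by
    intro b hb
    refine hfix b hb _ ?_
    simp only [P, Matrix.mulVec_add, Matrix.mulVec_smul, ← hx1, ← hx2, hx3, smul_add, smul_smul]
    rw [show b * (b * b) = 1 by rw [← cube hF hb]; ring, one_smul]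
    abel
  have hx : x = P 1 + P w + P (w * w) := by
    funext i
    simp only [P, Pi.add_apply, Pi.smul_apply, smul_eq_mul]
    have e4 : w * w * (w * w) = w := by linear_combination w * hw3
    rw [e4]
    linear_combination (-(x1 i) - x2 i) * hsum - x i * two_eq_zero hF
  rw [hx, Matrix.mulVec_add, Matrix.mulVec_add, hP 1 one_ne_zero, hP w hw0, hP _ (mul_ne_zero hw0 hw0)]

/-- Scalars of `SL(3,4)`. -/
theorem mem_center_smul {c : F} (hc : c ≠ 0) :
    smulSL c (cube hF hc) ∈ Subgroup.center (SL(3, F)) := by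
  rw [Matrix.SpecialLinearGroup.mem_center_iff]
  exact ⟨c, by rw [Fintype.card_fin, cube hF hc], by simp [coe_smulSL, Matrix.smul_one_eq_diagonal]⟩

theorem exists_eq_smul {z : SL(3, F)} (hz : z ∈ Subgroup.center (SL(3, F))) :
    ∃ c : F, c ≠ 0 ∧ (z : M3) = c • 1 := by
  obtain ⟨c, hc, hz⟩ := Matrix.SpecialLinearGroup.mem_center_iff.mp hz
  refine ⟨c, fun e => ?_, by rw [← hz]; simp [Matrix.smul_one_eq_diagonal]⟩
  rw [e, zero_pow (by simp)] at hc
  exact zero_ne_one hc

theorem isConj_of_orderOf_two {x : Matrix.ProjectiveSpecialLinearGroup (Fin 3) F} (hx : orderOf x = 2) :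
    IsConj (QuotientGroup.mk (tv F)) x := by
  obtain ⟨g, rfl⟩ := QuotientGroup.mk_surjective x
  have h2 : g ^ 2 ∈ Subgroup.center (SL(3, F)) := by
    rw [← QuotientGroup.eq_one_iff, QuotientGroup.mk_pow, ← hx, pow_orderOf_eq_one]
  obtain ⟨c, hc, hg⟩ := exists_eq_smul hF h2
  obtain ⟨l, hl⟩ := exists_sqrt hF c⁻¹
  have hl0 : l ≠ 0 := fun e => inv_ne_zero hc (by rw [← hl, e, zero_mul])
  set z : SL(3, F) := smulSL l (cube hF hl0)
    with hz
  have hzc : z ∈ Subgroup.center (SL(3, F)) := mem_center_smul hF hl0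
  have hmk : (QuotientGroup.mk (z * g) : Matrix.ProjectiveSpecialLinearGroup (Fin 3) F) = QuotientGroup.mk g := by
    rw [QuotientGroup.mk_mul, (QuotientGroup.eq_one_iff z).mpr hzc, one_mul]
  rw [← hmk]
  refine MonoidHom.map_isConj (QuotientGroup.mk' _) (isConj_of_sq_eq_one hF (Subtype.ext ?_) fun e => ?_)
  · have hg' : (g : M3) * (g : M3) = c • 1 := by
      rw [← hg, pow_two]; rfl
    simp only [hz, coe_smulSL, Matrix.SpecialLinearGroup.coe_mul, Matrix.SpecialLinearGroup.coe_one, Matrix.smul_mul,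
      Matrix.one_mul, Matrix.mul_smul, smul_smul, hg']
    rw [← mul_assoc, hl, inv_mul_cancel₀ hc, one_smul]
  · rw [← hmk, e, QuotientGroup.mk_one, orderOf_one] at hx
    exact absurd hx (by norm_num)

theorem orderOf_ne_fifteen (x : Matrix.ProjectiveSpecialLinearGroup (Fin 3) F) : orderOf x ≠ 15 := by
  intro hx
  have h5 : orderOf (x ^ 3) = 5 := by rw [orderOf_pow' x (by norm_num), hx]; rfl
  have h3 : orderOf (x ^ 5) = 3 := by rw [orderOf_pow' x (by norm_num), hx]; rfl
  obtain ⟨g, rfl⟩ := QuotientGroup.mk_surjective x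
  rw [← QuotientGroup.mk_pow] at h5 h3
  -- normalise the element of order five
  have hA5 : (g ^ 3) ^ 5 ∈ Subgroup.center (SL(3, F)) := by
    rw [← QuotientGroup.eq_one_iff, QuotientGroup.mk_pow, ← h5, pow_orderOf_eq_one]
  obtain ⟨c, hc, hcg⟩ := exists_eq_smul hF hA5
  obtain ⟨l, hl⟩ := exists_sqrt hF c⁻¹
  have hl0 : l ≠ 0 := fun e => inv_ne_zero hc (by rw [← hl, e, zero_mul])
  set z : SL(3, F) := smulSL l (cube hF hl0)
    with hz
  have hzc : z ∈ Subgroup.center (SL(3, F)) := mem_center_smul hF hl0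
  set A := z * g ^ 3 with hA
  have hcom : Commute z (g ^ 3) := (Subgroup.mem_center_iff.mp hzc _).symm
  have hA1 : A ^ 5 = 1 := by
    rw [hA, hcom.mul_pow]
    refine Subtype.ext ?_
    rw [Matrix.SpecialLinearGroup.coe_mul, hcg, Matrix.SpecialLinearGroup.coe_pow, hz, coe_smulSL, smul_pow, one_pow,
      Matrix.smul_mul, Matrix.one_mul, smul_smul, show l ^ 5 = c⁻¹ by
        rw [← hl]; linear_combination l * l * cube hF hl0,
      inv_mul_cancel₀ hc, one_smul]
    rfl
  have hAk : A * g ^ 5 = g ^ 5 * A := by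
    rw [hA, mul_assoc, (Commute.pow_pow_self g 3 5).eq, ← mul_assoc, ← Subgroup.mem_center_iff.mp hzc,
      mul_assoc]
  -- the element of order three
  have hk3 : (g ^ 5) ^ 3 ∈ Subgroup.center (SL(3, F)) := by
    refine (QuotientGroup.eq_one_iff _).mp ?_
    have h := pow_orderOf_eq_one (QuotientGroup.mk (g ^ 5) : Matrix.ProjectiveSpecialLinearGroup (Fin 3) F)
    rw [h3] at h
    rw [QuotientGroup.mk_pow]
    exact h
  obtain ⟨e, he, heg⟩ := exists_eq_smul hF hk3
  set k : M3 := ((g ^ 5 : SL(3, F)) : M3) with hk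
  have hk3' : k * (k * k) = e • 1 := by
    exact ((Matrix.SpecialLinearGroup.coe_pow (g ^ 5) 3).trans (pow_three _)).symm.trans heg
  have he1 := cube_one_of_det hF he hk3' (g ^ 5).2
  rw [he1, one_smul] at hk3'
  have hns : ∀ b : F, k ≠ b • 1 := by
    intro b hb
    have hb0 : b ≠ 0 := fun e' => by
      have := (g ^ 5).2
      rw [← hk, hb, e', zero_smul] at this
      simp at this
    have hmem : g ^ 5 ∈ Subgroup.center (SL(3, F)) := by
      have : g ^ 5 = smulSL b (cube hF hb0) :=
        Subtype.ext (hb.trans (coe_smulSL b _).symm)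
      rw [this]; exact mem_center_smul hF hb0
    rw [(QuotientGroup.eq_one_iff _).mpr hmem, orderOf_one] at h3
    exact absurd h3 (by norm_num)
  have hAeq : (A : M3) = 1 := eq_one_of_commute hF hk3' (g ^ 5).2 hns (congrArg Subtype.val hAk)
    (by rw [← Matrix.SpecialLinearGroup.coe_pow, hA1]; rfl)
  have hA0 : A = 1 := Subtype.ext hAeq
  have : g ^ 3 ∈ Subgroup.center (SL(3, F)) := by
    rw [show g ^ 3 = z⁻¹ from eq_inv_of_mul_eq_one_right hA0]; exact inv_mem hzc
  rw [(QuotientGroup.eq_one_iff _).mpr this, orderOf_one] at h5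
  exact absurd h5 (by norm_num)

end

end CfsgLib.Involution.PSL3Four
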