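import Cfsg.Agent.Lib.Involution.TwoGroupLifts

/-!
# The automizer of a fours group
-/

set_option autoImplicit false

namespace CfsgLib.Involution.KleinAutomizer

variable {G : Type*} [Group G] [Finite G] {U : Subgroup G}

theorem le_normalizer : Subgroup.centralizer (U : Set G) ≤ Subgroup.normalizer (U : Set G) :=
  Subgroup.centralizer_le_normalizer _

/-- The index of the centraliser in the normaliser divides six. -/
theorem relIndex_dvd_six (hU : IsKleinFour U) :
    (Subgroup.centralizer (U : Set G)).relIndex (Subgroup.normalizer (U : Set G)) ∣ 6 := by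
  classical
  haveI := hU
  haveI := Fintype.ofFinite U
  set N := Subgroup.normalizer (U : Set G)
  let Ω := {u : U // u ≠ 1}
  let f : N →* Equiv.Perm Ω :=
    { toFun := fun n =>
        { toFun := fun u => ⟨⟨(n : G) * u.1 * (n : G)⁻¹,
            (Subgroup.mem_normalizer_iff.1 n.2 _).1 u.1.2⟩, fun he => u.2 (Subtype.ext
              (conj_eq_one_iff.1 (congrArg Subtype.val he)))⟩
          invFun := fun u => ⟨⟨(n : G)⁻¹ * u.1 * (n : G), by
              have := (Subgroup.mem_normalizer_iff.1 (inv_mem n.2) _).1 u.1.2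
              simpa using this⟩, fun he => u.2 (Subtype.ext (by
              have h1 : (n : G)⁻¹ * u.1 * (n : G) = 1 := congrArg Subtype.val he
              calc ((u.1 : U) : G) = (n : G) * ((n : G)⁻¹ * u.1 * (n : G)) * (n : G)⁻¹ := by group
                _ = 1 := by rw [h1]; group))⟩
          left_inv := fun u => Subtype.ext (Subtype.ext (by simp [mul_assoc]))
          right_inv := fun u => Subtype.ext (Subtype.ext (by simp [mul_assoc])) }
      map_one' := Equiv.ext fun u => Subtype.ext (Subtype.ext (by simp))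
      map_mul' := fun m n => Equiv.ext fun u => Subtype.ext (Subtype.ext (by simp [mul_assoc])) }
  have hker : f.ker = (Subgroup.centralizer (U : Set G)).subgroupOf N := by
    ext n
    rw [MonoidHom.mem_ker, Subgroup.mem_subgroupOf, Subgroup.mem_centralizer_iff]
    constructor
    · intro h u hu
      by_cases hu1 : u = 1
      · simp [hu1]
      have h1 := congrArg (fun w : Equiv.Perm Ω => (((w ⟨⟨u, hu⟩, fun he => hu1 (congrArg Subtype.val he)⟩).1 : U) : G)) h
      exact (mul_inv_eq_iff_eq_mul.1 h1).symm
    · intro h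
      refine Equiv.ext fun u => Subtype.ext (Subtype.ext ?_)
      change (n : G) * u.1 * (n : G)⁻¹ = u.1
      rw [← h _ u.1.2, mul_inv_cancel_right]
  rw [Subgroup.relIndex, ← hker, Subgroup.index_ker]
  refine (Subgroup.card_subgroup_dvd_card _).trans ?_
  have h3 : Fintype.card Ω = 3 := by
    rw [Fintype.card_subtype_compl, Fintype.card_subtype_eq, ← Nat.card_eq_fintype_card,
      IsKleinFour.card_four]
  rw [Nat.card_perm, Nat.card_eq_fintype_card, h3]
  decide

/-- If the normaliser fixes an element of the fours group, the index is at most two. -/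
theorem relIndex_le_two (hU : IsKleinFour U) {z : G} (hzU : z ∈ U) (hz1 : z ≠ 1)
    (hfix : ∀ n ∈ Subgroup.normalizer (U : Set G), n * z * n⁻¹ = z) :
    (Subgroup.centralizer (U : Set G)).relIndex (Subgroup.normalizer (U : Set G)) ≤ 2 := by
  classical
  haveI := hU
  set N := Subgroup.normalizer (U : Set G)
  obtain ⟨w, hwU, hw1, hwz⟩ : ∃ w ∈ U, w ≠ 1 ∧ w ≠ z := by
    by_contra hno
    push Not at hno
    have hsub : (U : Set G) ⊆ (({1, z} : Finset G) : Set G) := by
      intro g hg
      by_cases h1 : g = 1
      · simp [h1]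
      · simp [hno g hg h1]
    have h2 := Set.ncard_le_ncard hsub (Finset.finite_toSet _)
    rw [← Nat.card_coe_set_eq, Set.ncard_coe_finset] at h2
    have := Finset.card_le_two (a := (1 : G)) (b := z)
    simp only [SetLike.coe_sort_coe, IsKleinFour.card_four] at h2
    omega
  have hset : ∀ g ∈ U, g = 1 ∨ g = z ∨ g = w ∨ g = z * w := by
    intro g hg
    haveI := Fintype.ofFinite U
    have hsq := fun x hx => TwoGroupLifts.mul_self_of_isKleinFour (g := x) hU hx
    by_cases h1 : g = 1
    · exact Or.inl h1
    by_cases h2 : g = z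
    · exact Or.inr (Or.inl h2)
    by_cases h3 : g = w
    · exact Or.inr (Or.inr (Or.inl h3))
    refine Or.inr (Or.inr (Or.inr ?_))
    have h := IsKleinFour.eq_mul_of_ne_all (x := (⟨z, hzU⟩ : U)) (y := ⟨w, hwU⟩) (z := ⟨g, hg⟩)
      (fun e => hz1 (congrArg Subtype.val e)) (fun e => hw1 (congrArg Subtype.val e))
      (fun e => hwz (congrArg Subtype.val e).symm) (fun e => h1 (congrArg Subtype.val e))
      (fun e => h2 (congrArg Subtype.val e)) (fun e => h3 (congrArg Subtype.val e))
    exact congrArg Subtype.val h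
  have hcases : ∀ n : N, (n : G) * w * (n : G)⁻¹ = w ∨ (n : G) * w * (n : G)⁻¹ = z * w := by
    intro n
    rcases hset _ ((Subgroup.mem_normalizer_iff.1 n.2 w).1 hwU) with e | e | e | e
    · exact absurd (conj_eq_one_iff.1 e) hw1
    · exfalso
      refine hwz ?_
      have h := hfix n n.2
      exact mul_left_cancel (mul_right_cancel (e.trans h.symm))
    · exact Or.inl e
    · exact Or.inr e
  set C := (Subgroup.centralizer (U : Set G)).subgroupOf N
  have hmem : ∀ n : N, n ∈ C ↔ (n : G) * w * (n : G)⁻¹ = w := by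
    intro n
    rw [Subgroup.mem_subgroupOf, Subgroup.mem_centralizer_iff]
    refine ⟨fun h => by rw [← h w hwU, mul_inv_cancel_right], fun h u hu => ?_⟩
    have hz' := mul_inv_eq_iff_eq_mul.1 (hfix n n.2)
    have hw' := mul_inv_eq_iff_eq_mul.1 h
    rcases hset u hu with rfl | rfl | rfl | rfl
    · simp
    · exact hz'.symm
    · exact hw'.symm
    · rw [mul_assoc, ← hw', ← mul_assoc, ← hz', mul_assoc]
  rw [Subgroup.relIndex]
  change C.index ≤ 2
  by_cases htop : C = ⊤
  · rw [htop, Subgroup.index_top]; omega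
  obtain ⟨g, hg⟩ : ∃ g : N, g ∉ C := by
    by_contra h
    push Not at h
    exact htop (eq_top_iff.2 fun x _ => h x)
  refine le_of_eq (Subgroup.index_eq_two_iff.2 ⟨g, fun x => ?_⟩)
  rw [hmem, hmem]
  rw [hmem] at hg
  have hgw := (hcases g).resolve_left hg
  have e : ((x * g : N) : G) * w * ((x * g : N) : G)⁻¹ = z * ((x : G) * w * (x : G)⁻¹) := by
    push_cast
    calc (x : G) * g * w * ((x : G) * g)⁻¹ = (x : G) * ((g : G) * w * (g : G)⁻¹) * (x : G)⁻¹ := by group
      _ = ((x : G) * z * (x : G)⁻¹) * ((x : G) * w * (x : G)⁻¹) := by rw [hgw]; group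
      _ = _ := by rw [hfix x x.2]
  have hzz : z * z = 1 := TwoGroupLifts.mul_self_of_isKleinFour hU hzU
  rw [xor_iff_not_iff]
  intro hiff
  rcases hcases x with hx | hx
  · have := hiff.2 hx
    rw [e, hx, mul_eq_right] at this
    exact hz1 this
  · have h1 : ((x * g : N) : G) * w * ((x * g : N) : G)⁻¹ = w := by
      rw [e, hx, ← mul_assoc, hzz, one_mul]
    have := hiff.1 h1
    rw [hx, mul_eq_right] at this
    exact hz1 this

/-- A normalising element acting nontrivially with square centralising gives even index. -/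
theorem two_dvd_relIndex {n : G} (hn : n ∈ Subgroup.normalizer (U : Set G))
    (h1 : n ∉ Subgroup.centralizer (U : Set G)) (h2 : n * n ∈ Subgroup.centralizer (U : Set G)) :
    2 ∣ (Subgroup.centralizer (U : Set G)).relIndex (Subgroup.normalizer (U : Set G)) := by
  set N := Subgroup.normalizer (U : Set G)
  set C := (Subgroup.centralizer (U : Set G)).subgroupOf N with hC
  haveI : C.Normal := by
    refine ⟨fun c hc g => ?_⟩
    rw [hC, Subgroup.mem_subgroupOf, Subgroup.mem_centralizer_iff] at hc ⊢
    intro u hu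
    have hu' : (g : G)⁻¹ * u * (g : G) ∈ U := by
      have := (Subgroup.mem_normalizer_iff.1 (inv_mem g.2) u).1 hu
      simpa using this
    push_cast
    calc u * ((g : G) * c * (g : G)⁻¹) = (g : G) * (((g : G)⁻¹ * u * g) * c) * (g : G)⁻¹ := by group
      _ = (g : G) * c * (g : G)⁻¹ * u := by rw [hc _ hu']; group
  have ho : orderOf (QuotientGroup.mk' C ⟨n, hn⟩) = 2 := by
    refine orderOf_eq_prime ?_ ?_
    · rw [← map_pow, QuotientGroup.mk'_apply, QuotientGroup.eq_one_iff, pow_two]; exact h2
    · rw [Ne, QuotientGroup.mk'_apply, QuotientGroup.eq_one_iff]; exact h1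
  rw [Subgroup.relIndex, ← hC, Subgroup.index_eq_card, ← ho]
  exact orderOf_dvd_natCard _

end CfsgLib.Involution.KleinAutomizer
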