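import Mathlib
import Cfsg.Agent.Lib.Fusion.Transfer
import Cfsg.Agent.Lib.Involution.Basic

/-!
# Fusion of involutions in a Klein four Sylow subgroup
-/

namespace CfsgLib.Involution.KleinSylow

open CfsgLib.Involution.Dihedral CfsgLib.Involution.Basic

variable {G : Type*} [Group G] [Finite G]

/-- An element normalising a Sylow 2-subgroup and of 2-power order lies in it. -/
theorem mem_of_normalizes (P : Sylow 2 G) {n : G} {k : ℕ} (hk : orderOf n = 2 ^ k)
    (hn : n ∈ Subgroup.normalizer ((P : Subgroup G) : Set G)) : n ∈ P := by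
  haveI : Fact (Nat.Prime 2) := ⟨Nat.prime_two⟩
  have h := IsPGroup.to_sup_of_normal_left' P.2 (CfsgLib.Involution.Basic.isPGroup_zpowers hk)
    (Subgroup.zpowers_le.2 hn)
  have hm : n ∈ (P : Subgroup G) ⊔ Subgroup.zpowers n :=
    Subgroup.mem_sup_right (Subgroup.mem_zpowers n)
  rwa [P.3 h le_sup_left] at hm

variable (P : Sylow 2 G) (hP : IsKleinFour (P : Subgroup G))

include hP

omit [Finite G] in
theorem comm {x y : G} (hx : x ∈ P) (hy : y ∈ P) : x * y = y * x :=
  congrArg Subtype.val (mul_comm_of_exponent_two hP.exponent_two ⟨x, hx⟩ ⟨y, hy⟩)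

omit [Finite G] in
theorem order_two {x : G} (hx : x ∈ P) (h1 : x ≠ 1) : orderOf x = 2 := by
  refine orderOf_eq_two ?_ h1
  have h := Monoid.pow_exponent_eq_one (⟨x, hx⟩ : (P : Subgroup G))
  rw [hP.exponent_two, pow_two] at h
  exact congrArg Subtype.val h

omit [Finite G] in
theorem exists_cover {a b : G} (ha : a ∈ P) (hb : b ∈ P) (ha1 : a ≠ 1) (hb1 : b ≠ 1)
    (hab : a ≠ b) {x : G} (hx : x ∈ P) (hx1 : x ≠ 1) : x = a ∨ x = b ∨ x = a * b := by
  classical
  haveI : Finite (P : Subgroup G) := Nat.finite_of_card_ne_zero (by rw [hP.card_four]; norm_num)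
  haveI := Fintype.ofFinite (P : Subgroup G)
  by_contra hcon
  push Not at hcon
  obtain ⟨hxa, hxb, hxab⟩ := hcon
  have hab1 : a * b ≠ 1 := fun h => hab (by
    rw [mul_eq_one_iff_eq_inv, inv_eq (order_two P hP hb hb1)] at h; exact h)
  have haab : a ≠ a * b := fun h => hb1 (mul_eq_left.1 h.symm)
  have hbab : b ≠ a * b := fun h => ha1 (mul_eq_right.1 h.symm)
  have h5 : ({⟨1, one_mem _⟩, ⟨a, ha⟩, ⟨b, hb⟩, ⟨a * b, mul_mem ha hb⟩, ⟨x, hx⟩} :
      Finset (P : Subgroup G)).card ≤ 4 :=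
    le_trans (Finset.card_le_univ _) (by rw [← Nat.card_eq_fintype_card, hP.card_four])
  rw [Finset.card_insert_of_notMem, Finset.card_insert_of_notMem, Finset.card_insert_of_notMem,
    Finset.card_pair] at h5
  · omega
  · exact fun h => hxab (congrArg Subtype.val h).symm
  · simp [hbab, Ne.symm hxb]
  · simp [hab, haab, Ne.symm hxa]
  · simp [Ne.symm ha1, Ne.symm hb1, Ne.symm hab1, Ne.symm hx1]

/-- If two involutions of `P` are conjugate then all three are. -/
theorem all_conj {a b : G} (ha : a ∈ P) (hb : b ∈ P) (ha1 : a ≠ 1) (hab : a ≠ b) (h : IsConj a b) :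
    ∀ x ∈ P, x ≠ 1 → IsConj a x := by
  haveI : Fact (Nat.Prime 2) := ⟨Nat.prime_two⟩
  have hb1 : b ≠ 1 := fun e => ha1 (by subst e; exact (isConj_one_left).1 h)
  obtain ⟨g, hg⟩ := isConj_iff.1 h
  have hcen : ∀ {x : G}, x ∈ P → x ∈ Subgroup.centralizer ((P : Subgroup G) : Set G) := fun hx y hy =>
    (comm P hP hy hx)
  obtain ⟨n, hn, hna⟩ := CfsgLib.Fusion.Transfer.burnside_central P (hcen ha) (hcen hb) ⟨g, hg⟩
  have hn' : n ∈ Subgroup.normalizer ((P : Subgroup G) : Set G) := hn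
  have hnb : n * b * n⁻¹ ∈ P := (Subgroup.mem_normalizer_iff.1 hn' b).1 hb
  intro x hx hx1
  rcases exists_cover P hP ha hb ha1 hb1 hab hx hx1 with rfl | rfl | rfl
  · exact IsConj.refl _
  · exact h
  · rcases exists_cover P hP ha hb ha1 hb1 hab hnb (fun e => hb1 (conj_eq_one_iff.1 e)) with e | e | e
    · -- `n` interchanges `a` and `b`; its 2-part then centralises `P`
      exfalso
      obtain ⟨k, m, ⟨j, hj⟩, hkm⟩ := Nat.exists_eq_two_pow_mul_odd (orderOf_pos n).ne'
      have h2 : ∀ i : ℕ, n ^ (2 * i) * a * (n ^ (2 * i))⁻¹ = a := by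
        intro i
        induction i with
        | zero => simp
        | succ i ih =>
          rw [show 2 * (i + 1) = 2 + 2 * i by ring, pow_add, mul_inv_rev]
          calc n ^ 2 * n ^ (2 * i) * a * ((n ^ (2 * i))⁻¹ * (n ^ 2)⁻¹)
              = n ^ 2 * (n ^ (2 * i) * a * (n ^ (2 * i))⁻¹) * (n ^ 2)⁻¹ := by group
            _ = n * (n * a * n⁻¹) * n⁻¹ := by rw [ih, pow_two]; group
            _ = a := by rw [hna, e]
      have hm : n ^ m * a * (n ^ m)⁻¹ = b := by
        rw [hj, pow_succ', mul_inv_rev]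
        calc n * n ^ (2 * j) * a * ((n ^ (2 * j))⁻¹ * n⁻¹)
            = n * (n ^ (2 * j) * a * (n ^ (2 * j))⁻¹) * n⁻¹ := by group
          _ = b := by rw [h2 j, hna]
      have hord : orderOf (n ^ m) = 2 ^ k := by
        rw [orderOf_pow' _ (by omega), hkm, Nat.gcd_eq_right (Dvd.intro_left _ rfl),
          Nat.mul_div_cancel _ (by omega)]
      have := comm P hP (mem_of_normalizes P hord (pow_mem hn' m)) ha
      rw [this, mul_inv_cancel_right] at hm
      exact hab hm
    · exact absurd (show n * b * n⁻¹ = n * a * n⁻¹ by rw [e, hna])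
        fun h => hab (mul_left_cancel (mul_right_cancel h)).symm
    · exact h.trans (isConj_iff.2 ⟨n, e⟩)

theorem centralizes_of_unfused (h : ∀ x ∈ P, ∀ y ∈ P, IsConj x y → x = y) :
    Subgroup.normalizer ((P : Subgroup G) : Set G) ≤
      Subgroup.centralizer ((P : Subgroup G) : Set G) := by
  intro n hn x hx
  exact (mul_inv_eq_iff_eq_mul.1
    (h x hx (n * x * n⁻¹) ((Subgroup.mem_normalizer_iff.1 hn x).1 hx) (isConj_iff.2 ⟨n, rfl⟩)).symm).symm

theorem exists_pair : ∃ a b : G, a ∈ P ∧ b ∈ P ∧ a ≠ 1 ∧ b ≠ 1 ∧ a ≠ b := by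
  classical
  haveI := Fintype.ofFinite (P : Subgroup G)
  obtain ⟨a, ha, b, hb, hab⟩ := Finset.one_lt_card.1
    (show 1 < ((Finset.univ : Finset (P : Subgroup G)).erase 1).card by
      rw [Finset.card_erase_of_mem (Finset.mem_univ _), Finset.card_univ, ← Nat.card_eq_fintype_card,
        hP.card_four]; norm_num)
  exact ⟨a, b, a.2, b.2, fun h => Finset.ne_of_mem_erase ha (Subtype.ext h),
    fun h => Finset.ne_of_mem_erase hb (Subtype.ext h), fun h => hab (Subtype.ext h)⟩

theorem card_classes_dichotomy :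
    ((∀ x ∈ P, ∀ y ∈ P, IsConj x y → x = y) ∧
      Nat.card {C : ConjClasses G // ∃ t : G, orderOf t = 2 ∧ ConjClasses.mk t = C} = 3) ∨
    (¬ (∀ x ∈ P, ∀ y ∈ P, IsConj x y → x = y) ∧
      Nat.card {C : ConjClasses G // ∃ t : G, orderOf t = 2 ∧ ConjClasses.mk t = C} = 1) := by
  classical
  by_cases h : ∀ x ∈ P, ∀ y ∈ P, IsConj x y → x = y
  · left
    refine ⟨h, ?_⟩
    let f : {x : (P : Subgroup G) // x ≠ 1} →
        {C : ConjClasses G // ∃ t : G, orderOf t = 2 ∧ ConjClasses.mk t = C} :=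
      fun x => ⟨_, (x.1 : G), order_two P hP x.1.2 (fun e => x.2 (Subtype.ext e)), rfl⟩
    have hf : Function.Bijective f := by
      constructor
      · intro x y e
        exact Subtype.ext (Subtype.ext (h _ x.1.2 _ y.1.2
          (ConjClasses.mk_eq_mk_iff_isConj.1 (congrArg Subtype.val e))))
      · rintro ⟨_, t, ht, rfl⟩
        obtain ⟨g, hg⟩ := exists_conj_mem P ht
        refine ⟨⟨⟨_, hg⟩, fun e => ne_one ht (conj_eq_one_iff.1 (congrArg Subtype.val e))⟩, ?_⟩
        exact Subtype.ext (ConjClasses.mk_eq_mk_iff_isConj.2 (isConj_iff.2 ⟨g, rfl⟩).symm)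
    rw [← Nat.card_eq_of_bijective f hf]
    haveI := Fintype.ofFinite (P : Subgroup G)
    rw [Nat.card_eq_fintype_card, Fintype.card_subtype_compl, Fintype.card_subtype_eq,
      ← Nat.card_eq_fintype_card, hP.card_four]
  · refine Or.inr ⟨h, ?_⟩
    push Not at h
    obtain ⟨a, ha, b, hb, hc, hab⟩ := h
    have ha1 : a ≠ 1 := fun e => hab (by subst e; exact ((isConj_one_right).1 hc).symm)
    have hall := all_conj P hP ha hb ha1 hab hc
    have key : ∀ t : G, orderOf t = 2 → ConjClasses.mk t = ConjClasses.mk a := by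
      intro t ht
      obtain ⟨g, hg⟩ := exists_conj_mem P ht
      exact ConjClasses.mk_eq_mk_iff_isConj.2 ((isConj_iff.2 ⟨g, rfl⟩).trans
        (hall _ hg (fun e => ne_one ht (conj_eq_one_iff.1 e))).symm)
    rw [Nat.card_eq_one_iff_unique]
    refine ⟨⟨?_⟩, ⟨⟨_, a, order_two P hP ha ha1, rfl⟩⟩⟩
    rintro ⟨_, s, hs, rfl⟩ ⟨_, t, ht, rfl⟩
    exact Subtype.ext ((key s hs).trans (key t ht).symm)

theorem one_or_three :
    Nat.card {C : ConjClasses G // ∃ t : G, orderOf t = 2 ∧ ConjClasses.mk t = C} = 1 ∨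
      Nat.card {C : ConjClasses G // ∃ t : G, orderOf t = 2 ∧ ConjClasses.mk t = C} = 3 := by
  rcases card_classes_dichotomy P hP with ⟨-, h⟩ | ⟨-, h⟩
  · exact Or.inr h
  · exact Or.inl h

theorem three_iff_complement :
    Nat.card {C : ConjClasses G // ∃ t : G, orderOf t = 2 ∧ ConjClasses.mk t = C} = 3 ↔
      ∃ N : Subgroup G, N.Normal ∧ Subgroup.IsComplement' N (P : Subgroup G) := by
  haveI : Fact (Nat.Prime 2) := ⟨Nat.prime_two⟩
  constructor
  · intro h3
    rcases card_classes_dichotomy P hP with ⟨h, -⟩ | ⟨-, h⟩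
    · exact ⟨_, inferInstance,
        MonoidHom.ker_transferSylow_isComplement' P (centralizes_of_unfused P hP h)⟩
    · omega
  · rintro ⟨N, hN, hC⟩
    rcases card_classes_dichotomy P hP with ⟨-, h⟩ | ⟨hne, -⟩
    · exact h
    · refine absurd (fun x hx y hy hxy => ?_) hne
      obtain ⟨g, rfl⟩ := isConj_iff.1 hxy
      obtain ⟨⟨⟨k, hk⟩, ⟨p, hp⟩⟩, hkp, -⟩ := hC.existsUnique g
      simp only at hkp
      have hk' : k ∈ N := hk
      have hp' : p ∈ P := hp
      have h1 : g * x * g⁻¹ * x⁻¹ ∈ N := by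
        have e : g * x * g⁻¹ * x⁻¹ = k * (x * k⁻¹ * x⁻¹) := by
          rw [← hkp, mul_inv_rev, show k * p * x * (p⁻¹ * k⁻¹) = k * (p * x * p⁻¹) * k⁻¹ by group,
            comm P hP hp' hx]
          group
        rw [e]
        exact N.mul_mem hk' (hN.conj_mem _ (N.inv_mem hk') x)
      have h2 : g * x * g⁻¹ * x⁻¹ ∈ (P : Subgroup G) := mul_mem hy (inv_mem hx)
      have h0 := Subgroup.mem_bot.1 ((disjoint_iff.1 hC.disjoint) ▸ Subgroup.mem_inf.2 ⟨h1, h2⟩)
      rw [mul_inv_eq_one] at h0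
      exact h0.symm

end CfsgLib.Involution.KleinSylow
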