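import Mathlib
import Cfsg.Agent.Lib.Involution.SylowTwoType

/-!
# Sylow 2-subgroups of `GL(2,q)`, `q` odd
-/

namespace CfsgLib.Involution.GL2SylowTwo

open Matrix CfsgLib.Involution.SylowTwoType
open scoped QuadraticAlgebra

variable {F : Type*} [Field F]

/-- Diagonal two by two matrices. -/
def dg : Fˣ × Fˣ →* GL (Fin 2) F where
  toFun a :=
    ⟨!![(a.1 : F), 0; 0, (a.2 : F)], !![((a.1⁻¹ : Fˣ) : F), 0; 0, ((a.2⁻¹ : Fˣ) : F)],
      by simp [Matrix.one_fin_two], by simp [Matrix.one_fin_two]⟩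
  map_one' := Units.ext (by simp [Matrix.one_fin_two])
  map_mul' a b := Units.ext (by simp)

theorem dg_injective : Function.Injective (dg (F := F)) := by
  intro a b h
  have h0 := congrArg (fun g : GL (Fin 2) F => (g : Matrix (Fin 2) (Fin 2) F) 0 0) h
  have h1 := congrArg (fun g : GL (Fin 2) F => (g : Matrix (Fin 2) (Fin 2) F) 1 1) h
  simp [dg] at h0 h1
  exact Prod.ext (Units.ext h0) (Units.ext h1)

/-- The swap of the two coordinates. -/
def sw : GL (Fin 2) F :=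
  ⟨!![0, 1; 1, 0], !![0, 1; 1, 0], by simp [Matrix.one_fin_two], by simp [Matrix.one_fin_two]⟩

theorem sw_conj (a b : Fˣ) : sw * dg (a, b) * sw⁻¹ = dg (b, a) := by
  refine mul_inv_eq_iff_eq_mul.2 (Units.ext ?_)
  simp [sw, dg]

theorem orderOf_sw : orderOf (sw : GL (Fin 2) F) = 2 := by
  refine orderOf_eq_prime (Units.ext ?_) fun h => ?_
  · simp [sw, pow_two, Matrix.one_fin_two]
  · have := congrArg (fun g : GL (Fin 2) F => (g : Matrix (Fin 2) (Fin 2) F) 0 0) h
    simp [sw] at this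

theorem orderOf_dg_left (a : Fˣ) : orderOf (dg (a, (1 : Fˣ))) = orderOf a := by
  rw [orderOf_injective dg dg_injective]
  exact orderOf_injective (MonoidHom.inl Fˣ Fˣ) (fun u v h => congrArg Prod.fst h) a

theorem disjoint_dg (a : Fˣ) :
    Subgroup.zpowers (dg (a, (1 : Fˣ))) ⊓ Subgroup.zpowers (dg ((1 : Fˣ), a)) = ⊥ := by
  rw [eq_bot_iff]
  rintro g ⟨⟨i, hi⟩, ⟨j, hj⟩⟩
  have hi' : dg (a, (1 : Fˣ)) ^ i = g := hi
  have hj' : dg ((1 : Fˣ), a) ^ j = g := hj
  have h := hi'.trans hj'.symm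
  rw [← map_zpow, ← map_zpow] at h
  have h2 := congrArg Prod.fst (dg_injective h)
  simp at h2
  rw [Subgroup.mem_bot, ← hi', ← map_zpow]
  simp [h2, Prod.mk_one_one]

theorem exists_unit_orderOf [Finite F] {d : ℕ} (hd : d ∣ Nat.card Fˣ) :
    ∃ a : Fˣ, orderOf a = d := by
  obtain ⟨g, hg⟩ := IsCyclic.exists_ofOrder_eq_natCard (α := Fˣ)
  rw [← hg] at hd
  exact ⟨g ^ (orderOf g / d), orderOf_pow_orderOf_div (orderOf_ne_zero_iff.2 (isOfFinOrder_of_finite g)) hd⟩

theorem exists_two_factor {N : ℕ} (hN : N ≠ 0) : ∃ a m, Odd m ∧ N = 2 ^ a * m := by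
  obtain ⟨a, m, h2, h⟩ := Nat.exists_eq_pow_mul_and_not_dvd hN 2 (by norm_num)
  exact ⟨a, m, Nat.not_even_iff_odd.1 (by rwa [even_iff_two_dvd]), h⟩

theorem card_gl_two [Fintype F] :
    Nat.card (GL (Fin 2) F) =
      (Fintype.card F + 1) * (Fintype.card F - 1) * (Fintype.card F - 1) * Fintype.card F := by
  rw [Matrix.card_GL_field, Fin.prod_univ_two]
  obtain ⟨r, hr⟩ : ∃ r, Fintype.card F = r + 1 :=
    ⟨Fintype.card F - 1, by have := Fintype.card_pos (α := F); omega⟩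
  rw [hr]
  simp only [Fin.val_zero, Fin.val_one, pow_zero, pow_one]
  have h1 : (r + 1) ^ 2 - 1 = (r + 2) * r := by
    rw [Nat.sub_eq_iff_eq_add (Nat.one_le_pow _ _ (by omega))]; ring
  have h2 : (r + 1) ^ 2 - (r + 1) = (r + 1) * r := by
    rw [Nat.sub_eq_iff_eq_add (Nat.le_self_pow (by omega) _)]; ring
  rw [h1, h2, Nat.add_sub_cancel]
  ring

theorem wreathed_of_one_mod_four [Fintype F] (hq : Fintype.card F % 4 = 1) (P : Sylow 2 (GL (Fin 2) F)) :
    Cfsg.IsWreathed (P : Subgroup (GL (Fin 2) F)) := by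
  set q := Fintype.card F with hqd
  have hq1 : 1 < q := Fintype.one_lt_card
  obtain ⟨a, m, hm, ha⟩ := exists_two_factor (N := q - 1) (by omega)
  obtain ⟨c, hc⟩ := hm
  have ha2 : 2 ≤ a := by
    by_contra hlt
    interval_cases a <;> omega
  obtain ⟨d, hd⟩ : ∃ d, q + 1 = 2 * (2 * d + 1) := ⟨q / 4, by omega⟩
  obtain ⟨z, hz⟩ := exists_unit_orderOf (F := F) (d := 2 ^ a) ⟨m, by
    rw [Nat.card_units, Nat.card_eq_fintype_card, ← hqd, ha]⟩
  refine isWreathed_sylow (n := a) (m := (2 * d + 1) * m * m * q) ha2 ?_ ?_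
    (x := dg (z, 1)) (y := dg (1, z)) (z := sw) ?_ ?_ (disjoint_dg z) orderOf_sw (sw_conj z 1) P
  · refine Nat.odd_mul.2 ⟨Nat.odd_mul.2 ⟨Nat.odd_mul.2 ⟨?_, ?_⟩, ?_⟩, Nat.odd_iff.2 (by omega)⟩
    · exact odd_two_mul_add_one d
    · exact ⟨c, hc⟩
    · exact ⟨c, hc⟩
  · rw [card_gl_two, ← hqd, hd, ha, pow_succ, two_mul a, pow_add]; ring
  · rw [orderOf_dg_left, hz]
  · rw [← map_mul, ← map_mul, mul_comm]

section three

/-- The quadratic extension obtained by adjoining a square root of `-1`. -/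
abbrev Ki (F : Type*) [Field F] := QuadraticAlgebra F (-1) 0

/-- The regular matrix representation of `F(i)`. -/
def regMat : Ki F →+* Matrix (Fin 2) (Fin 2) F where
  toFun z := !![z.re, -z.im; z.im, z.re]
  map_one' := by ext i j; fin_cases i <;> fin_cases j <;> simp [Matrix.one_apply]
  map_mul' z w := by ext i j; fin_cases i <;> fin_cases j <;> simp <;> ring
  map_zero' := by ext i j; fin_cases i <;> fin_cases j <;> simp
  map_add' z w := by ext i j; fin_cases i <;> fin_cases j <;> simp <;> ring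

theorem regMat_injective : Function.Injective (regMat (F := F)) := by
  intro z w h
  have h0 := congrArg (fun A : Matrix (Fin 2) (Fin 2) F => A 0 0) h
  have h1 := congrArg (fun A : Matrix (Fin 2) (Fin 2) F => A 1 0) h
  simp [regMat] at h0 h1
  exact QuadraticAlgebra.ext h0 h1

theorem quasiDihedral_of_three_mod_four [Fintype F] (hq : Fintype.card F % 4 = 3)
    (P : Sylow 2 (GL (Fin 2) F)) : Cfsg.IsQuasiDihedral (P : Subgroup (GL (Fin 2) F)) := by
  set q := Fintype.card F with hqd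
  have hns : ¬ IsSquare (-1 : F) := by
    rw [FiniteField.isSquare_neg_one_iff, ← hqd]; omega
  haveI : Fact (∀ r : F, r ^ 2 ≠ -1 + 0 * r) :=
    ⟨fun r hr => hns ⟨r, by rw [← pow_two, hr, zero_mul, add_zero]⟩⟩
  haveI : Finite (Ki F) := Module.finite_of_finite F
  have hK : Nat.card (Ki F) = q ^ 2 := by
    rw [Module.natCard_eq_pow_finrank (K := F), QuadraticAlgebra.finrank_eq_two, Nat.card_eq_fintype_card]
  obtain ⟨b, m, hm, hb⟩ := exists_two_factor (N := q + 1) (by omega)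
  obtain ⟨c, hc⟩ := hm
  have hb2 : 2 ≤ b := by
    by_contra hlt
    interval_cases b <;> omega
  obtain ⟨d, hd⟩ : ∃ d, q - 1 = 2 * (2 * d + 1) := ⟨q / 4, by omega⟩
  have hq2 : q ^ 2 - 1 = 2 ^ (b + 1) * (m * (2 * d + 1)) := by
    obtain ⟨r, hr⟩ : ∃ r, q = r + 1 := ⟨q - 1, by omega⟩
    have h1 : (r + 1) ^ 2 - 1 = (q + 1) * (q - 1) := by
      rw [hr, Nat.add_sub_cancel, Nat.sub_eq_iff_eq_add (Nat.one_le_pow _ _ (by omega))]; ring
    rw [hr, h1, hb, hd, pow_succ]; ring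
  obtain ⟨w, hw⟩ := exists_unit_orderOf (F := Ki F) (d := 2 ^ (b + 1)) ⟨m * (2 * d + 1), by
    rw [Nat.card_units, hK, hq2]⟩
  have hpow : w ^ q = w ^ (2 ^ b - 1) := by
    rw [pow_eq_pow_iff_modEq, hw]
    refine ((Nat.modEq_iff_dvd' ?_).2 ⟨c, ?_⟩).symm
    · have h1 : 2 ^ b ≤ 2 ^ b * m := Nat.le_mul_of_pos_right _ (by omega)
      omega
    · have h1 : 2 ^ b * m = 2 * (2 ^ b * c) + 2 ^ b := by rw [hc]; ring
      have h2 : 0 < 2 ^ b := Nat.two_pow_pos b
      have h3 : 2 ^ (b + 1) * c = 2 * (2 ^ b * c) := by rw [pow_succ]; ring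
      omega
  set y : GL (Fin 2) F := dg (1, -1) with hyd
  set x : GL (Fin 2) F := Units.map (regMat (F := F)).toMonoidHom w with hxd
  refine isQuasiDihedral_sylow (n := b + 1) (m := m * (2 * d + 1) * (2 * d + 1) * q) (by omega) ?_ ?_
    (x := x) (y := y) ?_ ?_ ?_ P
  · refine Nat.odd_mul.2 ⟨Nat.odd_mul.2 ⟨Nat.odd_mul.2 ⟨?_, ?_⟩, ?_⟩, Nat.odd_iff.2 (by omega)⟩
    · exact ⟨c, hc⟩
    · exact odd_two_mul_add_one d
    · exact odd_two_mul_add_one d
  · rw [card_gl_two, ← hqd, hd, hb, pow_succ, pow_succ]; ring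
  · rw [hxd, orderOf_injective _ (Units.map_injective regMat_injective), hw]
  · refine orderOf_eq_prime (by rw [hyd, ← map_pow]; simp [Prod.mk_one_one]) fun h => ?_
    have h1 : (-1 : Fˣ) = 1 := congrArg Prod.snd (dg_injective (h.trans (map_one dg).symm))
    exact hns ⟨1, by simpa using congrArg Units.val h1⟩
  · rw [Nat.add_sub_cancel, hxd, ← map_pow, ← hpow]
    refine mul_inv_eq_iff_eq_mul.2 (Units.ext ?_)
    have hodd : ((-1 : Ki F)) ^ ((q - 1) / 2) = -1 := Odd.neg_one_pow ⟨d, by omega⟩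
    have hi : (QuadraticAlgebra.omega : Ki F) ^ q = -QuadraticAlgebra.omega := by
      have hsq : (QuadraticAlgebra.omega : Ki F) ^ 2 = -1 := by
        rw [pow_two, QuadraticAlgebra.omega_mul_omega_eq_mk]
        ext <;> simp
      rw [show q = 2 * ((q - 1) / 2) + 1 by omega, pow_succ, pow_mul, hsq, hodd, neg_one_mul]
    have hfrob : (w : Ki F) ^ q = ⟨(w : Ki F).re, -(w : Ki F).im⟩ := by
      have h0 : (w : Ki F) = algebraMap F (Ki F) (w : Ki F).re
          + (w : Ki F).im • QuadraticAlgebra.omega := by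
        ext <;> simp
      have h1 : (w : Ki F) ^ q = FiniteField.frobeniusAlgHom F (Ki F) (w : Ki F) := rfl
      rw [h1, h0, map_add, map_smul, AlgHom.commutes]
      change _ + _ • (QuadraticAlgebra.omega ^ q) = _
      rw [hi]
      ext <;> simp
    simp only [Units.val_mul, Units.coe_map, RingHom.toMonoidHom_eq_coe, MonoidHom.coe_coe, hyd]
    rw [Units.val_pow_eq_pow_val, hfrob]
    simp [regMat, dg]

end three

end CfsgLib.Involution.GL2SylowTwo
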