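import Mathlib
import Cfsg.Prelude.Def_CaseTheorems
import Cfsg.Agent.Lib.Coprime.Sylow

/-!
# Subgroups controlling the normalisers of the `p`-subgroups of large rank
-/

set_option autoImplicit false

namespace CfsgLib.Involution.EmbeddedRank

variable {G : Type*} [Group G] {p k : ℕ}

theorem prankLE_iff (K : Subgroup G) : Cfsg.PRankLE p k K ↔
    ∀ A : Subgroup G, A ≤ K → IsMulCommutative A → (∀ a ∈ A, a ^ p = 1) → Nat.card A ≤ p ^ k := by
  constructor
  · intro h A hA hc hp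
    haveI := hc
    have := h (A.subgroupOf K) ⟨⟨fun a b => Subtype.ext (Subtype.ext
      (show ((a : K) : G) * ((b : K) : G) = ((b : K) : G) * ((a : K) : G) from
        congrArg Subtype.val (mul_comm' (⟨((a : K) : G), a.2⟩ : A) ⟨((b : K) : G), b.2⟩)))⟩⟩
      (fun a ha => Subtype.ext (by simpa using hp a ha))
    rwa [Nat.card_congr (Subgroup.subgroupOfEquivOfLe hA).toEquiv] at this
  · intro h A hc hp
    haveI := hc
    rw [Nat.card_congr (A.equivMapOfInjective K.subtype K.subtype_injective).toEquiv]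
    refine h _ (Subgroup.map_subtype_le A) inferInstance ?_
    · rintro _ ⟨a, ha, rfl⟩
      rw [← map_pow, hp a ha, map_one]

theorem prankLE_mono {A K : Subgroup G} (h : A ≤ K) (hK : Cfsg.PRankLE p k K) :
    Cfsg.PRankLE p k A := (prankLE_iff A).2 fun B hB hc hp =>
  (prankLE_iff K).1 hK B (hB.trans h) hc hp

theorem prankLE_conj {K : Subgroup G} (g : G)
    (h : Cfsg.PRankLE p k (K.map (MulAut.conj g).toMonoidHom : Subgroup G)) :
    Cfsg.PRankLE p k K := by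
  rw [prankLE_iff] at h ⊢
  intro A hA hc hp
  rw [Nat.card_congr (A.equivMapOfInjective (MulAut.conj g).toMonoidHom
    (MulAut.conj g).injective).toEquiv]
  haveI := hc
  refine h _ (Subgroup.map_mono hA) ⟨⟨?_⟩⟩ ?_
  · rintro ⟨_, a, ha, rfl⟩ ⟨_, b, hb, rfl⟩
    exact Subtype.ext (by
      simp only [Subgroup.coe_mul]
      rw [← map_mul, ← map_mul, show a * b = b * a from
        congrArg Subtype.val (mul_comm' (⟨a, ha⟩ : A) ⟨b, hb⟩)])
  · rintro _ ⟨a, ha, rfl⟩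
    rw [← map_pow, hp a ha, map_one]

variable [Finite G] [Fact p.Prime]

omit [Finite G] [Fact p.Prime] in
theorem conj_map_map (g h : G) (K : Subgroup G) :
    (K.map (MulAut.conj h).toMonoidHom).map (MulAut.conj g).toMonoidHom =
      K.map (MulAut.conj (g * h)).toMonoidHom := by
  rw [Subgroup.map_map]; congr 1; ext x; simp [mul_assoc]

omit [Finite G] [Fact p.Prime] in
theorem mem_conj_map {g x : G} {K : Subgroup G} :
    x ∈ K.map (MulAut.conj g).toMonoidHom ↔ g⁻¹ * x * g ∈ K := by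
  constructor
  · rintro ⟨y, hy, rfl⟩; simpa [mul_assoc] using hy
  · intro h; exact ⟨_, h, by simp [mul_assoc]⟩

theorem main (hk : 1 ≤ k) (H : Subgroup G) (P : Sylow p ↥H)
    (hP : ¬ Cfsg.PRankLE p (k - 1) ↥(P : Subgroup ↥H)) :
    (∀ X : Subgroup G, X ≤ (P : Subgroup ↥H).map H.subtype → ¬ Cfsg.PRankLE p (k - 1) ↥X →
      Subgroup.normalizer (X : Set G) ≤ H) ↔
    (∀ g : G, g ∉ H → Cfsg.PRankLE p (k - 1) ↥(H ⊓ H.map (MulAut.conj g).toMonoidHom)) := by
  constructor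
  swap
  · intro h X hX hXr g hg
    by_contra hgH
    have hXH : X ≤ H := hX.trans (Subgroup.map_subtype_le _)
    refine hXr (prankLE_mono (le_inf hXH fun x hx => mem_conj_map.2 ?_) (h g hgH))
    exact hXH ((Subgroup.mem_normalizer_iff.1 hg (g⁻¹ * x * g)).2 (by simpa [mul_assoc] using hx))
  intro h g hg
  set P' := (P : Subgroup ↥H).map H.subtype with hP'
  have hP'H : P' ≤ H := Subgroup.map_subtype_le _
  have hP'p : IsPGroup p P' := P.2.map _
  have hP'r : ¬ Cfsg.PRankLE p (k - 1) P' := fun hr => hP fun A hc hA => by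
    haveI := hc
    rw [prankLE_iff] at hr
    rw [Nat.card_congr ((A.equivMapOfInjective _ (P : Subgroup H).subtype_injective).trans
      ((A.map (P : Subgroup H).subtype).equivMapOfInjective _ H.subtype_injective)).toEquiv]
    refine hr _ (Subgroup.map_mono (Subgroup.map_subtype_le A)) ⟨⟨?_⟩⟩ ?_
    · rintro ⟨_, _, ⟨a, ha, rfl⟩, rfl⟩ ⟨_, _, ⟨b, hb, rfl⟩, rfl⟩
      exact Subtype.ext (congrArg (fun w : A => (((w : P) : H) : G)) (mul_comm' (⟨a, ha⟩ : A) ⟨b, hb⟩))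
    · rintro _ ⟨_, ⟨a, ha, rfl⟩, rfl⟩
      rw [← map_pow, ← map_pow, hA a ha, map_one, map_one]
  -- every `p`-subgroup of `H` is conjugate in `H` into `P'`
  have hinto : ∀ D : Subgroup G, D ≤ H → IsPGroup p D →
      ∃ c ∈ H, D.map (MulAut.conj c).toMonoidHom ≤ P' := by
    intro D hD hDp
    obtain ⟨R, hR⟩ := (hDp.of_equiv (Subgroup.subgroupOfEquivOfLe hD).symm).exists_le_sylow
    obtain ⟨c, hc⟩ := MulAction.exists_smul_eq H R P
    refine ⟨c, c.2, ?_⟩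
    rintro _ ⟨x, hx, rfl⟩
    refine ⟨c * ⟨x, hD hx⟩ * c⁻¹, ?_, rfl⟩
    rw [← hc]
    exact ⟨⟨x, hD hx⟩, hR hx, rfl⟩
  have hnorm : ∀ D : Subgroup G, D ≤ H → IsPGroup p D → ¬ Cfsg.PRankLE p (k - 1) D →
      Subgroup.normalizer (D : Set G) ≤ H := by
    intro D hD hDp hDr n hn
    obtain ⟨c, hc, hcD⟩ := hinto D hD hDp
    have h1 := h _ hcD (fun hr => hDr (prankLE_conj c hr))
    have h2 : c * n * c⁻¹ ∈ H := h1 (by
      rw [Subgroup.mem_normalizer_iff_map_conj_eq] at hn ⊢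
      simp only [← MulEquiv.toMonoidHom_eq_coe] at hn ⊢
      rw [conj_map_map, show c * n * c⁻¹ * c = c * n by group, ← conj_map_map]
      exact congrArg (Subgroup.map _) hn)
    rw [show n = c⁻¹ * (c * n * c⁻¹) * c by group]
    exact mul_mem (mul_mem (inv_mem hc) h2) hc
  -- `P'` is a Sylow subgroup of `G`
  obtain ⟨S, hS⟩ := hP'p.exists_le_sylow
  have hPS : P' = S := by
    refine hS.eq_or_lt.resolve_right fun hlt => ?_
    have h1 := CfsgLib.Coprime.lt_normalizer_inf_of_lt S.2 hlt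
    set W := (S : Subgroup G) ⊓ Subgroup.normalizer (P' : Set G)
    have hWH : W ≤ H := inf_le_right.trans (hnorm P' hP'H hP'p hP'r)
    obtain ⟨c, -, hcW⟩ := hinto W hWH (S.2.to_le inf_le_left)
    have h3 := Subgroup.card_le_of_le hcW
    rw [← Nat.card_congr (W.equivMapOfInjective _ (MulAut.conj c).injective).toEquiv] at h3
    exact h1.not_ge (Subgroup.eq_of_le_of_card_ge h1.le h3).ge
  -- Sylow subgroups meeting `H` in large rank lie in `H`
  have hchain : ∀ (m : ℕ) (E : Subgroup G), ¬ Cfsg.PRankLE p (k - 1) E →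
      ∀ (Q Q' : Sylow p G), E ≤ Q → E ≤ Q' → (Q' : Subgroup G) ≤ H →
      Nat.card Q - Nat.card ((Q : Subgroup G) ⊓ Q' : Subgroup G) = m → (Q : Subgroup G) ≤ H := by
    intro m
    induction m using Nat.strong_induction_on with
    | _ m ih =>
    intro E hE Q Q' hEQ hEQ' hQ' hm
    set D := (Q : Subgroup G) ⊓ Q' with hD
    rcases (inf_le_left : D ≤ (Q : Subgroup G)).eq_or_lt with he | hlt
    · rw [← he]; exact inf_le_right.trans hQ'
    have h1 := CfsgLib.Coprime.lt_normalizer_inf_of_lt Q.2 hlt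
    set W := (Q : Subgroup G) ⊓ Subgroup.normalizer (D : Set G)
    have hWH : W ≤ H := inf_le_right.trans (hnorm D (inf_le_right.trans hQ')
      (Q.2.to_le inf_le_left) (fun hr => hE (prankLE_mono (le_inf hEQ hEQ') hr)))
    obtain ⟨c, hc, hcW⟩ := hinto W hWH (Q.2.to_le inf_le_left)
    have hWQ : W ≤ (c⁻¹ • S : Sylow p G) := fun w hw => by
      refine ⟨c * w * c⁻¹, hPS ▸ hcW ⟨w, hw, rfl⟩, ?_⟩
      change c⁻¹ * (c * w * c⁻¹) * c⁻¹⁻¹ = w
      group
    have hQ''H : ((c⁻¹ • S : Sylow p G) : Subgroup G) ≤ H := by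
      rintro _ ⟨s, hs, rfl⟩
      change c⁻¹ * s * c⁻¹⁻¹ ∈ H
      have : s ∈ H := hP'H (hPS.symm ▸ hs)
      exact mul_mem (mul_mem (inv_mem hc) this) (inv_mem (inv_mem hc))
    refine ih _ ?_ E hE Q _ hEQ (((le_inf hEQ hEQ').trans h1.le).trans hWQ) hQ''H rfl
    have h4 : Nat.card W ≤ Nat.card ((Q : Subgroup G) ⊓ (c⁻¹ • S : Sylow p G) : Subgroup G) :=
      Subgroup.card_le_of_le (le_inf inf_le_left hWQ)
    have h5 : Nat.card D < Nat.card W := by
      by_contra hle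
      exact h1.not_ge (Subgroup.eq_of_le_of_card_ge h1.le (not_lt.1 hle)).ge
    have h6 : Nat.card ((Q : Subgroup G) ⊓ (c⁻¹ • S : Sylow p G) : Subgroup G) ≤ Nat.card Q :=
      Subgroup.card_le_of_le inf_le_left
    omega
  by_contra hr
  obtain ⟨E, hE, hEab, hEp, hEc⟩ : ∃ E : Subgroup G, E ≤ H ⊓ H.map (MulAut.conj g).toMonoidHom ∧
      IsMulCommutative E ∧ (∀ a ∈ E, a ^ p = 1) ∧ p ^ (k - 1) < Nat.card E := by
    by_contra hne
    push Not at hne
    exact hr ((prankLE_iff _).2 hne)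
  have hEpg : IsPGroup p E := fun a => ⟨1, Subtype.ext (by simpa using hEp a a.2)⟩
  have hEr : ¬ Cfsg.PRankLE p (k - 1) E := fun hh =>
    absurd ((prankLE_iff E).1 hh E le_rfl hEab hEp) (not_le.2 hEc)
  have hEH : E ≤ H := fun x hx => (Subgroup.mem_inf.1 (hE hx)).1
  have hEgH : E.map (MulAut.conj g⁻¹).toMonoidHom ≤ H := by
    rintro _ ⟨x, hx, rfl⟩
    have := mem_conj_map.1 (Subgroup.mem_inf.1 (hE hx)).2
    simpa using this
  obtain ⟨c₁, hc₁, hc₁E⟩ := hinto E hEH hEpg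
  obtain ⟨c₂, hc₂, hc₂E⟩ := hinto _ hEgH (hEpg.map _)
  -- two Sylow subgroups containing `E`
  have hE1 : E ≤ ((c₁⁻¹ • S : Sylow p G) : Subgroup G) := fun x hx => by
    refine ⟨c₁ * x * c₁⁻¹, hPS ▸ hc₁E ⟨x, hx, rfl⟩, ?_⟩
    change c₁⁻¹ * (c₁ * x * c₁⁻¹) * c₁⁻¹⁻¹ = x
    group
  have hE2 : E ≤ ((g * c₂⁻¹) • S : Sylow p G) := fun x hx => by
    refine ⟨c₂ * (g⁻¹ * x * g) * c₂⁻¹, hPS ▸ hc₂E ⟨g⁻¹ * x * g, ⟨x, hx, by simp⟩, rfl⟩, ?_⟩
    change g * c₂⁻¹ * (c₂ * (g⁻¹ * x * g) * c₂⁻¹) * (g * c₂⁻¹)⁻¹ = x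
    group
  have h1H : ((c₁⁻¹ • S : Sylow p G) : Subgroup G) ≤ H := by
    rintro _ ⟨s, hs, rfl⟩
    exact mul_mem (mul_mem (inv_mem hc₁) (hP'H (hPS.symm ▸ hs))) (inv_mem (inv_mem hc₁))
  have h2H := hchain _ E hEr _ _ hE2 hE1 h1H rfl
  obtain ⟨c, hc, hcQ⟩ := hinto _ h2H ((g * c₂⁻¹) • S : Sylow p G).2
  have hn : c * (g * c₂⁻¹) ∈ Subgroup.normalizer (P' : Set G) := by
    rw [Subgroup.mem_normalizer_iff_map_conj_eq]
    simp only [← MulEquiv.toMonoidHom_eq_coe]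
    rw [← conj_map_map]
    refine Subgroup.eq_of_le_of_card_ge (fun x hx => hcQ ?_) ?_
    · obtain ⟨y, ⟨s, hs, rfl⟩, rfl⟩ := hx
      exact ⟨_, ⟨s, hPS ▸ hs, rfl⟩, rfl⟩
    · rw [← Nat.card_congr (((P'.map (MulAut.conj (g * c₂⁻¹)).toMonoidHom)).equivMapOfInjective
        _ (MulAut.conj c).injective).toEquiv,
        ← Nat.card_congr (P'.equivMapOfInjective _ (MulAut.conj (g * c₂⁻¹)).injective).toEquiv]
  have := hnorm P' hP'H hP'p hP'r hn
  refine hg ?_
  rw [show g = c⁻¹ * (c * (g * c₂⁻¹)) * c₂ by group]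
  exact mul_mem (mul_mem (inv_mem hc) this) hc₂

end CfsgLib.Involution.EmbeddedRank
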