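import Mathlib
import Cfsg.Agent.Lib.Involution.Basic
import Cfsg.Agent.Lib.Involution.Count
import Cfsg.Agent.S0219

/-!
# Brauer–Fowler counting
-/

namespace CfsgLib.Involution.BrauerFowler

open CfsgLib.Involution.Dihedral CfsgLib.Involution.Count

variable {G : Type*} [Group G] [Finite G]

/-- The pairs of involutions, sorted by their product. -/
theorem sum_pairs [Fintype G] [DecidableEq G] :
    Nat.card {t : G // orderOf t = 2} * Nat.card {t : G // orderOf t = 2} =
      Nat.card {t : G // orderOf t = 2} + ∑ x ∈ (Finset.univ : Finset G).erase 1,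
        Nat.card {p : G × G // orderOf p.1 = 2 ∧ orderOf p.2 = 2 ∧ p.1 * p.2 = x} := by
  rw [← Nat.card_prod]
  have h1 : Nat.card {p : G × G // orderOf p.1 = 2 ∧ orderOf p.2 = 2 ∧ p.1 * p.2 = 1} =
      Nat.card {t : G // orderOf t = 2} :=
    Nat.card_congr
      { toFun := fun p => ⟨p.1.1, p.2.1⟩
        invFun := fun t => ⟨(t.1, t.1), t.2, t.2, mul_self t.2⟩
        left_inv := fun p => Subtype.ext (Prod.ext rfl (by
          have h := pair_snd p.2
          rw [mul_one] at h
          exact h.symm))
        right_inv := fun t => rfl }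
  rw [← h1, Finset.add_sum_erase Finset.univ
      (fun x => Nat.card {p : G × G // orderOf p.1 = 2 ∧ orderOf p.2 = 2 ∧ p.1 * p.2 = x})
      (Finset.mem_univ 1), ← Nat.card_sigma]
  exact Nat.card_congr
    { toFun := fun p => ⟨p.1.1 * p.2.1, ⟨(p.1.1, p.2.1), p.1.2, p.2.2, rfl⟩⟩
      invFun := fun s => (⟨s.2.1.1, s.2.2.1⟩, ⟨s.2.1.2, s.2.2.2.1⟩)
      left_inv := fun p => rfl
      right_inv := fun ⟨x, ⟨⟨u, v⟩, hu, hv, huv⟩⟩ => by
        simp only at huv
        subst huv
        rfl }

/-- The basic inequality: if every nontrivial `x` is the product of at most `h` pairs of involutions,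
two fewer when `x` is an involution, then `n * (n + 1) ≤ (|G| - 1) * h`. -/
theorem involutions_bound {h : ℕ}
    (hb : ∀ x : G, x ≠ 1 →
      Nat.card {p : G × G // orderOf p.1 = 2 ∧ orderOf p.2 = 2 ∧ p.1 * p.2 = x} ≤ h)
    (hb2 : ∀ x : G, orderOf x = 2 →
      Nat.card {p : G × G // orderOf p.1 = 2 ∧ orderOf p.2 = 2 ∧ p.1 * p.2 = x} + 2 ≤ h) :
    Nat.card {t : G // orderOf t = 2} * (Nat.card {t : G // orderOf t = 2} + 1) ≤
      (Nat.card G - 1) * h := by
  classical
  haveI := Fintype.ofFinite G
  have hs := sum_pairs (G := G)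
  set n := Nat.card {t : G // orderOf t = 2} with hn
  set E := (Finset.univ : Finset G).erase 1 with hE
  set c := fun x : G => Nat.card {p : G × G // orderOf p.1 = 2 ∧ orderOf p.2 = 2 ∧ p.1 * p.2 = x}
  have h2 : ∑ x ∈ E, (if orderOf x = 2 then 2 else 0) = 2 * n := by
    rw [Finset.sum_ite, Finset.sum_const_zero, add_zero, Finset.sum_const, smul_eq_mul, mul_comm,
      hn, Nat.card_eq_fintype_card, Fintype.card_subtype]
    congr 2
    ext x
    simp only [hE, Finset.mem_filter, Finset.mem_erase, Finset.mem_univ, and_true, true_and]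
    exact ⟨fun h => h.2, fun h => ⟨ne_one h, h⟩⟩
  have hle : ∑ x ∈ E, (c x + if orderOf x = 2 then 2 else 0) ≤ ∑ _x ∈ E, h := by
    refine Finset.sum_le_sum fun x hx => ?_
    split_ifs with hx2
    · exact hb2 x hx2
    · rw [add_zero]; exact hb x (Finset.ne_of_mem_erase hx)
  rw [Finset.sum_add_distrib, h2, Finset.sum_const, smul_eq_mul, hE,
    Finset.card_erase_of_mem (Finset.mem_univ _), Finset.card_univ, ← Nat.card_eq_fintype_card] at hle
  have e : n * (n + 1) = ∑ x ∈ E, c x + 2 * n := by
    rw [Nat.mul_add, mul_one, hs]; ring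
  rw [e]
  exact hle

omit [Finite G] in
theorem centralizer_ne_top {x : G} (hx : x ∉ Subgroup.center G) :
    Subgroup.centralizer ({x} : Set G) ≠ ⊤ := fun h => hx (Subgroup.mem_center_iff.2 fun g =>
  Subgroup.mem_centralizer_singleton_iff.1 (h ▸ Subgroup.mem_top g))

theorem pairs_involution_le {x : G} (hx : orderOf x = 2) :
    Nat.card {p : G × G // orderOf p.1 = 2 ∧ orderOf p.2 = 2 ∧ p.1 * p.2 = x} + 2 ≤
      Nat.card (Subgroup.centralizer ({x} : Set G)) := by
  classical
  haveI := Fintype.ofFinite G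
  have h := card_pairs_involution hx
  have h' : Nat.card {t : G // orderOf t = 2 ∧ Commute t x} <
      Nat.card (Subgroup.centralizer ({x} : Set G)) := by
    rw [Nat.card_eq_fintype_card, Nat.card_eq_fintype_card]
    refine Fintype.card_lt_of_injective_of_notMem
      (fun t => ⟨t.1, Subgroup.mem_centralizer_singleton_iff.2 t.2.2⟩)
      (fun a b hab => Subtype.ext (Subtype.mk.inj hab)) (b := 1) ?_
    rintro ⟨t, ht⟩
    exact ne_one t.2.1 (congrArg Subtype.val ht)
  omega

theorem no_central_involution_sq {x : G} (hno : ∀ t : G, orderOf t = 2 → t ∉ Subgroup.center G)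
    (hx : x ∈ Subgroup.center G) (hx1 : x ≠ 1) :
    Nat.card {p : G × G // orderOf p.1 = 2 ∧ orderOf p.2 = 2 ∧ p.1 * p.2 = x} = 0 := by
  haveI : IsEmpty {p : G × G // orderOf p.1 = 2 ∧ orderOf p.2 = 2 ∧ p.1 * p.2 = x} :=
    ⟨fun p => by
      have h := pair_inverts p.2
      rw [Subgroup.mem_center_iff.1 hx, mul_inv_cancel_right] at h
      exact hno x (orderOf_eq_two (by nth_rewrite 1 [h]; exact inv_mul_cancel x) hx1) hx⟩
  simp

theorem card_involutions_mul (t : G) (ht : orderOf t = 2) :
    Nat.card G ≤ Nat.card {u : G // orderOf u = 2} *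
      Nat.card (Subgroup.centralizer ({t} : Set G)) := by
  classical
  haveI := Fintype.ofFinite G
  rw [card_eq_class_mul t]
  refine Nat.mul_le_mul_right _ ?_
  rw [Nat.card_eq_fintype_card, Fintype.card_subtype]
  refine Finset.card_le_card fun u hu => ?_
  simp only [Finset.mem_filter, Finset.mem_univ, true_and] at hu ⊢
  obtain ⟨g, rfl⟩ := isConj_iff.1 hu
  exact (orderOf_conj g t).trans ht

/-- Brauer–Fowler: a proper subgroup of order more than the cube root. -/
theorem exists_cube (hno : ∀ t : G, orderOf t = 2 → t ∉ Subgroup.center G)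
    (t : G) (ht : orderOf t = 2) :
    ∃ H : Subgroup G, H ≠ ⊤ ∧ Nat.card G < (Nat.card H) ^ 3 := by
  obtain ⟨H, hH, hmax⟩ := Set.Finite.exists_maximalFor (fun H : Subgroup G => Nat.card H)
    {H : Subgroup G | H ≠ ⊤} (Set.toFinite _) ⟨_, centralizer_ne_top (hno t ht)⟩
  simp only [Set.mem_setOf_eq] at hH hmax
  have hle : ∀ x : G, x ∉ Subgroup.center G →
      Nat.card (Subgroup.centralizer ({x} : Set G)) ≤ Nat.card H := by
    intro x hx
    by_contra h
    exact h (hmax (centralizer_ne_top hx) (Nat.le_of_not_le h))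
  have hb := involutions_bound (h := Nat.card H)
    (fun x hx1 => by
      by_cases hc : x ∈ Subgroup.center G
      · rw [no_central_involution_sq hno hc hx1]; exact Nat.zero_le _
      · exact (card_pairs_le x).trans (hle x hc))
    (fun x hx => (pairs_involution_le hx).trans (hle x (hno x hx)))
  refine ⟨H, hH, ?_⟩
  have h1 := card_involutions_mul t ht
  have h2 := hle t (hno t ht)
  generalize Nat.card H = h at hb h2
  generalize Nat.card (Subgroup.centralizer ({t} : Set G)) = c at h1 h2
  generalize Nat.card {u : G // orderOf u = 2} = n at hb h1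
  have hg0 : 0 < Nat.card G := Nat.card_pos
  generalize Nat.card G = g at hb h1 hg0 ⊢
  have hn0 : 0 < n := by rcases n with - | n <;> simp_all
  have h3 : n * n < g * h := by
    have : (g - 1) * h ≤ g * h := Nat.mul_le_mul_right _ (Nat.sub_le _ _)
    nlinarith
  by_contra hcon
  push Not at hcon
  -- `g * g ≤ (n * c)^2 < g * h * h^2 ≤ g * g`
  have h4 : g * g ≤ (n * n) * (h * h) := by
    calc g * g ≤ (n * c) * (n * c) := Nat.mul_le_mul h1 h1
      _ = (n * n) * (c * c) := by ring
      _ ≤ (n * n) * (h * h) := Nat.mul_le_mul_left _ (Nat.mul_le_mul h2 h2)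
  have hh : 0 < h * h := by
    by_contra hh
    simp only [not_lt, nonpos_iff_eq_zero] at hh
    rw [hh, mul_zero] at h4
    nlinarith
  have h5 : (n * n) * (h * h) < (g * h) * (h * h) := Nat.mul_lt_mul_of_pos_right h3 hh
  have h6 : (g * h) * (h * h) = g * h ^ 3 := by ring
  have h7 : g * h ^ 3 ≤ g * g := Nat.mul_le_mul_left _ hcon
  omega

theorem exists_index_two_of_two_odd (h : Nat.card G % 4 = 2) : ∃ H : Subgroup G, H.index = 2 := by
  haveI : Fact (Nat.Prime 2) := ⟨Nat.prime_two⟩
  let T : Sylow 2 G := default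
  refine Cfsg.Agent.S0219.index_two_of_cyclic_sylow (by rw [Nat.even_iff]; omega) T
    (isCyclic_of_prime_card (p := 2) ?_)
  obtain ⟨k, hk⟩ := T.2.exists_card_eq
  rcases k with - | - | k
  · have := T.dvd_card_of_dvd_card (p := 2) (by omega : 2 ∣ Nat.card G)
    rw [hk] at this; norm_num at this
  · simpa using hk
  · have h4 : 4 ∣ Nat.card T := hk ▸ ⟨2 ^ k, by ring⟩
    have := h4.trans (Subgroup.card_subgroup_dvd_card (T : Subgroup G))
    omega

/-- The Brauer–Fowler theorem, with central involutions allowed. -/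
theorem exists_cube_of_even : ∀ (n : ℕ) {G : Type*} [Group G] [Finite G], Nat.card G = n →
    Even (Nat.card G) → 2 < Nat.card G → ∃ H : Subgroup G, H ≠ ⊤ ∧ Nat.card G < (Nat.card H) ^ 3 := by
  intro n
  induction n using Nat.strong_induction_on with
  | _ n ih =>
    intro G _ _ hn heven hgt
    haveI : Fact (Nat.Prime 2) := ⟨Nat.prime_two⟩
    obtain ⟨t, ht⟩ := exists_prime_orderOf_dvd_card' (G := G) 2 heven.two_dvd
    by_cases hno : ∀ z : G, orderOf z = 2 → z ∉ Subgroup.center G
    · exact exists_cube hno t ht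
    push Not at hno
    obtain ⟨z, hz, hzc⟩ := hno
    set Z := Subgroup.zpowers z with hZ
    haveI : Z.Normal := ⟨fun x hx g => by
      rw [Subgroup.mem_center_iff.1 ((Subgroup.zpowers_le.2 hzc) hx) g, mul_inv_cancel_right]
      exact hx⟩
    have hZ2 : Nat.card Z = 2 := by rw [hZ, Nat.card_zpowers, hz]
    have hcard := Subgroup.card_eq_card_quotient_mul_card_subgroup Z
    rw [hZ2] at hcard
    rcases Nat.even_or_odd (Nat.card (G ⧸ Z)) with he | ho
    · by_cases h4 : Nat.card (G ⧸ Z) = 2
      · refine ⟨Z, fun h => ?_, by rw [hZ2, hcard, h4]; norm_num⟩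
        rw [h, Subgroup.card_top] at hZ2; omega
      · have hq : 2 < Nat.card (G ⧸ Z) := by
          obtain ⟨k, hk⟩ := he
          omega
        obtain ⟨H, hH, hlt⟩ := ih (Nat.card (G ⧸ Z)) (by omega) rfl he hq
        refine ⟨H.comap (QuotientGroup.mk' Z), fun h => hH ?_, ?_⟩
        · exact Subgroup.comap_injective (QuotientGroup.mk'_surjective Z)
            (h.trans (Subgroup.comap_top _).symm)
        · have h1 := (H.comap (QuotientGroup.mk' Z)).card_mul_index
          rw [Subgroup.index_comap_of_surjective _ (QuotientGroup.mk'_surjective Z), hcard,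
            ← H.card_mul_index, mul_right_comm] at h1
          have hi : 0 < H.index := Nat.pos_of_ne_zero H.index_ne_zero_of_finite
          rw [Nat.eq_of_mul_eq_mul_right hi h1, hcard, mul_pow]
          have := Nat.mul_lt_mul_of_pos_right hlt (show 0 < 2 by norm_num)
          have h8 : Nat.card H ^ 3 * 2 ≤ Nat.card H ^ 3 * 2 ^ 3 :=
            Nat.mul_le_mul_left _ (by norm_num)
          omega
    · obtain ⟨H, hH⟩ := exists_index_two_of_two_odd (G := G) (by
        obtain ⟨k, hk⟩ := ho; omega)
      refine ⟨H, fun h => ?_, ?_⟩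
      · rw [h, Subgroup.index_top] at hH; omega
      · have h1 := H.card_mul_index
        rw [hH] at h1
        have h3 : 3 ≤ Nat.card H := by
          obtain ⟨k, hk⟩ := ho; omega
        have : 3 * 3 * Nat.card H ≤ Nat.card H * Nat.card H * Nat.card H :=
          Nat.mul_le_mul_right _ (Nat.mul_le_mul h3 h3)
        rw [← h1, pow_succ, pow_two]
        omega

theorem inverting_card_le_of_real {x : G} (hx : x ≠ 1) (hx2 : orderOf x ≠ 2) :
    Nat.card {p : G × G // orderOf p.1 = 2 ∧ orderOf p.2 = 2 ∧ p.1 * p.2 = x} = 0 ∨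
      ∃ K : Subgroup G, Subgroup.centralizer ({x} : Set G) ≤ K ∧
        Nat.card K = 2 * Nat.card (Subgroup.centralizer ({x} : Set G)) := by
  classical
  by_cases hreal : IsConj x x⁻¹
  swap
  · left
    haveI : IsEmpty {p : G × G // orderOf p.1 = 2 ∧ orderOf p.2 = 2 ∧ p.1 * p.2 = x} :=
      ⟨fun p => hreal (isConj_iff.2 ⟨_, pair_inverts p.2⟩)⟩
    simp
  right
  haveI := Fintype.ofFinite G
  have hne : x⁻¹ ≠ x := fun h => hx2 (orderOf_eq_two (by nth_rewrite 1 [← h]; exact inv_mul_cancel x) hx)
  let K : Subgroup G :=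
    { carrier := {g | g * x * g⁻¹ = x ∨ g * x * g⁻¹ = x⁻¹}
      one_mem' := Or.inl (by group)
      mul_mem' := fun {a b} ha hb => by
        simp only [Set.mem_setOf_eq] at ha hb ⊢
        have e : a * b * x * (a * b)⁻¹ = a * (b * x * b⁻¹) * a⁻¹ := by group
        rcases hb with hb | hb <;> rw [e, hb]
        · exact ha
        · rw [← conj_inv]; rcases ha with ha | ha <;> rw [ha] <;> simp
      inv_mem' := fun {a} ha => by
        simp only [Set.mem_setOf_eq] at ha ⊢
        rcases ha with ha | ha
        · left; nth_rewrite 1 [← ha]; group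
        · right
          have h' : (a * x * a⁻¹)⁻¹ = x := by rw [ha, inv_inv]
          nth_rewrite 1 [← h']
          group }
  refine ⟨K, fun g hg => Or.inl ?_, ?_⟩
  · rw [Subgroup.mem_centralizer_singleton_iff.1 hg, mul_inv_cancel_right]
  · rw [two_mul]
    nth_rewrite 2 [← card_inverting x hreal]
    rw [Nat.card_eq_fintype_card, Nat.card_eq_fintype_card, Nat.card_eq_fintype_card,
      Fintype.card_subtype, Fintype.card_subtype, Fintype.card_subtype,
      ← Finset.card_union_of_disjoint]
    · congr 1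
      ext g
      simp only [Finset.mem_filter, Finset.mem_univ, true_and, Finset.mem_union]
      rw [Subgroup.mem_centralizer_singleton_iff, ← mul_inv_eq_iff_eq_mul]
      rfl
    · rw [Finset.disjoint_filter]
      intro g _ hg hg'
      rw [Subgroup.mem_centralizer_singleton_iff] at hg
      rw [hg, mul_inv_cancel_right] at hg'
      exact hne hg'.symm

/-- The sharper index bound. -/
theorem exists_index_bound (heven : Even (Nat.card G)) (hZ : Odd (Nat.card (Subgroup.center G))) :
    ∃ H : Subgroup G, H ≠ ⊤ ∧ (H.index = 2 ∨ 2 * H.index * (Nat.card {t : G // orderOf t = 2}) ^ 2 <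
      Nat.card G * (Nat.card G + Nat.card {t : G // orderOf t = 2})) := by
  classical
  haveI := Fintype.ofFinite G
  haveI : Fact (Nat.Prime 2) := ⟨Nat.prime_two⟩
  have hno : ∀ t : G, orderOf t = 2 → t ∉ Subgroup.center G := fun t ht htc =>
    Nat.not_even_iff_odd.2 hZ (CfsgLib.Involution.Basic.even_of_involution_mem _ htc ht)
  by_cases h2 : ∃ H : Subgroup G, H.index = 2
  · obtain ⟨H, hH⟩ := h2
    exact ⟨H, fun h => by rw [h, Subgroup.index_top] at hH; omega, Or.inl hH⟩
  push Not at h2
  obtain ⟨t, ht⟩ := exists_prime_orderOf_dvd_card' (G := G) 2 heven.two_dvd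
  obtain ⟨H, hH, hmax⟩ := Set.Finite.exists_maximalFor (fun H : Subgroup G => Nat.card H)
    {H : Subgroup G | H ≠ ⊤} (Set.toFinite _) ⟨_, centralizer_ne_top (hno t ht)⟩
  simp only [Set.mem_setOf_eq] at hH hmax
  refine ⟨H, hH, Or.inr ?_⟩
  have hle : ∀ K : Subgroup G, K ≠ ⊤ → Nat.card K ≤ Nat.card H := by
    intro K hK
    by_contra h
    exact h (hmax hK (Nat.le_of_not_le h))
  set c := fun x : G =>
    Nat.card {p : G × G // orderOf p.1 = 2 ∧ orderOf p.2 = 2 ∧ p.1 * p.2 = x}
  set E := (Finset.univ : Finset G).erase 1 with hE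
  set n := Nat.card {t : G // orderOf t = 2} with hn
  set h := Nat.card H
  have hpt : ∀ x ∈ E, 2 * c x + (if orderOf x = 2 then 4 else 0) ≤
      h + (if orderOf x = 2 then h else 0) := by
    intro x hx
    have hx1 := Finset.ne_of_mem_erase hx
    by_cases hx2 : orderOf x = 2
    · rw [if_pos hx2, if_pos hx2]
      have h' : c x + 2 ≤ h :=
        (pairs_involution_le hx2).trans (hle _ (centralizer_ne_top (hno x hx2)))
      omega
    · rw [if_neg hx2, if_neg hx2, add_zero, add_zero]
      by_cases hc : x ∈ Subgroup.center G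
      · have h0 : c x = 0 := no_central_involution_sq hno hc hx1
        omega
      rcases inverting_card_le_of_real hx1 hx2 with h0 | ⟨K, -, hK⟩
      · have h0' : c x = 0 := h0
        omega
      · have hKne : K ≠ ⊤ := fun e => by
          rw [e, Subgroup.card_top, ← (Subgroup.centralizer ({x} : Set G)).card_mul_index,
            mul_comm 2] at hK
          exact h2 (Subgroup.centralizer ({x} : Set G)) (Nat.eq_of_mul_eq_mul_left Nat.card_pos hK)
        have hKh := hle K hKne
        have hc' : c x ≤ Nat.card (Subgroup.centralizer ({x} : Set G)) := card_pairs_le x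
        omega
  have hsum := Finset.sum_le_sum hpt
  have hEI : (E.filter fun x => orderOf x = 2).card = n := by
    rw [hn, Nat.card_eq_fintype_card, Fintype.card_subtype]
    congr 1
    ext x
    simp only [hE, Finset.mem_filter, Finset.mem_erase, Finset.mem_univ, and_true, true_and]
    exact ⟨fun h => h.2, fun h => ⟨ne_one h, h⟩⟩
  rw [Finset.sum_add_distrib, Finset.sum_add_distrib, ← Finset.mul_sum, Finset.sum_ite,
    Finset.sum_ite, Finset.sum_const_zero, add_zero, add_zero, Finset.sum_const,
    Finset.sum_const, Finset.sum_const, smul_eq_mul, smul_eq_mul, smul_eq_mul, hEI, hE,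
    Finset.card_erase_of_mem (Finset.mem_univ _), Finset.card_univ,
    ← Nat.card_eq_fintype_card] at hsum
  have hs : n * n = n + ∑ x ∈ E, c x := sum_pairs
  rw [← hE] at hsum
  have hidx : h * H.index = Nat.card G := H.card_mul_index
  have hi : 0 < H.index := Nat.pos_of_ne_zero H.index_ne_zero_of_finite
  have hh : 0 < h := Nat.card_pos
  have hg0 : 0 < Nat.card G := Nat.card_pos
  generalize Nat.card G = g at hsum hidx hg0 ⊢
  generalize ∑ x ∈ E, c x = S at hsum hs
  have hsub : (g - 1) * h + h = g * h := by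
    rw [← Nat.succ_mul]
    congr 1
    omega
  have hkey : 2 * (n * n) < h * (g + n) := by
    rw [Nat.mul_add, Nat.mul_comm h g, Nat.mul_comm h n]
    omega
  calc 2 * H.index * n ^ 2 = H.index * (2 * (n * n)) := by ring
    _ < H.index * (h * (g + n)) := Nat.mul_lt_mul_of_pos_left hkey hi
    _ = h * H.index * (g + n) := by ring
    _ = g * (g + n) := by rw [hidx]

end CfsgLib.Involution.BrauerFowler
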