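import Cfsg.Agent.Lib.Fusion.NormalRankTwo
import Cfsg.Agent.Lib.Fusion.ThompsonTransfer
import Cfsg.Agent.Lib.TwoGroups.Classify
import Cfsg.Agent.Lib.Involution.Basic

/-!
# Normal four-groups in 2-groups of rank at least three, and centralisers of involutions
-/

set_option autoImplicit false

namespace CfsgLib.Involution.NormalFour

open scoped Pointwise

variable {R : Type*} [Group R] [Finite R]

omit [Finite R] in
theorem commute_of_sq_eq_one {E : Subgroup R} (hE : ∀ e ∈ E, e ^ 2 = 1) {a b : R} (ha : a ∈ E)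
    (hb : b ∈ E) : Commute a b := by
  have h : ∀ e ∈ E, e⁻¹ = e := fun e he =>
    inv_eq_of_mul_eq_one_right (by rw [← pow_two]; exact hE e he)
  calc a * b = (a * b)⁻¹ := (h _ (mul_mem ha hb)).symm
    _ = b⁻¹ * a⁻¹ := mul_inv_rev a b
    _ = b * a := by rw [h a ha, h b hb]

/-- Four elements, pairwise products outside: an element fixing `b` outside a cyclic subgroup. -/
theorem exists_fixing {A E : Subgroup R} (hA : IsCyclic A) (hE8 : 8 ≤ Nat.card E)
    (hE : ∀ e ∈ E, e ^ 2 = 1) {b c : R} (hbc : ∀ g ∈ E, g * b * g⁻¹ = b ∨ g * b * g⁻¹ = c) :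
    ∃ e ∈ E, e ∉ A ∧ Commute e b := by
  classical
  haveI := Fintype.ofFinite R
  set C := E ⊓ Subgroup.centralizer ({b} : Set R) with hC
  have hmem : ∀ g, g ∈ C ↔ g ∈ E ∧ g * b * g⁻¹ = b := fun g => by
    rw [hC, Subgroup.mem_inf, Subgroup.mem_centralizer_singleton_iff, mul_inv_eq_iff_eq_mul]
  have hcard : Nat.card E ≤ 2 * Nat.card C := by
    rw [← (C.subgroupOf E).index_mul_card,
      Nat.card_congr (Subgroup.subgroupOfEquivOfLe (inf_le_left : C ≤ E)).toEquiv, ← hC,
      ← Subgroup.relIndex]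
    refine Nat.mul_le_mul_right _ ?_
    rw [Subgroup.relIndex]
    by_cases htop : C.subgroupOf E = ⊤
    · rw [htop, Subgroup.index_top]; omega
    obtain ⟨⟨g, hgE⟩, hg⟩ : ∃ g : E, g ∉ C.subgroupOf E := by
      by_contra h
      push Not at h
      exact htop (eq_top_iff.2 fun x _ => h x)
    refine le_of_eq (Subgroup.index_eq_two_iff.2 ⟨⟨g, hgE⟩, fun x => ?_⟩)
    rw [Subgroup.mem_subgroupOf] at hg ⊢
    rw [Subgroup.mem_subgroupOf]
    have hgc : g * b * g⁻¹ = c := (hbc g hgE).resolve_left fun h => hg ((hmem g).2 ⟨hgE, h⟩)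
    have hcb : c ≠ b := fun h => hg ((hmem g).2 ⟨hgE, hgc.trans h⟩)
    have hxg : ((x * ⟨g, hgE⟩ : E) : R) * b * ((x * ⟨g, hgE⟩ : E) : R)⁻¹ = (x : R) * c * (x : R)⁻¹ := by
      rw [← hgc]; push_cast; group
    have hcc : (x : R) * b * (x : R)⁻¹ = b → (x : R) * c * (x : R)⁻¹ = c := by
      intro h
      have hcomm : Commute (x : R) g := commute_of_sq_eq_one hE x.2 hgE
      rw [← hgc, show (x : R) * (g * b * g⁻¹) * (x : R)⁻¹ = ((x : R) * g) * b * ((x : R) * g)⁻¹ by group,
        hcomm.eq, show g * (x : R) * b * (g * (x : R))⁻¹ = g * ((x : R) * b * (x : R)⁻¹) * g⁻¹ by group, h]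
    rcases hbc x x.2 with h | h
    · refine Or.inr ⟨(hmem x).2 ⟨x.2, h⟩, fun h' => hcb ?_⟩
      rw [← ((hmem _).1 h').2, hxg, hcc h]
    · refine Or.inl ⟨(hmem _).2 ⟨(x * ⟨g, hgE⟩ : E).2, ?_⟩, fun h' => hcb ?_⟩
      · rw [hxg, ← h, show (x : R) * ((x : R) * b * (x : R)⁻¹) * (x : R)⁻¹ =
          ((x : R) * x) * b * ((x : R) * x)⁻¹ by group, ← pow_two, hE x x.2]
        group
      · rw [← h, ((hmem _).1 h').2]
  by_contra hnone
  push Not at hnone
  have hCA : C ≤ A := fun g hg => by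
    by_contra hgA
    exact hnone g ((hmem g).1 hg).1 hgA (Subgroup.mem_centralizer_singleton_iff.1 (Subgroup.mem_inf.1 hg).2)
  haveI := hA
  have h2 := IsCyclic.card_pow_eq_one_le (α := A) two_pos
  have h3 : Nat.card C ≤ 2 := by
    refine le_trans ?_ h2
    rw [← Nat.card_eq_finsetCard]
    refine Nat.card_le_card_of_injective (fun g : C => ⟨⟨g.1, hCA g.2⟩, Finset.mem_filter.2
      ⟨Finset.mem_univ _, Subtype.ext (hE g.1 ((hmem _).1 g.2).1)⟩⟩) fun x y h => ?_
    exact Subtype.ext (congrArg (fun w => ((w.1 : A) : R)) h)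
  omega

/-- A 2-group with an elementary abelian subgroup of order at least eight has a normal four-group. -/
theorem exists_normal_four (hR : IsPGroup 2 R) {E : Subgroup R} (hE8 : 8 ≤ Nat.card E)
    (hE : ∀ e ∈ E, e ^ 2 = 1) :
    ∃ U : Subgroup R, U.Normal ∧ Nat.card U = 4 ∧ ∀ u ∈ U, u ^ 2 = 1 := by
  classical
  haveI : Fact (Nat.Prime 2) := ⟨Nat.prime_two⟩
  obtain ⟨A, ⟨hAn, hAab⟩, hmax⟩ := Set.Finite.exists_maximal
    (Set.toFinite {A : Subgroup R | A.Normal ∧ IsMulCommutative A})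
    ⟨⊥, inferInstance, inferInstance⟩
  haveI := hAn
  by_cases hcyc : IsCyclic A
  swap
  · obtain ⟨U, -, hUn, hUel, hUc⟩ := CfsgLib.Fusion.NormalRankTwo.exists_of_abelian hR hAab hcyc
    exact ⟨U, hUn, by simpa using hUc, hUel.2⟩
  haveI := hAab
  have hself : Subgroup.centralizer (A : Set R) ≤ A := by
    by_contra hle
    obtain ⟨x, hxC, hxA, hx2, hxc⟩ :=
      CfsgLib.Fusion.NormalRankTwo.exists_central_of_lt hR (M := A) (N := Subgroup.centralizer (A : Set R)) hle
    haveI := CfsgLib.Fusion.NormalRankTwo.sup_zpowers_normal hxc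
    have hcomm : IsMulCommutative (A ⊔ Subgroup.zpowers x : Subgroup R) := by
      rw [← Subgroup.le_centralizer_iff_isMulCommutative]
      refine sup_le (Subgroup.le_centralizer_iff.1 (sup_le ?_ ?_)) (Subgroup.zpowers_le.2 ?_)
      · exact Subgroup.le_centralizer_iff_isMulCommutative.2 hAab
      · exact Subgroup.zpowers_le.2 hxC
      · rw [Subgroup.mem_centralizer_iff]
        intro y hy
        have : A ⊔ Subgroup.zpowers x ≤ Subgroup.centralizer ({x} : Set R) := by
          refine sup_le (fun a ha => ?_) (Subgroup.zpowers_le.2 ?_)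
          · rw [Subgroup.mem_centralizer_singleton_iff]; exact hxC a ha
          · rw [Subgroup.mem_centralizer_singleton_iff]
        exact Subgroup.mem_centralizer_singleton_iff.1 (this hy)
    exact hxA (hmax ⟨inferInstance, hcomm⟩ le_sup_left (Subgroup.mem_sup_right (Subgroup.mem_zpowers x)))
  obtain ⟨a, ha⟩ := (Subgroup.isCyclic_iff_exists_zpowers_eq_top A).1 hcyc
  set N := orderOf a with hN
  have haA : a ∈ A := ha ▸ Subgroup.mem_zpowers a
  have hcardA : Nat.card A = N := by rw [← ha, Nat.card_zpowers]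
  have hone : ∀ g : R, Commute g a → g ∈ A := fun g hg => hself (by
    rw [Subgroup.mem_centralizer_iff]
    intro y hy
    rw [SetLike.mem_coe, ← ha] at hy
    obtain ⟨i, rfl⟩ := Subgroup.mem_zpowers_iff.1 hy
    exact ((hg.zpow_right i).eq).symm)
  -- the order of `a` is a multiple of four
  obtain ⟨M, hM⟩ : 4 ∣ N := by
    obtain ⟨n, hn⟩ := IsPGroup.iff_card.1 (hR.to_subgroup A)
    rcases Nat.lt_or_ge n 2 with hlt | hge
    swap
    · rw [← hcardA, hn]; exact pow_dvd_pow 2 hge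
    exfalso
    have hle : Nat.card A ≤ 2 := by rw [hn]; exact Nat.pow_le_pow_right two_pos (by omega) |>.trans_eq (pow_one 2)
    have hall : ∀ g : R, g ∈ A := fun g => hone g (by
      have hconj : g * a * g⁻¹ ∈ A := hAn.conj_mem a haA g
      rcases eq_or_ne a 1 with h1 | h1
      · rw [h1]; exact Commute.one_right g
      have h2 : g * a * g⁻¹ = a := by
        by_contra hne
        have hne1 : g * a * g⁻¹ ≠ 1 := fun h => h1 (conj_eq_one_iff.1 h)
        haveI := Fintype.ofFinite A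
        rw [Nat.card_eq_fintype_card] at hle
        have h3 : ({⟨1, one_mem A⟩, ⟨a, haA⟩, ⟨_, hconj⟩} : Finset A).card = 3 :=
          Finset.card_eq_three.2 ⟨_, _, _, fun h => h1 (congrArg Subtype.val h).symm,
            fun h => hne1 (congrArg Subtype.val h).symm, fun h => hne (congrArg Subtype.val h).symm, rfl⟩
        have := Finset.card_le_univ ({⟨1, one_mem A⟩, ⟨a, haA⟩, ⟨_, hconj⟩} : Finset A)
        omega
      exact mul_inv_eq_iff_eq_mul.1 h2)
    have : Nat.card E ≤ Nat.card A := Subgroup.card_le_of_le fun x _ => hall x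
    omega
  have hNpos : 0 < N := orderOf_pos a
  have hzero : ∀ i : ℤ, a ^ i = 1 ↔ 4 * (M : ℤ) ∣ i := fun i => by
    rw [← orderOf_dvd_iff_zpow_eq_one, ← hN, hM]; push_cast; rfl
  have hM0 : (M : ℤ) ≠ 0 := by
    intro h
    rw [hM] at hNpos
    simp only [Nat.cast_eq_zero] at h
    simp [h] at hNpos
  have hexp : ∀ g : R, ∃ r : ℤ, g * a * g⁻¹ = a ^ r := fun g => by
    have := hAn.conj_mem a haA g
    rw [← ha] at this
    obtain ⟨r, hr⟩ := Subgroup.mem_zpowers_iff.1 this
    exact ⟨r, hr.symm⟩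
  have hodd : ∀ g : R, ∀ r : ℤ, g * a * g⁻¹ = a ^ r → Odd r := fun g r hr => by
    by_contra he
    obtain ⟨s, rfl⟩ := Int.not_odd_iff_even.1 he
    have h1 : (g * a * g⁻¹) ^ (2 * M) = 1 := by
      rw [hr, ← zpow_natCast, ← zpow_mul, hzero]
      exact ⟨s, by push_cast; ring⟩
    rw [conj_pow, conj_eq_one_iff, ← zpow_natCast, hzero] at h1
    push_cast at h1
    have := Int.le_of_dvd (by positivity) h1
    omega
  set b := a ^ M with hb
  have hb4 : b ^ (4 : ℤ) = 1 := by
    rw [hb, ← zpow_natCast, ← zpow_mul, hzero]; exact ⟨1, by ring⟩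
  obtain ⟨e, heE, heA, heb⟩ := exists_fixing (b := b) (c := b⁻¹) hcyc hE8 hE (fun g _ => by
    obtain ⟨r, hr⟩ := hexp g
    have : g * b * g⁻¹ = b ^ r := by
      rw [hb, ← conj_pow, hr, ← zpow_natCast, ← zpow_natCast, ← zpow_mul, ← zpow_mul, mul_comm]
    obtain ⟨s, rfl⟩ := hodd g r hr
    rcases Int.even_or_odd s with ⟨t, rfl⟩ | ⟨t, rfl⟩
    · left
      rw [this, show 2 * (t + t) + 1 = 4 * t + 1 by ring, zpow_add, zpow_mul, hb4, one_zpow,
        one_mul, zpow_one]
    · right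
      rw [this, show 2 * (2 * t + 1) + 1 = 4 * (t + 1) + (-1) by ring, zpow_add, zpow_mul, hb4,
        one_zpow, one_mul, zpow_neg_one])
  obtain ⟨r, hr⟩ := hexp e
  have hr4 : ∃ s, r = 4 * s + 1 := by
    have h1 : b ^ r = b := by
      have : e * b * e⁻¹ = b ^ r := by
        rw [hb, ← conj_pow, hr, ← zpow_natCast, ← zpow_natCast, ← zpow_mul, ← zpow_mul, mul_comm]
      rw [← this, heb.eq, mul_inv_cancel_right]
    rw [← mul_inv_eq_one, hb, ← zpow_natCast, ← zpow_mul, ← zpow_neg, ← zpow_add, hzero] at h1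
    obtain ⟨s, hs⟩ := h1
    refine ⟨s, mul_left_cancel₀ hM0 ?_⟩
    linarith
  obtain ⟨s, hs⟩ := hr4
  set z := a ^ (2 * (M : ℤ)) with hzdef
  have hz2 : z * z = 1 := by rw [hzdef, ← zpow_add, hzero]; exact ⟨1, by ring⟩
  have hz1 : z ≠ 1 := by
    rw [hzdef, Ne, hzero]
    intro h
    have := Int.le_of_dvd (by positivity) h
    omega
  have hee : e * e = 1 := by rw [← pow_two]; exact hE e heE
  have hzA : z ∈ A := zpow_mem haA _
  -- an involution in the coset of `e` is `e` or `e * z`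
  have hcoset : ∀ w ∈ A, (e * w) * (e * w) = 1 → w = 1 ∨ w = z := by
    intro w hw h
    rw [← ha] at hw
    obtain ⟨i, rfl⟩ := Subgroup.mem_zpowers_iff.1 hw
    have h1 : a ^ (i * r + i) = 1 := by
      rw [zpow_add, mul_comm i r, zpow_mul, ← hr, conj_zpow, inv_eq_of_mul_eq_one_right hee]
      simpa [mul_assoc] using h
    rw [hzero, hs] at h1
    have h2 : (2 * (M : ℤ)) ∣ (2 * s + 1) * i := by
      obtain ⟨q, hq⟩ := h1
      exact ⟨q, mul_left_cancel₀ two_ne_zero (by linarith)⟩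
    have h3 : IsCoprime (2 * (M : ℤ)) (2 * s + 1) := by
      obtain ⟨n, hn⟩ := IsPGroup.iff_card.1 (hR.to_subgroup A)
      rw [hcardA, hM] at hn
      have hco : IsCoprime (2 : ℤ) (2 * s + 1) := ⟨-s, 1, by ring⟩
      refine IsCoprime.mul_left hco ?_
      have hMd : M ∣ 2 ^ n := ⟨4, by rw [← hn]; ring⟩
      refine IsCoprime.of_isCoprime_of_dvd_left (hco.pow_left (m := n)) ?_
      exact_mod_cast hMd
    obtain ⟨q, rfl⟩ := h3.dvd_of_dvd_mul_left h2
    rcases Int.even_or_odd q with ⟨t, rfl⟩ | ⟨t, rfl⟩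
    · exact Or.inl ((hzero _).2 ⟨t, by ring⟩)
    · refine Or.inr ?_
      rw [hzdef, show 2 * (M : ℤ) * (2 * t + 1) = 4 * (M : ℤ) * t + 2 * (M : ℤ) by ring, zpow_add,
        (hzero (4 * (M : ℤ) * t)).2 ⟨t, rfl⟩, one_mul]
  have hze : Commute e z := by
    have : e * z * e⁻¹ = z := by
      rw [hzdef, ← conj_zpow, hr, ← zpow_mul, ← mul_inv_eq_one, ← zpow_neg, ← zpow_add, hzero, hs]
      exact ⟨2 * s, by ring⟩
    exact mul_inv_eq_iff_eq_mul.1 this
  set U := Subgroup.zpowers z ⊔ Subgroup.zpowers e with hU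
  have hzord : orderOf z = 2 := Dihedral.orderOf_eq_two hz2 hz1
  have hemem : e ∈ U := Subgroup.mem_sup_right (Subgroup.mem_zpowers e)
  have hzmem : z ∈ U := Subgroup.mem_sup_left (Subgroup.mem_zpowers z)
  have heord : orderOf e = 2 := Dihedral.orderOf_eq_two hee fun h => heA (h ▸ one_mem A)
  have hnorm : ∀ g : R, g * e * g⁻¹ ∈ U ∧ g * z * g⁻¹ ∈ U := by
    intro g
    have hgA : e⁻¹ * (g * e * g⁻¹) ∈ A := hone _ (by
      obtain ⟨q, hq⟩ := hexp g⁻¹
      have h1 : g * e * g⁻¹ * a * (g * e * g⁻¹)⁻¹ = e * a * e⁻¹ := by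
        rw [inv_inv] at hq
        calc g * e * g⁻¹ * a * (g * e * g⁻¹)⁻¹ = g * (e * (g⁻¹ * a * g) * e⁻¹) * g⁻¹ := by group
          _ = g * (a ^ q) ^ r * g⁻¹ := by
              rw [hq, ← conj_zpow, hr, ← zpow_mul, ← zpow_mul, mul_comm r]
          _ = a ^ r := by rw [← hq, ← conj_zpow]; group
          _ = e * a * e⁻¹ := hr.symm
      refine mul_inv_eq_iff_eq_mul.1 ?_
      calc e⁻¹ * (g * e * g⁻¹) * a * (e⁻¹ * (g * e * g⁻¹))⁻¹
          = e⁻¹ * (g * e * g⁻¹ * a * (g * e * g⁻¹)⁻¹) * e := by group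
        _ = a := by rw [h1]; group)
    have hsq : (e * (e⁻¹ * (g * e * g⁻¹))) * (e * (e⁻¹ * (g * e * g⁻¹))) = 1 := by
      rw [mul_inv_cancel_left, ← pow_two, conj_pow, pow_two, hee, mul_one, mul_inv_cancel]
    refine ⟨?_, ?_⟩
    · have he : g * e * g⁻¹ = e * (e⁻¹ * (g * e * g⁻¹)) := by rw [mul_inv_cancel_left]
      rcases hcoset _ hgA hsq with h | h
      · rw [he, h, mul_one]; exact hemem
      · rw [he, h]; exact mul_mem hemem hzmem
    · obtain ⟨r', hr'⟩ := hexp g
      obtain ⟨t, rfl⟩ := hodd g r' hr'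
      rw [hzdef, ← conj_zpow, hr', ← zpow_mul,
        show (2 * t + 1) * (2 * (M : ℤ)) = 4 * (M : ℤ) * t + 2 * (M : ℤ) by ring, zpow_add,
        (hzero (4 * (M : ℤ) * t)).2 ⟨t, rfl⟩, one_mul]
      exact hzmem
  have hUn : U.Normal := ⟨fun x hx g => by
    have : U ≤ U.comap (MulAut.conj g).toMonoidHom :=
      sup_le (Subgroup.zpowers_le.2 (hnorm g).2) (Subgroup.zpowers_le.2 (hnorm g).1)
    exact this hx⟩
  have hUsq : ∀ u ∈ U, u ^ 2 = 1 := by
    intro u hu
    have hle : U ≤ Subgroup.centralizer (U : Set R) := by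
      refine Subgroup.le_centralizer_iff.1 (sup_le ?_ ?_) <;>
      · rw [Subgroup.zpowers_le, Subgroup.mem_centralizer_iff]
        intro x hx
        have h2 : U ≤ Subgroup.centralizer ({e, z} : Set R) := by
          refine sup_le ?_ ?_ <;>
          · rw [Subgroup.zpowers_le, Subgroup.mem_centralizer_iff]
            rintro y (rfl | rfl)
            · first | exact rfl | exact hze.eq
            · first | exact rfl | exact hze.eq.symm
        exact (Subgroup.mem_centralizer_iff.1 (h2 hx) _ (by simp)).symm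
    haveI : IsMulCommutative U := Subgroup.le_centralizer_iff_isMulCommutative.1 hle
    let T : Subgroup R :=
      { carrier := {x | x ∈ U ∧ x ^ 2 = 1}
        one_mem' := ⟨one_mem _, one_pow _⟩
        mul_mem' := fun {x y} hx hy => ⟨mul_mem hx.1 hy.1, by
          rw [(show Commute x y from (hle hy.1) x hx.1).mul_pow, hx.2, hy.2, one_mul]⟩
        inv_mem' := fun {x} hx => ⟨inv_mem hx.1, by rw [inv_pow, hx.2, inv_one]⟩ }
    have : U ≤ T := sup_le (Subgroup.zpowers_le.2 ⟨hzmem, by rw [pow_two, hz2]⟩)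
      (Subgroup.zpowers_le.2 ⟨hemem, by rw [pow_two, hee]⟩)
    exact (this hu).2
  refine ⟨U, hUn, ?_, hUsq⟩
  have hnz : e ∉ Subgroup.zpowers z := fun h => heA ((Subgroup.zpowers_le.2 hzA) h)
  have hzc : z ∈ Subgroup.center R := by
    rw [Subgroup.mem_center_iff]
    intro g
    obtain ⟨r', hr'⟩ := hexp g
    obtain ⟨t, rfl⟩ := hodd g r' hr'
    refine mul_inv_eq_iff_eq_mul.1 ?_
    rw [hzdef, ← conj_zpow, hr', ← zpow_mul,
      show (2 * t + 1) * (2 * (M : ℤ)) = 4 * (M : ℤ) * t + 2 * (M : ℤ) by ring, zpow_add,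
      (hzero (4 * (M : ℤ) * t)).2 ⟨t, rfl⟩, one_mul]
  haveI := CfsgLib.TwoGroups.Classify.normal_zpowers_of_central hzc
  rw [hU, CfsgLib.Fusion.NormalRankTwo.sup_zpowers_card hnz
    (by rw [pow_two, hee]; exact one_mem _), Nat.card_zpowers, hzord]

section Centralizer

variable {G : Type*} [Group G] [Finite G]

omit [Finite G] in
theorem sup_sq_eq_one {A B : Subgroup G} (hA : ∀ a ∈ A, a ^ 2 = 1) (hB : ∀ b ∈ B, b ^ 2 = 1)
    (h : ∀ a ∈ A, ∀ b ∈ B, Commute a b) {x : G} (hx : x ∈ A ⊔ B) : x ^ 2 = 1 := by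
  have hn : A ≤ Subgroup.normalizer (B : Set G) := fun a ha =>
    Subgroup.centralizer_le_normalizer _ (fun b hb => ((h a ha b hb).eq).symm)
  rw [← SetLike.mem_coe, Subgroup.coe_mul_of_left_le_normalizer_right _ _ hn] at hx
  obtain ⟨a, ha, b, hb, rfl⟩ := Set.mem_mul.1 hx
  rw [(h a ha b hb).mul_pow, hA a ha, hB b hb, one_mul]

/-- With no subgroup of index two and rank at least three, all involution centralisers have rank
at least three. -/
theorem exists_eight_le_centralizer (hno : ∀ H : Subgroup G, H.index ≠ 2) {E₀ : Subgroup G}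
    (hcard : 8 ≤ Nat.card E₀) (hE₀ : ∀ e ∈ E₀, e ^ 2 = 1) {x : G} (hx : orderOf x = 2) :
    ∃ F : Subgroup G, F ≤ Subgroup.centralizer ({x} : Set G) ∧ Nat.card F = 8 ∧
      ∀ e ∈ F, e ^ 2 = 1 := by
  haveI : Fact (Nat.Prime 2) := ⟨Nat.prime_two⟩
  suffices key : ∃ F : Subgroup G, F ≤ Subgroup.centralizer ({x} : Set G) ∧ 8 ≤ Nat.card F ∧
      ∀ e ∈ F, e ^ 2 = 1 by
    obtain ⟨F, hF, h8, hF2⟩ := key
    have hp : IsPGroup 2 F := fun e => ⟨1, Subtype.ext (by simpa using hF2 e e.2)⟩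
    obtain ⟨n, hn⟩ := IsPGroup.iff_card.1 hp
    have hn3 : 3 ≤ n := by
      by_contra h
      have : 2 ^ n ≤ 2 ^ 2 := Nat.pow_le_pow_right two_pos (by omega)
      omega
    obtain ⟨K, hK⟩ := Sylow.exists_subgroup_card_pow_prime (G := F) 2 (n := 3)
      (by rw [hn]; exact pow_dvd_pow 2 hn3)
    refine ⟨K.map F.subtype, (Subgroup.map_subtype_le _).trans hF, ?_, ?_⟩
    · rw [← Nat.card_congr (K.equivMapOfInjective _ F.subtype_injective).toEquiv, hK]; norm_num
    · rintro _ ⟨e, -, rfl⟩; exact hF2 e e.2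
  have hpE : IsPGroup 2 E₀ := fun e => ⟨1, Subtype.ext (by simpa using hE₀ e e.2)⟩
  obtain ⟨S, hS⟩ := hpE.exists_le_sylow
  obtain ⟨g₀, hg₀⟩ := Basic.exists_conj_mem S hx
  set y := g₀ * x * g₀⁻¹ with hy
  -- a normal four-group of the Sylow subgroup
  obtain ⟨U', hU'n, hU'c, hU'2⟩ := exists_normal_four S.2 (E := E₀.subgroupOf S)
    (by rw [Nat.card_congr (Subgroup.subgroupOfEquivOfLe hS).toEquiv]; exact hcard)
    (fun e he => Subtype.ext (by simpa using hE₀ e he))
  haveI := hU'n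
  set U := U'.map (S : Subgroup G).subtype with hU
  have hUS : U ≤ S := Subgroup.map_subtype_le _
  have hUc : Nat.card U = 4 := by
    rw [← Nat.card_congr (U'.equivMapOfInjective _ (S : Subgroup G).subtype_injective).toEquiv, hU'c]
  have hU2 : ∀ u ∈ U, u ^ 2 = 1 := by
    rintro _ ⟨u, hu, rfl⟩
    simpa using congrArg Subtype.val (hU'2 u hu)
  have hUn : ∀ s ∈ S, ∀ u ∈ U, s * u * s⁻¹ ∈ U := by
    rintro s hs _ ⟨u, hu, rfl⟩
    exact ⟨⟨s, hs⟩ * u * ⟨s, hs⟩⁻¹, hU'n.conj_mem u hu _, rfl⟩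
  obtain ⟨z', hz'U, hz'ord, hz'c⟩ := CfsgLib.TwoGroups.Classify.exists_central_involution S.2 U'
    (fun h => by rw [h, Subgroup.card_bot] at hU'c; omega)
  set z : G := (z' : G) with hz
  have hzU : z ∈ U := ⟨z', hz'U, rfl⟩
  have hzS : ∀ s ∈ S, s * z = z * s := fun s hs =>
    congrArg Subtype.val (Subgroup.mem_center_iff.1 hz'c ⟨s, hs⟩)
  have hz1 : z ≠ 1 := by
    rw [hz]; intro h
    rw [← Subgroup.orderOf_coe, h, orderOf_one] at hz'ord
    omega
  obtain ⟨u, huU, huz⟩ : ∃ u ∈ U, u ∉ Subgroup.zpowers z := by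
    by_contra h
    push Not at h
    have := Subgroup.card_le_of_le (H := U) (K := Subgroup.zpowers z) h
    rw [hUc, Nat.card_zpowers, hz, Subgroup.orderOf_coe, hz'ord] at this
    omega
  have hUset : ∀ v ∈ U, v = 1 ∨ v = z ∨ v = u ∨ v = u * z := by
    classical
    intro v hv
    haveI := Fintype.ofFinite U
    by_contra hne
    push Not at hne
    have hu1 : u ≠ 1 := fun h => huz (h ▸ one_mem _)
    have huz' : u ≠ z := fun h => huz (h ▸ Subgroup.mem_zpowers z)
    have huzz : u * z ≠ 1 := fun h => huz (by rw [eq_inv_of_mul_eq_one_left h]; exact inv_mem (Subgroup.mem_zpowers z))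
    have h1 : ({1, z, u, u * z, v} : Finset G).card = 5 := by
      rw [Finset.card_insert_of_notMem, Finset.card_insert_of_notMem,
        Finset.card_insert_of_notMem, Finset.card_insert_of_notMem, Finset.card_singleton]
      · simpa using hne.2.2.2.symm
      · simp [hne.2.2.1.symm, hz1]
      · simp [huz'.symm, hne.2.1.symm, hu1]
      · simp [hz1.symm, hu1.symm, huzz.symm, hne.1.symm]
    have h2 : ({1, z, u, u * z, v} : Finset G) ⊆ (U : Set G).toFinset := by
      intro w hw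
      simp only [Finset.mem_insert, Finset.mem_singleton] at hw
      rw [Set.mem_toFinset]
      rcases hw with rfl | rfl | rfl | rfl | rfl
      exacts [one_mem U, hzU, huU, mul_mem huU hzU, hv]
    have := Finset.card_le_card h2
    rw [h1, Set.toFinset_card, ← Nat.card_eq_fintype_card] at this
    simp only [SetLike.coe_sort_coe] at this
    omega
  have hconj : ∀ s ∈ S, s * u * s⁻¹ = u ∨ s * u * s⁻¹ = u * z := by
    intro s hs
    rcases hUset _ (hUn s hs u huU) with h | h | h | h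
    · exact absurd (conj_eq_one_iff.1 h) (fun h => huz (h ▸ one_mem _))
    · refine absurd ?_ huz
      have : u = z := by
        calc u = s⁻¹ * (s * u * s⁻¹) * s := by group
          _ = z := by rw [h, mul_assoc, ← hzS s hs, inv_mul_cancel_left]
      rw [this]; exact Subgroup.mem_zpowers z
    · exact Or.inl h
    · exact Or.inr h
  have hcU : ∀ g : G, g ∈ S → (Commute g u ↔ g ∈ Subgroup.centralizer (U : Set G)) := by
    intro g hg
    refine ⟨fun h => ?_, fun h => ((h u huU).symm : g * u = u * g)⟩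
    rw [Subgroup.mem_centralizer_iff]
    intro v hv
    rcases hUset v hv with rfl | rfl | rfl | rfl
    · simp
    · exact (hzS g hg).symm
    · exact h.eq.symm
    · exact ((h.mul_right (hzS g hg)).eq).symm
  set M := (S : Subgroup G) ⊓ Subgroup.centralizer (U : Set G) with hM
  have hUab : ∀ a ∈ U, ∀ b ∈ U, Commute a b := fun a ha b hb => commute_of_sq_eq_one hU2 ha hb
  have hUM : U ≤ M := le_inf hUS fun a ha b hb => (hUab b hb a ha).eq
  -- an elementary abelian subgroup of order at least eight containing the four-group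
  obtain ⟨F, hFM, hUF, hF8, hF2⟩ : ∃ F : Subgroup G, F ≤ M ∧ U ≤ F ∧ 8 ≤ Nat.card F ∧
      ∀ e ∈ F, e ^ 2 = 1 := by
    by_cases hEM : U ≤ E₀
    · exact ⟨E₀, le_inf hS fun a ha b hb => (commute_of_sq_eq_one hE₀ (hEM hb) ha).eq, hEM, hcard,
        hE₀⟩
    set E₁ := E₀ ⊓ M with hE₁
    refine ⟨E₁ ⊔ U, sup_le inf_le_right hUM, le_sup_right, ?_, fun e he => sup_sq_eq_one
      (fun a ha => hE₀ a (Subgroup.mem_inf.1 ha).1) hU2
      (fun a ha b hb => ((Subgroup.mem_inf.1 (Subgroup.mem_inf.1 ha).2).2 b hb).symm) he⟩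
    have h4 : 4 ≤ Nat.card E₁ := by
      have h1 : 8 ≤ 2 * Nat.card E₁ := by
        refine hcard.trans ?_
        rw [← (E₁.subgroupOf E₀).index_mul_card,
          Nat.card_congr (Subgroup.subgroupOfEquivOfLe (inf_le_left : E₁ ≤ E₀)).toEquiv]
        refine Nat.mul_le_mul_right _ ?_
        by_cases htop : E₁.subgroupOf E₀ = ⊤
        · rw [htop, Subgroup.index_top]; omega
        obtain ⟨⟨g, hgE⟩, hg⟩ : ∃ g : E₀, g ∉ E₁.subgroupOf E₀ := by
          by_contra h
          push Not at h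
          exact htop (eq_top_iff.2 fun x _ => h x)
        refine le_of_eq (Subgroup.index_eq_two_iff.2 ⟨⟨g, hgE⟩, fun a => ?_⟩)
        have hmem : ∀ b : E₀, b ∈ E₁.subgroupOf E₀ ↔ Commute (b : G) u := fun b => by
          rw [Subgroup.mem_subgroupOf, hE₁, hM, Subgroup.mem_inf, Subgroup.mem_inf,
            hcU b (hS b.2)]
          exact ⟨fun h => h.2.2, fun h => ⟨b.2, hS b.2, h⟩⟩
        rw [hmem] at hg
        rw [hmem, hmem, xor_iff_not_iff]
        have hgc : g * u * g⁻¹ = u * z := (hconj g (hS hgE)).resolve_left fun h =>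
          hg (mul_inv_eq_iff_eq_mul.1 h)
        have hcg : Commute (a : G) g := commute_of_sq_eq_one hE₀ a.2 hgE
        intro hiff
        rcases hconj a (hS a.2) with h | h
        · have h1 : Commute (a : G) u := mul_inv_eq_iff_eq_mul.1 h
          have h2 : Commute ((a : G) * g) u := hiff.2 h1
          refine hg ?_
          have := ((h1.inv_left).mul_left h2)
          rwa [inv_mul_cancel_left] at this
        · have h1 : ¬ Commute (a : G) u := fun h' => huz (by
            rw [h'.eq, mul_inv_cancel_right, left_eq_mul] at h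
            exact absurd h hz1)
          refine h1 (hiff.1 (mul_inv_eq_iff_eq_mul.1 ?_))
          change (a : G) * g * u * ((a : G) * g)⁻¹ = u
          calc (a : G) * g * u * ((a : G) * g)⁻¹ = (a : G) * (g * u * g⁻¹) * (a : G)⁻¹ := by group
            _ = ((a : G) * u * (a : G)⁻¹) * ((a : G) * z * (a : G)⁻¹) := by rw [hgc]; group
            _ = u * z * z := by rw [h, hzS a (hS a.2), mul_inv_cancel_right]
            _ = u := by rw [mul_assoc, ← pow_two, hU2 z hzU, mul_one]
      omega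
    have hlt : E₁ < E₁ ⊔ U := lt_of_le_of_ne le_sup_left fun h =>
      hEM ((le_sup_right : U ≤ E₁ ⊔ U).trans (h ▸ inf_le_left))
    have h8 := Subgroup.card_subgroup_dvd_card (E₁.subgroupOf (E₁ ⊔ U))
    rw [Nat.card_congr (Subgroup.subgroupOfEquivOfLe le_sup_left).toEquiv] at h8
    obtain ⟨k, hk⟩ := h8
    rcases k with - | - | k
    · rw [mul_zero] at hk
      exact absurd hk Nat.card_pos.ne'
    · rw [zero_add, mul_one] at hk
      exact absurd (Subgroup.eq_of_le_of_card_ge le_sup_left hk.le) hlt.ne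
    · rw [hk]; nlinarith
  have hrank : ∀ w ∈ M, w ^ 2 = 1 → ∃ B : Subgroup G, B ≤ Subgroup.centralizer ({w} : Set G) ∧
      8 ≤ Nat.card B ∧ ∀ e ∈ B, e ^ 2 = 1 := by
    intro w hwM hw2
    by_cases hwU : w ∈ U
    · refine ⟨F, fun f hf => ?_, hF8, hF2⟩
      rw [Subgroup.mem_centralizer_singleton_iff]
      exact (commute_of_sq_eq_one hF2 hf (hUF hwU)).eq
    · have hcomm : ∀ v ∈ Subgroup.zpowers w, ∀ b ∈ U, Commute v b := fun v hv b hb =>
        ((Subgroup.mem_inf.1 ((Subgroup.zpowers_le.2 hwM) hv)).2 b hb).symm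
      have hw' : ∀ v ∈ Subgroup.zpowers w, v ^ 2 = 1 := by
        intro v hv
        obtain ⟨i, rfl⟩ := Subgroup.mem_zpowers_iff.1 hv
        rw [← zpow_natCast, ← zpow_mul, mul_comm, zpow_mul, zpow_natCast, hw2, one_zpow]
      have hB2 := fun e he => sup_sq_eq_one hw' hU2 hcomm (x := e) he
      refine ⟨Subgroup.zpowers w ⊔ U, fun b hb => ?_, ?_, hB2⟩
      · rw [Subgroup.mem_centralizer_singleton_iff]
        exact (commute_of_sq_eq_one hB2 hb (Subgroup.mem_sup_left (Subgroup.mem_zpowers w))).eq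
      · have h8 := Subgroup.card_subgroup_dvd_card (U.subgroupOf (Subgroup.zpowers w ⊔ U))
        rw [Nat.card_congr (Subgroup.subgroupOfEquivOfLe le_sup_right).toEquiv, hUc] at h8
        obtain ⟨k, hk⟩ := h8
        rcases k with - | - | k
        · rw [mul_zero] at hk
          exact absurd hk Nat.card_pos.ne'
        · have h := Subgroup.eq_of_le_of_card_ge (le_sup_right : U ≤ Subgroup.zpowers w ⊔ U)
            (by rw [hk, hUc])
          refine absurd ?_ hwU
          rw [h]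
          exact Subgroup.mem_sup_left (Subgroup.mem_zpowers w)
        · omega
  have hy2 : y ^ 2 = 1 := by rw [hy, conj_pow, ← hx, pow_orderOf_eq_one]; group
  obtain ⟨g₁, hg₁⟩ : ∃ g : G, g * y * g⁻¹ ∈ M := by
    by_cases hyM : y ∈ M
    · exact ⟨1, by simpa using hyM⟩
    have hyC : ¬ Commute y u := fun h => hyM ⟨hg₀, (hcU y hg₀).1 h⟩
    have hgc : y * u * y⁻¹ = u * z := (hconj y hg₀).resolve_left fun h =>
      hyC (mul_inv_eq_iff_eq_mul.1 h)
    have hidx : M.relIndex (S : Subgroup G) = 2 := by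
      rw [Subgroup.relIndex, Subgroup.index_eq_two_iff]
      refine ⟨⟨y, hg₀⟩, fun a => ?_⟩
      have hmem : ∀ b : (S : Subgroup G), b ∈ M.subgroupOf S ↔ Commute (b : G) u := fun b => by
        rw [Subgroup.mem_subgroupOf, hM, Subgroup.mem_inf, ← hcU b b.2]
        exact ⟨fun h => h.2, fun h => ⟨b.2, h⟩⟩
      rw [hmem, hmem, xor_iff_not_iff]
      intro hiff
      rcases hconj a a.2 with h | h
      · have h1 : Commute (a : G) u := mul_inv_eq_iff_eq_mul.1 h
        have h2 : Commute ((a : G) * y) u := hiff.2 h1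
        refine hyC ?_
        have := ((h1.inv_left).mul_left h2)
        rwa [inv_mul_cancel_left] at this
      · have h1 : ¬ Commute (a : G) u := fun h' => by
          rw [h'.eq, mul_inv_cancel_right, left_eq_mul] at h
          exact hz1 h
        refine h1 (hiff.1 (mul_inv_eq_iff_eq_mul.1 ?_))
        change (a : G) * y * u * ((a : G) * y)⁻¹ = u
        calc (a : G) * y * u * ((a : G) * y)⁻¹ = (a : G) * (y * u * y⁻¹) * (a : G)⁻¹ := by group
          _ = ((a : G) * u * (a : G)⁻¹) * ((a : G) * z * (a : G)⁻¹) := by rw [hgc]; group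
          _ = u * z * z := by rw [h, hzS a a.2, mul_inv_cancel_right]
          _ = u := by rw [mul_assoc, ← pow_two, hU2 z hzU, mul_one]
    exact (CfsgLib.Fusion.ThompsonTransfer.thompson_transfer S M inf_le_left hidx y hy2 hg₀
      hyM).resolve_left fun ⟨N, _, hN, _⟩ => hno N hN
  obtain ⟨B, hB, hB8, hB2⟩ := hrank _ hg₁ (by rw [conj_pow, hy2]; group)
  set c := (g₁ * g₀)⁻¹ with hc
  refine ⟨B.map (MulAut.conj c).toMonoidHom, ?_, ?_, ?_⟩
  · rintro _ ⟨b, hb, rfl⟩
    have h := Subgroup.mem_centralizer_singleton_iff.1 (hB hb)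
    rw [Subgroup.mem_centralizer_singleton_iff]
    simp only [MulEquiv.toMonoidHom_eq_coe, MonoidHom.coe_coe, MulAut.conj_apply]
    rw [hy] at h
    calc c * b * c⁻¹ * x = c * (b * (g₁ * (g₀ * x * g₀⁻¹) * g₁⁻¹)) * c⁻¹ := by rw [hc]; group
      _ = x * (c * b * c⁻¹) := by rw [h, hc]; group
  · rwa [← Nat.card_congr (B.equivMapOfInjective _ (MulAut.conj c).injective).toEquiv]
  · rintro _ ⟨b, hb, rfl⟩
    rw [← map_pow, hB2 b hb, map_one]

end Centralizer

end CfsgLib.Involution.NormalFour
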