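import Mathlib
import Cfsg.Agent.Lib.Involution.RankTwoSylow

/-!
# Alperin's theorem on Sylow 2-subgroups of rank two
-/

set_option autoImplicit false

namespace CfsgLib.Involution.RankTwoSylow

open CfsgLib.Involution

variable {G : Type*} [Group G] [Finite G]

/-- `x` lies in the four group on `z, u`. -/
def InW (z u x : G) : Prop := x = 1 ∨ x = z ∨ x = u ∨ x = z * u

/-- `u` is a second involution of a four group containing `z` in which `z` is moved. -/
def Moved (S : Sylow 2 G) (z u : G) : Prop :=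
  u ∈ S ∧ orderOf u = 2 ∧ u ≠ z ∧ ∃ n : G, n * z * n⁻¹ ≠ z ∧ ∀ x, InW z u x → InW z u (n * x * n⁻¹)

theorem exists_moved (h2 : Cfsg.PRankLE 2 2 G) (hiso : ∀ z : G, ¬ Cfsg.IsIsolatedInvolution z)
    (S : Sylow 2 G) {z : G} (hzS : z ∈ S) (hz : orderOf z = 2) (hzc : ∀ s ∈ S, Commute s z) :
    ∃ u, Moved S z u := by
  haveI : Fact (Nat.Prime 2) := ⟨Nat.prime_two⟩
  by_contra hno
  push Not at hno
  obtain ⟨hz2, hz1⟩ := invo hz
  have key : ∀ (A : Set G) (g : G), CfsgLib.Fusion.Alperin.Chain S A g → z ∈ A → g⁻¹ * z * g = z := by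
    intro A g hc
    induction hc with
    | nil A hA => intro _; simp
    | cons A Q x g ht hx hA hc' ih =>
      intro hzA
      by_cases he : x⁻¹ * z * x = z
      · have := ih ⟨z, hzA, he⟩
        rw [show (x * g)⁻¹ * z * (x * g) = g⁻¹ * (x⁻¹ * z * x) * g by group, he]
        exact this
      · exfalso
        set D := (S : Subgroup G) ⊓ (Q : Subgroup G)
        have hx' := inv_mem hx
        have hnorm : ∀ d ∈ D, x⁻¹ * d * x ∈ D := fun d hd => by
          simpa using (Subgroup.mem_normalizer_iff.1 hx' d).1 hd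
        set u := x⁻¹ * z * x with hu
        have huD : u ∈ D := hnorm z (hA hzA)
        have huz : orderOf u = 2 := by
          refine ord ?_ fun e => hz1 ?_
          · rw [hu, show x⁻¹ * z * x * (x⁻¹ * z * x) = x⁻¹ * (z * z) * x by group, hz2]; group
          · rw [show z = x * u * x⁻¹ by rw [hu]; group, e]; group
        obtain ⟨hu2, hu1⟩ := invo huz
        have hcz : ∀ d ∈ D, Commute d z := fun d hd => hzc d hd.1
        have hcu : ∀ d ∈ D, Commute d u := fun d hd => by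
          have h1 : Commute (x * d * x⁻¹) z :=
            hcz _ ((Subgroup.mem_normalizer_iff.1 hx d).1 hd)
          have := h1.map (MulAut.conj x⁻¹).toMonoidHom
          simpa [hu, mul_assoc] using this
        set w := x⁻¹ * u * x with hw
        have hwD : w ∈ D := hnorm u huD
        have hw2 : w * w = 1 := by
          rw [hw, show x⁻¹ * u * x * (x⁻¹ * u * x) = x⁻¹ * (u * u) * x by group, hu2]; group
        have hwW : InW z u w := four_of_rank h2 hz2 hu2 hw2 hz1 hu1 (Ne.symm he)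
          (hcz u huD).symm (hcz w hwD).symm (hcu w hwD).symm
        let W := TwoGroupLifts.fourGroup z u hz2 hu2 (hcz u huD).symm.eq
        refine hno u ⟨huD.1, huz, he, x⁻¹, by simpa using he, fun p hp => ?_⟩
        show x⁻¹ * p * x⁻¹⁻¹ ∈ W
        rw [inv_inv]
        rcases hp with rfl | rfl | rfl | rfl
        · simp
        · exact TwoGroupLifts.mem_fourGroup.2 (Or.inr (Or.inr (Or.inl rfl)))
        · exact hwW
        · rw [show x⁻¹ * (z * u) * x = (x⁻¹ * z * x) * (x⁻¹ * u * x) by group]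
          exact mul_mem (show u ∈ W from Or.inr (Or.inr (Or.inl rfl))) (show w ∈ W from hwW)
  obtain ⟨z', hz'S, hne, hconj⟩ := exists_fused S hiso hz
  obtain ⟨g, hg⟩ := isConj_iff.1 hconj
  have hch := CfsgLib.Fusion.Alperin.chain_of_conj S {z} g⁻¹ (by simpa using hzS)
    (by simpa [hg] using hz'S)
  have := key _ _ hch rfl
  rw [inv_inv, hg] at this
  exact hne this

omit [Finite G] in
/-- Roots in a homocyclic group. -/
theorem exists_root {n : ℕ} (hn : 1 ≤ n) (g : Multiplicative (ZMod (2 ^ n) × ZMod (2 ^ n))) (hg : g * g = 1) :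
    ∃ x : Multiplicative (ZMod (2 ^ n) × ZMod (2 ^ n)), x ^ 2 ^ (n - 1) = g := by
  haveI : NeZero (2 ^ n) := ⟨pow_ne_zero n (by norm_num)⟩
  have key : ∀ a : ZMod (2 ^ n), a + a = 0 → ∃ k : ℕ, ((2 ^ (n - 1) * k : ℕ) : ZMod (2 ^ n)) = a := by
    intro a ha
    have h1 : ((a.val + a.val : ℕ) : ZMod (2 ^ n)) = 0 := by
      rw [Nat.cast_add, ZMod.natCast_zmod_val, ha]
    rw [ZMod.natCast_eq_zero_iff] at h1
    have e : 2 * 2 ^ (n - 1) = 2 ^ n := by rw [← pow_succ']; congr 1; omega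
    have h2 : 2 * 2 ^ (n - 1) ∣ 2 * a.val := by rw [two_mul a.val]; exact (dvd_of_eq e).trans h1
    obtain ⟨k, hk⟩ := Nat.dvd_of_mul_dvd_mul_left two_pos h2
    exact ⟨k, by rw [← hk, ZMod.natCast_zmod_val]⟩
  obtain ⟨i, hi⟩ := key g.toAdd.1 (congrArg (fun p => (Multiplicative.toAdd p).1) hg)
  obtain ⟨j, hj⟩ := key g.toAdd.2 (congrArg (fun p => (Multiplicative.toAdd p).2) hg)
  refine ⟨Multiplicative.ofAdd ((i : ZMod (2 ^ n)), (j : ZMod (2 ^ n))), ?_⟩
  rw [← ofAdd_nsmul, ← ofAdd_toAdd g]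
  congr 1
  refine Prod.ext ?_ ?_
  · rw [Prod.smul_fst, nsmul_eq_mul, ← Nat.cast_mul, hi]
  · rw [Prod.smul_snd, nsmul_eq_mul, ← Nat.cast_mul, hj]

theorem wreathed_case (S : Sylow 2 G) {R : Subgroup G} (hRS : R ≤ S) {z u s : G}
    (hz : orderOf z = 2) (hu : orderOf u = 2) (huz : u ≠ z) (huR : u ∈ R)
    (hinv : ∀ x ∈ R, orderOf x = 2 → x = z ∨ x = u ∨ x = z * u)
    (hzc : ∀ g ∈ S, Commute g z) (hRdef : ∀ g ∈ S, Commute g u → g ∈ R)
    (hs : s ∈ S) (hsR : s ∈ Subgroup.normalizer (R : Set G)) (hsu : s * u * s⁻¹ = z * u)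
    (hcard : 4 < Nat.card R) {n : ℕ} (hn : 1 ≤ n)
    (E : R ≃* Multiplicative (ZMod (2 ^ n) × ZMod (2 ^ n))) :
    Cfsg.IsWreathed (S : Subgroup G) := by
  classical
  haveI : Fact (Nat.Prime 2) := ⟨Nat.prime_two⟩
  haveI : NeZero (2 ^ n) := ⟨pow_ne_zero n (by norm_num)⟩
  obtain ⟨hz2, hz1⟩ := invo hz
  obtain ⟨hu2, hu1⟩ := invo hu
  set K := 2 ^ n with hK
  have hRcard : Nat.card R = K * K := by
    rw [Nat.card_congr E.toEquiv, Nat.card_congr Multiplicative.toAdd, Nat.card_prod, Nat.card_zmod]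
  have hn2 : 2 ≤ n := by
    by_contra h
    obtain rfl : n = 1 := by omega
    rw [hRcard, hK] at hcard
    norm_num at hcard
  have hRc : ∀ a ∈ R, ∀ b ∈ R, Commute a b := fun a ha b hb =>
    congrArg Subtype.val (E.injective (by rw [map_mul, map_mul, mul_comm]) :
      (⟨a, ha⟩ : R) * ⟨b, hb⟩ = ⟨b, hb⟩ * ⟨a, ha⟩)
  have hne : z * u ≠ u := fun e => hz1 (mul_eq_right.1 e)
  have hsz : s * z * s⁻¹ = z := by rw [(hzc s hs).eq, mul_inv_cancel_right]
  have hszu : s * (z * u) * s⁻¹ = u := by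
    rw [show s * (z * u) * s⁻¹ = (s * z * s⁻¹) * (s * u * s⁻¹) by group, hsz, hsu, ← mul_assoc, hz2, one_mul]
  have hsnR : s ∉ R := fun h => hne (hsu.symm.trans (by rw [(hRc s h u huR).eq, mul_inv_cancel_right]))
  have hs2 : s * s ∈ R := by
    refine hRdef _ (mul_mem hs hs) ?_
    have : (s * s) * u * (s * s)⁻¹ = u := by
      rw [show (s * s) * u * (s * s)⁻¹ = s * (s * u * s⁻¹) * s⁻¹ by group, hsu, hszu]
    exact mul_inv_eq_iff_eq_mul.1 this
  have hconjR : ∀ r ∈ R, s * r * s⁻¹ ∈ R := fun r hr => (Subgroup.mem_normalizer_iff.1 hsR r).1 hr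
  -- generators
  obtain ⟨x', hx'⟩ := exists_root hn (E ⟨u, huR⟩)
    (by rw [← map_mul, show (⟨u, huR⟩ : R) * ⟨u, huR⟩ = 1 from Subtype.ext hu2, map_one])
  set x : G := ((E.symm x' : R) : G) with hx
  have hxR : x ∈ R := (E.symm x').2
  have hxu : x ^ 2 ^ (n - 1) = u := by
    rw [hx, ← Subgroup.coe_pow, ← map_pow, hx', E.symm_apply_apply]
  have hnn : n - 1 + 1 = n := by omega
  have hxo : orderOf x = K := by
    rw [hK, ← hnn]
    exact orderOf_eq_prime_pow (by rw [hxu]; exact hu1) (by rw [pow_succ, pow_mul, hxu, pow_two, hu2])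
  set y := s * x * s⁻¹ with hy
  have hyR : y ∈ R := hconjR x hxR
  have hyu : y ^ 2 ^ (n - 1) = z * u := by rw [hy, conj_pow, hxu, hsu]
  have hyo : orderOf y = K := by rw [hy, ← MulAut.conj_apply, MulEquiv.orderOf_eq, hxo]
  have hdisj : Subgroup.zpowers x ⊓ Subgroup.zpowers y = ⊥ := by
    rw [Subgroup.eq_bot_iff_forall]
    rintro g ⟨hgx, hgy⟩
    by_contra hg1
    obtain ⟨j, -, hj⟩ := (Nat.dvd_prime_pow Nat.prime_two).1
      (hK ▸ hxo ▸ orderOf_dvd_of_mem_zpowers hgx : orderOf g ∣ 2 ^ n)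
    rcases j with _ | j
    · exact hg1 (orderOf_eq_one_iff.1 (by simpa using hj))
    · set w := g ^ 2 ^ j
      have hw : orderOf w = 2 := by
        rw [orderOf_pow_of_dvd (by positivity) ⟨2, by rw [hj, pow_succ]⟩, hj, pow_succ,
          Nat.mul_div_cancel_left _ (by positivity)]
      obtain ⟨hw2, hw1⟩ := invo hw
      have hK2 : K = 2 * 2 ^ (n - 1) := by rw [hK, ← pow_succ', hnn]
      have e1 := TwoGroups.MaximalClass.involution_eq_pow (hxo.trans hK2) (pow_mem hgx (2 ^ j)) hw2 hw1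
      have e2 := TwoGroups.MaximalClass.involution_eq_pow (hyo.trans hK2) (pow_mem hgy (2 ^ j)) hw2 hw1
      rw [hxu] at e1; rw [hyu] at e2
      exact hne (e2.symm.trans e1)
  have hxy : Commute x y := hRc x hxR y hyR
  have hgen : ∀ r ∈ R, ∃ i j : ℕ, r = x ^ i * y ^ j := by
    let f : Fin K × Fin K → R := fun p => ⟨x ^ (p.1 : ℕ) * y ^ (p.2 : ℕ), mul_mem (pow_mem hxR _) (pow_mem hyR _)⟩
    have hf : Function.Injective f := by
      rintro ⟨i, j⟩ ⟨i', j'⟩ e
      have e' : x ^ (i : ℕ) * y ^ (j : ℕ) = x ^ (i' : ℕ) * y ^ (j' : ℕ) := congrArg Subtype.val e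
      have h1 : (x ^ (i' : ℕ))⁻¹ * x ^ (i : ℕ) = y ^ (j' : ℕ) * (y ^ (j : ℕ))⁻¹ := by
        rw [eq_mul_inv_iff_mul_eq, mul_assoc, e', inv_mul_cancel_left]
      have hmx : (x ^ (i' : ℕ))⁻¹ * x ^ (i : ℕ) ∈ Subgroup.zpowers x :=
        mul_mem (inv_mem (pow_mem (Subgroup.mem_zpowers x) _)) (pow_mem (Subgroup.mem_zpowers x) _)
      have hmy : (x ^ (i' : ℕ))⁻¹ * x ^ (i : ℕ) ∈ Subgroup.zpowers y := by
        rw [h1]; exact mul_mem (pow_mem (Subgroup.mem_zpowers y) _) (inv_mem (pow_mem (Subgroup.mem_zpowers y) _))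
      have h0 := (Subgroup.eq_bot_iff_forall _).1 hdisj _ (Subgroup.mem_inf.2 ⟨hmx, hmy⟩)
      have hi : i = i' := Fin.ext (pow_injOn_Iio_orderOf (x := x) (by rw [hxo]; exact i.2)
        (by rw [hxo]; exact i'.2) (inv_mul_eq_one.1 h0).symm)
      subst hi
      exact Prod.ext rfl (Fin.ext (pow_injOn_Iio_orderOf (x := y) (by rw [hyo]; exact j.2)
        (by rw [hyo]; exact j'.2) (mul_left_cancel e')))
    have hsurj := ((Nat.bijective_iff_injective_and_card f).2
      ⟨hf, by rw [hRcard, Nat.card_prod, Nat.card_fin]⟩).2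
    intro r hr
    obtain ⟨⟨i, j⟩, e⟩ := hsurj ⟨r, hr⟩
    exact ⟨i, j, (congrArg Subtype.val e).symm⟩
  -- the normaliser of `R` in `S` is everything
  have hfix : ∀ g ∈ S, g ∈ Subgroup.normalizer (R : Set G) → g ∈ R ∨ ∃ r ∈ R, g = s * r := by
    intro g hg hgn
    have ho : orderOf (g * u * g⁻¹) = 2 := by
      rw [← MulAut.conj_apply, MulEquiv.orderOf_eq, hu]
    rcases hinv _ ((Subgroup.mem_normalizer_iff.1 hgn u).1 huR) ho with e | e | e
    · refine absurd (mul_left_cancel (mul_right_cancel (e.trans ?_))) huz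
      rw [(hzc g hg).eq, mul_inv_cancel_right]
    · exact Or.inl (hRdef g hg (mul_inv_eq_iff_eq_mul.1 e))
    · refine Or.inr ⟨s⁻¹ * g, hRdef _ (mul_mem (inv_mem hs) hg) ?_, (mul_inv_cancel_left s g).symm⟩
      have : s⁻¹ * g * u * (s⁻¹ * g)⁻¹ = u := by
        rw [show s⁻¹ * g * u * (s⁻¹ * g)⁻¹ = s⁻¹ * (g * u * g⁻¹) * s by group, e, ← hsu]; group
      exact mul_inv_eq_iff_eq_mul.1 this
  have hSN : (S : Subgroup G) ≤ Subgroup.normalizer (R : Set G) := by
    set T := (S : Subgroup G) ⊓ Subgroup.normalizer (R : Set G) with hT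
    by_contra hle
    have hlt : T < (S : Subgroup G) := lt_of_le_of_ne inf_le_left fun e => hle (inf_eq_left.1 e)
    obtain ⟨g, hg, hgT⟩ := SetLike.exists_of_lt (CfsgLib.Fusion.Alperin.exists_gt_of_lt_sylow S hlt)
    have hgN : g ∈ Subgroup.normalizer (R : Set G) := by
      by_contra hgN
      obtain ⟨r, hr, hrn⟩ : ∃ r ∈ R, g * r * g⁻¹ ∉ R := by
        by_contra h
        push Not at h
        exact hgN (TwoGroupLifts.mem_normalizer_of_conj_mem h)
      have hcls : ∀ q ∈ R, g * q * g⁻¹ ∈ R ∨ ∃ r ∈ R, g * q * g⁻¹ = s * r := fun q hq => by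
        have hm : g * q * g⁻¹ ∈ T := (Subgroup.mem_normalizer_iff.1 hg.2 q).1
          ⟨hRS hq, Subgroup.le_normalizer hq⟩
        exact hfix _ hm.1 hm.2
      obtain ⟨r1, hr1, e1⟩ := (hcls r hr).resolve_left hrn
      have key : ∀ q ∈ R, ∀ v, q * q = v → orderOf v = 2 → g * v * g⁻¹ = z := by
        intro q hq v hqv hv
        have hvR : v ∈ R := hqv ▸ mul_mem hq hq
        have e : g * v * g⁻¹ = (g * q * g⁻¹) * (g * q * g⁻¹) := by rw [← hqv]; group
        have hgvR : g * v * g⁻¹ ∈ R := by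
          rw [e]
          rcases hcls q hq with h | ⟨r2, hr2, h⟩
          · exact mul_mem h h
          · rw [h, show s * r2 * (s * r2) = (s * r2 * s⁻¹) * (s * s) * r2 by group]
            exact mul_mem (mul_mem (hconjR r2 hr2) hs2) hr2
        have hc1 : Commute (g * v * g⁻¹) (s * r1) := by
          rw [← e1]
          simpa [mul_assoc] using (hRc v hvR r hr).map (MulAut.conj g).toMonoidHom
        have hc2 : Commute (g * v * g⁻¹) s := by
          have := hc1.mul_right (hRc _ hgvR r1 hr1).inv_right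
          rwa [mul_inv_cancel_right] at this
        have hfs : s * (g * v * g⁻¹) * s⁻¹ = g * v * g⁻¹ := by rw [← hc2.eq, mul_inv_cancel_right]
        rcases hinv _ hgvR (by rw [← MulAut.conj_apply, MulEquiv.orderOf_eq, hv]) with e | e | e
        · exact e
        · rw [e, hsu] at hfs; exact absurd hfs hne
        · rw [e, hszu] at hfs; exact absurd hfs.symm hne
      have h21 : 2 ^ (n - 2) + 2 ^ (n - 2) = 2 ^ (n - 1) := by
        rw [← two_mul, ← pow_succ']; congr 1; omega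
      have k1 := key _ (pow_mem hxR (2 ^ (n - 2))) u (by rw [← pow_add, h21, hxu]) hu
      have k2 := key _ (pow_mem hyR (2 ^ (n - 2))) (z * u) (by rw [← pow_add, h21, hyu])
        (by rw [← hsu, ← MulAut.conj_apply, MulEquiv.orderOf_eq, hu])
      exact hne (mul_left_cancel (mul_right_cancel (k2.trans k1.symm)))
    exact hgT ⟨hg.1, hgN⟩
  -- the index
  have hidx : (R.subgroupOf (S : Subgroup G)).index = 2 := by
    rw [Subgroup.index_eq_two_iff]
    refine ⟨⟨s, hs⟩, fun b => ?_⟩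
    rw [Subgroup.mem_subgroupOf, Subgroup.mem_subgroupOf]
    show Xor ((b : G) * s ∈ R) ((b : G) ∈ R)
    rcases hfix b b.2 (hSN b.2) with hb | ⟨r, hr, hb⟩
    · exact Or.inr ⟨hb, fun h => hsnR ((Subgroup.mul_mem_cancel_left _ hb).1 h)⟩
    · refine Or.inl ⟨?_, fun h => hsnR ?_⟩
      · rw [hb, show s * r * s = (s * r * s⁻¹) * (s * s) by group]
        exact mul_mem (hconjR r hr) hs2
      · rw [hb] at h
        exact (Subgroup.mul_mem_cancel_right _ hr).1 h
  have hScard : Nat.card (S : Subgroup G) = 2 ^ (2 * n + 1) := by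
    have h1 := (R.subgroupOf (S : Subgroup G)).card_mul_index
    rw [hidx, Nat.card_congr (Subgroup.subgroupOfEquivOfLe hRS).toEquiv, hRcard, hK] at h1
    rw [← h1]; ring
  -- an involution outside `R`
  obtain ⟨i, j, hij⟩ := hgen _ hs2
  have hsy : s * y * s⁻¹ = x := by
    rw [hy, show s * (s * x * s⁻¹) * s⁻¹ = (s * s) * x * (s * s)⁻¹ by group,
      (hRc _ hs2 x hxR).eq, mul_inv_cancel_right]
  have hxij : x ^ j = x ^ i := by
    have e : s * (x ^ i * y ^ j) * s⁻¹ = x ^ i * y ^ j := by rw [← hij]; group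
    rw [show s * (x ^ i * y ^ j) * s⁻¹ = (s * x ^ i * s⁻¹) * (s * y ^ j * s⁻¹) by group, ← conj_pow,
      ← conj_pow, hsy, ← hy, (hxy.symm.pow_pow i j).eq] at e
    have h1 : (x ^ i)⁻¹ * x ^ j = y ^ j * (y ^ i)⁻¹ := by
      rw [eq_mul_inv_iff_mul_eq, mul_assoc, e, inv_mul_cancel_left]
    have hmx : (x ^ i)⁻¹ * x ^ j ∈ Subgroup.zpowers x :=
      mul_mem (inv_mem (pow_mem (Subgroup.mem_zpowers x) _)) (pow_mem (Subgroup.mem_zpowers x) _)
    have hmy : (x ^ i)⁻¹ * x ^ j ∈ Subgroup.zpowers y := by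
      rw [h1]; exact mul_mem (pow_mem (Subgroup.mem_zpowers y) _) (inv_mem (pow_mem (Subgroup.mem_zpowers y) _))
    exact ((inv_mul_eq_one).1 ((Subgroup.eq_bot_iff_forall _).1 hdisj _ (Subgroup.mem_inf.2 ⟨hmx, hmy⟩))).symm
  have hyij : y ^ j = y ^ i := by rw [hy, conj_pow, conj_pow, hxij]
  rw [hyij] at hij
  set s' := (x ^ i)⁻¹ * s with hs'
  have hs'1 : s' ∉ R := fun h => hsnR ((Subgroup.mul_mem_cancel_left _ (inv_mem (pow_mem hxR i))).1 h)
  have hs'2 : s' * s' = 1 := by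
    rw [hs', show (x ^ i)⁻¹ * s * ((x ^ i)⁻¹ * s) = (x ^ i)⁻¹ * (s * x ^ i * s⁻¹)⁻¹ * (s * s) by group,
      ← conj_pow, ← hy, hij, ← mul_inv_rev, ← (hxy.pow_pow i i).eq, inv_mul_cancel]
  have hs'x : s' * x * s'⁻¹ = y := by
    rw [hs', show (x ^ i)⁻¹ * s * x * ((x ^ i)⁻¹ * s)⁻¹ = (x ^ i)⁻¹ * (s * x * s⁻¹) * x ^ i by group,
      ← hy, mul_assoc, (hxy.symm.pow_right i).eq, inv_mul_cancel_left]
  have hs'S : s' ∈ S := mul_mem (inv_mem (pow_mem (hRS hxR) i)) hs
  refine ⟨n, hn2, hScard, ⟨x, hRS hxR⟩, ⟨y, hRS hyR⟩, ⟨s', hs'S⟩, ?_, Subtype.ext hxy.eq, ?_, ?_,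
    Subtype.ext hs'x⟩
  · rw [← Subgroup.orderOf_coe]; exact hxo
  · rw [Subgroup.eq_bot_iff_forall]
    rintro g ⟨⟨p, hp⟩, ⟨q, hq⟩⟩
    refine Subtype.ext ((Subgroup.eq_bot_iff_forall _).1 hdisj _ ⟨⟨p, ?_⟩, ⟨q, ?_⟩⟩)
    · simpa using congrArg Subtype.val hp
    · simpa using congrArg Subtype.val hq
  · rw [← Subgroup.orderOf_coe]
    exact ord hs'2 fun e => hs'1 (by rw [show s' = 1 from e]; exact one_mem R)

/-- Alperin's theorem. -/
theorem main (h2 : Cfsg.PRankLE 2 2 G) (h1 : ¬ Cfsg.PRankLE 2 1 G)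
    (hiso : ∀ z : G, ¬ Cfsg.IsIsolatedInvolution z) (S : Sylow 2 G)
    {F : Type*} [Field F] [Fintype F] (hF : Fintype.card F = 16) (P : Sylow 2 (Cfsg.PSU 3 F 4)) :
    (∃ m : ℕ, 2 ≤ m ∧ Nonempty ((S : Subgroup G) ≃* DihedralGroup m)) ∨
      Cfsg.IsQuasiDihedral (S : Subgroup G) ∨ Cfsg.IsWreathed (S : Subgroup G) ∨
      (∃ n : ℕ, 2 ≤ n ∧ Nonempty ((S : Subgroup G) ≃* Multiplicative (ZMod (2 ^ n) × ZMod (2 ^ n)))) ∨
      Nonempty ((S : Subgroup G) ≃* (P : Subgroup (Cfsg.PSU 3 F 4))) := by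
  classical
  haveI : Fact (Nat.Prime 2) := ⟨Nat.prime_two⟩
  have hS2 : IsPGroup 2 (S : Subgroup G) := S.isPGroup'
  -- two commuting involutions of `S`
  obtain ⟨a, b, haS, hbS, ha, hb, hab, hcab⟩ :
      ∃ a b : G, a ∈ S ∧ b ∈ S ∧ orderOf a = 2 ∧ orderOf b = 2 ∧ a ≠ b ∧ Commute a b := by
    obtain ⟨A, hAc, hA2, hA⟩ : ∃ A : Subgroup G, IsMulCommutative A ∧ (∀ a ∈ A, a ^ 2 = 1) ∧ 2 < Nat.card A := by
      simpa [Cfsg.PRankLE] using h1
    haveI : Nontrivial A := Finite.one_lt_card_iff_nontrivial.1 (by omega)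
    obtain ⟨p, hp⟩ := exists_ne (1 : A)
    obtain ⟨q, hq1, hqp⟩ : ∃ q : A, q ≠ 1 ∧ q ≠ p := by
      by_contra h
      push Not at h
      have hsub : (Set.univ : Set A) ⊆ ({1, p} : Finset A) := fun q _ => by
        by_cases e : q = 1
        · simp [e]
        · simp [h q e]
      have := Set.ncard_le_ncard hsub (Set.toFinite _)
      rw [Set.ncard_univ, Set.ncard_coe_finset] at this
      have := Finset.card_le_two (a := (1 : A)) (b := p)
      omega
    have hpo : orderOf (p : G) = 2 := ord (by rw [← pow_two]; exact hA2 p p.2) fun e => hp (Subtype.ext e)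
    have hqo : orderOf (q : G) = 2 := ord (by rw [← pow_two]; exact hA2 q q.2) fun e => hq1 (Subtype.ext e)
    have hpg : IsPGroup 2 A := fun x => ⟨1, Subtype.ext (by simpa using hA2 x x.2)⟩
    obtain ⟨l, -, hl⟩ := SylowFusionTools.exists_centralizing_conj_into S (K := ⊤) le_top hpg le_top
    refine ⟨_, _, hl p p.2, hl q q.2, ?_, ?_, fun e => hqp (Subtype.ext
      (mul_left_cancel (mul_right_cancel e))).symm, ?_⟩
    · rw [← MulAut.conj_apply, MulEquiv.orderOf_eq, hpo]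
    · rw [← MulAut.conj_apply, MulEquiv.orderOf_eq, hqo]
    · simpa [mul_assoc] using
        (show Commute (p : G) q from congrArg Subtype.val (hAc.is_comm.comm p q)).map (MulAut.conj l).toMonoidHom
  obtain ⟨ha2, ha1⟩ := invo ha
  obtain ⟨hb2, hb1⟩ := invo hb
  -- a central involution
  haveI : Nontrivial (S : Subgroup G) :=
    ⟨⟨⟨a, haS⟩, 1, fun e => ha1 (congrArg Subtype.val e)⟩⟩
  obtain ⟨z', -, hz', hz'c⟩ := TwoGroups.Classify.exists_central_involution hS2 ⊤ top_ne_bot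
  set z : G := (z' : G) with hzdef
  have hzS : z ∈ S := z'.2
  have hz : orderOf z = 2 := by rw [hzdef, Subgroup.orderOf_coe]; exact hz'
  obtain ⟨hz2, hz1⟩ := invo hz
  have hzc : ∀ s ∈ S, Commute s z := fun s hs =>
    congrArg Subtype.val (Subgroup.mem_center_iff.1 hz'c ⟨s, hs⟩)
  by_cases huniq : ∀ x ∈ S, orderOf x = 2 → (∀ s ∈ S, Commute s x) → x = z
  swap
  · -- two central involutions
    push Not at huniq
    obtain ⟨u, huS, hu, huc, huz⟩ := huniq
    obtain ⟨hu2, hu1⟩ := invo hu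
    have hzu : Commute z u := huc z hzS
    have hall : ∀ x ∈ (S : Subgroup G), orderOf x = 2 → x = z ∨ x = u ∨ x = z * u := fun x hx hxo =>
      (four_of_rank h2 hz2 hu2 (invo hxo).1 hz1 hu1 huz.symm hzu (hzc x hx).symm (huc x hx).symm).resolve_left
        (invo hxo).2
    have hzu2 : z * u * (z * u) = 1 := by
      rw [mul_assoc, ← mul_assoc u z u, ← hzu.eq, mul_assoc z u u, hu2, mul_one, hz2]
    have hzuo : orderOf (z * u) = 2 := ord hzu2 fun e => huz.symm (mul_left_cancel (a := z) (hz2.trans e.symm))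
    have hzuc : ∀ s ∈ S, Commute s (z * u) := fun s hs => (hzc s hs).mul_right (huc s hs)
    have hcenv : ∀ v, (v = z ∨ v = u ∨ v = z * u) → v ∈ Subgroup.centralizer ((S : Subgroup G) : Set G) := by
      intro v hv
      refine Subgroup.mem_centralizer_iff.2 fun s hs => ?_
      rcases hv with rfl | rfl | rfl
      exacts [(hzc s hs).eq, (huc s hs).eq, (hzuc s hs).eq]
    have hmove : ∀ v, orderOf v = 2 → (v = z ∨ v = u ∨ v = z * u) →
        ∃ m ∈ Subgroup.normalizer ((S : Subgroup G) : Set G), m * v * m⁻¹ ≠ v := by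
      intro v hv hv'
      obtain ⟨v', hv'S, hne, hconj⟩ := exists_fused S hiso hv
      obtain ⟨g, hg⟩ := isConj_iff.1 hconj
      have hv'o : orderOf v' = 2 := by rw [← hg, ← MulAut.conj_apply, MulEquiv.orderOf_eq, hv]
      obtain ⟨m, hm, e⟩ := CfsgLib.Fusion.Transfer.burnside_central S (hcenv v hv')
        (hcenv v' (hall v' hv'S hv'o)) ⟨g, hg⟩
      exact ⟨m, hm, fun h => hne (e.symm.trans h)⟩
    obtain ⟨f, hf, hfz⟩ := hmove z hz (Or.inl rfl)
    obtain ⟨g, hg, hgu⟩ := hmove u hu (Or.inr (Or.inl rfl))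
    obtain ⟨h, hh, hhc⟩ := hmove _ hzuo (Or.inr (Or.inr rfl))
    obtain ⟨m, hm, hcyc⟩ := exists_cycle (Subgroup.normalizer ((S : Subgroup G) : Set G)) huz.symm
      (fun e => hu1 (mul_eq_left.1 e.symm)) (fun e => hz1 (mul_eq_right.1 e.symm))
      (fun k hk x hx => by
        refine hall _ ((Subgroup.mem_normalizer_iff.1 hk x).1 ?_) ?_
        · rcases hx with rfl | rfl | rfl
          exacts [hzS, huS, mul_mem hzS huS]
        · rw [← MulAut.conj_apply, MulEquiv.orderOf_eq]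
          rcases hx with rfl | rfl | rfl
          exacts [hz, hu, hzuo])
      hf hfz hg hgu hh hhc
    obtain ⟨φ, hφ⟩ : ∃ φ : MulAut (S : Subgroup G),
        ∀ s t : (S : Subgroup G), orderOf s = 2 → orderOf t = 2 → ∃ k : ℕ, (φ ^ k) s = t := by
      rcases hcyc with hc | hc
      · exact ⟨_, trans_of_cyc _ hm hc hall⟩
      · exact ⟨_, trans_of_cyc _ hm hc fun x hx hxo => by
          rcases hall x hx hxo with e | e | e <;> tauto⟩
    rcases ThreeInvolutions.main hS2 (rank_subgroup h2 _)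
      (rank_not_one _ hzS huS hz2 hu2 hz1 hu1 huz.symm hzu) φ hφ hF P with ⟨n, hn, ⟨E⟩⟩ | hP
    · rcases hn.lt_or_eq with hn | rfl
      · exact Or.inr (Or.inr (Or.inr (Or.inl ⟨n, hn, ⟨E⟩⟩)))
      · have E2 : (S : Subgroup G) ≃* Multiplicative (ZMod 2 × ZMod 2) := E
        exact Or.inl ⟨2, le_rfl, ⟨E2.trans (Classical.choice (IsKleinFour.nonempty_mulEquiv
          (G₁ := Multiplicative (ZMod 2 × ZMod 2)) (G₂ := DihedralGroup 2)))⟩⟩
    · exact Or.inr (Or.inr (Or.inr (Or.inr hP)))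
  -- one central involution
  obtain ⟨u₀, hu₀⟩ := exists_moved h2 hiso S hzS hz hzc
  obtain ⟨u, hu', humax⟩ := Set.exists_max_image {v | Moved S z v}
    (fun v => Nat.card ((S : Subgroup G) ⊓ Subgroup.centralizer ({v} : Set G) : Subgroup G))
    (Set.toFinite _) ⟨u₀, hu₀⟩
  obtain ⟨huS, hu, huz, m₀, hm₀, hm₀W⟩ := hu'
  obtain ⟨hu2, hu1⟩ := invo hu
  have hzu : Commute z u := (hzc u huS).symm
  set R := (S : Subgroup G) ⊓ Subgroup.centralizer ({u} : Set G) with hR
  have hRS : R ≤ S := inf_le_left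
  have huR : u ∈ R := ⟨huS, Subgroup.mem_centralizer_singleton_iff.2 rfl⟩
  have hzR : z ∈ R := ⟨hzS, Subgroup.mem_centralizer_singleton_iff.2 hzu.eq⟩
  have hRdef : ∀ g ∈ S, Commute g u → g ∈ R := fun g hg hgu =>
    ⟨hg, Subgroup.mem_centralizer_singleton_iff.2 hgu.eq⟩
  have hRu : ∀ g ∈ R, Commute g u := fun g hg => Subgroup.mem_centralizer_singleton_iff.1 hg.2
  have hinv : ∀ x ∈ R, orderOf x = 2 → x = z ∨ x = u ∨ x = z * u := fun x hx hxo =>
    (four_of_rank h2 hz2 hu2 (invo hxo).1 hz1 hu1 huz.symm hzu (hzc x hx.1).symm (hRu x hx).symm).resolve_left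
      (invo hxo).2
  have hnc : ∃ t ∈ S, ¬ Commute t u := by
    by_contra h
    push Not at h
    exact huz (huniq u huS hu h)
  -- the subgroup `C = C(W)` and its Sylow subgroup `R`
  set C := Subgroup.centralizer ({z} : Set G) ⊓ Subgroup.centralizer ({u} : Set G) with hC
  have hRC : R ≤ C := fun g hg => ⟨Subgroup.mem_centralizer_singleton_iff.2 (hzc g hg.1).eq, hg.2⟩
  have hmax : ∀ X : Subgroup G, IsPGroup 2 X → R ≤ X → X ≤ C → Nat.card X ≤ Nat.card R := by
    intro X hX hRX hXC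
    obtain ⟨c, hcK, hc⟩ := SylowFusionTools.exists_centralizing_conj_into S
      (K := Subgroup.centralizer ({z} : Set G))
      (fun g hg => Subgroup.mem_centralizer_singleton_iff.2 (hzc g hg).eq) hX (hXC.trans inf_le_left)
    have hcz : c * z * c⁻¹ = z := by
      rw [Subgroup.mem_centralizer_singleton_iff.1 hcK, mul_inv_cancel_right]
    have hW : ∀ p, InW z (c * u * c⁻¹) p → InW z u (c⁻¹ * p * c) := by
      rintro p (rfl | rfl | rfl | rfl)
      · exact Or.inl (by group)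
      · exact Or.inr (Or.inl (by (conv_lhs => rw [← hcz]); group))
      · exact Or.inr (Or.inr (Or.inl (by group)))
      · exact Or.inr (Or.inr (Or.inr (by (conv_lhs => rw [← hcz]); group)))
    have hW' : ∀ p, InW z u p → InW z (c * u * c⁻¹) (c * p * c⁻¹) := by
      rintro p (rfl | rfl | rfl | rfl)
      · exact Or.inl (by group)
      · exact Or.inr (Or.inl hcz)
      · exact Or.inr (Or.inr (Or.inl rfl))
      · exact Or.inr (Or.inr (Or.inr (by (conv_rhs => rw [← hcz]); group)))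
    have hmv : Moved S z (c * u * c⁻¹) := by
      refine ⟨hc u (hRX huR), by rw [← MulAut.conj_apply, MulEquiv.orderOf_eq, hu],
        fun e => huz (mul_left_cancel (mul_right_cancel (e.trans hcz.symm))), c * m₀ * c⁻¹, fun e => hm₀ ?_,
        fun p hp => ?_⟩
      · apply mul_left_cancel (a := c)
        apply mul_right_cancel (b := c⁻¹)
        rw [hcz]
        calc c * (m₀ * z * m₀⁻¹) * c⁻¹ = c * m₀ * c⁻¹ * (c * z * c⁻¹) * (c * m₀ * c⁻¹)⁻¹ := by group
          _ = z := by rw [hcz]; exact e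
      · have := hW' _ (hm₀W _ (hW p hp))
        rwa [show c * m₀ * c⁻¹ * p * (c * m₀ * c⁻¹)⁻¹ = c * (m₀ * (c⁻¹ * p * c) * m₀⁻¹) * c⁻¹ by group]
    refine le_trans ?_ (humax _ hmv)
    rw [← Subgroup.card_map_of_injective (f := (MulAut.conj c).toMonoidHom) (K := X) (MulAut.conj c).injective]
    refine Subgroup.card_le_of_le ?_
    rintro _ ⟨q, hq, rfl⟩
    refine ⟨hc q hq, Subgroup.mem_centralizer_singleton_iff.2 ?_⟩
    simpa [mul_assoc] using ((show Commute q u from
      Subgroup.mem_centralizer_singleton_iff.1 (hXC hq).2).map (MulAut.conj c).toMonoidHom).eq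
  -- an element moving `z` and normalising `R`
  obtain ⟨m, hmR, hmz⟩ : ∃ m ∈ Subgroup.normalizer (R : Set G), m * z * m⁻¹ ≠ z := by
    let W := TwoGroupLifts.fourGroup z u hz2 hu2 hzu.eq
    have hm₀n : m₀ ∈ Subgroup.normalizer (W : Set G) :=
      TwoGroupLifts.mem_normalizer_of_conj_mem fun p hp => hm₀W p hp
    have hCW : ∀ g ∈ C, ∀ p ∈ W, Commute g p := by
      intro g hg p hp
      have hgz : Commute g z := Subgroup.mem_centralizer_singleton_iff.1 hg.1
      have hgu : Commute g u := Subgroup.mem_centralizer_singleton_iff.1 hg.2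
      rcases TwoGroupLifts.mem_fourGroup.1 hp with rfl | rfl | rfl | rfl
      exacts [Commute.one_right _, hgz, hgu, hgz.mul_right hgu]
    have hmC : ∀ g ∈ C, m₀ * g * m₀⁻¹ ∈ C := by
      intro g hg
      have key : ∀ p ∈ W, Commute (m₀ * g * m₀⁻¹) p := fun p hp => by
        have := (hCW g hg _ ((Subgroup.mem_normalizer_iff.1 (inv_mem hm₀n) p).1 hp)).map
          (MulAut.conj m₀).toMonoidHom
        simpa [mul_assoc] using this
      exact ⟨Subgroup.mem_centralizer_singleton_iff.2 (key z (Or.inr (Or.inl rfl))).eq,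
        Subgroup.mem_centralizer_singleton_iff.2 (key u (Or.inr (Or.inr (Or.inl rfl)))).eq⟩
    let P0 : Sylow 2 C :=
      { toSubgroup := R.subgroupOf C
        isPGroup' := (hS2.to_le hRS).of_equiv (Subgroup.subgroupOfEquivOfLe hRC).symm
        is_maximal' := fun {Q} hQ hle => by
          apply Subgroup.map_injective C.subtype_injective
          rw [Subgroup.map_subgroupOf_eq_of_le hRC]
          have h0 : R ≤ Q.map C.subtype := by
            rw [← Subgroup.map_subgroupOf_eq_of_le hRC]; exact Subgroup.map_mono hle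
          exact (Subgroup.eq_of_le_of_card_ge h0
            (hmax _ (hQ.map _) h0 (Subgroup.map_subtype_le Q))).symm }
    obtain ⟨c, hc⟩ := Basic.exists_conj_le P0 (Q := (R.map (MulAut.conj m₀).toMonoidHom).subgroupOf C)
      (((hS2.to_le hRS).map _).of_equiv (Subgroup.subgroupOfEquivOfLe (by
        rintro _ ⟨g, hg, rfl⟩; exact hmC g (hRC hg))).symm)
    refine ⟨(c : G) * m₀, TwoGroupLifts.mem_normalizer_of_conj_mem fun g hg => ?_, ?_⟩
    · have h := hc ⟨m₀ * g * m₀⁻¹, hmC g (hRC hg)⟩ ⟨g, hg, rfl⟩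
      rw [show (c : G) * m₀ * g * ((c : G) * m₀)⁻¹ = c * (m₀ * g * m₀⁻¹) * (c : G)⁻¹ by group]
      exact h
    · intro e
      apply hm₀
      have hw : m₀ * z * m₀⁻¹ ∈ W := hm₀W z (Or.inr (Or.inl rfl))
      rw [show (c : G) * m₀ * z * ((c : G) * m₀)⁻¹ = c * (m₀ * z * m₀⁻¹) * (c : G)⁻¹ by group,
        (hCW c c.2 _ hw).eq, mul_inv_cancel_right] at e
      exact e
  have hzu2 : z * u * (z * u) = 1 := by
    rw [mul_assoc, ← mul_assoc u z u, ← hzu.eq, mul_assoc z u u, hu2, mul_one, hz2]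
  have hzu1 : z * u ≠ 1 := fun e => huz.symm (mul_left_cancel (a := z) (hz2.trans e.symm))
  have hzuo : orderOf (z * u) = 2 := ord hzu2 hzu1
  have hW4 : 4 ≤ Nat.card R := by
    have hk := TwoGroupLifts.isKleinFour_of_four (T := TwoGroupLifts.fourGroup z u hz2 hu2 hzu.eq) hz1 hu1
      huz.symm hz2 hu2 hzu.eq fun g => TwoGroupLifts.mem_fourGroup
    rw [← hk.card_four]
    refine Subgroup.card_le_of_le fun g hg => ?_
    rcases TwoGroupLifts.mem_fourGroup.1 hg with rfl | rfl | rfl | rfl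
    exacts [one_mem _, hzR, huR, mul_mem hzR huR]
  rcases hW4.eq_or_lt with h4 | h4
  · -- maximal class
    have hC4 : Nat.card (Subgroup.centralizer ({(⟨u, huS⟩ : (S : Subgroup G))} : Set (S : Subgroup G))) = 4 := by
      rw [h4]
      refine Nat.card_congr
        { toFun := fun g => ⟨g.1.1, hRdef g.1.1 g.1.2
            (congrArg Subtype.val (Subgroup.mem_centralizer_singleton_iff.1 g.2))⟩
          invFun := fun g => ⟨⟨g.1, g.2.1⟩, Subgroup.mem_centralizer_singleton_iff.2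
            (Subtype.ext (hRu g.1 g.2).eq)⟩
          left_inv := fun _ => rfl
          right_inv := fun _ => rfl }
    rcases maximal_class hS2 (u := (⟨u, huS⟩ : (S : Subgroup G)))
      (by rw [← Subgroup.orderOf_coe]; exact hu) hC4
      (fun h => by
        obtain ⟨t, ht, htu⟩ := hnc
        exact htu (congrArg Subtype.val (Subgroup.mem_center_iff.1 h ⟨t, ht⟩)))
      ⟨⟨a, haS⟩, ⟨b, hbS⟩, Subtype.ext ha2, Subtype.ext hb2, fun e => ha1 (congrArg Subtype.val e),
        fun e => hb1 (congrArg Subtype.val e), fun e => hab (congrArg Subtype.val e)⟩ with h | h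
    · exact Or.inl h
    · exact Or.inr (Or.inl h)
  -- the wreathed case
  obtain ⟨s, hs, hsR⟩ : ∃ s ∈ (S : Subgroup G) ⊓ Subgroup.normalizer (R : Set G), s ∉ R := by
    have hlt : R < (S : Subgroup G) := by
      refine lt_of_le_of_ne hRS fun e => ?_
      obtain ⟨t, ht, htu⟩ := hnc
      exact htu (hRu t (e ▸ ht))
    exact SetLike.exists_of_lt (CfsgLib.Fusion.Alperin.exists_gt_of_lt_sylow S hlt)
  have hsz : s * z * s⁻¹ = z := by rw [(hzc s hs.1).eq, mul_inv_cancel_right]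
  have hsu : s * u * s⁻¹ = z * u := by
    rcases hinv _ ((Subgroup.mem_normalizer_iff.1 hs.2 u).1 huR)
      (by rw [← MulAut.conj_apply, MulEquiv.orderOf_eq, hu]) with e | e | e
    · exact absurd (mul_left_cancel (mul_right_cancel (e.trans hsz.symm))) huz
    · exact absurd (hRdef s hs.1 (mul_inv_eq_iff_eq_mul.1 e)) hsR
    · exact e
  have hne1 : z ≠ z * u := fun e => hu1 (mul_eq_left.1 e.symm)
  have hne2 : u ≠ z * u := fun e => hz1 (mul_eq_right.1 e.symm)
  have hszu : s * (z * u) * s⁻¹ = u := by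
    rw [show s * (z * u) * s⁻¹ = (s * z * s⁻¹) * (s * u * s⁻¹) by group, hsz, hsu, ← mul_assoc, hz2, one_mul]
  obtain ⟨k, hk, hcyc⟩ := exists_cycle (Subgroup.normalizer (R : Set G)) huz.symm hne1 hne2
    (fun k hk x hx => by
      refine hinv _ ((Subgroup.mem_normalizer_iff.1 hk x).1 ?_) ?_
      · rcases hx with rfl | rfl | rfl
        exacts [hzR, huR, mul_mem hzR huR]
      · rw [← MulAut.conj_apply, MulEquiv.orderOf_eq]
        rcases hx with rfl | rfl | rfl
        exacts [hz, hu, hzuo])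
    hmR hmz hs.2 (by rw [hsu]; exact hne2.symm) hs.2 (by rw [hszu]; exact hne2)
  obtain ⟨φ, hφ⟩ : ∃ φ : MulAut R, ∀ p q : R, orderOf p = 2 → orderOf q = 2 → ∃ j : ℕ, (φ ^ j) p = q := by
    rcases hcyc with hc | hc
    · exact ⟨_, trans_of_cyc _ hk hc hinv⟩
    · exact ⟨_, trans_of_cyc _ hk hc fun x hx hxo => by rcases hinv x hx hxo with e | e | e <;> tauto⟩
  rcases ThreeInvolutions.main (hS2.to_le hRS) (rank_subgroup h2 R)
    (rank_not_one R hzR huR hz2 hu2 hz1 hu1 huz.symm hzu) φ hφ hF P with ⟨n, hn, ⟨E⟩⟩ | ⟨⟨E⟩⟩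
  · exact Or.inr (Or.inr (Or.inl
      (wreathed_case S hRS hz hu huz huR hinv hzc hRdef hs.1 hs.2 hsu h4 hn E)))
  · -- the `U₃(4)` type does not occur
    exfalso
    haveI : Fact (Fintype.card F = 16) := ⟨hF⟩
    haveI : Fact (∃ σ : F →+* F, (∀ x, σ x = x ^ 4) ∧ CfsgLib.Classical.IsConjugation σ) :=
      ⟨CfsgLib.Classical.exists_frob (q := 4) (by rw [hF]; norm_num)⟩
    obtain ⟨E'⟩ := U34Sylow.sylow_equiv P
    let e : R ≃* U34Sylow.Heis F := E.trans E'.symm
    have hsq : ∀ r : R, r * r * (r * r) = 1 := fun r => e.injective (by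
      rw [map_mul, map_mul, map_one]
      exact (U34Sylow.mul_self_eq_one_iff' _).2 (U34Sylow.sq_val _).1)
    have hcm : ∀ p q : R, p * q * p⁻¹ * q⁻¹ * (p * q * p⁻¹ * q⁻¹) = 1 := fun p q => e.injective (by
      rw [map_mul, map_one, U34Sylow.mul_self_eq_one_iff']
      simp only [map_mul, map_inv, U34Sylow.mul_c, U34Sylow.inv_c]
      linear_combination ((e p).c + (e q).c) * U34Sylow.two0 (F := F))
    have hRinv : ∀ x : R, x * x = 1 → x ≠ 1 → (x : G) = z ∨ (x : G) = u ∨ (x : G) = z * u :=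
      fun x hx hx1 => hinv x x.2 (by rw [Subgroup.orderOf_coe]; exact ord hx hx1)
    have hs2 : s * s ∈ R := by
      refine hRdef _ (mul_mem hs.1 hs.1) (mul_inv_eq_iff_eq_mul.1 ?_)
      rw [show (s * s) * u * (s * s)⁻¹ = s * (s * u * s⁻¹) * s⁻¹ by group, hsu, hszu]
    refine RankTwoSwap.no_swap (z := (⟨z, hzR⟩ : R)) (u := ⟨u, huR⟩) ?_ (Subtype.ext hz2) (Subtype.ext hu2)
      (fun h => hz1 (congrArg Subtype.val h)) (fun h => hu1 (congrArg Subtype.val h))
      (fun h => huz.symm (congrArg Subtype.val h)) (fun x hx => ?_) (fun x hx g => ?_) hsq φ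
      (fun v hv hv1 => hφ _ v (by rw [← Subgroup.orderOf_coe]; exact hz) (ord hv hv1))
      (conjAut R hs.2) (Subtype.ext hsz) (Subtype.ext hsu) (fun r => ?_)
    · rw [Nat.card_congr e.toEquiv, U34Sylow.card_heis]
    · by_cases hx1 : x = 1
      · exact Or.inl hx1
      rcases hRinv x hx hx1 with h | h | h
      exacts [Or.inr (Or.inl (Subtype.ext h)), Or.inr (Or.inr (Or.inl (Subtype.ext h))),
        Or.inr (Or.inr (Or.inr (Subtype.ext h)))]
    · by_cases hx1 : x = 1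
      · rw [hx1]; exact Commute.one_left g
      have h1 : Commute (g : G) z := hzc g g.2.1
      have h3 : Commute (g : G) u := hRu g g.2
      rcases hRinv x hx hx1 with h | h | h
      · exact Subtype.ext (by rw [Subgroup.coe_mul, Subgroup.coe_mul, h]; exact h1.symm.eq)
      · exact Subtype.ext (by rw [Subgroup.coe_mul, Subgroup.coe_mul, h]; exact h3.symm.eq)
      · exact Subtype.ext (by rw [Subgroup.coe_mul, Subgroup.coe_mul, h]; exact (h1.mul_right h3).symm.eq)
    · have hconj : conjAut R hs.2 (conjAut R hs.2 r) * r⁻¹ =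
          ⟨s * s, hs2⟩ * r * (⟨s * s, hs2⟩ : R)⁻¹ * r⁻¹ := Subtype.ext (by
        simp [conjAut_apply, mul_assoc])
      rw [hconj]
      exact hcm _ _

end CfsgLib.Involution.RankTwoSylow
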