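import Mathlib

/-!
# Elements of a symmetric group lying in a unique Sylow `2`-subgroup

A Sylow `2`-subgroup of a symmetric group centralizes an involution with at most one fixed point.
If `x` has at most two fixed points and nontrivial cycles of different lengths, this involution is
determined by `x`, so induction on the pairs shows that the Sylow `2`-subgroup is unique.
-/

set_option autoImplicit false

namespace CfsgLib.Involution.PermUniqueSylow

open Equiv Equiv.Perm

universe u

section
variable {α : Type u} [Fintype α] [DecidableEq α]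

/-- The length of the cycle of `x` through a moved point. -/
abbrev len (x : Perm α) (a : α) : ℕ := (x.cycleOf a).support.card

theorem zpow_apply_eq_self_iff_len {x : Perm α} {a : α} (ha : x a ≠ a) (i : ℤ) :
    (x ^ i) a = a ↔ (len x a : ℤ) ∣ i := by
  have hc : IsCycle (x.cycleOf a) := isCycle_cycleOf x ha
  rw [len, ← hc.orderOf, orderOf_dvd_iff_zpow_eq_one]
  constructor
  · intro h
    rw [← zpow_mod_orderOf]
    obtain ⟨n, hn⟩ := Int.eq_ofNat_of_zero_le
      (Int.emod_nonneg i (by exact_mod_cast (orderOf_pos (x.cycleOf a)).ne' : (orderOf (x.cycleOf a) : ℤ) ≠ 0))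
    rw [hn, zpow_natCast]
    refine (hc.pow_eq_one_iff' (x := a) (by rwa [cycleOf_apply_self])).2 ?_
    rw [← zpow_natCast, ← hn, zpow_mod_orderOf, cycleOf_zpow_apply_self, h]
  · intro h
    rw [← cycleOf_zpow_apply_self, h, Perm.one_apply]

/-- `x` has at most two fixed points and no two nontrivial cycles of the same length. -/
def Good (x : Perm α) : Prop :=
  (∀ a b c : α, x a = a → x b = b → x c = c → a = b ∨ a = c ∨ b = c) ∧
  (∀ a b : α, x a ≠ a → x b ≠ b → len x a = len x b → x.SameCycle a b)

/-- `z` is an involution commuting with `x` with at most one fixed point. -/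
def IsPairing (x z : Perm α) : Prop :=
  (∀ a, z (z a) = a) ∧ (∀ a, z (x a) = x (z a)) ∧ (∀ a b, z a = a → z b = b → a = b)

theorem IsPairing.zpow_comm {x z : Perm α} (hz : IsPairing x z) (i : ℤ) (a : α) :
    z ((x ^ i) a) = (x ^ i) (z a) := by
  have h : Commute z x := Perm.ext fun a => hz.2.1 a
  exact DFunLike.congr_fun (h.zpow_right i).eq a

theorem IsPairing.half {x z : Perm α} (hx : Good x) (hz : IsPairing x z) {a : α} (ha : x a ≠ a) :
    ∃ i : ℤ, z a = (x ^ i) a ∧ ¬ (len x a : ℤ) ∣ i ∧ (len x a : ℤ) ∣ 2 * i := by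
  have hza : z a ≠ a := fun h => ha (hz.2.2 (x a) a (by rw [hz.2.1, h]) h)
  have ha' : x (z a) ≠ z a := fun h => ha (z.injective (by rw [hz.2.1, h]))
  have hlen : len x a = len x (z a) := by
    have hiff : ∀ i : ℤ, ((len x a : ℤ) ∣ i ↔ (len x (z a) : ℤ) ∣ i) := fun i => by
      rw [← zpow_apply_eq_self_iff_len ha, ← zpow_apply_eq_self_iff_len ha', ← hz.zpow_comm,
        z.injective.eq_iff]
    exact Nat.dvd_antisymm (Int.natCast_dvd_natCast.1 ((hiff _).2 dvd_rfl))
      (Int.natCast_dvd_natCast.1 ((hiff _).1 dvd_rfl))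
  obtain ⟨i, hi⟩ := hx.2 a (z a) ha ha' hlen
  refine ⟨i, hi.symm, fun h => hza ?_, ?_⟩
  · rw [← hi, (zpow_apply_eq_self_iff_len ha i).2 h]
  · rw [← zpow_apply_eq_self_iff_len ha, two_mul, zpow_add, Perm.mul_apply, hi, ← hz.zpow_comm, hi, hz.1]

theorem dvd_sub_of_half {L i j : ℤ} (hi : L ∣ 2 * i) (hj : L ∣ 2 * j) (hi' : ¬ L ∣ i) (hj' : ¬ L ∣ j) :
    L ∣ i - j := by
  obtain ⟨s, hs⟩ := hi
  obtain ⟨t, ht⟩ := hj
  rcases Int.even_or_odd s with ⟨u, rfl⟩ | ⟨u, rfl⟩
  · exact absurd ⟨u, by linarith⟩ hi'
  rcases Int.even_or_odd t with ⟨v, rfl⟩ | ⟨v, rfl⟩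
  · exact absurd ⟨v, by linarith⟩ hj'
  exact ⟨u - v, by linarith⟩

theorem IsPairing.unique {x z z' : Perm α} (hx : Good x) (hz : IsPairing x z) (hz' : IsPairing x z') :
    z = z' := by
  refine Perm.ext fun a => ?_
  by_cases ha : x a = a
  · have h1 : x (z a) = z a := by rw [← hz.2.1, ha]
    have h2 : x (z' a) = z' a := by rw [← hz'.2.1, ha]
    rcases hx.1 a (z a) (z' a) ha h1 h2 with h | h | h
    · -- `z` fixes `a`, hence `a` is the only fixed point of `x`
      by_contra hne
      have h3 := hx.1 a (z' a) (z (z' a)) ha h2 (by rw [← hz.2.1, h2])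
      rcases h3 with h4 | h4 | h4
      · exact hne (h.symm.trans h4)
      · exact hne ((congrArg z h4).trans (hz.1 _))
      · exact hne (h.symm.trans (hz.2.2 a (z' a) h.symm h4.symm))
    · by_contra hne
      rcases hx.1 a (z a) (z' (z a)) ha h1 (by rw [← hz'.2.1, h1]) with h4 | h4 | h4
      · exact hne (h4.symm.trans h)
      · exact hne ((congrArg z' h4).trans (hz'.1 _)).symm
      · exact hne ((hz'.2.2 a (z a) h.symm h4.symm).symm.trans h)
    · exact h
  · obtain ⟨i, hi, hi1, hi2⟩ := hz.half hx ha
    obtain ⟨j, hj, hj1, hj2⟩ := hz'.half hx ha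
    have h := (zpow_apply_eq_self_iff_len ha (i - j)).2 (dvd_sub_of_half hi2 hj2 hi1 hj1)
    calc z a = (x ^ (j + (i - j))) a := by rw [add_sub_cancel, hi]
      _ = (x ^ j) ((x ^ (i - j)) a) := by rw [zpow_add, Perm.mul_apply]
      _ = z' a := by rw [h, hj]

/-- The centralizer of an involution with at most one fixed point has odd index. -/
theorem exists_pairing_sylow (P : Sylow 2 (Perm α)) :
    ∃ z : Perm α, (∀ a, z (z a) = a) ∧ (∀ a b, z a = a → z b = b → a = b) ∧
      (P : Subgroup (Perm α)) ≤ Subgroup.centralizer {z} := by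
  set n := Fintype.card α with hn
  set m := n / 2 with hm
  obtain ⟨z₀, hz₀⟩ : ∃ z₀ : Perm α, z₀.cycleType = Multiset.replicate m 2 := by
    refine (exists_with_cycleType_iff α).2 ⟨?_, fun a ha => (Multiset.eq_of_mem_replicate ha).ge⟩
    rw [Multiset.sum_replicate, smul_eq_mul]
    omega
  have hord : orderOf z₀ ∣ 2 := by
    rw [← lcm_cycleType, hz₀]
    exact Multiset.lcm_dvd.2 fun a ha => (Multiset.eq_of_mem_replicate ha).dvd
  have hsupp : z₀.support.card = m * 2 := by rw [← sum_cycleType, hz₀, Multiset.sum_replicate, smul_eq_mul]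
  have hfix : ∀ a b, z₀ a = a → z₀ b = b → a = b := by
    intro a b ha hb
    by_contra hab
    have h := Finset.card_le_univ ({a, b} ∪ z₀.support : Finset α)
    rw [Finset.card_union_of_disjoint, Finset.card_pair hab, hsupp] at h
    · omega
    · rw [Finset.disjoint_left]
      intro c hc hc'
      rw [mem_support] at hc'
      simp only [Finset.mem_insert, Finset.mem_singleton] at hc
      rcases hc with rfl | rfl
      · exact hc' ha
      · exact hc' hb
  -- the centralizer contains a Sylow subgroup
  have hC : 2 ^ n.factorial.factorization 2 ∣ Nat.card (Subgroup.centralizer {z₀}) := by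
    have hsum : z₀.cycleType.sum = m * 2 := by rw [hz₀, Multiset.sum_replicate, smul_eq_mul]
    rw [nat_card_centralizer, hsum]
    rcases Nat.eq_zero_or_pos m with h0 | h0
    · rw [show n.factorial = 1 from Nat.factorial_eq_one.2 (by omega), Nat.factorization_one, Finsupp.zero_apply,
        pow_zero]
      exact one_dvd _
    have hprod : z₀.cycleType.prod = 2 ^ m := by rw [hz₀, Multiset.prod_replicate]
    have hmult : (∏ k ∈ z₀.cycleType.toFinset, (z₀.cycleType.count k).factorial) = m.factorial := by
      rw [hz₀, Multiset.toFinset_replicate, if_neg h0.ne', Finset.prod_singleton, Multiset.count_replicate_self]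
    rw [hprod, hmult]
    have hv : n.factorial.factorization 2 = m.factorial.factorization 2 + m := by
      have h2 : (2 * m).factorial.factorization 2 = m.factorial.factorization 2 + m := by
        rw [Nat.factorization_def _ Nat.prime_two, Nat.factorization_def _ Nat.prime_two]
        haveI := Fact.mk Nat.prime_two
        exact padicValNat_factorial_mul m
      rcases Nat.mod_two_eq_zero_or_one n with h | h
      · rwa [show n = 2 * m by omega]
      · rw [show n = 2 * m + 1 by omega, Nat.factorial_succ, Nat.factorization_mul (by omega)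
          (Nat.factorial_ne_zero _), Finsupp.add_apply, Nat.factorization_eq_zero_of_not_dvd (n := 2 * m + 1) (by omega),
          zero_add, h2]
    rw [hv, pow_add, mul_comm (2 ^ _)]
    exact mul_dvd_mul (dvd_mul_left _ _) (Nat.ordProj_dvd _ _)
  haveI := Fact.mk Nat.prime_two
  obtain ⟨Q, hQ⟩ := Sylow.exists_subgroup_card_pow_prime 2 hC
  have hQc : Nat.card (Q.map (Subgroup.centralizer {z₀}).subtype) = 2 ^ (Nat.card (Perm α)).factorization 2 := by
    rw [Subgroup.card_map_of_injective (Subgroup.subtype_injective _), hQ, Nat.card_eq_fintype_card,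
      Fintype.card_perm, ← hn]
  obtain ⟨g, hg⟩ := MulAction.exists_smul_eq (Perm α) (Sylow.ofCard _ hQc) P
  have hsq : ∀ a, z₀ (z₀ a) = a := fun a => by
    rw [← Perm.mul_apply, ← sq, orderOf_dvd_iff_pow_eq_one.1 hord, Perm.one_apply]
  refine ⟨g * z₀ * g⁻¹, fun a => ?_, fun a b ha hb => ?_, ?_⟩
  · simp [Perm.mul_apply, hsq]
  · refine g⁻¹.injective (hfix _ _ ?_ ?_)
    · simpa using congrArg (⇑g⁻¹) ha
    · simpa using congrArg (⇑g⁻¹) hb
  · rw [← hg, Sylow.coe_subgroup_smul]
    rintro _ ⟨w, hw, rfl⟩
    rw [Sylow.coe_ofCard] at hw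
    obtain ⟨v, -, rfl⟩ := hw
    rw [Subgroup.mem_centralizer_singleton_iff]
    have hv := Subgroup.mem_centralizer_singleton_iff.1 v.2
    show (g * v * g⁻¹) * (g * z₀ * g⁻¹) = (g * z₀ * g⁻¹) * (g * v * g⁻¹)
    calc (g * v * g⁻¹) * (g * z₀ * g⁻¹) = g * ((v : Perm α) * z₀) * g⁻¹ := by group
      _ = g * (z₀ * (v : Perm α)) * g⁻¹ := by rw [hv]
      _ = _ := by group

/-- The pairs of an involution. -/
def pairSetoid (z : Perm α) (hz : ∀ a, z (z a) = a) : Setoid α where
  r a b := b = a ∨ b = z a
  iseqv := ⟨fun a => Or.inl rfl,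
    fun {a b} h => h.elim (fun e => Or.inl e.symm) (fun e => Or.inr (by rw [e, hz])),
    fun {a b c} h h' => by
      rcases h with rfl | rfl
      · exact h'
      · rcases h' with rfl | rfl
        · exact Or.inr rfl
        · exact Or.inl (hz a)⟩

/-- The action of the centralizer of `z` on the pairs of `z`. -/
def pairHom (z : Perm α) (hz : ∀ a, z (z a) = a) :
    Subgroup.centralizer {z} →* Perm (Quotient (pairSetoid z hz)) where
  toFun g := Quotient.congr (g : Perm α) fun a b => by
    have hg : ∀ a, (g : Perm α) (z a) = z ((g : Perm α) a) := fun a =>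
      DFunLike.congr_fun (Subgroup.mem_centralizer_singleton_iff.1 g.2) a
    show (b = a ∨ b = z a) ↔ ((g : Perm α) b = (g : Perm α) a ∨ (g : Perm α) b = z ((g : Perm α) a))
    rw [← hg, (g : Perm α).injective.eq_iff, (g : Perm α).injective.eq_iff]
  map_one' := Equiv.ext fun q => Quotient.inductionOn q fun a => rfl
  map_mul' g h := Equiv.ext fun q => Quotient.inductionOn q fun a => rfl

theorem pairHom_mk (z : Perm α) (hz : ∀ a, z (z a) = a) (g : Subgroup.centralizer {z}) (a : α) :
    pairHom z hz g (Quotient.mk (pairSetoid z hz) a) = Quotient.mk (pairSetoid z hz) ((g : Perm α) a) := rfl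

theorem isPGroup_ker_pairHom (z : Perm α) (hz : ∀ a, z (z a) = a) : IsPGroup 2 (pairHom z hz).ker := by
  intro g
  refine ⟨1, ?_⟩
  rw [pow_one, sq]
  refine Subtype.ext (Subtype.ext (Perm.ext fun a => ?_))
  show ((g : Subgroup.centralizer {z}) : Perm α) (((g : Subgroup.centralizer {z}) : Perm α) a) = a
  set k := ((g : Subgroup.centralizer {z}) : Perm α)
  have h : a = k a ∨ a = z (k a) := by
    have h := DFunLike.congr_fun (MonoidHom.mem_ker.1 g.2) (Quotient.mk (pairSetoid z hz) a)
    rw [pairHom_mk] at h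
    exact Quotient.exact h
  rcases h with h | h
  · rw [← h, ← h]
  · have hk : k (z a) = z (k a) :=
      DFunLike.congr_fun (Subgroup.mem_centralizer_singleton_iff.1 (g : Subgroup.centralizer {z}).2) a
    have hka : k a = z a := by
      conv_rhs => rw [h]
      rw [hz]
    rw [hka, hk, ← h]

end

/-- A good permutation lies in at most one Sylow `2`-subgroup. -/
theorem unique_of_good : ∀ (N : ℕ) (α : Type u) [Fintype α] [DecidableEq α], Fintype.card α ≤ N →
    ∀ x : Perm α, Good x → ∀ P Q : Sylow 2 (Perm α), x ∈ P → x ∈ Q → P = Q := by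
  intro N
  induction N with
  | zero =>
    intro α _ _ hN x _ P Q _ _
    haveI : IsEmpty α := Fintype.card_eq_zero_iff.1 (Nat.le_zero.1 hN)
    exact Sylow.ext (Subsingleton.elim _ _)
  | succ N ih =>
    intro α _ _ hN x hx P Q hP hQ
    classical
    rcases Nat.lt_or_ge (Fintype.card α) 2 with h2 | h2
    · haveI : Subsingleton α := Fintype.card_le_one_iff_subsingleton.1 (by omega)
      exact Sylow.ext (Subsingleton.elim _ _)
    obtain ⟨z, hzz, hzf, hPz⟩ := exists_pairing_sylow P
    obtain ⟨z', hzz', hzf', hQz⟩ := exists_pairing_sylow Q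
    have hpair : ∀ (w : Perm α), x ∈ Subgroup.centralizer {w} → ∀ a, w (x a) = x (w a) := fun w h a =>
      (DFunLike.congr_fun (Subgroup.mem_centralizer_singleton_iff.1 h) a).symm
    have hzp : IsPairing x z := ⟨hzz, hpair z (hPz hP), hzf⟩
    obtain rfl : z = z' := hzp.unique hx ⟨hzz', hpair z' (hQz hQ), hzf'⟩
    set β := Quotient (pairSetoid z hzz)
    let xb : Perm β := pairHom z hzz ⟨x, hPz hP⟩
    have hxb : ∀ (i : ℤ) (a : α), (xb ^ i) (Quotient.mk (pairSetoid z hzz) a) =
        Quotient.mk (pairSetoid z hzz) ((x ^ i) a) := fun i a => by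
      rw [← map_zpow, pairHom_mk, Subgroup.coe_zpow]
    have hxb1 : ∀ a : α, xb (Quotient.mk (pairSetoid z hzz) a) = Quotient.mk (pairSetoid z hzz) (x a) :=
      fun a => rfl
    have hcard : Fintype.card β ≤ N := by
      have hlt : Fintype.card β < Fintype.card α := by
        refine Fintype.card_lt_of_surjective_not_injective (Quotient.mk (pairSetoid z hzz)) Quotient.mk_surjective
          fun hinj => ?_
        obtain ⟨a, b, hab⟩ := Fintype.exists_pair_of_one_lt_card (show 1 < Fintype.card α by omega)
        by_cases ha : z a = a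
        · exact hab (hzf a b ha (hinj (Quotient.sound (Or.inr rfl) : Quotient.mk _ b = Quotient.mk _ (z b))).symm)
        · exact ha (hinj (Quotient.sound (Or.inr rfl) : Quotient.mk _ a = Quotient.mk _ (z a))).symm
      omega
    -- goodness passes to the pairs
    have hgood : Good xb := by
      constructor
      · intro A B C
        induction A using Quotient.inductionOn with | h a => ?_
        induction B using Quotient.inductionOn with | h b => ?_
        induction C using Quotient.inductionOn with | h c => ?_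
        intro ha hb hc
        rw [hxb1] at ha hb hc
        have key : ∀ a b : α, x a = a → x b = b → a = b ∨ b = z a := by
          intro a b ha hb
          have hza : x (z a) = z a := by rw [← hzp.2.1, ha]
          rcases hx.1 a b (z a) ha hb hza with h | h | h
          · exact Or.inl h
          · -- `a` is the fixed point of `z`
            rcases hx.1 a b (z b) ha hb (by rw [← hzp.2.1, hb]) with h' | h' | h'
            · exact Or.inl h'
            · exact Or.inr (by rw [h', hzz])
            · exact Or.inl (hzf a b h.symm h'.symm)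
          · exact Or.inr h
        have key2 : ∀ a b : α, x a = z a → x a ≠ a → x b = z b → x b ≠ b → a = b ∨ b = z a := by
          intro a b ha ha' hb hb'
          have hlen : ∀ c : α, x c = z c → x c ≠ c → len x c = 2 := by
            intro c hc hc'
            have h2 : (len x c : ℤ) ∣ 2 := (zpow_apply_eq_self_iff_len hc' 2).1 (by
              rw [show (2 : ℤ) = 1 + 1 from rfl, zpow_add, zpow_one, Perm.mul_apply, hc, ← hzp.2.1, hc, hzz])
            have h1 : ¬ (len x c : ℤ) ∣ 1 := fun h => hc' (by
              simpa using (zpow_apply_eq_self_iff_len hc' 1).2 h)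
            have h2' : len x c ∣ 2 := Int.natCast_dvd_natCast.1 h2
            rcases (Nat.dvd_prime Nat.prime_two).1 h2' with h | h
            · rw [h] at h1; exact absurd dvd_rfl h1
            · exact h
          obtain ⟨i, hi⟩ := hx.2 a b ha' hb' ((hlen a ha ha').trans (hlen b hb hb').symm)
          rcases Int.even_or_odd i with ⟨k, rfl⟩ | ⟨k, rfl⟩
          · left
            rw [← hi, eq_comm, zpow_apply_eq_self_iff_len ha', hlen a ha ha']
            exact ⟨k, by push_cast; ring⟩
          · right
            rw [← hi, ← ha, add_comm, zpow_add, zpow_one, Perm.mul_apply]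
            refine congrArg _ ?_
            rw [zpow_apply_eq_self_iff_len ha', hlen a ha ha']
            exact ⟨k, by push_cast; ring⟩
        have split : ∀ a : α, Quotient.mk (pairSetoid z hzz) (x a) = Quotient.mk _ a →
            x a = a ∨ (x a = z a ∧ x a ≠ a) := by
          intro a h
          rcases Quotient.exact h with h' | h'
          · exact Or.inl h'.symm
          · by_cases hfa : x a = a
            · exact Or.inl hfa
            · exact Or.inr ⟨by conv_rhs => rw [h', hzz], hfa⟩
        have fin : ∀ a b : α, a = b ∨ b = z a →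
            Quotient.mk (pairSetoid z hzz) a = Quotient.mk (pairSetoid z hzz) b := by
          intro a b h
          exact Quotient.sound (h.imp Eq.symm id)
        rcases split a ha with ha | ⟨ha, ha'⟩ <;> rcases split b hb with hb | ⟨hb, hb'⟩ <;>
          rcases split c hc with hc | ⟨hc, hc'⟩
        · exact Or.inl (fin _ _ (key a b ha hb))
        · exact Or.inl (fin _ _ (key a b ha hb))
        · exact Or.inr (Or.inl (fin _ _ (key a c ha hc)))
        · exact Or.inr (Or.inr (fin _ _ (key2 b c hb hb' hc hc')))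
        · exact Or.inr (Or.inr (fin _ _ (key b c hb hc)))
        · exact Or.inr (Or.inl (fin _ _ (key2 a c ha ha' hc hc')))
        · exact Or.inl (fin _ _ (key2 a b ha ha' hb hb'))
        · exact Or.inl (fin _ _ (key2 a b ha ha' hb hb'))
      · intro A B
        induction A using Quotient.inductionOn with | h a => ?_
        induction B using Quotient.inductionOn with | h b => ?_
        intro ha hb hlen
        have hiff : ∀ c : α, xb (Quotient.mk (pairSetoid z hzz) c) ≠ Quotient.mk _ c →
            x c ≠ c ∧ ∀ n : ℤ, ((len xb (Quotient.mk (pairSetoid z hzz) c) : ℤ) ∣ n ↔ (len x c : ℤ) ∣ 2 * n) := by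
          intro c hc
          have hc' : x c ≠ c := fun h => hc (by rw [hxb1, h])
          refine ⟨hc', fun n => ?_⟩
          obtain ⟨i, hi, hi1, hi2⟩ := hzp.half hx hc'
          rw [← zpow_apply_eq_self_iff_len hc, hxb]
          constructor
          · intro h
            rcases Quotient.exact h with h' | h'
            · exact Dvd.dvd.mul_left ((zpow_apply_eq_self_iff_len hc' n).1 h'.symm) 2
            · have h'' : (x ^ n) c = (x ^ i) c := by
                rw [← hi]
                conv_rhs => rw [h', hzz]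
              have hd : (len x c : ℤ) ∣ n - i := (zpow_apply_eq_self_iff_len hc' _).1 (by
                rw [sub_eq_neg_add, zpow_add, Perm.mul_apply, h'', ← Perm.mul_apply, ← zpow_add, neg_add_cancel,
                  zpow_zero, Perm.one_apply])
              have := dvd_add (Dvd.dvd.mul_left hd 2) hi2
              rwa [mul_sub, sub_add_cancel] at this
          · intro h
            by_cases h0 : (len x c : ℤ) ∣ n
            · rw [(zpow_apply_eq_self_iff_len hc' n).2 h0]
            · have hd := (zpow_apply_eq_self_iff_len hc' _).2 (dvd_sub_of_half h hi2 h0 hi1)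
              refine Quotient.sound (Or.inr ?_)
              rw [← sub_add_cancel n i, add_comm, zpow_add, Perm.mul_apply, hd, ← hi, hzz]
        obtain ⟨hxa, hA⟩ := hiff a ha
        obtain ⟨hxb', hB⟩ := hiff b hb
        have heven : ∀ c : α, x c ≠ c → (2 : ℕ) ∣ len x c := by
          intro c hc
          obtain ⟨i, -, hi1, hi2⟩ := hzp.half hx hc
          by_contra h
          refine hi1 ((Int.isCoprime_iff_nat_coprime.2 ?_).dvd_of_dvd_mul_left hi2)
          simpa using ((Nat.prime_two.coprime_iff_not_dvd.2 h).symm)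
        obtain ⟨la, hla⟩ := heven a hxa
        obtain ⟨lb, hlb⟩ := heven b hxb'
        have hlab : la = lb := by
          have key : ∀ n : ℤ, ((la : ℤ) ∣ n ↔ (lb : ℤ) ∣ n) := fun n => by
            have h1 := hA n
            have h2 := hB n
            rw [hla, Nat.cast_mul, Nat.cast_ofNat, mul_dvd_mul_iff_left (by norm_num : (2 : ℤ) ≠ 0)] at h1
            rw [hlb, Nat.cast_mul, Nat.cast_ofNat, mul_dvd_mul_iff_left (by norm_num : (2 : ℤ) ≠ 0)] at h2
            rw [← h1, ← h2, hlen]
          exact Nat.dvd_antisymm (Int.natCast_dvd_natCast.1 ((key _).2 dvd_rfl))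
            (Int.natCast_dvd_natCast.1 ((key _).1 dvd_rfl))
        obtain ⟨i, hi⟩ := hx.2 a b hxa hxb' (by rw [hla, hlb, hlab])
        exact ⟨i, by rw [hxb, hi]⟩
    -- both Sylow subgroups lie in the preimage of a Sylow subgroup of the pairs
    have huniq := ih β hcard xb hgood
    haveI := Fact.mk Nat.prime_two
    have key : ∀ R : Sylow 2 (Perm α), x ∈ R → (R : Subgroup (Perm α)) ≤ Subgroup.centralizer {z} →
        ∃ S : Sylow 2 (Perm β), xb ∈ S ∧ (R : Subgroup (Perm α)) ≤
          ((S : Subgroup (Perm β)).comap (pairHom z hzz)).map (Subgroup.centralizer {z}).subtype := by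
      intro R hR hRz
      have hp : IsPGroup 2 (((R : Subgroup (Perm α)).subgroupOf (Subgroup.centralizer {z})).map (pairHom z hzz)) :=
        (R.isPGroup'.comap_of_injective _ (Subgroup.subtype_injective _)).map _
      obtain ⟨S, hS⟩ := hp.exists_le_sylow
      refine ⟨S, hS ⟨⟨x, hRz hR⟩, hR, rfl⟩, fun g hg => ⟨⟨g, hRz hg⟩, hS ⟨_, hg, rfl⟩, rfl⟩⟩
    obtain ⟨S, hxS, hPS⟩ := key P hP hPz
    obtain ⟨T, hxT, hQT⟩ := key Q hQ hQz
    obtain rfl := huniq S T hxS hxT
    set M := ((S : Subgroup (Perm β)).comap (pairHom z hzz)).map (Subgroup.centralizer {z}).subtype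
    have hM : IsPGroup 2 M := (S.isPGroup'.comap_of_ker_isPGroup _ (isPGroup_ker_pairHom z hzz)).map _
    exact Sylow.ext ((P.is_maximal' hM hPS).symm.trans (Q.is_maximal' hM hQT))

section
variable {α : Type u} [Fintype α] [DecidableEq α]

/-- If `x` is in a unique Sylow `2`-subgroup, the elements `s` with `⟨x, s⟩` a `2`-group form a `2`-group. -/
theorem false_of_two {x s t : Perm α} {E F : Subgroup (Perm α)} (hE : IsPGroup 2 E) (hF : IsPGroup 2 F)
    (hxE : x ∈ E) (hxF : x ∈ F) (hs : s ∈ E) (ht : t ∈ F) (hu : ∃! P : Sylow 2 (Perm α), x ∈ P)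
    {a b c : α} (hab : a ≠ b) (hac : a ≠ c) (hbc : b ≠ c) (hw : swap a b * swap a c ∈ Subgroup.closure {s, t}) :
    False := by
  obtain ⟨P, hP⟩ := hE.exists_le_sylow
  obtain ⟨Q, hQ⟩ := hF.exists_le_sylow
  obtain rfl : P = Q := hu.unique (hP hxE) (hQ hxF)
  have hmem : swap a b * swap a c ∈ (P : Subgroup (Perm α)) := by
    refine (Subgroup.closure_le _).2 ?_ hw
    rintro g (rfl | rfl)
    · exact hP hs
    · exact hQ ht
  obtain ⟨j, hj⟩ := IsPGroup.iff_orderOf.1 P.isPGroup' ⟨_, hmem⟩
  rw [Subgroup.orderOf_mk, (isThreeCycle_swap_mul_swap_same hab hac hbc).orderOf] at hj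
  cases j with
  | zero => simp at hj
  | succ j => rw [pow_succ'] at hj; omega

theorem good_of_unique {x : Perm α} (hx : ∃ k : ℕ, orderOf x = 2 ^ k)
    (hu : ∃! P : Sylow 2 (Perm α), x ∈ P) : Good x := by
  haveI := Fact.mk Nat.prime_two
  obtain ⟨k, hk⟩ := hx
  have hX : IsPGroup 2 (Subgroup.zpowers x) := IsPGroup.of_card (n := k) (by rw [Nat.card_zpowers, hk])
  have hcomm : ∀ s : Perm α, Commute s x → IsPGroup 2 (Subgroup.zpowers s) →
      ∃ E : Subgroup (Perm α), IsPGroup 2 E ∧ x ∈ E ∧ s ∈ E := by
    intro s hs hS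
    have hle : Subgroup.zpowers s ≤ Subgroup.normalizer (Subgroup.zpowers x : Set (Perm α)) := by
      refine le_trans ?_ (Subgroup.centralizer_le_normalizer _)
      rw [Subgroup.zpowers_le, Subgroup.mem_centralizer_iff]
      rintro _ ⟨i, rfl⟩
      exact ((hs.zpow_right i).eq).symm
    exact ⟨_, hS.to_sup_of_normal_right' hX hle, (le_sup_right : Subgroup.zpowers x ≤ _) (Subgroup.mem_zpowers x),
      (le_sup_left : Subgroup.zpowers s ≤ _) (Subgroup.mem_zpowers s)⟩
  constructor
  · intro a b c ha hb hc
    by_contra hne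
    push Not at hne
    have hfix : ∀ p q : α, x p = p → x q = q → ∃ E : Subgroup (Perm α), IsPGroup 2 E ∧ x ∈ E ∧ swap p q ∈ E := by
      intro p q hp hq
      refine hcomm _ ?_ ?_
      · show swap p q * x = x * swap p q
        rw [mul_swap_eq_swap_mul, hp, hq]
      · rcases eq_or_ne p q with rfl | hpq
        · rw [swap_self]
          exact IsPGroup.of_card (n := 0) (by rw [Nat.card_zpowers, ← Perm.one_def, orderOf_one, pow_zero])
        · exact IsPGroup.of_card (n := 1)
            (by rw [Nat.card_zpowers, (swap_isSwap_iff.2 hpq).orderOf, pow_one])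
    obtain ⟨E, hE, hxE, hsE⟩ := hfix a b ha hb
    obtain ⟨F, hF, hxF, htF⟩ := hfix a c ha hc
    exact false_of_two hE hF hxE hxF hsE htF hu hne.1 hne.2.1 hne.2.2
      (mul_mem (Subgroup.subset_closure (Set.mem_insert _ _)) (Subgroup.subset_closure (Set.mem_insert_of_mem _ rfl)))
  · intro a b ha hb hlen
    by_contra hsame
    -- `x` with the cycle through `a`
    set c₁ := x.cycleOf a with hc₁
    have hc1a : c₁ a = x a := cycleOf_apply_self x a
    have hc1b : c₁ b = b := cycleOf_apply_of_not_sameCycle hsame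
    have hS : IsPGroup 2 (Subgroup.zpowers c₁) := by
      have hd : orderOf c₁ ∣ 2 ^ k := by
        rw [← hk, hc₁, (isCycle_cycleOf x ha).orderOf, ← Int.natCast_dvd_natCast,
          ← zpow_apply_eq_self_iff_len ha, zpow_natCast, pow_orderOf_eq_one, Perm.one_apply]
      obtain ⟨j, -, hj⟩ := (Nat.dvd_prime_pow Nat.prime_two).1 hd
      exact IsPGroup.of_card (n := j) (by rw [Nat.card_zpowers, hj])
    obtain ⟨E, hE, hxE, hsE⟩ := hcomm c₁ (self_mem_cycle_factors_commute (cycleOf_mem_cycleFactorsFinset_iff.2 (mem_support.2 ha))) hS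
    -- the transpositions conjugate to `swap a b` under `x` commute
    set S : Set (Perm α) := Set.range fun i : ℤ => swap ((x ^ i) a) ((x ^ i) b)
    have hper : ∀ i j : ℤ, (x ^ i) a = (x ^ j) a ↔ (x ^ i) b = (x ^ j) b := by
      have h : ∀ c : α, x c ≠ c → ∀ i j : ℤ, (x ^ i) c = (x ^ j) c ↔ (len x c : ℤ) ∣ i - j := by
        intro c hc i j
        rw [← zpow_apply_eq_self_iff_len hc, sub_eq_neg_add, zpow_add, Perm.mul_apply, zpow_neg,
          Perm.inv_eq_iff_eq]
      intro i j
      rw [h a ha, h b hb, hlen]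
    have hne : ∀ i j : ℤ, (x ^ i) a ≠ (x ^ j) b := fun i j e => hsame ⟨i - j, by
      rw [sub_eq_neg_add, zpow_add, Perm.mul_apply, e, ← Perm.mul_apply, ← zpow_add, neg_add_cancel, zpow_zero,
        Perm.one_apply]⟩
    have hSc : ∀ g ∈ S, ∀ h ∈ S, g * h = h * g := by
      rintro _ ⟨i, rfl⟩ _ ⟨j, rfl⟩
      dsimp only
      by_cases hij : (x ^ i) a = (x ^ j) a
      · rw [hij, (hper i j).1 hij]
      · rw [mul_swap_eq_swap_mul, swap_apply_of_ne_of_ne (Ne.symm hij) (fun e => hne j i e),
          swap_apply_of_ne_of_ne (fun e => hne i j e.symm) (fun e => hij ((hper i j).2 e.symm))]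
    have hS2 : ∀ g ∈ Subgroup.closure S, g * g = 1 := by
      haveI := Subgroup.isMulCommutative_closure hSc
      intro g hg
      induction hg using Subgroup.closure_induction with
      | mem y hy => obtain ⟨i, rfl⟩ := hy; exact swap_mul_self _ _
      | one => rw [mul_one]
      | mul y w hy hw ihy ihw =>
        have hcm : y * w = w * y := congrArg Subtype.val
          (IsMulCommutative.is_comm.comm (⟨y, hy⟩ : Subgroup.closure S) ⟨w, hw⟩)
        calc y * w * (y * w) = y * (w * y) * w := by group
          _ = y * (y * w) * w := by rw [← hcm]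
          _ = y * y * (w * w) := by group
          _ = 1 := by rw [ihy, ihw, mul_one]
      | inv y hy ihy => rw [← mul_inv_rev, ihy, inv_one]
    have hB : IsPGroup 2 (Subgroup.closure S) := fun g => ⟨1, Subtype.ext (by
      rw [pow_one, SubmonoidClass.coe_pow, OneMemClass.coe_one, sq]; exact hS2 _ g.2)⟩
    have hnorm : Subgroup.zpowers x ≤ Subgroup.normalizer (Subgroup.closure S : Set (Perm α)) := by
      rw [Subgroup.zpowers_le, Subgroup.mem_normalizer_iff_map_conj_eq, MonoidHom.map_closure]
      congr 1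
      have hconj : ∀ i : ℤ, x * swap ((x ^ i) a) ((x ^ i) b) * x⁻¹ = swap ((x ^ (1 + i)) a) ((x ^ (1 + i)) b) := by
        intro i
        rw [mul_swap_eq_swap_mul, mul_inv_cancel_right, zpow_add, zpow_one, Perm.mul_apply, Perm.mul_apply]
      ext g
      constructor
      · rintro ⟨_, ⟨i, rfl⟩, rfl⟩
        exact ⟨1 + i, (hconj i).symm⟩
      · rintro ⟨i, rfl⟩
        refine ⟨_, ⟨i - 1, rfl⟩, ?_⟩
        show x * swap ((x ^ (i - 1)) a) ((x ^ (i - 1)) b) * x⁻¹ = _
        rw [hconj, add_sub_cancel]
    have hF := hX.to_sup_of_normal_right' hB hnorm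
    have ht : swap a b ∈ Subgroup.closure S := Subgroup.subset_closure ⟨0, by simp⟩
    have hconjs : c₁ * swap a b * c₁⁻¹ = swap (x a) b := by
      rw [mul_swap_eq_swap_mul, mul_inv_cancel_right, hc1a, hc1b]
    refine false_of_two (a := b) (b := x a) (c := a) hE hF hxE
      ((le_sup_left : Subgroup.zpowers x ≤ _) (Subgroup.mem_zpowers x)) hsE ((le_sup_right : Subgroup.closure S ≤ _) ht)
      hu (fun e => hne 1 0 (by simpa using e.symm)) (fun e => hne 0 0 (by simpa using e.symm)) ha ?_
    rw [swap_comm b (x a), ← hconjs, swap_comm b a]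
    exact mul_mem (mul_mem (mul_mem (Subgroup.subset_closure (Set.mem_insert _ _))
      (Subgroup.subset_closure (Set.mem_insert_of_mem _ rfl)))
      (inv_mem (Subgroup.subset_closure (Set.mem_insert _ _)))) (Subgroup.subset_closure (Set.mem_insert_of_mem _ rfl))

theorem good_iff (x : Perm α) :
    Good x ↔ (Fintype.card α ≤ x.support.card + 2 ∧ x.cycleType.Nodup) := by
  constructor
  · rintro ⟨h1, h2⟩
    refine ⟨?_, ?_⟩
    · have h : x.supportᶜ.card ≤ 2 := by
        by_contra h
        obtain ⟨a, b, c, ha, hb, hc, hab, hac, hbc⟩ := Finset.two_lt_card_iff.1 (Nat.not_le.1 h)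
        simp only [Finset.mem_compl, notMem_support] at ha hb hc
        rcases h1 a b c ha hb hc with h | h | h <;> contradiction
      rw [Finset.card_compl] at h
      omega
    · rw [cycleType_def, Multiset.nodup_map_iff_of_inj_on]
      · exact x.cycleFactorsFinset.nodup
      · intro c hc d hd e
        obtain ⟨a, ha⟩ := (mem_cycleFactorsFinset_iff.1 hc).1.nonempty_support
        obtain ⟨b, hb⟩ := (mem_cycleFactorsFinset_iff.1 hd).1.nonempty_support
        have hca := cycle_is_cycleOf ha hc
        have hdb := cycle_is_cycleOf hb hd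
        have hxa : x a ≠ a := mem_support.1 (mem_cycleFactorsFinset_support_le hc ha)
        have hxb : x b ≠ b := mem_support.1 (mem_cycleFactorsFinset_support_le hd hb)
        rw [hca, hdb]
        exact (h2 a b hxa hxb (by simpa [len, ← hca, ← hdb] using e)).cycleOf_eq
  · rintro ⟨h1, h2⟩
    refine ⟨fun a b c ha hb hc => ?_, fun a b ha hb hlen => ?_⟩
    · by_contra hne
      push Not at hne
      have h := Finset.card_le_univ ({a, b, c} ∪ x.support : Finset α)
      rw [Finset.card_union_of_disjoint, Finset.card_eq_three.2 ⟨a, b, c, hne.1, hne.2.1, hne.2.2, rfl⟩] at h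
      · omega
      · rw [Finset.disjoint_left]
        intro d hd hd'
        rw [mem_support] at hd'
        simp only [Finset.mem_insert, Finset.mem_singleton] at hd
        rcases hd with rfl | rfl | rfl <;> contradiction
    · rw [cycleType_def] at h2
      have hca : x.cycleOf a ∈ x.cycleFactorsFinset := cycleOf_mem_cycleFactorsFinset_iff.2 (mem_support.2 ha)
      have hcb : x.cycleOf b ∈ x.cycleFactorsFinset := cycleOf_mem_cycleFactorsFinset_iff.2 (mem_support.2 hb)
      have heq := Multiset.inj_on_of_nodup_map h2 _ hca _ hcb hlen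
      by_contra hne
      have h := cycleOf_apply_of_not_sameCycle hne
      rw [heq, cycleOf_apply_self] at h
      exact hb h

theorem result {x : Perm α} (hx : ∃ k : ℕ, orderOf x = 2 ^ k) :
    (∃! P : Sylow 2 (Perm α), x ∈ P) ↔ (Fintype.card α ≤ x.support.card + 2 ∧ x.cycleType.Nodup) := by
  rw [← good_iff]
  refine ⟨good_of_unique hx, fun h => ?_⟩
  haveI := Fact.mk Nat.prime_two
  obtain ⟨k, hk⟩ := hx
  obtain ⟨P, hP⟩ := (IsPGroup.of_card (p := 2) (G := Subgroup.zpowers x) (n := k)
    (by rw [Nat.card_zpowers, hk])).exists_le_sylow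
  exact ⟨P, hP (Subgroup.mem_zpowers x), fun Q hQ => unique_of_good _ α le_rfl x h Q P hQ (hP (Subgroup.mem_zpowers x))⟩

end

end CfsgLib.Involution.PermUniqueSylow
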