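import Cfsg.Agent.Lib.Involution.DihedralSylowFusion
import Cfsg.Agent.Lib.Involution.KleinAutomizer
import Cfsg.Prelude.Def_TwoFusion

/-!
# Involution classes, fours groups and normal 2-complements for dihedral Sylow 2-subgroups
-/

set_option autoImplicit false

namespace CfsgLib.Involution.DihedralSylow

open scoped Pointwise

variable {G : Type*} [Group G] [Finite G] {S : Sylow 2 G} {a b : G} {k : ℕ}
  (h : Gen (S : Subgroup G) a b k)
include h

theorem two_fours (hcard : 4 < Nat.card S) :
    ∃ U₁ U₂ : Subgroup G, IsKleinFour U₁ ∧ IsKleinFour U₂ ∧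
      ¬ (∃ x : G, U₁.map (MulAut.conj x).toMonoidHom = U₂) ∧
      ∀ V : Subgroup G, IsKleinFour V →
        (∃ x : G, V.map (MulAut.conj x).toMonoidHom = U₁) ∨
        (∃ x : G, V.map (MulAut.conj x).toMonoidHom = U₂) := by
  have hk : 1 ≤ k := by
    by_contra hk
    rw [card_sylow h, show k = 0 by omega] at hcard
    norm_num at hcard
  obtain ⟨U₁, h1S, h1k, h1w, h1z, h1iff⟩ := klein_refl h 0
  obtain ⟨U₂, h2S, h2k, h2w, h2z, h2iff⟩ := klein_refl h 1
  refine ⟨U₁, U₂, h1k, h2k, ?_, fun V hV => ?_⟩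
  · rintro ⟨x, hx⟩
    exact not_conj h hk h1S h2S h1k h2k h1w h2w (by norm_num) x hx
  obtain ⟨x, hxS, hxk⟩ := exists_conj_standard S hV
  obtain ⟨hzV, i, hiff⟩ := klein_cases h hxS hxk
  set W := V.map (MulAut.conj x).toMonoidHom with hW
  have key : ∀ (t j : ℤ) (U : Subgroup G), IsKleinFour U → a ^ j * b ∈ U →
      a ^ ((2 : ℤ) ^ k) ∈ U → i + 2 * t = j → W.map (MulAut.conj (a ^ t)).toMonoidHom = U := by
    intro t j U hUk hjU hzU he
    haveI := hUk
    haveI := hxk
    refine Subgroup.eq_of_le_of_card_ge ?_ ?_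
    · rintro _ ⟨w, hw, rfl⟩
      have hz : MulAut.conj (a ^ t) (a ^ ((2 : ℤ) ^ k)) = a ^ ((2 : ℤ) ^ k) := by
        rw [MulAut.conj_apply, Commute.zpow_zpow_self a _ _, mul_inv_cancel_right]
      have hs : MulAut.conj (a ^ t) (a ^ i * b) = a ^ j * b := by
        rw [MulAut.conj_apply, conj_rot h, he]
      change MulAut.conj (a ^ t) w ∈ U
      rcases (hiff w).1 hw with rfl | rfl | rfl | rfl
      · rw [map_one]; exact one_mem _
      · rw [hz]; exact hzU
      · rw [hs]; exact hjU
      · rw [map_mul, hz, hs]; exact mul_mem hzU hjU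
    · rw [← Nat.card_congr (W.equivMapOfInjective _ (MulAut.conj (a ^ t)).injective).toEquiv,
        IsKleinFour.card_four, IsKleinFour.card_four]
  have hcomp : ∀ t : G, W.map (MulAut.conj t).toMonoidHom =
      V.map (MulAut.conj (t * x)).toMonoidHom := by
    intro t
    rw [hW, Subgroup.map_map]; congr 1; ext g; simp [mul_assoc]
  rcases Int.even_or_odd i with ⟨e, he⟩ | ⟨e, he⟩
  · exact Or.inl ⟨_, (hcomp _).symm.trans (key (-e) 0 U₁ h1k h1w h1z (by rw [he]; ring))⟩
  · exact Or.inr ⟨_, (hcomp _).symm.trans (key (-e) 1 U₂ h2k h2w h2z (by rw [he]; ring))⟩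

theorem one_class (hcard : Nat.card S = 4) {U V : Subgroup G} (hU : IsKleinFour U)
    (hV : IsKleinFour V) : ∃ x : G, U.map (MulAut.conj x).toMonoidHom = V := by
  haveI := hU
  haveI := hV
  have key : ∀ W : Subgroup G, IsKleinFour W → ∃ x : G,
      W.map (MulAut.conj x).toMonoidHom = (S : Subgroup G) := fun W hW => by
    obtain ⟨x, hxS, hxk⟩ := exists_conj_standard S hW
    haveI := hxk
    exact ⟨x, Subgroup.eq_of_le_of_card_ge hxS (by rw [hcard, IsKleinFour.card_four])⟩
  obtain ⟨x, hx⟩ := key U hU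
  obtain ⟨y, hy⟩ := key V hV
  refine ⟨y⁻¹ * x, ?_⟩
  have h1 := congrArg (Subgroup.map (MulAut.conj y⁻¹).toMonoidHom) (hx.trans hy.symm)
  rw [Subgroup.map_map, Subgroup.map_map] at h1
  convert h1 using 1
  · congr 1; ext g; simp [mul_assoc]
  · conv_lhs => rw [← Subgroup.map_id V]
    congr 1; ext g; simp [mul_assoc]

theorem all_conj_of_no_index_two (hno : ∀ H : Subgroup G, H.index ≠ 2) (x y : G)
    (hx : orderOf x = 2) (hy : orderOf y = 2) : IsConj x y := by
  have key : ∀ w : G, orderOf w = 2 → IsConj (a ^ ((2 : ℤ) ^ k)) w := by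
    intro w hw
    obtain ⟨g, hg⟩ := Basic.exists_conj_mem S hw
    refine IsConj.trans ?_ (isConj_iff.2 ⟨g⁻¹, by group⟩ : IsConj (g * w * g⁻¹) w)
    have hsq : g * w * g⁻¹ * (g * w * g⁻¹) = 1 :=
      Dihedral.mul_self ((Dihedral.orderOf_conj g w).trans hw)
    rcases involution_cases h hg hsq with e | e | ⟨i, e⟩
    · rw [conj_eq_one_iff] at e
      exact absurd e (Dihedral.ne_one hw)
    · rw [e]
    · rw [e]
      have hidx : (Subgroup.zpowers a).relIndex (S : Subgroup G) = 2 := by
        have h1 := ((Subgroup.zpowers a).subgroupOf (S : Subgroup G)).card_mul_index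
        rw [Nat.card_congr (Subgroup.subgroupOfEquivOfLe (Subgroup.zpowers_le.2 h.amem)).toEquiv,
          Nat.card_zpowers, h.ord, card_sylow h, pow_succ 2 (k + 1), ← Subgroup.relIndex] at h1
        exact Nat.eq_of_mul_eq_mul_left (pow_pos two_pos _) h1
      rcases CfsgLib.Fusion.ThompsonTransfer.thompson_transfer S (Subgroup.zpowers a)
        (Subgroup.zpowers_le.2 h.amem) hidx (a ^ i * b) (by rw [pow_two]; exact refl_sq h i)
        (refl_mem h i) (refl_not_rot h i) with ⟨M, -, hM, -⟩ | ⟨c, hc⟩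
      · exact absurd hM (hno M)
      obtain ⟨j, hj⟩ := Subgroup.mem_zpowers_iff.1 hc
      have h1 : a ^ j * a ^ j = 1 := by
        rw [hj]
        exact Dihedral.mul_self ((Dihedral.orderOf_conj c _).trans (refl_orderOf h i))
      rcases zpow_involution h h1 with e1 | e1
      · rw [hj, conj_eq_one_iff] at e1
        exact absurd e1 (refl_ne_one h i)
      · rw [hj] at e1
        exact isConj_iff.2 ⟨c⁻¹, by rw [← e1]; group⟩
  exact (key x hx).symm.trans (key y hy)

theorem no_index_two_of_all_conj (hall : ∀ x y : G, orderOf x = 2 → orderOf y = 2 → IsConj x y)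
    (H : Subgroup G) : H.index ≠ 2 := by
  intro hH
  haveI : Fact (Nat.Prime 2) := ⟨Nat.prime_two⟩
  haveI := Subgroup.normal_of_index_eq_two hH
  have hin : ∀ (w v : G), orderOf w = 2 → w ∈ H → orderOf v = 2 → v ∈ H := by
    intro w v hw hwH hv
    obtain ⟨c, hc⟩ := isConj_iff.1 (hall w v hw hv)
    rw [← hc]
    exact Subgroup.Normal.conj_mem inferInstance w hwH c
  have hzH : a ^ ((2 : ℤ) ^ k) ∈ H := by
    by_contra hzH
    have hs0 : a ^ (0 : ℤ) * b ∉ H := fun hc => hzH (hin _ _ (refl_orderOf h 0) hc (z_orderOf h))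
    have hs1 : a ^ ((2 : ℤ) ^ k) * (a ^ (0 : ℤ) * b) ∈ H :=
      (Subgroup.mul_mem_iff_of_index_two hH).2 (iff_of_false hzH hs0)
    rw [← mul_assoc, ← zpow_add] at hs1
    exact hzH (hin _ _ (refl_orderOf h _) hs1 (z_orderOf h))
  have hall' : ∀ v : G, orderOf v = 2 → v ∈ H := fun v hv => hin _ v (z_orderOf h) hzH hv
  have hSH : (S : Subgroup G) ≤ H := by
    intro x hx
    have hrefl : ∀ i : ℤ, a ^ i * b ∈ H := fun i => hall' _ (refl_orderOf h i)
    rcases h.cases x hx with ⟨i, rfl⟩ | ⟨i, rfl⟩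
    · rw [show i = i - 0 by ring, ← refl_mul h]; exact mul_mem (hrefl i) (hrefl 0)
    · exact hrefl i
  have h2 := Subgroup.index_dvd_of_le hSH
  rw [hH] at h2
  exact S.not_dvd_index h2

theorem even_automizer {U : Subgroup G} (hUS : U ≤ S) (hU : IsKleinFour U) (hk : 1 ≤ k) :
    2 ∣ (Subgroup.centralizer (U : Set G)).relIndex (Subgroup.normalizer (U : Set G)) := by
  haveI := hU
  obtain ⟨hzU, i, hiff⟩ := klein_cases h hUS hU
  obtain ⟨k', rfl⟩ : ∃ k', k = k' + 1 := Nat.exists_eq_add_one.2 hk
  set q := a ^ ((2 : ℤ) ^ k') with hq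
  set z := a ^ ((2 : ℤ) ^ (k' + 1)) with hz
  have hqq : q * q = z := by rw [hq, hz, ← zpow_add, pow_succ]; congr 1; ring
  have hz' : q * z * q⁻¹ = z := by rw [hq, hz, Commute.zpow_zpow_self a _ _, mul_inv_cancel_right]
  have hs : q * (a ^ i * b) * q⁻¹ = z * (a ^ i * b) := by
    rw [hq, hz, conj_rot h, ← mul_assoc, ← zpow_add, pow_succ]; congr 2; ring
  refine KleinAutomizer.two_dvd_relIndex (n := q) ?_ ?_ ?_
  · refine Subgroup.mem_normalizer_iff_map_conj_eq.2 (Subgroup.eq_of_le_of_card_ge ?_ ?_)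
    · rintro _ ⟨w, hw, rfl⟩
      change MulAut.conj q w ∈ U
      rcases (hiff w).1 hw with rfl | rfl | rfl | rfl
      · rw [map_one]; exact one_mem _
      · rw [MulAut.conj_apply, hz']; exact hzU
      · rw [MulAut.conj_apply, hs]; exact (hiff _).2 (Or.inr (Or.inr (Or.inr rfl)))
      · rw [map_mul, MulAut.conj_apply, MulAut.conj_apply, hz', hs, ← mul_assoc, hz, z_sq h, one_mul]
        exact (hiff _).2 (Or.inr (Or.inr (Or.inl rfl)))
    · rw [← Nat.card_congr (U.equivMapOfInjective (MulAut.conj q : G →* G)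
        (MulAut.conj q).injective).toEquiv]
  · intro hc
    rw [Subgroup.mem_centralizer_iff] at hc
    have h1 := hc _ ((hiff (a ^ i * b)).2 (Or.inr (Or.inr (Or.inl rfl))))
    rw [← h1, mul_inv_cancel_right] at hs
    exact z_ne h (mul_eq_right.1 hs.symm)
  · rw [hqq, Subgroup.mem_centralizer_iff]
    intro u hu
    exact TwoGroupLifts.commute_of_isKleinFour hU hu hzU

/-- The main equivalence. -/
theorem fusion_simple_iff :
    ((∀ H : Subgroup G, H.index ≠ 2) ∧ (∀ z : G, ¬ Cfsg.IsIsolatedInvolution z)) ↔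
      ((∀ x y : G, orderOf x = 2 → orderOf y = 2 → IsConj x y) ∨
        (∀ U : Subgroup G, U ≤ S → IsKleinFour U →
          (Subgroup.centralizer (U : Set G)).relIndex (Subgroup.normalizer (U : Set G)) =
            (if Nat.card S = 4 then 3 else 6))) := by
  constructor
  · exact fun hL => Or.inl (all_conj_of_no_index_two h hL.1)
  intro hR
  have hall : ∀ x y : G, orderOf x = 2 → orderOf y = 2 → IsConj x y := by
    rcases hR with hR | hR
    · exact hR
    have key : ∀ w : G, orderOf w = 2 → IsConj (a ^ ((2 : ℤ) ^ k)) w := by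
      intro w hw
      obtain ⟨g, hg⟩ := Basic.exists_conj_mem S hw
      refine IsConj.trans ?_ (isConj_iff.2 ⟨g⁻¹, by group⟩ : IsConj (g * w * g⁻¹) w)
      have hsq : g * w * g⁻¹ * (g * w * g⁻¹) = 1 :=
        Dihedral.mul_self ((Dihedral.orderOf_conj g w).trans hw)
      rcases involution_cases h hg hsq with e | e | ⟨i, e⟩
      · rw [conj_eq_one_iff] at e
        exact absurd e (Dihedral.ne_one hw)
      · rw [e]
      rw [e]
      obtain ⟨U, hUS, hUk, hwU, hzU, hiff⟩ := klein_refl h i
      set N := Subgroup.normalizer (U : Set G)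
      have h3 : 3 ≤ (Subgroup.centralizer (U : Set G)).relIndex N := by
        rw [hR U hUS hUk]; split <;> omega
      -- some normalising element moves the central involution
      obtain ⟨n, hn, hnz⟩ : ∃ n ∈ N, n * a ^ ((2 : ℤ) ^ k) * n⁻¹ ≠ a ^ ((2 : ℤ) ^ k) := by
        by_contra hno
        push Not at hno
        exact absurd (h3.trans (KleinAutomizer.relIndex_le_two hUk hzU (z_ne h) hno)) (by norm_num)
      set z := a ^ ((2 : ℤ) ^ k) with hz
      have hswap : IsConj (a ^ i * b) (z * (a ^ i * b)) → IsConj z (a ^ i * b) := by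
        intro hs
        rcases (hiff _).1 ((Subgroup.mem_normalizer_iff.1 hn z).1 hzU) with e1 | e1 | e1 | e1
        · exact absurd (conj_eq_one_iff.1 e1) (z_ne h)
        · exact absurd e1 hnz
        · exact isConj_iff.2 ⟨n, e1⟩
        · exact (isConj_iff.2 ⟨n, e1⟩ : IsConj z (z * (a ^ i * b))).trans hs.symm
      rcases Nat.eq_zero_or_pos k with hk | hk
      · -- the Sylow subgroup is the fours group
        rcases (hiff _).1 ((Subgroup.mem_normalizer_iff.1 hn z).1 hzU) with e1 | e1 | e1 | e1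
        · exact absurd (conj_eq_one_iff.1 e1) (z_ne h)
        · exact absurd e1 hnz
        · exact isConj_iff.2 ⟨n, e1⟩
        · rcases (hiff _).1 ((Subgroup.mem_normalizer_iff.1 hn _).1 ((hiff _).2
            (Or.inr (Or.inr (Or.inr rfl))))) with e2 | e2 | e2 | e2
          · exfalso
            rw [conj_eq_one_iff] at e2
            exact refl_ne h i _ ((eq_inv_of_mul_eq_one_right e2).trans
              (inv_eq_of_mul_eq_one_right (z_sq h)))
          · -- `n` swaps `z` and the third involution, so it moves the reflection to itself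
            have h2 : 2 ∣ (Subgroup.centralizer (U : Set G)).relIndex N := by
              refine KleinAutomizer.two_dvd_relIndex hn ?_ ?_
              · intro hc
                exact hnz (by rw [← Subgroup.mem_centralizer_iff.1 hc z hzU, mul_inv_cancel_right])
              · rw [Subgroup.mem_centralizer_iff]
                intro u hu
                have hfix : ∀ v ∈ U, n * (n * v * n⁻¹) * n⁻¹ = v := by
                  have hA : n * (n * z * n⁻¹) * n⁻¹ = z := by rw [e1, e2]
                  have hB : n * (n * (z * (a ^ i * b)) * n⁻¹) * n⁻¹ = z * (a ^ i * b) := by rw [e2, e1]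
                  intro v hv
                  let f : G →* G := (MulAut.conj (n * n)).toMonoidHom
                  have hf : ∀ v, f v = n * (n * v * n⁻¹) * n⁻¹ := fun v => by simp [f, mul_assoc]
                  rw [← hf] at hA hB ⊢
                  have hC : f (a ^ i * b) = a ^ i * b := by
                    have := hB
                    rw [map_mul, hA] at this
                    exact mul_left_cancel this
                  rcases (hiff v).1 hv with rfl | rfl | rfl | rfl
                  · exact map_one f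
                  · exact hA
                  · exact hC
                  · exact hB
                have := hfix u hu
                calc u * (n * n) = n * (n * u * n⁻¹) * n⁻¹ * (n * n) := by rw [this]
                  _ = n * n * u := by group
            have h4 : Nat.card S = 4 := by rw [card_sylow h, hk]; norm_num
            rw [hR U hUS hUk, if_pos h4] at h2
            omega
          · exact (isConj_iff.2 ⟨n, e1⟩ : IsConj z (z * (a ^ i * b))).trans (isConj_iff.2 ⟨n, e2⟩)
          · exfalso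
            exact refl_ne_one h i (mul_eq_left.1 (mul_left_cancel (mul_right_cancel (e2.trans e1.symm))))
      · obtain ⟨k', rfl⟩ : ∃ k', k = k' + 1 := Nat.exists_eq_add_one.2 hk
        refine hswap (isConj_iff.2 ⟨a ^ ((2 : ℤ) ^ k'), ?_⟩)
        rw [hz, conj_rot h, ← mul_assoc, ← zpow_add, pow_succ]; congr 2; ring
    exact fun x y hx hy => (key x hx).symm.trans (key y hy)
  refine ⟨no_index_two_of_all_conj h hall, fun z hz => ?_⟩
  obtain ⟨g, hg⟩ := Basic.exists_conj_mem S hz.1
  have hz' : orderOf (g * z * g⁻¹) = 2 := (Dihedral.orderOf_conj g z).trans hz.1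
  obtain ⟨v, hv2, hvne, hvc⟩ : ∃ v : G, orderOf v = 2 ∧ v ≠ g * z * g⁻¹ ∧
      Commute (g * z * g⁻¹) v := by
    rcases involution_cases h hg (Dihedral.mul_self hz') with e | e | ⟨i, e⟩
    · exact absurd e (Dihedral.ne_one hz')
    · exact ⟨a ^ (0 : ℤ) * b, refl_orderOf h 0, by rw [e]; exact refl_ne h _ _,
        by rw [e]; exact z_comm h _ (refl_mem h 0)⟩
    · exact ⟨_, z_orderOf h, by rw [e]; exact (refl_ne h _ _).symm,
        by rw [e]; exact (z_comm h _ (refl_mem h i)).symm⟩
  obtain ⟨c, hc⟩ := isConj_iff.1 (hall z (g⁻¹ * v * g) hz.1 (by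
    have := (Dihedral.orderOf_conj g⁻¹ v).trans hv2
    rwa [inv_inv] at this))
  have h2 := hz.2 c (by
    rw [hc]
    have := hvc.map (MulAut.conj g⁻¹).toMonoidHom
    simpa [mul_assoc] using this)
  rw [hc] at h2
  exact hvne (by rw [← h2]; group)

theorem npc_iff :
    Cfsg.HasNormalPComplement 2 G ↔ ∀ U : Subgroup G, U ≤ S → IsKleinFour U →
      Subgroup.normalizer (U : Set G) =
        Subgroup.centralizer (U : Set G) ⊔ ((S : Subgroup G) ⊓ Subgroup.normalizer (U : Set G)) := by
  haveI : Fact (Nat.Prime 2) := ⟨Nat.prime_two⟩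
  constructor
  · intro hnpc U hUS hU
    refine le_antisymm (fun n hn => ?_) (sup_le KleinAutomizer.le_normalizer inf_le_right)
    have hnpc' : Cfsg.HasNormalPComplement 2 (⊤ : Subgroup G) :=
      CfsgLib.Fusion.Basic.npc_subgroup hnpc _
    obtain ⟨s, hs, hsu⟩ := commute_of_complement hnpc' S le_top (Subgroup.mem_top n)
    have key : ∀ u ∈ U, s * u * s⁻¹ = n * u * n⁻¹ := fun u hu =>
      (hsu u (hUS hu) (hUS ((Subgroup.mem_normalizer_iff.1 hn u).1 hu))).symm
    have hsN : s ∈ Subgroup.normalizer (U : Set G) := by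
      rw [Subgroup.mem_normalizer_iff_map_conj_eq] at hn ⊢
      conv_rhs => rw [← hn]
      ext x
      constructor
      · rintro ⟨u, hu, rfl⟩; exact ⟨u, hu, (key u hu).symm⟩
      · rintro ⟨u, hu, rfl⟩; exact ⟨u, hu, key u hu⟩
    have hc : n * s⁻¹ ∈ Subgroup.centralizer (U : Set G) := by
      rw [Subgroup.mem_centralizer_iff]
      intro u hu
      have hu' : s⁻¹ * u * s ∈ U := by
        have := (Subgroup.mem_normalizer_iff.1 (inv_mem hsN) u).1 hu
        simpa using this
      have h1 := key _ hu'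
      rw [show s * (s⁻¹ * u * s) * s⁻¹ = u by group] at h1
      calc u * (n * s⁻¹) = n * (s⁻¹ * u * s) * n⁻¹ * (n * s⁻¹) := by rw [← h1]
        _ = n * s⁻¹ * u := by group
    rw [← inv_mul_cancel_right n s]
    exact Subgroup.mul_mem_sup hc ⟨hs, hsN⟩
  intro hyp
  refine CfsgLib.Fusion.Alperin.npc_of_frobenius S fun Q hQ g hg ho => ?_
  have hodd : Odd (orderOf g) := Nat.coprime_two_right.1 ho
  by_cases hK : IsKleinFour Q
  · set D := (S : Subgroup G) ⊓ Subgroup.normalizer (Q : Set G)
    set N := Subgroup.normalizer (Q : Set G)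
    set C := Subgroup.centralizer (Q : Set G)
    have hNC : N ≤ Subgroup.normalizer (C : Set G) := by
      intro n hn
      rw [Subgroup.mem_normalizer_iff]
      intro x
      constructor
      · intro hx
        rw [Subgroup.mem_centralizer_iff] at hx ⊢
        intro u hu
        have hu' : n⁻¹ * u * n ∈ Q := by
          have := (Subgroup.mem_normalizer_iff.1 (inv_mem hn) u).1 hu
          simpa using this
        calc u * (n * x * n⁻¹) = n * ((n⁻¹ * u * n) * x) * n⁻¹ := by group
          _ = n * x * n⁻¹ * u := by rw [hx _ hu']; group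
      · intro hx
        rw [Subgroup.mem_centralizer_iff] at hx ⊢
        intro u hu
        have h1 := hx _ ((Subgroup.mem_normalizer_iff.1 hn u).1 hu)
        calc u * x = n⁻¹ * (n * u * n⁻¹ * (n * x * n⁻¹)) * n := by group
          _ = x * u := by rw [h1]; group
    have hgm : g ∈ ((C : Set G) * (D : Set G)) := by
      rw [← Subgroup.coe_mul_of_right_le_normalizer_left _ _ (inf_le_right.trans hNC),
        SetLike.mem_coe, ← hyp Q hQ hK]
      exact hg
    obtain ⟨c, hc, d, hd, rfl⟩ := Set.mem_mul.1 hgm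
    have hpow : ∀ n : ℕ, (c * d) ^ n * (d ^ n)⁻¹ ∈ C := by
      intro n
      induction n with
      | zero => simp
      | succ n ih =>
        have h1 : (c * d) ^ (n + 1) * (d ^ (n + 1))⁻¹ =
            c * (d * ((c * d) ^ n * (d ^ n)⁻¹) * d⁻¹) := by
          rw [pow_succ' (c * d), pow_succ' d]; group
        rw [h1]
        exact mul_mem hc ((Subgroup.mem_normalizer_iff.1 (hNC hd.2) _).1 ih)
    obtain ⟨e, he⟩ := IsPGroup.iff_orderOf.1 S.2 ⟨d, hd.1⟩
    rw [← Subgroup.orderOf_coe] at he
    have h2 := hpow (2 ^ e)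
    rw [← he, pow_orderOf_eq_one, inv_one, mul_one, he] at h2
    obtain ⟨m, hm⟩ := exists_pow_eq_self_of_coprime
      ((Nat.coprime_two_left.2 hodd).pow_left e)
    rw [← hm]
    exact pow_mem h2 m
  refine centralizes h hQ hg hodd fun hzQ => ?_
  set z := a ^ ((2 : ℤ) ^ k) with hz
  refine mul_inv_eq_iff_eq_mul.1 ?_
  have hm : g * z * g⁻¹ ∈ Q := (Subgroup.mem_normalizer_iff.1 hg z).1 hzQ
  by_contra hne
  have hsq : g * z * g⁻¹ * (g * z * g⁻¹) = 1 :=
    Dihedral.mul_self ((Dihedral.orderOf_conj g z).trans (z_orderOf h))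
  rcases involution_cases h (hQ hm) hsq with e | e | ⟨i, e⟩
  · exact z_ne h (conj_eq_one_iff.1 e)
  · exact hne e
  apply hK
  obtain ⟨U, hUS, hUk, hwU, hzU, hiff⟩ := klein_refl h i
  have hUQ : U ≤ Q := by
    intro u hu
    rcases (hiff u).1 hu with rfl | rfl | rfl | rfl
    · exact one_mem _
    · exact hzQ
    · exact e ▸ hm
    · exact mul_mem hzQ (e ▸ hm)
  suffices hQU : Q ≤ U by rw [le_antisymm hQU hUQ]; exact hUk
  intro x hx
  have hrot : ∀ j : ℤ, a ^ j ∈ Q → a ^ j ∈ U := by
    intro j hj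
    rcases h.cases (g * a ^ j * g⁻¹) (hQ ((Subgroup.mem_normalizer_iff.1 hg _).1 hj)) with
      ⟨l, hl⟩ | ⟨l, hl⟩
    · -- the image commutes with `g * z * g⁻¹`, a reflection
      have hc : Commute (a ^ l) (a ^ i * b) := by
        rw [← hl, ← e]
        exact ((Commute.zpow_zpow_self a j _)).map (MulAut.conj g).toMonoidHom
      have h1 := conj_rot h l i
      rw [hc.eq, mul_inv_cancel_right, mul_left_inj, ← mul_inv_eq_one, ← zpow_neg, ← zpow_add] at h1
      have h2 : a ^ l * a ^ l = 1 := by
        rw [← zpow_add, zpow_eq_one h]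
        rw [zpow_eq_one h, show i + -(i + 2 * l) = -(l + l) by ring, dvd_neg] at h1
        exact h1
      rw [← hl] at h2
      have h3 : a ^ j * a ^ j = 1 := by
        have : g * (a ^ j * a ^ j) * g⁻¹ = 1 := by rw [← h2]; group
        exact conj_eq_one_iff.1 this
      rcases zpow_involution h h3 with e' | e' <;> rw [e']
      exacts [one_mem U, hzU]
    · have h3 : a ^ j * a ^ j = 1 := by
        have : g * (a ^ j * a ^ j) * g⁻¹ = 1 := by
          rw [show g * (a ^ j * a ^ j) * g⁻¹ = g * a ^ j * g⁻¹ * (g * a ^ j * g⁻¹) by group, hl,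
            refl_sq h]
        exact conj_eq_one_iff.1 this
      rcases zpow_involution h h3 with e' | e' <;> rw [e']
      exacts [one_mem U, hzU]
  rcases h.cases x (hQ hx) with ⟨j, rfl⟩ | ⟨j, rfl⟩
  · exact hrot j hx
  · have h1 : a ^ (j - i) ∈ U := hrot _ (by rw [← refl_mul h]; exact mul_mem hx (e ▸ hm))
    have h2 : a ^ j * b = a ^ (j - i) * (a ^ i * b) := by
      rw [← mul_assoc, ← zpow_add, sub_add_cancel]
    rw [h2]
    exact mul_mem h1 hwU

end CfsgLib.Involution.DihedralSylow
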