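import Mathlib
import Cfsg.Agent.Lib.Involution.GL2SylowTwo
import Cfsg.Agent.Lib.Classical.HermMatrix

/-!
# Sylow 2-subgroups of `GU(2,q)`, `q` odd
-/

namespace CfsgLib.Involution.GU2SylowTwo

open Matrix CfsgLib.Involution.SylowTwoType CfsgLib.Involution.GL2SylowTwo

variable {F : Type*} [Field F] {q : ℕ}

theorem hermForm_two (u v : Fin 2 → F) :
    Cfsg.hermForm 2 F q u v = u 0 * v 0 ^ q + u 1 * v 1 ^ q := by
  simp [Cfsg.hermForm, Fin.sum_univ_two]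

theorem dg_mulVec (a b : Fˣ) (u : Fin 2 → F) :
    ((dg (a, b) : GL (Fin 2) F) : Matrix (Fin 2) (Fin 2) F) *ᵥ u = ![(a : F) * u 0, (b : F) * u 1] := by
  ext i; fin_cases i <;> simp [dg, Matrix.mulVec, dotProduct, Fin.sum_univ_two]

theorem sw_mulVec (u : Fin 2 → F) :
    ((sw : GL (Fin 2) F) : Matrix (Fin 2) (Fin 2) F) *ᵥ u = ![u 1, u 0] := by
  ext i; fin_cases i <;> simp [sw, Matrix.mulVec, dotProduct, Fin.sum_univ_two]

theorem mem_GU {g : GL (Fin 2) F} : g ∈ Cfsg.GU 2 F q ↔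
    ∀ u v, Cfsg.hermForm 2 F q ((g : Matrix (Fin 2) (Fin 2) F) *ᵥ u)
      ((g : Matrix (Fin 2) (Fin 2) F) *ᵥ v) = Cfsg.hermForm 2 F q u v := Iff.rfl

theorem dg_mem {a b : Fˣ} (ha : a ^ (q + 1) = 1) (hb : b ^ (q + 1) = 1) :
    (dg (a, b) : GL (Fin 2) F) ∈ Cfsg.GU 2 F q := by
  refine mem_GU.2 fun u v => ?_
  have ha' : (a : F) * (a : F) ^ q = 1 := by
    rw [← pow_succ', ← Units.val_pow_eq_pow_val, ha, Units.val_one]
  have hb' : (b : F) * (b : F) ^ q = 1 := by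
    rw [← pow_succ', ← Units.val_pow_eq_pow_val, hb, Units.val_one]
  rw [dg_mulVec, dg_mulVec, hermForm_two, hermForm_two]
  simp only [Matrix.cons_val_zero, Matrix.cons_val_one, mul_pow]
  linear_combination (u 0 * v 0 ^ q) * ha' + (u 1 * v 1 ^ q) * hb'

theorem sw_mem : (sw : GL (Fin 2) F) ∈ Cfsg.GU 2 F q := by
  refine mem_GU.2 fun u v => ?_
  rw [sw_mulVec, sw_mulVec, hermForm_two, hermForm_two]
  simp [add_comm]

theorem card_GU_two [Fintype F] (hF : Fintype.card F = q ^ 2) :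
    Nat.card (Cfsg.GU 2 F q) = (q + 1) * (q + 1) * (q - 1) * q := by
  rw [CfsgLib.Classical.card_GU hF 2]
  simp only [Finset.prod_range_succ, Finset.prod_range_zero, one_mul]
  simp only [show ¬ Even 1 by simp, show Even 0 by simp, if_true, if_false, pow_one]
  obtain ⟨r, hr⟩ : ∃ r, q = r + 1 := by
    rcases q with _ | r
    · have := Fintype.card_pos (α := F); simp [hF] at this
    · exact ⟨r, rfl⟩
  subst hr
  have h1 : (r + 1) ^ 2 - 1 = (r + 2) * r := by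
    rw [Nat.sub_eq_iff_eq_add (Nat.one_le_pow _ _ (by omega))]; ring
  norm_num [h1]
  ring

theorem wreathed_GU [Fintype F] (hF : Fintype.card F = q ^ 2) (hq : q % 4 = 3)
    (P : Sylow 2 (Cfsg.GU 2 F q)) : Cfsg.IsWreathed (P : Subgroup (Cfsg.GU 2 F q)) := by
  obtain ⟨a, m, hm, ha⟩ := exists_two_factor (N := q + 1) (by omega)
  obtain ⟨c, hc⟩ := hm
  have ha2 : 2 ≤ a := by
    by_contra hlt
    interval_cases a <;> omega
  obtain ⟨d, hd⟩ : ∃ d, q - 1 = 2 * (2 * d + 1) := ⟨q / 4, by omega⟩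
  obtain ⟨z, hz⟩ := exists_unit_orderOf (F := F) (d := 2 ^ a) ⟨m * (q - 1), by
    obtain ⟨r, rfl⟩ : ∃ r, q = r + 1 := ⟨q - 1, by omega⟩
    rw [Nat.card_units, Nat.card_eq_fintype_card, hF, ← mul_assoc, ← ha, Nat.add_sub_cancel,
      Nat.sub_eq_iff_eq_add (Nat.one_le_pow _ _ (by omega))]
    ring⟩
  have hzq : z ^ (q + 1) = 1 := by
    rw [ha, pow_mul, ← hz, pow_orderOf_eq_one, one_pow]
  let x : Cfsg.GU 2 F q := ⟨dg (z, 1), dg_mem hzq (one_pow _)⟩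
  let y : Cfsg.GU 2 F q := ⟨dg (1, z), dg_mem (one_pow _) hzq⟩
  let w : Cfsg.GU 2 F q := ⟨sw, sw_mem⟩
  refine isWreathed_sylow (n := a) (m := m * m * (2 * d + 1) * q) ha2 ?_ ?_
    (x := x) (y := y) (z := w) ?_ ?_ ?_ ?_ (Subtype.ext (sw_conj z 1)) P
  · refine Nat.odd_mul.2 ⟨Nat.odd_mul.2 ⟨Nat.odd_mul.2 ⟨?_, ?_⟩, ?_⟩, Nat.odd_iff.2 (by omega)⟩
    · exact ⟨c, hc⟩
    · exact ⟨c, hc⟩
    · exact odd_two_mul_add_one d
  · rw [card_GU_two hF, hd, ha, pow_succ, two_mul a, pow_add]; ring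
  · rw [← Subgroup.orderOf_coe, orderOf_dg_left, hz]
  · exact Subtype.ext (by change dg (z, 1) * dg (1, z) = dg (1, z) * dg (z, 1); rw [← map_mul, ← map_mul, mul_comm])
  · rw [eq_bot_iff]
    rintro g ⟨⟨i, hi⟩, ⟨j, hj⟩⟩
    have h1 : (g : GL (Fin 2) F) ∈
        Subgroup.zpowers (dg (z, (1 : Fˣ))) ⊓ Subgroup.zpowers (dg ((1 : Fˣ), z)) :=
      ⟨⟨i, congrArg Subtype.val hi⟩, ⟨j, congrArg Subtype.val hj⟩⟩
    rw [disjoint_dg, Subgroup.mem_bot] at h1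
    exact Subgroup.mem_bot.2 (Subtype.ext h1)
  · rw [← Subgroup.orderOf_coe]; exact orderOf_sw

/-- The anti-diagonal Hermitian pairing. -/
def hyp (q : ℕ) (u v : Fin 2 → F) : F := u 0 * v 1 ^ q + u 1 * v 0 ^ q

theorem quasiDihedral_GU [Fintype F] (hF : Fintype.card F = q ^ 2) (hq : q % 4 = 1)
    (P : Sylow 2 (Cfsg.GU 2 F q)) : Cfsg.IsQuasiDihedral (P : Subgroup (Cfsg.GU 2 F q)) := by
  obtain ⟨σ, hσ, -⟩ := CfsgLib.Classical.exists_frob hF
  have hq1 : 1 < q := by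
    have h1 : 1 < Fintype.card F := Fintype.one_lt_card
    rw [hF] at h1
    by_contra h
    interval_cases q <;> omega
  obtain ⟨b, m, hm, hb⟩ := exists_two_factor (N := q - 1) (by omega)
  obtain ⟨c, hc⟩ := hm
  have hb2 : 2 ≤ b := by
    by_contra hlt
    interval_cases b <;> omega
  obtain ⟨d, hd⟩ : ∃ d, q + 1 = 2 * (2 * d + 1) := ⟨q / 4, by omega⟩
  have hq2 : q ^ 2 - 1 = (q + 1) * (q - 1) := by
    obtain ⟨r, rfl⟩ : ∃ r, q = r + 1 := ⟨q - 1, by omega⟩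
    rw [Nat.add_sub_cancel, Nat.sub_eq_iff_eq_add (Nat.one_le_pow _ _ (by omega))]; ring
  have hcard : Nat.card Fˣ = (q + 1) * (q - 1) := by
    rw [Nat.card_units, Nat.card_eq_fintype_card, hF, hq2]
  obtain ⟨w, hw⟩ := exists_unit_orderOf (F := F) (d := 2 ^ (b + 1)) ⟨(2 * d + 1) * m, by
    rw [hcard, hb, hd, pow_succ]; ring⟩
  obtain ⟨v, hv⟩ := exists_unit_orderOf (F := F) (d := 2 * (q + 1)) (by
    rw [hcard, mul_comm 2]
    exact Nat.mul_dvd_mul_left _ ⟨(q - 1) / 2, by omega⟩)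
  have hv1 : v ^ (q + 1) ≠ 1 := fun h => by
    have := Nat.le_of_dvd (by omega) (hv ▸ orderOf_dvd_of_pow_eq_one h)
    omega
  have hv2 : (v ^ (q + 1)) ^ 2 = 1 := by
    rw [← pow_mul, mul_comm, ← hv, pow_orderOf_eq_one]
  have hvF : (v : F) ^ (q + 1) = -1 := by
    have h2 : ((v : F) ^ (q + 1)) ^ 2 = 1 := by
      rw [← Units.val_pow_eq_pow_val, ← Units.val_pow_eq_pow_val, hv2, Units.val_one]
    refine (sq_eq_one_iff.1 h2).resolve_left fun h => hv1 (Units.ext ?_)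
    rw [Units.val_pow_eq_pow_val, h, Units.val_one]
  have h2F : (2 : F) ≠ 0 := by
    intro h
    have hchar : ringChar F = 2 := by
      have h3 : ringChar F ∣ 2 := ringChar.dvd (R := F) (by exact_mod_cast h)
      exact (Nat.dvd_prime Nat.prime_two).1 h3 |>.resolve_left CharP.ringChar_ne_one
    obtain ⟨n, -, hn⟩ := FiniteField.card F (ringChar F)
    have h3 : Odd (Fintype.card F) := by rw [hF]; exact (Nat.odd_iff.2 (by omega)).pow
    rw [hn, hchar] at h3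
    exact Nat.not_odd_iff_even.2 (even_two.pow_of_ne_zero n.ne_zero) h3
  -- the isotropic basis
  let M : GL (Fin 2) F := Matrix.GeneralLinearGroup.mkOfDetNeZero !![1, 1; (v : F), -(v : F)] (by
    rw [Matrix.det_fin_two_of]
    intro h
    have h4 : (2 : F) * (v : F) = 0 := by linear_combination -h
    exact v.ne_zero ((mul_eq_zero.1 h4).resolve_left h2F))
  have hvv : (v : F) * σ (v : F) = -1 := by rw [hσ, ← pow_succ', hvF]
  have hM : ∀ u u' : Fin 2 → F, Cfsg.hermForm 2 F q ((M : Matrix (Fin 2) (Fin 2) F) *ᵥ u)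
      ((M : Matrix (Fin 2) (Fin 2) F) *ᵥ u') = 2 * hyp q u u' := fun u u' => by
    rw [hermForm_two, hyp]
    simp only [M, Matrix.GeneralLinearGroup.val_mkOfDetNeZero, Matrix.mulVec, dotProduct,
      Fin.sum_univ_two]
    simp [← hσ]
    linear_combination ((u 0 - u 1) * (σ (u' 0) - σ (u' 1))) * hvv
  have hconj : ∀ D : GL (Fin 2) F,
      (∀ u u', hyp q ((D : Matrix (Fin 2) (Fin 2) F) *ᵥ u) ((D : Matrix (Fin 2) (Fin 2) F) *ᵥ u')
        = hyp q u u') → M * D * M⁻¹ ∈ Cfsg.GU 2 F q := by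
    intro D hD
    refine mem_GU.2 fun u u' => ?_
    rw [Units.val_mul, Units.val_mul, ← Matrix.mulVec_mulVec, ← Matrix.mulVec_mulVec,
      ← Matrix.mulVec_mulVec, ← Matrix.mulVec_mulVec, hM, hD, ← hM, Matrix.mulVec_mulVec,
      Matrix.mulVec_mulVec, ← Units.val_mul, mul_inv_cancel, Units.val_one, Matrix.one_mulVec,
      Matrix.one_mulVec]
  have hw2 : w ^ (q * q) = w := by
    conv_rhs => rw [← pow_one w]
    rw [pow_eq_pow_iff_modEq, hw]
    refine ((Nat.modEq_iff_dvd' (by nlinarith)).2 ?_).symm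
    rw [← pow_two q, hq2, hb, hd]
    exact ⟨(2 * d + 1) * m, by rw [pow_succ]; ring⟩
  have hα : (w : F) * (((w ^ q)⁻¹ : Fˣ) : F) ^ q = 1 := by
    rw [← Units.val_pow_eq_pow_val, ← Units.val_mul, inv_pow, ← pow_mul, hw2, mul_inv_cancel,
      Units.val_one]
  have hβ : (((w ^ q)⁻¹ : Fˣ) : F) * (w : F) ^ q = 1 := by
    rw [← Units.val_pow_eq_pow_val, ← Units.val_mul, inv_mul_cancel, Units.val_one]
  let x : Cfsg.GU 2 F q := ⟨M * dg (w, (w ^ q)⁻¹) * M⁻¹, hconj _ fun u u' => by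
    rw [dg_mulVec, dg_mulVec, hyp, hyp]
    simp only [Matrix.cons_val_zero, Matrix.cons_val_one, mul_pow]
    linear_combination (u 0 * u' 1 ^ q) * hα + (u 1 * u' 0 ^ q) * hβ⟩
  let y : Cfsg.GU 2 F q := ⟨M * sw * M⁻¹, hconj _ fun u u' => by
    rw [sw_mulVec, sw_mulVec, hyp, hyp]
    simp [add_comm]⟩
  have hpow : (w ^ q)⁻¹ = w ^ (2 ^ b - 1) := by
    rw [inv_eq_iff_mul_eq_one, ← pow_add, ← orderOf_dvd_iff_pow_eq_one, hw]
    have h1 : q + (2 ^ b - 1) = 2 ^ b * m + 2 ^ b := by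
      have := Nat.two_pow_pos b
      omega
    exact ⟨c + 1, by rw [h1, hc, pow_succ]; ring⟩
  refine isQuasiDihedral_sylow (n := b + 1) (m := (2 * d + 1) * (2 * d + 1) * m * q) (by omega) ?_ ?_
    (x := x) (y := y) ?_ ?_ ?_ P
  · refine Nat.odd_mul.2 ⟨Nat.odd_mul.2 ⟨Nat.odd_mul.2 ⟨?_, ?_⟩, ?_⟩, Nat.odd_iff.2 (by omega)⟩
    · exact odd_two_mul_add_one d
    · exact odd_two_mul_add_one d
    · exact ⟨c, hc⟩
  · rw [card_GU_two hF, hd, hb, pow_succ, pow_succ]; ring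
  · rw [← Subgroup.orderOf_coe]
    change orderOf (MulAut.conj M (dg (w, (w ^ q)⁻¹))) = _
    rw [MulEquiv.orderOf_eq, orderOf_injective dg dg_injective, Prod.orderOf, orderOf_inv]
    have h1 : orderOf (w ^ q) ∣ orderOf w := orderOf_pow_dvd q
    rw [Nat.lcm_eq_left h1, hw]
  · rw [← Subgroup.orderOf_coe]
    change orderOf (MulAut.conj M sw) = _
    rw [MulEquiv.orderOf_eq, orderOf_sw]
  · refine Subtype.ext ?_
    change MulAut.conj M sw * MulAut.conj M (dg (w, (w ^ q)⁻¹)) * (MulAut.conj M sw)⁻¹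
      = MulAut.conj M (dg (w, (w ^ q)⁻¹)) ^ (2 ^ (b + 1 - 1) - 1)
    rw [Nat.add_sub_cancel, ← map_inv, ← map_mul, ← map_mul, ← map_pow, ← map_pow, sw_conj]
    congr 2
    refine Prod.ext hpow ?_
    change w = ((w ^ q)⁻¹) ^ (2 ^ b - 1)
    rw [inv_pow, ← pow_mul, mul_comm q, pow_mul, ← hpow, inv_pow, inv_inv, ← pow_mul, hw2]

end CfsgLib.Involution.GU2SylowTwo
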