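import Mathlib
import Cfsg.Prelude.Def_CaseTheorems
import Cfsg.Agent.Lib.Involution.TwoGroupLifts

/-!
# Quasi-dihedral 2-groups
-/

namespace CfsgLib.Involution.QuasiDihedral

open CfsgLib.Involution.TwoGroupLifts
open scoped commutatorElement

/-- A normalised presentation of a quasi-dihedral group of order `16 * K`. -/
structure QDGen {S : Type*} [Group S] (x y : S) (K : ℕ) : Prop where
  kpow : ∃ e, K = 2 ^ e
  card : Nat.card S = 16 * K
  ord : orderOf x = 8 * K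
  ordy : orderOf y = 2
  conj : y * x * y⁻¹ = x ^ (4 * (K : ℤ) - 1)

variable {S : Type*} [Group S]

theorem exists_gen (hS : Cfsg.IsQuasiDihedral S) :
    ∃ (K : ℕ) (x y : S), QDGen x y K ∧ ∀ n, Nat.card S = 2 ^ (n + 1) →
      2 ^ (n - 1) = 4 * K ∧ 2 ^ (n - 2) = 2 * K := by
  obtain ⟨n, hn, hc, x, y, hx, hy, hxy⟩ := hS
  obtain ⟨e, rfl⟩ : ∃ e, n = e + 3 := ⟨n - 3, by omega⟩
  have h1 : 2 ^ (e + 3 - 1) = 4 * 2 ^ e := by
    rw [show e + 3 - 1 = e + 2 by omega, pow_add]; ring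
  refine ⟨2 ^ e, x, y, ⟨⟨e, rfl⟩, ?_, ?_, hy, ?_⟩, fun m hm => ?_⟩
  · rw [hc, pow_add, pow_add]; ring
  · rw [hx, pow_add]; ring
  · rw [hxy, h1, ← zpow_natCast]
    congr 1
    rw [Nat.cast_sub (by have := Nat.two_pow_pos e; omega)]
    push_cast; ring
  · obtain rfl : m = e + 3 := by
      have := Nat.pow_right_injective le_rfl (hm.symm.trans hc)
      omega
    refine ⟨h1, ?_⟩
    rw [show e + 3 - 2 = e + 1 by omega, pow_add]; ring

variable {x y : S} {K : ℕ} (h : QDGen x y K)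
include h

set_option linter.unusedSectionVars false

theorem pos : 0 < K := by obtain ⟨e, rfl⟩ := h.kpow; positivity

theorem finite : Finite S := by
  refine Nat.finite_of_card_ne_zero ?_
  have := pos h
  rw [h.card]; omega

theorem zpow_eq_one_iff (i : ℤ) : x ^ i = 1 ↔ 8 * (K : ℤ) ∣ i := by
  rw [← orderOf_dvd_iff_zpow_eq_one, h.ord]; simp

theorem zpow_eq_iff (i j : ℤ) : x ^ i = x ^ j ↔ 8 * (K : ℤ) ∣ i - j := by
  rw [← zpow_eq_one_iff h, zpow_sub, mul_inv_eq_one]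

theorem yy : y * y = 1 := by rw [← pow_two, ← h.ordy, pow_orderOf_eq_one]

theorem conj_zpow (i : ℤ) : y * x ^ i * y⁻¹ = x ^ ((4 * (K : ℤ) - 1) * i) := by
  rw [← MulAut.conj_apply, map_zpow, MulAut.conj_apply, h.conj, ← zpow_mul]

theorem y_mul (i : ℤ) : y * x ^ i = x ^ ((4 * (K : ℤ) - 1) * i) * y := by
  rw [← conj_zpow h i, inv_mul_cancel_right]

theorem xy_mul_xy (i j : ℤ) :
    (x ^ i * y) * (x ^ j * y) = x ^ (i + (4 * (K : ℤ) - 1) * j) := by
  rw [mul_assoc, ← mul_assoc y, y_mul h, mul_assoc (x ^ ((4 * (K : ℤ) - 1) * j)), yy h, mul_one,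
    ← zpow_add]

theorem xy_mul_x (i j : ℤ) :
    (x ^ i * y) * x ^ j = x ^ (i + (4 * (K : ℤ) - 1) * j) * y := by
  rw [mul_assoc, y_mul h, ← mul_assoc, ← zpow_add]

theorem xy_sq (i : ℤ) : (x ^ i * y) * (x ^ i * y) = x ^ (4 * (K : ℤ) * i) := by
  rw [xy_mul_xy h]; congr 1; ring

theorem y_not_mem : y ∉ Subgroup.zpowers x := by
  rintro ⟨i, hi⟩
  have hi' : x ^ i = y := hi
  have h1 := h.conj
  rw [← hi'] at h1
  rw [← zpow_neg, ← zpow_add_one, ← zpow_add, zpow_eq_iff h] at h1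
  obtain ⟨q, hq⟩ := h1
  have := pos h
  have hq' : 4 * (2 * (K : ℤ) * q + K) = 2 := by linarith
  omega

theorem xy_not_mem (i : ℤ) : x ^ i * y ∉ Subgroup.zpowers x := fun hm =>
  y_not_mem h ((Subgroup.mul_mem_cancel_left _ (Subgroup.zpow_mem _ (Subgroup.mem_zpowers x) i)).1 hm)

theorem xy_ne_zpow (i j : ℤ) : x ^ i * y ≠ x ^ j := fun he =>
  xy_not_mem h i (he ▸ Subgroup.zpow_mem _ (Subgroup.mem_zpowers x) j)

theorem index_two : (Subgroup.zpowers x).index = 2 := by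
  have h1 := (Subgroup.zpowers x).index_mul_card
  rw [Nat.card_zpowers, h.ord, h.card] at h1
  have := pos h
  nlinarith

theorem normal_form (g : S) : (∃ i : ℤ, g = x ^ i) ∨ ∃ i : ℤ, g = x ^ i * y := by
  by_cases hg : g ∈ Subgroup.zpowers x
  · obtain ⟨i, hi⟩ := hg; exact Or.inl ⟨i, hi.symm⟩
  · obtain ⟨i, hi⟩ := (Subgroup.mul_mem_iff_of_index_two (index_two h) (a := g) (b := y)).2
      (iff_of_false hg (y_not_mem h))
    exact Or.inr ⟨i, by
      have hi' : x ^ i = g * y := hi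
      rw [hi', mul_assoc, yy h, mul_one]⟩

/-- The central involution. -/
theorem z_mem_center : x ^ (4 * (K : ℤ)) ∈ Subgroup.center S := by
  rw [Subgroup.mem_center_iff]
  intro g
  rcases normal_form h g with ⟨i, rfl⟩ | ⟨i, rfl⟩
  · rw [← zpow_add, ← zpow_add, add_comm]
  · rw [xy_mul_x h, ← mul_assoc (x ^ (4 * (K : ℤ))), ← zpow_add]
    congr 1
    rw [zpow_eq_iff h]
    exact ⟨2 * K - 1, by ring⟩

theorem orderOf_z : orderOf (x ^ (4 * (K : ℤ))) = 2 := by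
  have := pos h
  refine orderOf_eq_prime ?_ ?_
  · rw [← zpow_natCast, ← zpow_mul, zpow_eq_one_iff h]; exact ⟨1, by push_cast; ring⟩
  · rw [ne_eq, zpow_eq_one_iff h]
    rintro ⟨q, hq⟩
    rcases le_or_gt q 0 with hq0 | hq0 <;> nlinarith

theorem zpow_sq_eq_one {i : ℤ} (hi : x ^ i * x ^ i = 1) :
    x ^ i = 1 ∨ x ^ i = x ^ (4 * (K : ℤ)) := by
  rw [← zpow_add, zpow_eq_one_iff h] at hi
  obtain ⟨q, hq⟩ := hi
  obtain ⟨r, rfl | rfl⟩ := Int.even_or_odd' q
  · exact Or.inl ((zpow_eq_one_iff h _).2 ⟨r, by linarith⟩)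
  · exact Or.inr ((zpow_eq_iff h _ _).2 ⟨r, by linarith⟩)

theorem xy_invol_iff (i : ℤ) : (x ^ i * y) * (x ^ i * y) = 1 ↔ (2 : ℤ) ∣ i := by
  rw [xy_sq h, zpow_eq_one_iff h]
  have := pos h
  constructor
  · rintro ⟨q, hq⟩
    exact ⟨q, mul_left_cancel₀ (show (4 * (K : ℤ)) ≠ 0 by omega) (by linarith)⟩
  · rintro ⟨q, rfl⟩; exact ⟨q, by ring⟩

theorem orderOf_two_iff (g : S) :
    orderOf g = 2 ↔ g = x ^ (4 * (K : ℤ)) ∨ ∃ m : ℤ, g = x ^ (2 * m) * y := by
  constructor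
  · intro hg
    have hgg : g * g = 1 := by rw [← pow_two, ← hg, pow_orderOf_eq_one]
    rcases normal_form h g with ⟨i, rfl⟩ | ⟨i, rfl⟩
    · rcases zpow_sq_eq_one h hgg with h1 | h1
      · rw [h1, orderOf_one] at hg; omega
      · exact Or.inl h1
    · obtain ⟨m, rfl⟩ := (xy_invol_iff h i).1 hgg
      exact Or.inr ⟨m, rfl⟩
  · rintro (rfl | ⟨m, rfl⟩)
    · exact orderOf_z h
    · refine orderOf_eq_prime ?_ ?_
      · rw [pow_two, xy_invol_iff h]; exact dvd_mul_right 2 m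
      · intro he; exact xy_ne_zpow h _ 0 (by rw [he, zpow_zero])

theorem orderOf_two_K : orderOf (x ^ (2 * (K : ℤ))) = 4 := by
  have : Fact (Nat.Prime 2) := ⟨Nat.prime_two⟩
  refine orderOf_eq_prime_pow (p := 2) (n := 1) ?_ ?_
  · rw [pow_one, pow_two, ← zpow_add, ← two_mul, ← mul_assoc, show (2 : ℤ) * 2 = 4 by norm_num]
    intro he
    have := orderOf_z h
    rw [he, orderOf_one] at this
    omega
  · rw [← zpow_natCast, ← zpow_mul, zpow_eq_one_iff h]
    exact ⟨1, by norm_num; ring⟩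

theorem zpow_four_eq_one {i : ℤ} (hi : (x ^ i) ^ 4 = 1) : (2 * (K : ℤ)) ∣ i := by
  rw [← zpow_natCast, ← zpow_mul, zpow_eq_one_iff h] at hi
  obtain ⟨q, hq⟩ := hi
  exact ⟨q, by push_cast at hq; linarith⟩

theorem orderOf_four_iff (g : S) :
    orderOf g = 4 ↔ g = x ^ (2 * (K : ℤ)) ∨ g = x ^ (-(2 * (K : ℤ))) ∨
      ∃ m : ℤ, g = x ^ (2 * m + 1) * y := by
  have : Fact (Nat.Prime 2) := ⟨Nat.prime_two⟩
  constructor
  · intro hg
    have h4 : g ^ 4 = 1 := by rw [← hg, pow_orderOf_eq_one]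
    have h2 : g * g ≠ 1 := by
      intro he
      have := orderOf_le_of_pow_eq_one (x := g) (n := 2) (by omega) (by rwa [pow_two])
      omega
    rcases normal_form h g with ⟨i, rfl⟩ | ⟨i, rfl⟩
    · obtain ⟨q, rfl⟩ := zpow_four_eq_one h h4
      obtain ⟨r, rfl | rfl⟩ := Int.even_or_odd' q
      · exact absurd (by rw [← zpow_add, zpow_eq_one_iff h]; exact ⟨r, by ring⟩) h2
      · obtain ⟨s, rfl | rfl⟩ := Int.even_or_odd' r
        · exact Or.inl ((zpow_eq_iff h _ _).2 ⟨s, by ring⟩)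
        · exact Or.inr (Or.inl ((zpow_eq_iff h _ _).2 ⟨s + 1, by ring⟩))
    · obtain ⟨r, rfl | rfl⟩ := Int.even_or_odd' i
      · exact absurd ((xy_invol_iff h _).2 (dvd_mul_right 2 r)) h2
      · exact Or.inr (Or.inr ⟨r, rfl⟩)
  · rintro (rfl | rfl | ⟨m, rfl⟩)
    · exact orderOf_two_K h
    · rw [zpow_neg, orderOf_inv]; exact orderOf_two_K h
    · refine orderOf_eq_prime_pow (p := 2) (n := 1) ?_ ?_
      · rw [pow_one, pow_two, xy_invol_iff h]; omega
      · rw [show (2 : ℕ) ^ (1 + 1) = 2 * 2 by norm_num, pow_mul, pow_two, pow_two, xy_sq h,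
          ← zpow_add, zpow_eq_one_iff h]
        exact ⟨2 * m + 1, by ring⟩

theorem conj_shift (i j : ℤ) :
    x ^ j * (x ^ i * y) * (x ^ j)⁻¹ = x ^ (i + 2 * j * (1 - 2 * (K : ℤ))) * y := by
  rw [← mul_assoc, ← zpow_add, ← zpow_neg, xy_mul_x h]
  congr 2; ring

theorem exists_conj_shift {i i' : ℤ} (hii : (2 : ℤ) ∣ i' - i) :
    ∃ j : ℤ, x ^ j * (x ^ i * y) * (x ^ j)⁻¹ = x ^ i' * y := by
  obtain ⟨m, hm⟩ := hii
  refine ⟨m * (1 + 2 * K) * (1 + 4 * (K : ℤ) ^ 2), ?_⟩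
  rw [conj_shift h]
  congr 1
  rw [zpow_eq_iff h]
  refine ⟨-(4 * m * (K : ℤ) ^ 3), ?_⟩
  have : i' = i + 2 * m := by linarith
  subst this; ring

theorem dvd_of_dvd_unit_mul {d j : ℤ} (hd : d ∣ 8 * (K : ℤ)) (hj : d ∣ j * (1 - 2 * (K : ℤ))) :
    d ∣ j := by
  have h1 : j = j * (1 - 2 * (K : ℤ)) * ((1 + 2 * K) * (1 + 4 * (K : ℤ) ^ 2))
      + 8 * (K : ℤ) * (2 * (K : ℤ) ^ 3 * j) := by ring
  rw [h1]
  exact dvd_add (dvd_mul_of_dvd_left hj _) (dvd_mul_of_dvd_left hd _)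

theorem commute_zpow_xy {i j : ℤ} (hc : x ^ j * (x ^ i * y) = (x ^ i * y) * x ^ j) :
    x ^ j = 1 ∨ x ^ j = x ^ (4 * (K : ℤ)) := by
  have h1 : x ^ j * (x ^ i * y) * (x ^ j)⁻¹ = x ^ i * y := by rw [hc, mul_inv_cancel_right]
  rw [conj_shift h, mul_left_inj, zpow_eq_iff h] at h1
  obtain ⟨q, hq⟩ := h1
  have h2 : 4 * (K : ℤ) ∣ j * (1 - 2 * (K : ℤ)) := ⟨q, by linarith⟩
  obtain ⟨r, hr⟩ := dvd_of_dvd_unit_mul h ⟨2, by ring⟩ h2
  refine zpow_sq_eq_one h ?_
  rw [← zpow_add, zpow_eq_one_iff h]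
  exact ⟨r, by linarith⟩

/-- The centraliser of an element outside the cyclic maximal subgroup. -/
theorem centralizer_xy {i : ℤ} {g : S} (hc : g * (x ^ i * y) = (x ^ i * y) * g) :
    g = 1 ∨ g = x ^ (4 * (K : ℤ)) ∨ g = x ^ i * y ∨ g = x ^ (4 * (K : ℤ)) * (x ^ i * y) := by
  rcases normal_form h g with ⟨j, rfl⟩ | ⟨j, rfl⟩
  · rcases commute_zpow_xy h hc with h1 | h1
    · exact Or.inl h1
    · exact Or.inr (Or.inl h1)
  · have he : x ^ j * y = x ^ (j - i) * (x ^ i * y) := by rw [← mul_assoc, ← zpow_add, sub_add_cancel]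
    rw [he] at hc ⊢
    have hc' : x ^ (j - i) * (x ^ i * y) = x ^ i * y * x ^ (j - i) :=
      mul_right_cancel (b := x ^ i * y) (by rw [hc, mul_assoc (x ^ i * y)])
    rcases commute_zpow_xy h hc' with h1 | h1
    · exact Or.inr (Or.inr (Or.inl (by rw [h1, one_mul])))
    · exact Or.inr (Or.inr (Or.inr (by rw [h1])))

/-! ### Four-subgroups -/

theorem four_structure {T : Subgroup S} (hT : IsKleinFour T) :
    x ^ (4 * (K : ℤ)) ∈ T ∧ ∃ m : ℤ, x ^ (2 * m) * y ∈ T ∧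
      ∀ g ∈ T, g = 1 ∨ g = x ^ (4 * (K : ℤ)) ∨ g = x ^ (2 * m) * y ∨
        g = x ^ (4 * (K : ℤ)) * (x ^ (2 * m) * y) := by
  have : Finite S := finite h
  have hpick : ∀ a : S, ∃ g ∈ T, g ≠ 1 ∧ g ≠ a := by
    intro a
    by_contra hne
    push Not at hne
    have h1 : (T : Set S) ⊆ {1, a} := fun g hg => by
      by_cases hg1 : g = 1
      · exact Or.inl hg1
      · exact Or.inr (hne g hg hg1)
    have h2 := Set.ncard_le_ncard h1 (Set.toFinite _)
    have h3 : (T : Set S).ncard = 4 := by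
      rw [← Nat.card_coe_set_eq]; exact hT.card_four
    have h4 : ({1, a} : Set S).ncard ≤ 2 :=
      (Set.ncard_insert_le _ _).trans (by rw [Set.ncard_singleton])
    omega
  have hinv : ∀ g ∈ T, g ≠ 1 → g = x ^ (4 * (K : ℤ)) ∨ ∃ m : ℤ, g = x ^ (2 * m) * y :=
    fun g hg hg1 => (orderOf_two_iff h g).1
      (orderOf_eq_prime (by rw [pow_two]; exact mul_self_of_isKleinFour hT hg) hg1)
  obtain ⟨t, htT, ht1, htz⟩ := hpick (x ^ (4 * (K : ℤ)))
  obtain ⟨m, rfl⟩ := (hinv t htT ht1).resolve_left htz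
  refine ⟨?_, m, htT, fun g hg => centralizer_xy h (commute_of_isKleinFour hT hg htT)⟩
  obtain ⟨g, hgT, hg1, hgt⟩ := hpick (x ^ (2 * m) * y)
  rcases centralizer_xy h (commute_of_isKleinFour hT hgT htT) with h1 | h1 | h1 | h1
  · exact absurd h1 hg1
  · rwa [← h1]
  · exact absurd h1 hgt
  · have := mul_mem hgT (inv_mem htT)
    rwa [h1, mul_inv_cancel_right] at this

/-! ### Quaternion subgroups -/

theorem quat_structure {Q : Subgroup S} (e : Q ≃* QuaternionGroup 2) :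
    x ^ (2 * (K : ℤ)) ∈ Q ∧ ∃ i : ℤ, x ^ (2 * i + 1) * y ∈ Q ∧
      ∀ g ∈ Q, ∃ q : ℤ, g = x ^ (2 * (K : ℤ) * q) ∨
        g = x ^ (2 * (K : ℤ) * q + (2 * i + 1)) * y := by
  have hord : ∀ d : QuaternionGroup 2, orderOf ((e.symm d : Q) : S) = orderOf d := fun d => by
    rw [Subgroup.orderOf_coe, MulEquiv.orderOf_eq]
  have hpow : ∀ g ∈ Q, g ^ 4 = 1 := by
    intro g hg
    have h1 : (e ⟨g, hg⟩) ^ 4 = 1 := by
      generalize e ⟨g, hg⟩ = d
      revert d; decide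
    rw [← map_pow, MulEquiv.map_eq_one_iff] at h1
    exact congrArg Subtype.val h1
  have ha : orderOf (QuaternionGroup.a 1 : QuaternionGroup 2) = 4 := QuaternionGroup.orderOf_a_one
  have hxa : orderOf (QuaternionGroup.xa 0 : QuaternionGroup 2) = 4 := QuaternionGroup.orderOf_xa 0
  have hxa1 : orderOf (QuaternionGroup.xa 1 : QuaternionGroup 2) = 4 := QuaternionGroup.orderOf_xa 1
  set g₁ : S := ((e.symm (QuaternionGroup.xa 0) : Q) : S) with hg₁
  set g₂ : S := ((e.symm (QuaternionGroup.a 1) : Q) : S) with hg₂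
  set g₃ : S := ((e.symm (QuaternionGroup.xa 1) : Q) : S) with hg₃
  have h12 : g₃ = g₁ * g₂ := by
    rw [hg₁, hg₂, hg₃, ← Subgroup.coe_mul, ← map_mul, QuaternionGroup.xa_mul_a, zero_add]
  have hcases : ∀ g, orderOf g = 4 → g ∈ Subgroup.zpowers x →
      x ^ (2 * (K : ℤ)) = g ∨ x ^ (2 * (K : ℤ)) = g⁻¹ := by
    intro g hg hgx
    rcases (orderOf_four_iff h g).1 hg with rfl | rfl | ⟨m, rfl⟩
    · exact Or.inl rfl
    · exact Or.inr (by rw [zpow_neg, inv_inv])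
    · exact absurd hgx (xy_not_mem h _)
  have hz : x ^ (2 * (K : ℤ)) ∈ Q := by
    have key : ∀ g, orderOf g = 4 → g ∈ Q → g ∈ Subgroup.zpowers x →
        x ^ (2 * (K : ℤ)) ∈ Q := by
      intro g hg hgQ hgx
      rcases hcases g hg hgx with h1 | h1 <;> rw [h1]
      · exact hgQ
      · exact inv_mem hgQ
    by_cases h1 : g₁ ∈ Subgroup.zpowers x
    · exact key g₁ (by rw [hord, hxa]) (SetLike.coe_mem _) h1
    by_cases h2 : g₂ ∈ Subgroup.zpowers x
    · exact key g₂ (by rw [hord, ha]) (SetLike.coe_mem _) h2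
    refine key g₃ (by rw [hord, hxa1]) (SetLike.coe_mem _) ?_
    rw [h12, Subgroup.mul_mem_iff_of_index_two (index_two h)]
    exact iff_of_false h1 h2
  have hg : ∃ g ∈ Q, orderOf g = 4 ∧ g ∉ Subgroup.zpowers x := by
    by_contra hne
    push Not at hne
    have h1 := hne g₁ (SetLike.coe_mem _) (by rw [hord, hxa])
    have h2 := hne g₂ (SetLike.coe_mem _) (by rw [hord, ha])
    have h3 : g₁ * g₂ = g₂ * g₁ := by
      obtain ⟨i, hi⟩ := h1
      obtain ⟨j, hj⟩ := h2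
      simp only at hi hj
      rw [← hi, ← hj, ← zpow_add, ← zpow_add, add_comm]
    rw [hg₁, hg₂, ← Subgroup.coe_mul, ← Subgroup.coe_mul] at h3
    have h4 := congrArg e (Subtype.ext h3)
    simp at h4
    revert h4; decide
  obtain ⟨g, hgQ, hg4, hgx⟩ := hg
  rcases (orderOf_four_iff h g).1 hg4 with rfl | rfl | ⟨i, rfl⟩
  · exact absurd (Subgroup.zpow_mem _ (Subgroup.mem_zpowers x) _) hgx
  · exact absurd (Subgroup.zpow_mem _ (Subgroup.mem_zpowers x) _) hgx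
  refine ⟨hz, i, hgQ, fun k hk => ?_⟩
  rcases normal_form h k with ⟨j, rfl⟩ | ⟨j, rfl⟩
  · obtain ⟨q, rfl⟩ := zpow_four_eq_one h (hpow _ hk)
    exact ⟨q, Or.inl rfl⟩
  · have h5 := mul_mem hk (inv_mem hgQ)
    have he : x ^ j * y * (x ^ (2 * i + 1) * y)⁻¹ = x ^ (j - (2 * i + 1)) := by group
    rw [he] at h5
    obtain ⟨q, hq⟩ := zpow_four_eq_one h (hpow _ h5)
    exact ⟨q, Or.inr (by congr 2; linarith)⟩

/-! ### Maximal subgroups -/

theorem orderOf_xsq : orderOf (x ^ 2) = 4 * K := by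
  rw [orderOf_pow_of_dvd (by norm_num) (by rw [h.ord]; exact ⟨4 * K, by ring⟩), h.ord]; omega

theorem xsq_pow : (x ^ 2) ^ (4 * K) = 1 := by rw [← orderOf_xsq h, pow_orderOf_eq_one]

theorem xsq_pow' : (x ^ 2) ^ (2 * (2 * K)) = 1 := by rw [← mul_assoc]; exact xsq_pow h

theorem qrel_sq : (x * y) * (x * y) = (x ^ 2) ^ (2 * K) := by
  have h1 := xy_sq h 1
  rw [zpow_one] at h1
  rw [h1, ← pow_mul, ← zpow_natCast]
  congr 1; push_cast; ring

theorem drel_conj : y * x ^ 2 * y⁻¹ = (x ^ 2)⁻¹ := by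
  rw [← zpow_natCast x 2, conj_zpow h, ← zpow_neg, zpow_eq_iff h]
  exact ⟨1, by push_cast; ring⟩

theorem qrel_conj : (x * y) * x ^ 2 * (x * y)⁻¹ = (x ^ 2)⁻¹ := by
  have h1 : (x * y) * x ^ 2 * (x * y)⁻¹ = x * (y * x ^ 2 * y⁻¹) * x⁻¹ := by group
  rw [h1, drel_conj h]
  group

/-- The generalised quaternion maximal subgroup. -/
def qHom [NeZero K] : QuaternionGroup (2 * K) →* S :=
  quaternionHom (m := 2 * K) (x ^ 2) (x * y) (xsq_pow' h) (qrel_sq h) (qrel_conj h)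

/-- The dihedral maximal subgroup. -/
def dHom [NeZero K] : DihedralGroup (4 * K) →* S :=
  dihedralHom (N := 4 * K) (x ^ 2) y (xsq_pow h) (yy h) (drel_conj h)

theorem zpowers_sq_le : Subgroup.zpowers (x ^ 2) ≤ Subgroup.zpowers x :=
  Subgroup.zpowers_le.2 (Subgroup.pow_mem _ (Subgroup.mem_zpowers x) 2)

theorem qHom_injective [NeZero K] : Function.Injective (qHom h) := by
  refine quaternionHom_injective _ _ _ (by rw [orderOf_xsq h]; ring) fun hm => ?_
  refine xy_not_mem h 1 ?_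
  rw [zpow_one]; exact zpowers_sq_le h hm

theorem dHom_injective [NeZero K] : Function.Injective (dHom h) :=
  dihedralHom_injective _ _ _ (orderOf_xsq h) fun hm => y_not_mem h (zpowers_sq_le h hm)

theorem mem_qHom_range [NeZero K] (g : S) :
    g ∈ (qHom h).range ↔ ∃ m : ℤ, g = x ^ (2 * m) ∨ g = x ^ (2 * m + 1) * y := by
  constructor
  · rintro ⟨(i | i), rfl⟩
    · refine ⟨(i.val : ℤ), Or.inl ?_⟩
      change (x ^ 2) ^ i.val = _
      rw [← pow_mul, ← zpow_natCast]; push_cast; ring_nf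
    · refine ⟨(4 * (K : ℤ) - 1) * i.val, Or.inr ?_⟩
      change x * y * (x ^ 2) ^ i.val = _
      rw [← pow_mul, ← zpow_natCast]
      have h1 := xy_mul_x h 1 ((2 * i.val : ℕ) : ℤ)
      rw [zpow_one] at h1
      rw [h1]; congr 2; push_cast; ring
  · have hbase : ∀ m : ℤ, x ^ (2 * m) ∈ (qHom h).range := by
      intro m
      refine ⟨QuaternionGroup.a (m : ℤ), ?_⟩
      change zp (x ^ 2) (((m : ℤ)) : ZMod (2 * (2 * K))) = _
      rw [zp_intCast (xsq_pow' h), ← zpow_natCast x 2, ← zpow_mul]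
      push_cast; rfl
    rintro ⟨m, rfl | rfl⟩
    · exact hbase m
    · rw [zpow_add, zpow_one, mul_assoc]
      refine mul_mem (hbase m) ⟨QuaternionGroup.xa 0, ?_⟩
      change x * y * zp (x ^ 2) (0 : ZMod (2 * (2 * K))) = _
      rw [zp_zero, mul_one]

theorem mem_dHom_range [NeZero K] (g : S) :
    g ∈ (dHom h).range ↔ ∃ m : ℤ, g = x ^ (2 * m) ∨ g = x ^ (2 * m) * y := by
  constructor
  · rintro ⟨(i | i), rfl⟩
    · refine ⟨(i.val : ℤ), Or.inl ?_⟩
      change (x ^ 2) ^ i.val = _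
      rw [← pow_mul, ← zpow_natCast]; push_cast; ring_nf
    · refine ⟨(4 * (K : ℤ) - 1) * i.val, Or.inr ?_⟩
      change y * (x ^ 2) ^ i.val = _
      rw [← pow_mul, ← zpow_natCast, y_mul h]
      congr 2; push_cast; ring
  · have hbase : ∀ m : ℤ, x ^ (2 * m) ∈ (dHom h).range := by
      intro m
      refine ⟨DihedralGroup.r (m : ℤ), ?_⟩
      change zp (x ^ 2) (((m : ℤ)) : ZMod (4 * K)) = _
      rw [zp_intCast (xsq_pow h), ← zpow_natCast x 2, ← zpow_mul]
      push_cast; rfl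
    rintro ⟨m, rfl | rfl⟩
    · exact hbase m
    · refine mul_mem (hbase m) ⟨DihedralGroup.sr 0, ?_⟩
      change y * zp (x ^ 2) (0 : ZMod (4 * K)) = _
      rw [zp_zero, mul_one]

theorem index_eq_two_of_card {M : Subgroup S} (hM : Nat.card M = 8 * K) : M.index = 2 := by
  have h1 := M.index_mul_card
  rw [hM, h.card] at h1
  have := pos h
  nlinarith

theorem qHom_index [NeZero K] : (qHom h).range.index = 2 := by
  refine index_eq_two_of_card h ?_
  rw [← Nat.card_congr (MonoidHom.ofInjective (qHom_injective h)).toEquiv,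
    Nat.card_eq_fintype_card, QuaternionGroup.card]
  ring

theorem dHom_index [NeZero K] : (dHom h).range.index = 2 := by
  refine index_eq_two_of_card h ?_
  rw [← Nat.card_congr (MonoidHom.ofInjective (dHom_injective h)).toEquiv,
    DihedralGroup.nat_card]
  ring

theorem y_notMem_qHom [NeZero K] : y ∉ (qHom h).range := by
  rw [mem_qHom_range]
  rintro ⟨m, hm | hm⟩
  · exact xy_ne_zpow h 0 (2 * m) (by rw [zpow_zero, one_mul]; exact hm)
  · nth_rw 1 [← one_mul y] at hm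
    rw [mul_left_inj, eq_comm, zpow_eq_one_iff h] at hm
    obtain ⟨q, hq⟩ := hm
    have : 2 * (4 * (K : ℤ) * q - m) = 1 := by linarith
    omega

theorem mem_of_odd_zpow {M : Subgroup S} {m : ℤ} (hm : x ^ (2 * m + 1) ∈ M) : x ∈ M := by
  obtain ⟨e, he⟩ := h.kpow
  have hc : IsCoprime (2 * m + 1) (8 * (K : ℤ)) := by
    have h2 : IsCoprime (2 * m + 1) (2 : ℤ) := ⟨1, -m, by ring⟩
    have := h2.pow_right (n := e + 3)
    rw [he]; push_cast
    rwa [pow_add, mul_comm ((2 : ℤ) ^ e), show (2 : ℤ) ^ 3 = 8 by norm_num] at this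
  obtain ⟨a, b, hab⟩ := hc
  have h1 : x = (x ^ (2 * m + 1)) ^ a := by
    rw [← zpow_mul]
    nth_rw 1 [← zpow_one x]
    rw [zpow_eq_iff h]
    exact ⟨b, by linarith⟩
  rw [h1]; exact zpow_mem hm a

theorem eq_top_of_gen {M : Subgroup S} {i : ℤ} (hx : x ∈ M) (hy : x ^ i * y ∈ M) : M = ⊤ := by
  have hy' : y ∈ M := (Subgroup.mul_mem_cancel_left M (zpow_mem hx i)).1 hy
  refine eq_top_iff.2 fun g _ => ?_
  rcases normal_form h g with ⟨j, rfl⟩ | ⟨j, rfl⟩
  · exact zpow_mem hx j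
  · exact mul_mem (zpow_mem hx j) hy'

theorem coatom_cases [NeZero K] {M : Subgroup S} (hM : IsCoatom M) :
    M = Subgroup.zpowers x ∨ M = (qHom h).range ∨ M = (dHom h).range := by
  have hmax : ∀ {L : Subgroup S}, L.index = 2 → M ≤ L → M = L := fun {L} hL hle =>
    ((hle.eq_or_lt).resolve_right fun hlt => (isCoatom_of_index_two hL).1 (hM.2 L hlt))
  by_cases h1 : M ≤ Subgroup.zpowers x
  · exact Or.inl (hmax (index_two h) h1)
  obtain ⟨g, hgM, hgx⟩ := SetLike.not_le_iff_exists.1 h1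
  rcases normal_form h g with ⟨i, rfl⟩ | ⟨i, rfl⟩
  · exact absurd (Subgroup.zpow_mem _ (Subgroup.mem_zpowers x) _) hgx
  have heven : ∀ j : ℤ, x ^ j ∈ M → ∃ r, j = 2 * r := by
    intro j hj
    obtain ⟨r, hr | hr⟩ := Int.even_or_odd' j
    · exact ⟨r, hr⟩
    · exact absurd (eq_top_of_gen h (mem_of_odd_zpow h (hr ▸ hj)) hgM) hM.1
  have hpar : ∀ j : ℤ, x ^ j * y ∈ M → ∃ r, i - j = 2 * r := by
    intro j hj
    have h2 := mul_mem hgM hj
    rw [xy_mul_xy h] at h2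
    obtain ⟨r, hr⟩ := heven _ h2
    exact ⟨r - 2 * K * j, by linarith⟩
  obtain ⟨q, rfl | rfl⟩ := Int.even_or_odd' i
  · refine Or.inr (Or.inr (hmax (dHom_index h) fun k hk => ?_))
    rw [mem_dHom_range]
    rcases normal_form h k with ⟨j, rfl⟩ | ⟨j, rfl⟩
    · obtain ⟨r, rfl⟩ := heven j hk; exact ⟨r, Or.inl rfl⟩
    · obtain ⟨r, hr⟩ := hpar j hk
      exact ⟨q - r, Or.inr (by congr 2; linarith)⟩
  · refine Or.inr (Or.inl (hmax (qHom_index h) fun k hk => ?_))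
    rw [mem_qHom_range]
    rcases normal_form h k with ⟨j, rfl⟩ | ⟨j, rfl⟩
    · obtain ⟨r, rfl⟩ := heven j hk; exact ⟨r, Or.inl rfl⟩
    · obtain ⟨r, hr⟩ := hpar j hk
      exact ⟨q - r, Or.inr (by congr 2; linarith)⟩

theorem commutator_eq : commutator S = Subgroup.zpowers (x ^ 2) := by
  have : NeZero K := ⟨(pos h).ne'⟩
  apply le_antisymm
  · have hle : ∀ {M : Subgroup S}, M.index = 2 → commutator S ≤ M := by
      intro M hM
      rw [commutator_def, Subgroup.commutator_le]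
      intro a _ b _
      rw [commutatorElement_def, Subgroup.mul_mem_iff_of_index_two hM,
        Subgroup.mul_mem_iff_of_index_two hM, Subgroup.mul_mem_iff_of_index_two hM, inv_mem_iff,
        inv_mem_iff]
      tauto
    intro g hg
    obtain ⟨i, hi⟩ := hle (index_two h) hg
    have hi' : x ^ i = g := hi
    obtain ⟨m, hm | hm⟩ := (mem_dHom_range h g).1 (hle (dHom_index h) hg)
    · exact ⟨m, by rw [hm]; simp only; rw [← zpow_natCast, ← zpow_mul]; rfl⟩
    · exact absurd (hm ▸ hi'.symm) (xy_ne_zpow h (2 * m) i)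
  · rw [Subgroup.zpowers_le]
    have h1 : ∀ j : ℤ, x ^ (2 * j * (1 - 2 * (K : ℤ))) ∈ commutator S := by
      intro j
      have h2 : x ^ (2 * j * (1 - 2 * (K : ℤ))) = ⁅x ^ j, y⁆ := by
        rw [commutatorElement_def]
        have := conj_shift h 0 j
        rw [zpow_zero, one_mul, zero_add] at this
        rw [this, mul_inv_cancel_right]
      rw [h2, commutator_def]
      exact Subgroup.commutator_mem_commutator (Subgroup.mem_top _) (Subgroup.mem_top _)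
    have h3 : x ^ 2 = x ^ (2 * ((1 + 2 * (K : ℤ)) * (1 + 4 * (K : ℤ) ^ 2)) * (1 - 2 * (K : ℤ))) := by
      rw [← zpow_natCast, zpow_eq_iff h]
      exact ⟨4 * (K : ℤ) ^ 3, by push_cast; ring⟩
    rw [h3]; exact h1 _

theorem sq_mem_of_coatom [NeZero K] {M : Subgroup S} (hM : IsCoatom M) : x ^ 2 ∈ M := by
  have h2 : x ^ 2 = x ^ (2 * (1 : ℤ)) := by rw [mul_one, ← zpow_natCast]; rfl
  rcases coatom_cases h hM with rfl | rfl | rfl
  · exact Subgroup.pow_mem _ (Subgroup.mem_zpowers x) 2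
  · rw [mem_qHom_range]; exact ⟨1, Or.inl h2⟩
  · rw [mem_dHom_range]; exact ⟨1, Or.inl h2⟩

theorem frattini_eq : frattini S = Subgroup.zpowers (x ^ 2) := by
  have : NeZero K := ⟨(pos h).ne'⟩
  apply le_antisymm
  · intro g hg
    obtain ⟨i, hi⟩ := frattini_le_coatom (isCoatom_of_index_two (index_two h)) hg
    have hi' : x ^ i = g := hi
    obtain ⟨m, hm | hm⟩ := (mem_dHom_range h g).1
      (frattini_le_coatom (isCoatom_of_index_two (dHom_index h)) hg)
    · exact ⟨m, by rw [hm]; simp only; rw [← zpow_natCast, ← zpow_mul]; rfl⟩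
    · exact absurd (hm ▸ hi'.symm) (xy_ne_zpow h (2 * m) i)
  · rw [Subgroup.zpowers_le, frattini, Order.radical]
    simp only [Subgroup.mem_iInf]
    exact fun M hM => sq_mem_of_coatom h hM

theorem center_eq : Subgroup.center S = Subgroup.zpowers (x ^ (4 * (K : ℤ))) := by
  refine le_antisymm (fun g hg => ?_) (Subgroup.zpowers_le.2 (z_mem_center h))
  rw [Subgroup.mem_center_iff] at hg
  rcases normal_form h g with ⟨j, rfl⟩ | ⟨j, rfl⟩
  · rcases commute_zpow_xy h (i := 0) ((hg (x ^ (0 : ℤ) * y)).symm) with h1 | h1 <;> rw [h1]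
    · exact one_mem _
    · exact Subgroup.mem_zpowers _
  · exfalso
    rcases commute_zpow_xy h (i := j) (hg (x ^ (1 : ℤ))) with h1 | h1 <;> rw [zpow_one] at h1
    · have := h.ord; rw [h1, orderOf_one] at this; omega
    · have h2 := orderOf_z h
      rw [← h1, h.ord] at h2
      have := pos h; omega

theorem closure_involutions [NeZero K] :
    Subgroup.closure {g : S | orderOf g = 2} = (dHom h).range := by
  apply le_antisymm
  · rw [Subgroup.closure_le]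
    intro g hg
    rw [SetLike.mem_coe, mem_dHom_range]
    rcases (orderOf_two_iff h g).1 hg with rfl | ⟨m, rfl⟩
    · exact ⟨2 * K, Or.inl (by congr 1; ring)⟩
    · exact ⟨m, Or.inr rfl⟩
  · intro g hg
    obtain ⟨m, rfl | rfl⟩ := (mem_dHom_range h g).1 hg
    · have h1 : x ^ (2 * m) = (x ^ (2 * m) * y) * (x ^ (2 * (0 : ℤ)) * y) := by
        rw [xy_mul_xy h]; congr 1; ring
      rw [h1]
      exact mul_mem (Subgroup.subset_closure ((orderOf_two_iff h _).2 (Or.inr ⟨m, rfl⟩)))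
        (Subgroup.subset_closure ((orderOf_two_iff h _).2 (Or.inr ⟨0, rfl⟩)))
    · exact Subgroup.subset_closure ((orderOf_two_iff h _).2 (Or.inr ⟨m, rfl⟩))

end CfsgLib.Involution.QuasiDihedral
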