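import Mathlib
import Cfsg.Prelude.Def_CaseTheorems
import Cfsg.Agent.Lib.Involution.TwoGroupLifts

/-!
# Wreathed 2-groups
-/

namespace CfsgLib.Involution.Wreathed

open CfsgLib.Involution.TwoGroupLifts

/-- A normalised presentation of a wreathed 2-group of order `32 * K ^ 2`. -/
structure WrGen {S : Type*} [Group S] (x y z : S) (K : ℕ) : Prop where
  kpow : ∃ e, K = 2 ^ e
  card : Nat.card S = 32 * K ^ 2
  ord : orderOf x = 4 * K
  comm : x * y = y * x
  disj : Subgroup.zpowers x ⊓ Subgroup.zpowers y = ⊥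
  ordz : orderOf z = 2
  conj : z * x * z⁻¹ = y

/-- The element `x ^ a * y ^ b` of the base. -/
def W {S : Type*} [Group S] (x y : S) (a b : ℤ) : S := x ^ a * y ^ b

variable {S : Type*} [Group S]

theorem exists_gen (hS : Cfsg.IsWreathed S) :
    ∃ (K : ℕ) (x y z : S), WrGen x y z K ∧ ∀ n, Nat.card S = 2 ^ (2 * n + 1) →
      2 ^ n = 4 * K ∧ 2 ^ (n - 1) = 2 * K ∧ 2 ^ (n + 1) = 8 * K ∧
        2 ^ (n + 2) = 16 * K ∧ 2 ^ (2 * n) = 16 * K ^ 2 := by
  obtain ⟨n, hn, hc, x, y, z, hx, hxy, hd, hz, hzx⟩ := hS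
  obtain ⟨e, rfl⟩ : ∃ e, n = e + 2 := ⟨n - 2, by omega⟩
  refine ⟨2 ^ e, x, y, z, ⟨⟨e, rfl⟩, ?_, ?_, hxy, hd, hz, hzx⟩, fun m hm => ?_⟩
  · rw [hc, show 2 * (e + 2) + 1 = e + e + 5 by ring, pow_add, pow_add]; ring
  · rw [hx, pow_add]; ring
  · obtain rfl : m = e + 2 := by
      have := Nat.pow_right_injective le_rfl (hm.symm.trans hc)
      omega
    refine ⟨by rw [pow_add]; ring, ?_, ?_, ?_, ?_⟩
    · rw [show e + 2 - 1 = e + 1 by omega, pow_add]; ring
    · rw [show e + 2 + 1 = e + 3 by omega, pow_add]; ring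
    · rw [show e + 2 + 2 = e + 4 by omega, pow_add]; ring
    · rw [show 2 * (e + 2) = e + e + 4 by ring, pow_add, pow_add]; ring

variable {x y z : S} {K : ℕ} (h : WrGen x y z K)
include h

set_option linter.unusedSectionVars false

theorem pos : 0 < K := by obtain ⟨e, rfl⟩ := h.kpow; positivity

theorem finite : Finite S := by
  refine Nat.finite_of_card_ne_zero ?_
  have := pos h
  rw [h.card]; positivity

theorem neZero : NeZero (4 * K) := ⟨by have := pos h; omega⟩

theorem ordy : orderOf y = 4 * K := by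
  rw [← h.conj, ← MulAut.conj_apply, MulEquiv.orderOf_eq, h.ord]

theorem W_mul (a b c d : ℤ) : W x y a b * W x y c d = W x y (a + c) (b + d) := by
  have hc : Commute (y ^ b) (x ^ c) := ((show Commute x y from h.comm).zpow_zpow c b).symm
  rw [W, W, W, mul_assoc, ← mul_assoc (y ^ b), hc.eq, mul_assoc (x ^ c), ← mul_assoc (x ^ a),
    ← zpow_add, ← zpow_add]

theorem W_zero : W x y 0 0 = 1 := by simp [W]

theorem W_inv (a b : ℤ) : (W x y a b)⁻¹ = W x y (-a) (-b) :=
  inv_eq_of_mul_eq_one_left (by rw [W_mul h, neg_add_cancel, neg_add_cancel, W_zero h])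

theorem W_zpow (a b k : ℤ) : W x y a b ^ k = W x y (k * a) (k * b) := by
  rw [W, W, ((show Commute x y from h.comm).zpow_zpow a b).mul_zpow, ← zpow_mul, ← zpow_mul, mul_comm a,
    mul_comm b]

theorem W_eq_one_iff (a b : ℤ) :
    W x y a b = 1 ↔ 4 * (K : ℤ) ∣ a ∧ 4 * (K : ℤ) ∣ b := by
  have hN : ((4 * K : ℕ) : ℤ) = 4 * (K : ℤ) := by push_cast; rfl
  constructor
  · intro he
    have h1 : x ^ a = y ^ (-b) := by
      rw [zpow_neg]; exact eq_inv_of_mul_eq_one_left he
    have h2 : x ^ a ∈ Subgroup.zpowers x ⊓ Subgroup.zpowers y :=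
      ⟨Subgroup.zpow_mem _ (Subgroup.mem_zpowers x) a,
        by rw [h1]; exact Subgroup.zpow_mem _ (Subgroup.mem_zpowers y) _⟩
    rw [h.disj, Subgroup.mem_bot] at h2
    refine ⟨?_, ?_⟩
    · rw [← hN, ← h.ord]; exact orderOf_dvd_iff_zpow_eq_one.2 h2
    · rw [h2] at h1
      rw [← hN, ← ordy h, ← dvd_neg]; exact orderOf_dvd_iff_zpow_eq_one.2 h1.symm
  · rintro ⟨ha, hb⟩
    rw [W, orderOf_dvd_iff_zpow_eq_one.1 (by rw [h.ord, hN]; exact ha),
      orderOf_dvd_iff_zpow_eq_one.1 (by rw [ordy h, hN]; exact hb), one_mul]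

theorem W_eq_iff (a b c d : ℤ) :
    W x y a b = W x y c d ↔ 4 * (K : ℤ) ∣ a - c ∧ 4 * (K : ℤ) ∣ b - d := by
  rw [← W_eq_one_iff h, ← mul_inv_eq_one, W_inv h, W_mul h, ← sub_eq_add_neg, ← sub_eq_add_neg]

theorem zz : z * z = 1 := by rw [← pow_two, ← h.ordz, pow_orderOf_eq_one]

theorem z_inv : z⁻¹ = z := inv_eq_of_mul_eq_one_left (zz h)

theorem conj_y : z * y * z⁻¹ = x := by
  rw [← h.conj, z_inv h, ← mul_assoc, ← mul_assoc, zz h, one_mul, mul_assoc, zz h, mul_one]

theorem conj_W (a b : ℤ) : z * W x y a b * z⁻¹ = W x y b a := by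
  rw [W, W, ← conj_mul, ← MulAut.conj_apply, ← MulAut.conj_apply, map_zpow, map_zpow,
    MulAut.conj_apply, MulAut.conj_apply, h.conj, conj_y h]
  exact ((show Commute x y from h.comm).zpow_zpow b a).symm.eq

theorem z_W (a b : ℤ) : z * W x y a b = W x y b a * z := by
  rw [← conj_W h a b, inv_mul_cancel_right]

theorem W_mul_Wz (a b c d : ℤ) :
    W x y a b * (W x y c d * z) = W x y (a + c) (b + d) * z := by
  rw [← mul_assoc, W_mul h]

theorem Wz_mul_W (a b c d : ℤ) :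
    W x y a b * z * W x y c d = W x y (a + d) (b + c) * z := by
  rw [mul_assoc, z_W h, ← mul_assoc, W_mul h]

theorem Wz_mul_Wz (a b c d : ℤ) :
    W x y a b * z * (W x y c d * z) = W x y (a + d) (b + c) := by
  rw [← mul_assoc, Wz_mul_W h, mul_assoc, zz h, mul_one]

theorem Wz_sq (a b : ℤ) :
    W x y a b * z * (W x y a b * z) = W x y (a + b) (a + b) := by
  rw [Wz_mul_Wz h, add_comm b a]

theorem Wz_inv (a b : ℤ) : (W x y a b * z)⁻¹ = W x y (-b) (-a) * z := by
  rw [mul_inv_rev, W_inv h, z_inv h, z_W h]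

theorem W_conj_Wz (a b c d : ℤ) :
    W x y c d * (W x y a b * z) * (W x y c d)⁻¹ = W x y (a + c - d) (b + d - c) * z := by
  rw [W_inv h, W_mul_Wz h, Wz_mul_W h]
  congr 2 <;> ring

theorem z_conj_Wz (a b : ℤ) : z * (W x y a b * z) * z⁻¹ = W x y b a * z := by
  rw [← conj_mul, conj_W h, mul_inv_cancel_right]

/-! ### The abelian maximal subgroup -/

/-- The map onto the base. -/
def uHom [NeZero (4 * K)] : Multiplicative (ZMod (4 * K) × ZMod (4 * K)) →* S :=
  MonoidHom.mk' (fun v => zp x (Multiplicative.toAdd v).1 * zp y (Multiplicative.toAdd v).2)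
    (by
      intro v w
      have hx : x ^ (4 * K) = 1 := by rw [← h.ord, pow_orderOf_eq_one]
      have hy : y ^ (4 * K) = 1 := by rw [← ordy h, pow_orderOf_eq_one]
      simp only [toAdd_mul, Prod.fst_add, Prod.snd_add, zp_add hx, zp_add hy]
      have hc : Commute (zp y (Multiplicative.toAdd v).2) (zp x (Multiplicative.toAdd w).1) :=
        ((show Commute x y from h.comm).pow_pow _ _).symm
      rw [mul_assoc (zp x (Multiplicative.toAdd v).1), ← mul_assoc (zp x (Multiplicative.toAdd w).1),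
        ← hc.eq, mul_assoc, mul_assoc])

theorem uHom_injective [NeZero (4 * K)] : Function.Injective (uHom h) := by
  rw [injective_iff_map_eq_one]
  intro v hv
  have hv' : W x y ((Multiplicative.toAdd v).1.val) ((Multiplicative.toAdd v).2.val) = 1 := by
    rw [W, zpow_natCast, zpow_natCast]; exact hv
  obtain ⟨h1, h2⟩ := (W_eq_one_iff h _ _).1 hv'
  have key : ∀ i : ZMod (4 * K), (4 * (K : ℤ)) ∣ (i.val : ℤ) → i = 0 := by
    intro i hi
    have hi' : 4 * K ∣ i.val := by exact_mod_cast hi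
    exact (ZMod.val_eq_zero i).1 (Nat.eq_zero_of_dvd_of_lt hi' i.val_lt)
  exact Multiplicative.toAdd.injective (Prod.ext (key _ h1) (key _ h2))

/-- The base subgroup. -/
def base : Subgroup S where
  carrier := {g | ∃ a b : ℤ, g = W x y a b}
  one_mem' := ⟨0, 0, (W_zero h).symm⟩
  mul_mem' := by
    rintro _ _ ⟨a, b, rfl⟩ ⟨c, d, rfl⟩; exact ⟨_, _, W_mul h a b c d⟩
  inv_mem' := by
    rintro _ ⟨a, b, rfl⟩; exact ⟨_, _, W_inv h a b⟩

theorem mem_base (g : S) : g ∈ base h ↔ ∃ a b : ℤ, g = W x y a b := Iff.rfl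

theorem W_mem_base (a b : ℤ) : W x y a b ∈ base h := ⟨a, b, rfl⟩

theorem base_eq_range [NeZero (4 * K)] : base h = (uHom h).range := by
  have hx : x ^ (4 * K) = 1 := by rw [← h.ord, pow_orderOf_eq_one]
  have hy : y ^ (4 * K) = 1 := by rw [← ordy h, pow_orderOf_eq_one]
  ext g
  constructor
  · rintro ⟨a, b, rfl⟩
    refine ⟨Multiplicative.ofAdd ((a : ℤ), (b : ℤ)), ?_⟩
    change zp x ((a : ℤ) : ZMod (4 * K)) * zp y ((b : ℤ) : ZMod (4 * K)) = _
    rw [zp_intCast hx, zp_intCast hy, W]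
  · rintro ⟨v, rfl⟩
    refine ⟨(Multiplicative.toAdd v).1.val, (Multiplicative.toAdd v).2.val, ?_⟩
    rw [W, zpow_natCast, zpow_natCast]; rfl

theorem base_card : Nat.card (base h) = 16 * K ^ 2 := by
  have := neZero h
  rw [base_eq_range h, ← Nat.card_congr (MonoidHom.ofInjective (uHom_injective h)).toEquiv,
    Nat.card_eq_fintype_card, Fintype.card_multiplicative, Fintype.card_prod, ZMod.card]
  ring

theorem base_index : (base h).index = 2 := by
  have h1 := (base h).index_mul_card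
  rw [base_card h, h.card] at h1
  have := pos h
  nlinarith

theorem z_notMem : z ∉ base h := by
  rintro ⟨a, b, he⟩
  have hc : z * W x y 1 0 = W x y 1 0 * z := by rw [he, W_mul h, W_mul h, add_comm a, add_comm b]
  rw [show W x y 1 0 = x by simp [W]] at hc
  have h2 : x = y := by rw [← h.conj, hc, mul_inv_cancel_right]
  have h3 : x ∈ Subgroup.zpowers x ⊓ Subgroup.zpowers y :=
    ⟨Subgroup.mem_zpowers x, by rw [h2]; exact Subgroup.mem_zpowers y⟩
  rw [h.disj, Subgroup.mem_bot] at h3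
  have h4 := h.ord
  rw [h3, orderOf_one] at h4
  omega

theorem Wz_notMem (a b : ℤ) : W x y a b * z ∉ base h := fun hm =>
  z_notMem h ((Subgroup.mul_mem_cancel_left _ (W_mem_base h a b)).1 hm)

theorem W_ne_Wz (a b c d : ℤ) : W x y a b ≠ W x y c d * z := fun he =>
  Wz_notMem h c d (he ▸ W_mem_base h a b)

theorem normal_form (g : S) :
    (∃ a b : ℤ, g = W x y a b) ∨ ∃ a b : ℤ, g = W x y a b * z := by
  by_cases hg : g ∈ base h
  · exact Or.inl hg
  · obtain ⟨a, b, hab⟩ := (Subgroup.mul_mem_iff_of_index_two (base_index h) (a := g) (b := z)).2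
      (iff_of_false hg (z_notMem h))
    exact Or.inr ⟨a, b, by rw [← hab, mul_assoc, zz h, mul_one]⟩

theorem base_comm {g k : S} (hg : g ∈ base h) (hk : k ∈ base h) : g * k = k * g := by
  obtain ⟨a, b, rfl⟩ := hg
  obtain ⟨c, d, rfl⟩ := hk
  rw [W_mul h, W_mul h, add_comm a c, add_comm b d]

/-- An element of the base commutes with an element outside it iff it lies on the diagonal. -/
theorem commute_iff (a b c d : ℤ) :
    W x y c d * (W x y a b * z) = W x y a b * z * W x y c d ↔ 4 * (K : ℤ) ∣ c - d := by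
  rw [W_mul_Wz h, Wz_mul_W h, mul_left_inj, W_eq_iff h]
  constructor
  · rintro ⟨h1, -⟩
    convert h1 using 1; ring
  · intro h1
    refine ⟨by convert h1 using 1; ring, ?_⟩
    rw [← Int.dvd_neg]; convert h1 using 1; ring

theorem diag_mem_center (a b : ℤ) (hab : 4 * (K : ℤ) ∣ a - b) :
    W x y a b ∈ Subgroup.center S := by
  rw [Subgroup.mem_center_iff]
  intro g
  rcases normal_form h g with ⟨c, d, rfl⟩ | ⟨c, d, rfl⟩
  · exact base_comm h (W_mem_base h c d) (W_mem_base h a b)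
  · exact ((commute_iff h c d a b).2 hab).symm

theorem mem_center_iff (g : S) :
    g ∈ Subgroup.center S ↔ ∃ a : ℤ, g = W x y a a := by
  constructor
  · intro hg
    rw [Subgroup.mem_center_iff] at hg
    rcases normal_form h g with ⟨a, b, rfl⟩ | ⟨a, b, rfl⟩
    · refine ⟨a, (W_eq_iff h _ _ _ _).2 ⟨by simp, ?_⟩⟩
      have h1 := (commute_iff h 0 0 a b).1 (hg _).symm
      rw [← Int.dvd_neg]; convert h1 using 1; ring
    · exfalso
      have h1 := (commute_iff h a b 1 0).1 (hg _)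
      have := pos h
      have := Int.le_of_dvd (by norm_num) h1
      omega
  · rintro ⟨a, rfl⟩
    exact diag_mem_center h a a (by simp)

theorem center_eq : Subgroup.center S = Subgroup.zpowers (W x y 1 1) := by
  ext g
  rw [mem_center_iff h, Subgroup.mem_zpowers_iff]
  constructor
  · rintro ⟨a, rfl⟩; exact ⟨a, by rw [W_zpow h, mul_one]⟩
  · rintro ⟨a, rfl⟩; exact ⟨a, by rw [W_zpow h, mul_one]⟩

theorem orderOf_W_one (b : ℤ) : orderOf (W x y 1 b) = 4 * K := by
  have := pos h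
  rw [orderOf_eq_iff (by omega)]
  refine ⟨?_, fun m hm hm0 => ?_⟩
  · rw [← zpow_natCast, W_zpow h, W_eq_one_iff h]
    exact ⟨by push_cast; simp, ⟨b, by push_cast; ring⟩⟩
  · rw [← zpow_natCast, W_zpow h, ne_eq, W_eq_one_iff h, mul_one]
    rintro ⟨h1, -⟩
    have h2 : 4 * K ∣ m := by exact_mod_cast h1
    have := Nat.le_of_dvd hm0 h2
    omega

theorem commutator_eq : commutator S = Subgroup.zpowers (W x y 1 (-1)) := by
  have hmem : ∀ g, g ∈ Subgroup.zpowers (W x y 1 (-1)) ↔ ∃ a : ℤ, g = W x y a (-a) := by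
    intro g
    rw [Subgroup.mem_zpowers_iff]
    constructor
    · rintro ⟨a, rfl⟩; exact ⟨a, by rw [W_zpow h, mul_one, mul_neg_one]⟩
    · rintro ⟨a, rfl⟩; exact ⟨a, by rw [W_zpow h, mul_one, mul_neg_one]⟩
  apply le_antisymm
  · rw [commutator_def, Subgroup.commutator_le]
    intro g _ k _
    rw [hmem, commutatorElement_def]
    rcases normal_form h g with ⟨a, b, rfl⟩ | ⟨a, b, rfl⟩ <;>
      rcases normal_form h k with ⟨c, d, rfl⟩ | ⟨c, d, rfl⟩
    · refine ⟨0, ?_⟩
      simp only [W_inv h, W_mul h]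
      congr 1 <;> ring
    · refine ⟨a - b, ?_⟩
      simp only [W_inv h, Wz_inv h, W_mul h, W_mul_Wz h, Wz_mul_W h, Wz_mul_Wz h]
      congr 1 <;> ring
    · refine ⟨d - c, ?_⟩
      simp only [W_inv h, Wz_inv h, W_mul h, W_mul_Wz h, Wz_mul_W h, Wz_mul_Wz h]
      congr 1 <;> ring
    · refine ⟨a - b - c + d, ?_⟩
      simp only [W_inv h, Wz_inv h, W_mul h, W_mul_Wz h, Wz_mul_W h, Wz_mul_Wz h]
      congr 1 <;> ring
  · rw [Subgroup.zpowers_le, commutator_def]
    have h1 := Subgroup.commutator_mem_commutator (Subgroup.mem_top (W x y 1 0))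
      (Subgroup.mem_top (W x y 0 0 * z))
    rw [commutatorElement_def] at h1
    convert h1 using 1
    simp only [W_inv h, Wz_inv h, W_mul h, W_mul_Wz h, Wz_mul_W h, Wz_mul_Wz h]
    congr 1

/-! ### Involutions -/

theorem W_sq_eq_one_iff (a b : ℤ) :
    W x y a b * W x y a b = 1 ↔ 2 * (K : ℤ) ∣ a ∧ 2 * (K : ℤ) ∣ b := by
  rw [W_mul h, W_eq_one_iff h]
  have e : ∀ a : ℤ, 4 * (K : ℤ) ∣ a + a ↔ 2 * (K : ℤ) ∣ a := fun a =>
    ⟨fun ⟨q, hq⟩ => ⟨q, by linarith⟩, fun ⟨q, hq⟩ => ⟨q, by linarith⟩⟩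
  rw [e, e]

theorem Wz_sq_eq_one_iff (a b : ℤ) :
    W x y a b * z * (W x y a b * z) = 1 ↔ 4 * (K : ℤ) ∣ a + b := by
  rw [Wz_sq h, W_eq_one_iff h, and_self_iff]

theorem half_cases {a : ℤ} (ha : 2 * (K : ℤ) ∣ a) :
    4 * (K : ℤ) ∣ a - 0 ∨ 4 * (K : ℤ) ∣ a - 2 * (K : ℤ) := by
  obtain ⟨q, rfl⟩ := ha
  obtain ⟨r, rfl | rfl⟩ := Int.even_or_odd' q
  · exact Or.inl ⟨r, by ring⟩
  · exact Or.inr ⟨r, by ring⟩

theorem base_sq_eq_one {a b : ℤ} (hab : W x y a b * W x y a b = 1) :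
    W x y a b = 1 ∨ W x y a b = W x y (2 * K) 0 ∨ W x y a b = W x y 0 (2 * K) ∨
      W x y a b = W x y (2 * K) (2 * K) := by
  obtain ⟨ha, hb⟩ := (W_sq_eq_one_iff h a b).1 hab
  rw [← W_zero h]
  simp only [W_eq_iff h]
  rcases half_cases h ha with h1 | h1 <;> rcases half_cases h hb with h2 | h2
  · exact Or.inl ⟨h1, h2⟩
  · exact Or.inr (Or.inr (Or.inl ⟨h1, h2⟩))
  · exact Or.inr (Or.inl ⟨h1, h2⟩)
  · exact Or.inr (Or.inr (Or.inr ⟨h1, h2⟩))

theorem W_ne_one_of {a b : ℤ} (hab : (a = 2 * K ∧ (b = 0 ∨ b = 2 * K)) ∨ (a = 0 ∧ b = 2 * K)) :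
    W x y a b ≠ 1 := by
  rw [ne_eq, W_eq_one_iff h]
  have := pos h
  rintro ⟨⟨q, hq⟩, ⟨r, hr⟩⟩
  rcases hab with ⟨rfl, -⟩ | ⟨-, rfl⟩
  · have : (K : ℤ) * (2 * q - 1) = 0 := by linarith
    rcases mul_eq_zero.1 this with h3 | h3 <;> omega
  · have : (K : ℤ) * (2 * r - 1) = 0 := by linarith
    rcases mul_eq_zero.1 this with h3 | h3 <;> omega

theorem orderOf_two_iff (g : S) :
    orderOf g = 2 ↔ g = W x y (2 * K) 0 ∨ g = W x y 0 (2 * K) ∨ g = W x y (2 * K) (2 * K) ∨
      ∃ a : ℤ, g = W x y a (-a) * z := by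
  constructor
  · intro hg
    have hgg : g * g = 1 := by rw [← pow_two, ← hg, pow_orderOf_eq_one]
    rcases normal_form h g with ⟨a, b, rfl⟩ | ⟨a, b, rfl⟩
    · rcases base_sq_eq_one h hgg with h1 | h1 | h1 | h1
      · rw [h1, orderOf_one] at hg; omega
      · exact Or.inl h1
      · exact Or.inr (Or.inl h1)
      · exact Or.inr (Or.inr (Or.inl h1))
    · refine Or.inr (Or.inr (Or.inr ⟨a, ?_⟩))
      rw [mul_left_inj, W_eq_iff h]
      refine ⟨by simp, ?_⟩
      convert (Wz_sq_eq_one_iff h a b).1 hgg using 1; ring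
  · have hW : ∀ a b : ℤ, ((a = 2 * K ∧ (b = 0 ∨ b = 2 * K)) ∨ (a = 0 ∧ b = 2 * K)) →
        orderOf (W x y a b) = 2 := by
      intro a b hab
      refine orderOf_eq_prime ?_ (W_ne_one_of h hab)
      rw [pow_two, W_sq_eq_one_iff h]
      rcases hab with ⟨rfl, rfl | rfl⟩ | ⟨rfl, rfl⟩ <;> simp
    rintro (rfl | rfl | rfl | ⟨a, rfl⟩)
    · exact hW _ _ (Or.inl ⟨rfl, Or.inl rfl⟩)
    · exact hW _ _ (Or.inr ⟨rfl, rfl⟩)
    · exact hW _ _ (Or.inl ⟨rfl, Or.inr rfl⟩)
    · refine orderOf_eq_prime ?_ ?_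
      · rw [pow_two, Wz_sq_eq_one_iff h]; simp
      · rw [← W_zero h]; exact (W_ne_Wz h _ _ _ _).symm

theorem invol_conj (a b : ℤ) :
    W x y (b - a) 0 * (W x y a (-a) * z) * (W x y (b - a) 0)⁻¹ = W x y b (-b) * z := by
  rw [W_conj_Wz h]; congr 2 <;> ring

/-! ### Dihedral and quaternion subgroups -/

theorem rpow : W x y 1 (-1) ^ (4 * K) = 1 := by rw [← orderOf_W_one h (-1), pow_orderOf_eq_one]

theorem rpow' : W x y 1 (-1) ^ (2 * (2 * K)) = 1 := by rw [← mul_assoc]; exact rpow h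

theorem qrel_sq :
    W x y (2 * K) 0 * z * (W x y (2 * K) 0 * z) = W x y 1 (-1) ^ (2 * K) := by
  rw [Wz_sq h, ← zpow_natCast, W_zpow h, W_eq_iff h]
  exact ⟨⟨0, by push_cast; ring⟩, ⟨1, by push_cast; ring⟩⟩

theorem rel_conj (a b : ℤ) :
    W x y a b * z * W x y 1 (-1) * (W x y a b * z)⁻¹ = (W x y 1 (-1))⁻¹ := by
  rw [Wz_inv h, Wz_mul_W h, Wz_mul_Wz h, W_inv h]
  congr 1 <;> ring

/-- The generalised quaternion subgroup. -/
def qHom [NeZero K] : QuaternionGroup (2 * K) →* S :=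
  quaternionHom (m := 2 * K) (W x y 1 (-1)) (W x y (2 * K) 0 * z) (rpow' h) (qrel_sq h)
    (rel_conj h _ _)

theorem Wz_notMem_zpowers (a b c d : ℤ) :
    W x y a b * z ∉ Subgroup.zpowers (W x y c d) := fun hm =>
  Wz_notMem h a b ((Subgroup.zpowers_le.2 (W_mem_base h c d)) hm)

theorem qHom_injective [NeZero K] : Function.Injective (qHom h) :=
  quaternionHom_injective _ _ _ (by rw [orderOf_W_one h]; ring) (Wz_notMem_zpowers h _ _ _ _)

theorem mem_qHom_range [NeZero K] (g : S) :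
    g ∈ (qHom h).range ↔ ∃ a : ℤ, g = W x y a (-a) ∨ g = W x y a (2 * K - a) * z := by
  constructor
  · rintro ⟨(i | i), rfl⟩
    · refine ⟨(i.val : ℤ), Or.inl ?_⟩
      change W x y 1 (-1) ^ i.val = _
      rw [← zpow_natCast, W_zpow h, mul_one, mul_neg_one]
    · refine ⟨2 * K - i.val, Or.inr ?_⟩
      change W x y (2 * K) 0 * z * W x y 1 (-1) ^ i.val = _
      rw [← zpow_natCast, W_zpow h, Wz_mul_W h]
      congr 2 <;> ring
  · have hbase : ∀ a : ℤ, W x y a (-a) ∈ (qHom h).range := by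
      intro a
      refine ⟨QuaternionGroup.a (a : ℤ), ?_⟩
      change zp (W x y 1 (-1)) (((a : ℤ)) : ZMod (2 * (2 * K))) = _
      rw [zp_intCast (rpow' h), W_zpow h, mul_one, mul_neg_one]
    rintro ⟨a, rfl | rfl⟩
    · exact hbase a
    · have he : W x y a (2 * K - a) * z = W x y (a - 2 * K) (-(a - 2 * K)) * (W x y (2 * K) 0 * z) := by
        rw [W_mul_Wz h]; congr 2 <;> ring
      rw [he]
      refine mul_mem (hbase _) ⟨QuaternionGroup.xa 0, ?_⟩
      change W x y (2 * K) 0 * z * zp (W x y 1 (-1)) (0 : ZMod (2 * (2 * K))) = _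
      rw [zp_zero, mul_one]

theorem card_qHom_range [NeZero K] : Nat.card (qHom h).range = 8 * K := by
  rw [← Nat.card_congr (MonoidHom.ofInjective (qHom_injective h)).toEquiv,
    Nat.card_eq_fintype_card, QuaternionGroup.card]
  ring

end CfsgLib.Involution.Wreathed

namespace CfsgLib.Involution.Wreathed

open CfsgLib.Involution.TwoGroupLifts

variable {S : Type*} [Group S] {x y z : S} {K : ℕ} (h : WrGen x y z K)
include h

set_option linter.unusedSectionVars false

theorem W_half_ne (a b : ℤ) (hab : (a = 2 * K ∧ b = 0) ∨ (a = 0 ∧ b = 2 * K)) :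
    ¬ 4 * (K : ℤ) ∣ a - b := by
  intro hd
  have h1 := pos h
  obtain ⟨q, hq⟩ := hd
  rcases hab with ⟨rfl, rfl⟩ | ⟨rfl, rfl⟩
  · have : (K : ℤ) * (2 * q - 1) = 0 := by linarith
    rcases mul_eq_zero.1 this with h3 | h3 <;> omega
  · have : (K : ℤ) * (2 * q + 1) = 0 := by linarith
    rcases mul_eq_zero.1 this with h3 | h3 <;> omega

/-- The normal four subgroup `Ω₁` of the base. -/
theorem four_in_base {T : Subgroup S} (hT : IsKleinFour T) (hle : T ≤ base h) (g : S) (hg : g ∈ T) :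
    g = 1 ∨ g = W x y (2 * K) 0 ∨ g = W x y 0 (2 * K) ∨ g = W x y (2 * K) (2 * K) := by
  obtain ⟨a, b, rfl⟩ := hle hg
  exact base_sq_eq_one h (mul_self_of_isKleinFour hT hg)

theorem four_outside {T : Subgroup S} (hT : IsKleinFour T) (hle : ¬ T ≤ base h) :
    W x y (2 * K) (2 * K) ∈ T ∧ ∃ a : ℤ, W x y a (-a) * z ∈ T ∧
      ∀ g ∈ T, g = 1 ∨ g = W x y (2 * K) (2 * K) ∨ g = W x y a (-a) * z ∨
        g = W x y (2 * K) (2 * K) * (W x y a (-a) * z) := by
  have := finite h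
  obtain ⟨w, hwT, hwb⟩ := SetLike.not_le_iff_exists.1 hle
  rcases normal_form h w with ⟨a, b, rfl⟩ | ⟨a, b, rfl⟩
  · exact absurd (W_mem_base h a b) hwb
  have hw : W x y a b * z = W x y a (-a) * z := by
    rw [mul_left_inj, W_eq_iff h]
    refine ⟨by simp, ?_⟩
    convert (Wz_sq_eq_one_iff h a b).1 (mul_self_of_isKleinFour hT hwT) using 1; ring
  rw [hw] at hwT hwb
  have key : ∀ u ∈ T, u ∈ base h → u = 1 ∨ u = W x y (2 * K) (2 * K) := by
    intro u hu hub
    obtain ⟨c, d, rfl⟩ := hub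
    have hcd := (commute_iff h a (-a) c d).1 (commute_of_isKleinFour hT hu hwT)
    rcases base_sq_eq_one h (mul_self_of_isKleinFour hT hu) with h1 | h1 | h1 | h1
    · exact Or.inl h1
    · rw [h1] at hu
      exact absurd ((commute_iff h a (-a) _ _).1 (commute_of_isKleinFour hT hu hwT))
        (W_half_ne h _ _ (Or.inl ⟨rfl, rfl⟩))
    · rw [h1] at hu
      exact absurd ((commute_iff h a (-a) _ _).1 (commute_of_isKleinFour hT hu hwT))
        (W_half_ne h _ _ (Or.inr ⟨rfl, rfl⟩))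
    · exact Or.inr h1
  have hall : ∀ g ∈ T, g = 1 ∨ g = W x y (2 * K) (2 * K) ∨ g = W x y a (-a) * z ∨
      g = W x y (2 * K) (2 * K) * (W x y a (-a) * z) := by
    intro g hg
    by_cases hgb : g ∈ base h
    · rcases key g hg hgb with h1 | h1
      · exact Or.inl h1
      · exact Or.inr (Or.inl h1)
    · have h2 := key _ (mul_mem hg hwT)
        ((Subgroup.mul_mem_iff_of_index_two (base_index h)).2 (iff_of_false hgb hwb))
      have he : g = g * (W x y a (-a) * z) * (W x y a (-a) * z) := by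
        rw [mul_assoc, mul_self_of_isKleinFour hT hwT, mul_one]
      rcases h2 with h1 | h1 <;> rw [h1] at he
      · exact Or.inr (Or.inr (Or.inl (by rw [he, one_mul])))
      · exact Or.inr (Or.inr (Or.inr he))
  refine ⟨?_, a, hwT, hall⟩
  by_contra hz
  have h1 : (T : Set S) ⊆ {1, W x y a (-a) * z} := by
    intro g hg
    rcases hall g hg with h2 | h2 | h2 | h2
    · exact Or.inl h2
    · exact absurd (h2 ▸ hg) hz
    · exact Or.inr h2
    · refine absurd ?_ hz
      have h3 := mul_mem (h2 ▸ hg : W x y (2 * K) (2 * K) * (W x y a (-a) * z) ∈ T) (inv_mem hwT)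
      rwa [mul_inv_cancel_right] at h3
  have h2 := Set.ncard_le_ncard h1 (Set.toFinite _)
  have h3 : (T : Set S).ncard = 4 := by
    rw [← Nat.card_coe_set_eq]; exact hT.card_four
  have h4 : ({1, W x y a (-a) * z} : Set S).ncard ≤ 2 :=
    (Set.ncard_insert_le _ _).trans (by rw [Set.ncard_singleton])
  omega

/-! ### The subgroup generated by involutions -/

/-- The subgroup generated by the involutions. -/
def omega : Subgroup S where
  carrier := {g | ∃ a b : ℤ, 2 * (K : ℤ) ∣ a + b ∧ (g = W x y a b ∨ g = W x y a b * z)}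
  one_mem' := ⟨0, 0, by simp, Or.inl (W_zero h).symm⟩
  mul_mem' := by
    rintro _ _ ⟨a, b, hab, rfl | rfl⟩ ⟨c, d, hcd, rfl | rfl⟩
    · exact ⟨_, _, by convert Int.dvd_add hab hcd using 1; ring, Or.inl (W_mul h a b c d)⟩
    · exact ⟨_, _, by convert Int.dvd_add hab hcd using 1; ring, Or.inr (W_mul_Wz h a b c d)⟩
    · exact ⟨_, _, by convert Int.dvd_add hab hcd using 1; ring, Or.inr (Wz_mul_W h a b c d)⟩
    · exact ⟨_, _, by convert Int.dvd_add hab hcd using 1; ring, Or.inl (Wz_mul_Wz h a b c d)⟩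
  inv_mem' := by
    rintro _ ⟨a, b, hab, rfl | rfl⟩
    · exact ⟨-a, -b, by rw [← neg_add, Int.dvd_neg]; exact hab, Or.inl (W_inv h a b)⟩
    · exact ⟨-b, -a, by rw [← neg_add, Int.dvd_neg, add_comm]; exact hab, Or.inr (Wz_inv h a b)⟩

theorem mem_omega (g : S) :
    g ∈ omega h ↔ ∃ a b : ℤ, 2 * (K : ℤ) ∣ a + b ∧ (g = W x y a b ∨ g = W x y a b * z) :=
  Iff.rfl

theorem omega_normal : (omega h).Normal := by
  constructor
  intro g hg k
  have hz : ∀ g ∈ omega h, z * g * z⁻¹ ∈ omega h := by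
    rintro _ ⟨a, b, hab, rfl | rfl⟩
    · exact ⟨b, a, by rwa [add_comm], Or.inl (conj_W h a b)⟩
    · exact ⟨b, a, by rwa [add_comm], Or.inr (z_conj_Wz h a b)⟩
  have hW : ∀ c d : ℤ, ∀ g ∈ omega h, W x y c d * g * (W x y c d)⁻¹ ∈ omega h := by
    rintro c d _ ⟨a, b, hab, rfl | rfl⟩
    · refine ⟨a, b, hab, Or.inl ?_⟩
      rw [W_inv h, W_mul h, W_mul h]; congr 1 <;> ring
    · exact ⟨_, _, by convert hab using 1; ring, Or.inr (W_conj_Wz h a b c d)⟩
  rcases normal_form h k with ⟨c, d, rfl⟩ | ⟨c, d, rfl⟩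
  · exact hW c d g hg
  · have he : W x y c d * z * g * (W x y c d * z)⁻¹ = W x y c d * (z * g * z⁻¹) * (W x y c d)⁻¹ := by
      group
    rw [he]; exact hW c d _ (hz g hg)

theorem closure_involutions :
    Subgroup.closure {g : S | orderOf g = 2} = omega h := by
  apply le_antisymm
  · rw [Subgroup.closure_le]
    intro g hg
    rcases (orderOf_two_iff h g).1 hg with rfl | rfl | rfl | ⟨a, rfl⟩
    · exact ⟨_, _, by simp, Or.inl rfl⟩
    · exact ⟨_, _, by simp, Or.inl rfl⟩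
    · exact ⟨_, _, by simp, Or.inl rfl⟩
    · exact ⟨_, _, by simp, Or.inr rfl⟩
  · have hw : ∀ a : ℤ, W x y a (-a) * z ∈ Subgroup.closure {g : S | orderOf g = 2} := fun a =>
      Subgroup.subset_closure ((orderOf_two_iff h _).2 (Or.inr (Or.inr (Or.inr ⟨a, rfl⟩))))
    have hh : W x y (2 * K) 0 ∈ Subgroup.closure {g : S | orderOf g = 2} :=
      Subgroup.subset_closure ((orderOf_two_iff h _).2 (Or.inl rfl))
    have hb : ∀ a b : ℤ, 2 * (K : ℤ) ∣ a + b → W x y a b ∈ Subgroup.closure {g : S | orderOf g = 2} := by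
      rintro a b ⟨q, hq⟩
      have he : W x y a b = W x y (2 * K) 0 ^ q * (W x y (-b) (-(-b)) * z * (W x y 0 (-0) * z)) := by
        rw [W_zpow h, Wz_mul_Wz h, W_mul h]; congr 1 <;> linarith
      rw [he]
      exact mul_mem (Subgroup.zpow_mem _ hh q) (mul_mem (hw _) (hw 0))
    rintro _ ⟨a, b, hab, rfl | rfl⟩
    · exact hb a b hab
    · refine mul_mem (hb a b hab) ?_
      have := hw 0
      rwa [neg_zero, W_zero h, one_mul] at this

theorem omega_sup : omega h ⊔ Subgroup.zpowers x = ⊤ := by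
  refine eq_top_iff.2 fun g _ => ?_
  have hx : ∀ a : ℤ, W x y a 0 ∈ omega h ⊔ Subgroup.zpowers x := fun a =>
    Subgroup.mem_sup_right ⟨a, by simp [W]⟩
  rcases normal_form h g with ⟨a, b, rfl⟩ | ⟨a, b, rfl⟩
  · rw [show W x y a b = W x y (-b) b * W x y (a + b) 0 by rw [W_mul h]; congr 1 <;> ring]
    exact mul_mem (Subgroup.mem_sup_left ⟨_, _, by simp, Or.inl rfl⟩) (hx _)
  · rw [show W x y a b * z = W x y (a + b) 0 * (W x y (-b) b * z) by
      rw [W_mul_Wz h]; congr 2 <;> ring]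
    exact mul_mem (hx _) (Subgroup.mem_sup_left ⟨_, _, by simp, Or.inr rfl⟩)

theorem omega_index : (omega h).index = 2 * K := by
  have := omega_normal h
  have := finite h
  have hgen : Subgroup.zpowers (QuotientGroup.mk x : S ⧸ omega h) = ⊤ := by
    have h1 := congrArg (Subgroup.map (QuotientGroup.mk' (omega h))) (omega_sup h)
    rw [Subgroup.map_sup, QuotientGroup.map_mk'_self, bot_sup_eq, MonoidHom.map_zpowers,
      Subgroup.map_top_of_surjective _ (QuotientGroup.mk'_surjective _)] at h1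
    exact h1
  have hW : ∀ m : ℕ, x ^ m = W x y (m : ℤ) 0 := fun m => by simp [W]
  rw [Subgroup.index_eq_card, ← Subgroup.card_top, ← hgen, Nat.card_zpowers,
    orderOf_eq_iff (by have := pos h; omega)]
  refine ⟨?_, fun m hm hm0 => ?_⟩
  · rw [← QuotientGroup.mk_pow, QuotientGroup.eq_one_iff, hW]
    exact ⟨_, _, by simp, Or.inl rfl⟩
  · rw [← QuotientGroup.mk_pow, ne_eq, QuotientGroup.eq_one_iff, hW]
    rintro ⟨a, b, hab, he | he⟩
    · obtain ⟨h1, h2⟩ := (W_eq_iff h _ _ _ _).1 he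
      have hd : 2 * (K : ℤ) ∣ (m : ℤ) := by
        have h1' : 2 * (K : ℤ) ∣ (m : ℤ) - a := (dvd_mul_left (2 * (K : ℤ)) 2).trans
          (by rwa [show (2 : ℤ) * (2 * K) = 4 * K by ring])
        have h2' : 2 * (K : ℤ) ∣ 0 - b := (dvd_mul_left (2 * (K : ℤ)) 2).trans
          (by rwa [show (2 : ℤ) * (2 * K) = 4 * K by ring])
        convert Int.dvd_add (Int.dvd_add h1' h2') hab using 1; ring
      have hd' : 2 * K ∣ m := by exact_mod_cast hd
      have := Nat.le_of_dvd hm0 hd'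
      omega
    · exact W_ne_Wz h _ _ _ _ he

theorem omega_card : Nat.card (omega h) = 16 * K := by
  have h1 := (omega h).index_mul_card
  rw [omega_index h, h.card] at h1
  have := pos h
  refine Nat.eq_of_mul_eq_mul_left (show 0 < 2 * K by omega) ?_
  rw [h1]; ring

/-- The centre of a nonabelian subgroup is central. -/
theorem center_le_of_nonabelian {X : Subgroup S} (hX : ¬ IsMulCommutative X) {c : S} (hc : c ∈ X)
    (hcomm : ∀ g ∈ X, c * g = g * c) : c ∈ Subgroup.center S := by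
  by_contra hcz
  have habel : ∀ {X : Subgroup S}, (∀ g ∈ X, ∀ k ∈ X, g * k = k * g) → IsMulCommutative X :=
    fun hall => ⟨⟨fun g k => Subtype.ext (hall g g.2 k k.2)⟩⟩
  apply hX
  apply habel
  rcases normal_form h c with ⟨a, b, rfl⟩ | ⟨a, b, rfl⟩
  · have hle : ∀ g ∈ X, g ∈ base h := by
      intro g hg
      rcases normal_form h g with ⟨p, q, rfl⟩ | ⟨p, q, rfl⟩
      · exact W_mem_base h p q
      · exact absurd (diag_mem_center h a b ((commute_iff h p q a b).1 (hcomm _ hg))) hcz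
    exact fun g hg k hk => base_comm h (hle g hg) (hle k hk)
  · have hsplit : ∀ g ∈ X, ∃ u ∈ Subgroup.center S, g = u ∨ g = u * (W x y a b * z) := by
      intro g hg
      rcases normal_form h g with ⟨p, q, rfl⟩ | ⟨p, q, rfl⟩
      · exact ⟨_, diag_mem_center h p q ((commute_iff h a b p q).1 (hcomm _ hg).symm), Or.inl rfl⟩
      · have hd := mul_mem hg (inv_mem hc)
        have he : W x y p q * z * (W x y a b * z)⁻¹ = W x y (p - a) (q - b) := by
          rw [Wz_inv h, Wz_mul_Wz h]; congr 1 <;> ring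
        rw [he] at hd
        refine ⟨W x y (p - a) (q - b),
          diag_mem_center h _ _ ((commute_iff h a b _ _).1 (hcomm _ hd).symm), Or.inr ?_⟩
        rw [W_mul_Wz h]; congr 2 <;> ring
    intro g hg k hk
    obtain ⟨u, hu, hgu⟩ := hsplit g hg
    obtain ⟨v, hv, hkv⟩ := hsplit k hk
    have hu' : Commute u (W x y a b * z) := (Subgroup.mem_center_iff.1 hu _).symm
    have hv' : Commute v (W x y a b * z) := (Subgroup.mem_center_iff.1 hv _).symm
    have huv : Commute u v := (Subgroup.mem_center_iff.1 hu v).symm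
    rcases hgu with rfl | rfl <;> rcases hkv with rfl | rfl
    · exact huv
    · exact (huv.mul_right hu')
    · exact (huv.mul_left hv'.symm)
    · exact ((huv.mul_right hu').mul_left (hv'.symm.mul_right (Commute.refl _)))

end CfsgLib.Involution.Wreathed
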