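import Cfsg.Agent.Lib.Involution.WreathedFusion

/-!
# The four fusion patterns of a wreathed Sylow 2-subgroup
-/

set_option autoImplicit false

namespace CfsgLib.Involution.WreathedFusion

open CfsgLib.Involution.SylowFusionTools CfsgLib.Involution.Wreathed
open scoped commutatorElement

universe u

variable {G : Type u} [Group G] [Finite G] {S : Sylow 2 G} {x y z : (S : Subgroup G)} {K : ℕ}
  (h : WrGen x y z K)

include h

omit [Finite G] in
theorem sylow_le_of {H : Subgroup G} (hU : ub h ≤ H) (hj : jj x y z K 0 ∈ H) :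
    (S : Subgroup G) ≤ H := by
  intro s hs
  rcases cases_mem h hs with ⟨a, b, e⟩ | ⟨a, b, e⟩
  · rw [e]; exact hU (w2_mem_ub h a b)
  · rw [e, show wz x y z a b = w2 x y a (b - 2 * K) * jj x y z K 0 by
      rw [jj, w2_wz h]; congr 1 <;> ring]
    exact mul_mem (hU (w2_mem_ub h _ _)) hj

theorem simple_case (hU : FusedU x y K) (hV : FusedV x y z K) {Q : Subgroup G}
    (eQ : Q ≃* QuaternionGroup 2) (hQS : Q ≤ S) (H : Subgroup G) : H.index ≠ 2 := by
  haveI : Fact (Nat.Prime 2) := ⟨Nat.prime_two⟩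
  intro hH
  have hres := pResidual_le_of_index_two hH
  have hle := sylow_le_of h ((ub_le_residual h hU).trans hres)
    (hres (jj_mem_residual h hV eQ hQS 0))
  have h0 := Subgroup.index_dvd_of_le hle
  rw [hH] at h0
  exact S.not_dvd_index h0

omit [Finite G] in
theorem ee_classes {p : ℤ} {w : G} (hV : IsConj (tt x y z p) (ee x y K))
    (hw : IsConj (cc x y K) w ∨ IsConj (ee x y K) w ∨ IsConj (tt x y z 0) w) :
    IsConj (cc x y K) w ∨ IsConj (ee x y K) w := by
  rcases hw with e | e | e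
  · exact Or.inl e
  · exact Or.inr e
  · exact Or.inr (hV.symm.trans ((tt_isConj h p 0).trans e))

theorem one_class (hU : FusedU x y K) (hV : FusedV x y z K) {Q : Subgroup G}
    (eQ : Q ≃* QuaternionGroup 2) (hQS : Q ≤ S) :
    Nat.card {C : ConjClasses G // ∃ t : G, orderOf t = 2 ∧ ConjClasses.mk t = C} = 1 :=
  card_classes_one (cc_orderOf h) fun _ ht =>
    (ee_classes h (tt_isConj_ee h hV eQ hQS 0) (involution_classes h ht)).elim id hU.trans

theorem two_classes_quaternion (hU : ¬ FusedU x y K) (hV : FusedV x y z K) {Q : Subgroup G}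
    (eQ : Q ≃* QuaternionGroup 2) (hQS : Q ≤ S) :
    Nat.card {C : ConjClasses G // ∃ t : G, orderOf t = 2 ∧ ConjClasses.mk t = C} = 2 :=
  card_classes_two (cc_orderOf h) (ee_orderOf h) hU fun _ ht =>
    ee_classes h (tt_isConj_ee h hV eQ hQS 0) (involution_classes h ht)

theorem not_isConj_tt (hV : ¬ FusedV x y z K) (p a b : ℤ) :
    ¬ IsConj (w2 x y a b) (tt x y z p) := fun e => by
  obtain ⟨g, hg⟩ := isConj_iff.1 e.symm
  exact hV (fusedV_of_tt h (w2_mem_ub h a b) hg)

theorem two_classes_base (hU : FusedU x y K) (hV : ¬ FusedV x y z K) :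
    Nat.card {C : ConjClasses G // ∃ t : G, orderOf t = 2 ∧ ConjClasses.mk t = C} = 2 :=
  card_classes_two (cc_orderOf h) (tt_orderOf h 0) (not_isConj_tt h hV 0 _ _) fun _ ht =>
    (involution_classes h ht).elim Or.inl fun e => e.elim (fun e' => Or.inl (hU.trans e')) Or.inr

theorem three_classes (hU : ¬ FusedU x y K) (hV : ¬ FusedV x y z K) :
    Nat.card {C : ConjClasses G // ∃ t : G, orderOf t = 2 ∧ ConjClasses.mk t = C} = 3 :=
  card_classes_three (cc_orderOf h) (ee_orderOf h) (tt_orderOf h 0) hU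
    (not_isConj_tt h hV 0 _ _) (not_isConj_tt h hV 0 _ _) fun _ ht => involution_classes h ht

theorem weakly_closed (hU : ¬ FusedU x y K) (hV : FusedV x y z K) {Q : Subgroup G}
    (eQ : Q ≃* QuaternionGroup 2) (hQS : Q ≤ S) {Z₀ : Subgroup G} (hZ : Z₀ ≤ zc x y) :
    Cfsg.IsWeaklyClosed Z₀ (S : Subgroup G) := by
  refine ⟨hZ.trans zc_le, fun g hg => ?_⟩
  have hfix : ∀ a ∈ Z₀, g * a * g⁻¹ = a := fun a ha =>
    zc_fixed h hU hV eQ hQS (hZ ha) (hg ⟨a, ha, rfl⟩)
  ext w
  constructor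
  · rintro ⟨a, ha, rfl⟩
    change g * a * g⁻¹ ∈ Z₀
    rw [hfix a ha]; exact ha
  · exact fun hw => ⟨w, hw, hfix w hw⟩

omit [Finite G] in
theorem relIndex_ub : (ub h).relIndex (S : Subgroup G) = 2 := by
  rw [ub, Subgroup.relIndex, Subgroup.subgroupOf,
    Subgroup.comap_map_eq_self_of_injective (Subgroup.subtype_injective _), base_index h]

/-- Without quaternion fusion the base is cut out by a normal subgroup of index two. -/
theorem base_index_two (hV : ¬ FusedV x y z K) :
    ∃ M : Subgroup G, M.Normal ∧ M.index = 2 ∧ M ⊓ S = ub h := by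
  refine exists_index_two S (ub_le h) (relIndex_ub h) fun a ha g hb => ⟨fun hau => ?_, fun hbu => ?_⟩
  · rcases cases_mem h hb with ⟨c, d, e⟩ | ⟨c, d, e⟩
    · rw [e]; exact w2_mem_ub h c d
    · refine (not_conj_into_ub h hV (a := c) (b := d) (g := g⁻¹) hau ?_).elim
      rw [← e]; group
  · rcases cases_mem h ha with ⟨c, d, e⟩ | ⟨c, d, e⟩
    · rw [e]; exact w2_mem_ub h c d
    · exact (not_conj_into_ub h hV (a := c) (b := d) (g := g) hbu (by rw [← e])).elim

theorem base_case (hU : FusedU x y K) (hV : ¬ FusedV x y z K) :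
    ∃ M : Subgroup G, M.Normal ∧ M.index = 2 ∧ ub h ≤ M ∧ ∀ H : Subgroup ↥M, H.index ≠ 2 := by
  obtain ⟨M, hMn, hM, hMS⟩ := base_index_two h hV
  exact ⟨M, hMn, hM, hMS ▸ inf_le_left,
    no_index_two S hMS hM (relIndex_ub h) fun H' hH' => (ub_le_residual h hU).trans hH'⟩

omit [Finite G] in
theorem swap_mem_qHom [NeZero K] (a : ℤ) : W x y a (-a) ∈ (qHom h).range :=
  (mem_qHom_range h _).2 ⟨a, Or.inl rfl⟩

omit [Finite G] in
theorem commutator_le_qHom [NeZero K] : commutator (S : Subgroup G) ≤ (qHom h).range := by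
  rw [Wreathed.commutator_eq h, Subgroup.zpowers_le]
  exact swap_mem_qHom h 1

omit [Finite G] in
theorem qHom_normal [NeZero K] : (qHom h).range.Normal := by
  refine ⟨fun r hr k => ?_⟩
  have h1 : ⁅k, r⁆ ∈ (qHom h).range :=
    commutator_le_qHom h (Subgroup.commutator_mem_commutator (Subgroup.mem_top k) (Subgroup.mem_top r))
  rw [commutatorElement_def] at h1
  simpa [mul_assoc] using mul_mem h1 hr

/-- The quaternion fusion pattern. -/
theorem quaternion_case [NeZero K] (hU : ¬ FusedU x y K) (hV : FusedV x y z K) {Q : Subgroup G}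
    (eQ : Q ≃* QuaternionGroup 2) (hQS : Q ≤ S) :
    ∃ M : Subgroup G, M.Normal ∧ M.index = 4 * K ∧
      (∀ P : Sylow 2 ↥M, ∃ m : ℕ, 1 ≤ m ∧
        Nonempty ((P : Subgroup ↥M) ≃* QuaternionGroup (2 ^ m))) ∧
      ∀ H : Subgroup ↥M, H.index ≠ 2 := by
  set R' := (qHom h).range with hR'
  haveI : R'.Normal := qHom_normal h
  letI : CommGroup ((S : Subgroup G) ⧸ R') :=
    { (inferInstance : Group ((S : Subgroup G) ⧸ R')) with
      mul_comm := fun a b => by
        induction a using QuotientGroup.induction_on with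
        | _ a =>
        induction b using QuotientGroup.induction_on with
        | _ b =>
        rw [← QuotientGroup.mk_mul, ← QuotientGroup.mk_mul, QuotientGroup.eq]
        have h1 := commutator_le_qHom h
          (Subgroup.commutator_mem_commutator (Subgroup.mem_top b⁻¹) (Subgroup.mem_top a⁻¹))
        rw [commutatorElement_def, inv_inv, inv_inv] at h1
        rw [mul_inv_rev, ← mul_assoc]
        exact h1 }
  set φ := QuotientGroup.mk' R' with hφ
  obtain ⟨e, he⟩ := h.kpow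
  have hA : Nat.card ((S : Subgroup G) ⧸ R') = 2 ^ (e + 2) := by
    have h1 := R'.card_eq_card_quotient_mul_card_subgroup
    rw [h.card, card_qHom_range h, he] at h1
    have h2 : 0 < 2 ^ e := Nat.two_pow_pos e
    refine Nat.eq_of_mul_eq_mul_right (show 0 < 8 * 2 ^ e by omega) ?_
    rw [← h1, pow_add]; ring
  have hkey : ∀ (a b : (S : Subgroup G)) (g : G), g * (a : G) * g⁻¹ = b → φ a = φ b := by
    have hcomm : ∀ (s a b : (S : Subgroup G)), s * a * s⁻¹ = b → φ a = φ b := fun s a b e => by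
      rw [← e, map_mul, map_mul, map_inv, mul_comm (φ s), mul_inv_cancel_right]
    have hmixed : ∀ (a b : (S : Subgroup G)) (g : G) (p q c d : ℤ), (a : G) = wz x y z p q →
        (b : G) = w2 x y c d → g * (a : G) * g⁻¹ = b → φ a = φ b := by
      intro a b g p q c d ea eb hg
      have hsq : g * (wz x y z p q * wz x y z p q) * g⁻¹ = w2 x y c d * w2 x y c d := by
        rw [← conj_mul, ← ea, hg, eb]
      have h1 := zc_fixed_ub h hU (wz_sq_mem_zc h p q)
        (hsq ▸ mul_mem (w2_mem_ub h c d) (w2_mem_ub h c d))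
      rw [hsq, w2_mul h, wz_wz h, w2_eq_iff h] at h1
      obtain ⟨⟨r, hr⟩, ⟨t, ht⟩⟩ := h1
      have hnd : ¬ 4 * (K : ℤ) ∣ c - d := fun hd => by
        have hbz : (b : G) ∈ zc x y := (mem_zc h).2 ⟨c, eb.trans (w2_eq_of h ⟨0, by ring⟩
          (by rw [← Int.dvd_neg]; convert hd using 1; ring))⟩
        have h2 := zc_fixed h hU hV eQ hQS hbz (g := g⁻¹)
          (by rw [← hg]; simp [mul_assoc])
        rw [← hg, show g⁻¹ * (g * (a : G) * g⁻¹) * g⁻¹⁻¹ = (a : G) by group, hg, ea, eb] at h2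
        exact w2_ne_wz h c d p q h2.symm
      rw [hφ, QuotientGroup.mk'_apply, QuotientGroup.mk'_apply, QuotientGroup.eq, hR',
        mem_qHom_range h]
      have hcd : c + c - (p + q) - (d + d - (q + p)) = 4 * (K : ℤ) * (r - t) := by
        rw [hr, ht]; ring
      obtain ⟨o, ho | ho⟩ := Int.even_or_odd' (r - t) <;> rw [ho] at hcd
      · exact absurd ⟨o, by linarith⟩ hnd
      · refine ⟨d - q, Or.inr (Subtype.ext ?_)⟩
        push_cast
        rw [ea, eb, wz_inv h, wz_w2 h]
        exact wz_eq_of h ⟨0, by ring⟩ ⟨t + o, by linarith⟩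
    intro a b g hg
    rcases cases_mem h a.2 with ⟨p, q, ea⟩ | ⟨p, q, ea⟩ <;>
      rcases cases_mem h b.2 with ⟨c, d, eb⟩ | ⟨c, d, eb⟩
    · rcases ub_conj_cases h hU (ea ▸ w2_mem_ub h p q) (eb ▸ w2_mem_ub h c d) hg with e | e
      · rw [show a = b from Subtype.ext e.symm]
      · exact hcomm ⟨_, wz_mem 0 0⟩ a b (Subtype.ext (by push_cast; exact e.symm))
    · exact (hmixed b a g⁻¹ c d p q eb ea (by rw [← hg]; group)).symm
    · exact hmixed a b g p q c d ea eb hg
    · have hsq : g * (wz x y z p q * wz x y z p q) * g⁻¹ = wz x y z c d * wz x y z c d := by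
        rw [← conj_mul, ← ea, hg, eb]
      have h1 := central_eq h (wz_sq_mem_zc h p q) (hsq ▸ wz_sq_mem_zc h c d)
      rw [hsq, wz_wz h, wz_wz h, w2_eq_iff h] at h1
      obtain ⟨s, hs, hsab⟩ := wz_conj_of_sum h (p := p) (q := q) (p' := c) (q' := d)
        (by rw [← Int.dvd_neg]; convert h1.1 using 1; ring)
      exact hcomm ⟨s, hs⟩ a b (Subtype.ext (by push_cast; rw [ea, eb]; exact hsab))
  obtain ⟨M, hMn, hM, hMS⟩ :=
    exists_normal_kernel S φ (QuotientGroup.mk'_surjective R') hA hkey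
  rw [hφ, QuotientGroup.ker_mk'] at hMS
  refine ⟨M, hMn, ?_, fun P => ⟨e + 1, by omega, ?_⟩, no_index_two_normal S hMS hM fun H' hH' => ?_⟩
  · rw [hM, he, pow_add]; ring
  · obtain ⟨i⟩ := sylow_iso_normal S hMS P
    rw [show 2 ^ (e + 1) = 2 * K by rw [he, pow_succ']]
    exact ⟨i.trans (((MonoidHom.ofInjective (qHom_injective h)).trans
      (R'.equivMapOfInjective _ (Subgroup.subtype_injective _))).symm)⟩
  · have hres := fun p => hH' (jj_mem_residual h hV eQ hQS p)
    rintro _ ⟨w, hw, rfl⟩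
    obtain ⟨a, rfl | rfl⟩ := (mem_qHom_range h w).1 hw
    · change w2 x y a (-a) ∈ H'
      have e : w2 x y a (-a) = jj x y z K a * (jj x y z K 0)⁻¹ := by
        rw [jj, jj, wz_inv h, wz_wz h]; congr 1 <;> ring
      rw [e]
      exact mul_mem (hres a) (inv_mem (hres 0))
    · exact hres a

theorem nilpotent_case (hU : ¬ FusedU x y K) (hV : ¬ FusedV x y z K) :
    Cfsg.HasNormalPComplement 2 G := by
  haveI : Fact (Nat.Prime 2) := ⟨Nat.prime_two⟩
  refine CfsgLib.Fusion.Transfer.npc_of_controls_self S fun a ha g hb => ?_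
  rcases cases_mem h ha with ⟨p, q, ea⟩ | ⟨p, q, ea⟩ <;>
    rcases cases_mem h hb with ⟨c, d, eb⟩ | ⟨c, d, eb⟩
  · rcases ub_conj_cases h hU (ea ▸ w2_mem_ub h p q) (eb ▸ w2_mem_ub h c d) rfl with e | e
    · exact ⟨1, one_mem _, by simp [e]⟩
    · exact ⟨_, wz_mem 0 0, e.symm⟩
  · exact (not_conj_into_ub h hV (a := c) (b := d) (g := g⁻¹) (ea ▸ w2_mem_ub h p q)
      (by rw [← eb]; group)).elim
  · exact (not_conj_into_ub h hV (a := p) (b := q) (g := g) (eb ▸ w2_mem_ub h c d)
      (by rw [← ea])).elim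
  · have hsq : g * (wz x y z p q * wz x y z p q) * g⁻¹ = wz x y z c d * wz x y z c d := by
      rw [← conj_mul, ← ea, eb]
    have h1 := central_eq h (wz_sq_mem_zc h p q) (hsq ▸ wz_sq_mem_zc h c d)
    rw [hsq, wz_wz h, wz_wz h, w2_eq_iff h] at h1
    obtain ⟨s, hs, hsab⟩ := wz_conj_of_sum h (p := p) (q := q) (p' := c) (q' := d)
      (by rw [← Int.dvd_neg]; convert h1.1 using 1; ring)
    exact ⟨s, hs, by rw [eb, ea]; exact hsab⟩

end CfsgLib.Involution.WreathedFusion

namespace CfsgLib.Involution.WreathedFusion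

open CfsgLib.Involution.SylowFusionTools CfsgLib.Involution.Wreathed

universe v

variable {G : Type v} [Group G] [Finite G] {S : Sylow 2 G} {x y z : (S : Subgroup G)} {K : ℕ}
  (h : WrGen x y z K)

include h

omit [Finite G] in
theorem exists_quat : ∃ Q : Subgroup G, Q ≤ S ∧ Nonempty (Q ≃* QuaternionGroup 2) := by
  have hsq := ii_sq h
  have hc1 := Dihedral.mul_self (cc_orderOf h)
  have hr : ii x y K ^ (2 * 2) = 1 := by rw [pow_mul, pow_two (ii x y K), hsq, pow_two, hc1]
  have hs : jj x y z K 0 * jj x y z K 0 = ii x y K ^ 2 := by rw [pow_two, hsq, sq_cc_of_jj h]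
  have hc : jj x y z K 0 * ii x y K * (jj x y z K 0)⁻¹ = (ii x y K)⁻¹ := ii_conj_inv h _ _
  have ho : orderOf (ii x y K) = 2 * 2 := by
    haveI : Fact (Nat.Prime 2) := ⟨Nat.prime_two⟩
    refine orderOf_eq_prime_pow (p := 2) (n := 1) ?_ hr
    rw [pow_one, pow_two, hsq]; exact Dihedral.ne_one (cc_orderOf h)
  refine ⟨(TwoGroupLifts.quaternionHom (m := 2) _ _ hr hs hc).range, ?_, ⟨(MonoidHom.ofInjective
    (TwoGroupLifts.quaternionHom_injective hr hs hc ho
      (fun hm => wz_notMem h _ _ (Subgroup.zpowers_le.2 (w2_mem_ub h _ _) hm)))).symm⟩⟩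
  rintro _ ⟨a | a, rfl⟩
  · exact pow_mem (w2_mem _ _) _
  · exact mul_mem (wz_mem _ _) (pow_mem (w2_mem _ _) _)

/-- Without fusion in the base no central element has another conjugate in the Sylow subgroup. -/
theorem zc_fixed_all (hU : ¬ FusedU x y K) {a g : G} (ha : a ∈ zc x y)
    (hb : g * a * g⁻¹ ∈ S) : g * a * g⁻¹ = a := by
  by_cases hV : FusedV x y z K
  · obtain ⟨Q, hQS, ⟨eQ⟩⟩ := exists_quat h
    exact zc_fixed h hU hV eQ hQS ha hb
  · rcases cases_mem h hb with ⟨p, q, e⟩ | ⟨p, q, e⟩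
    · exact zc_fixed_ub h hU ha (e ▸ w2_mem_ub h p q)
    · refine (not_conj_into_ub h hV (a := p) (b := q) (g := g⁻¹) (zc_le_ub h ha) ?_).elim
      rw [← e]; group

end CfsgLib.Involution.WreathedFusion
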