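import Mathlib

/-!
# Involution centralizers of `PSL(3,q)`, `q` odd
-/

namespace CfsgLib.Involution.PSL3Involution

open Matrix
open scoped MatrixGroups

variable {F : Type*} [Field F]

/-- An involutory matrix of determinant one and size three, different from `1`, is similar to
`diag(1,-1,-1)`. -/
theorem exists_diag (h2 : (2 : F) ≠ 0) {g : Matrix (Fin 3) (Fin 3) F} (hg : g * g = 1)
    (hdet : g.det = 1) (hne : g ≠ 1) :
    ∃ M : GL (Fin 3) F, g * (M : Matrix (Fin 3) (Fin 3) F) =
      (M : Matrix (Fin 3) (Fin 3) F) * Matrix.diagonal ![1, -1, -1] := by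
  set f : (Fin 3 → F) →ₗ[F] (Fin 3 → F) := Matrix.toLin' g with hf
  have hff : ∀ v, f (f v) = v := fun v => by
    rw [hf, Matrix.toLin'_apply, Matrix.toLin'_apply, Matrix.mulVec_mulVec, hg, Matrix.one_mulVec]
  let Wp : Submodule F (Fin 3 → F) := LinearMap.ker (f - 1)
  let Wm : Submodule F (Fin 3 → F) := LinearMap.ker (f + 1)
  have hp : ∀ v, v ∈ Wp ↔ f v = v := fun v => by
    simp [Wp, LinearMap.mem_ker, sub_eq_zero]
  have hm : ∀ v, v ∈ Wm ↔ f v = -v := fun v => by
    simp [Wm, LinearMap.mem_ker, add_eq_zero_iff_eq_neg]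
  clear_value f
  have hc : IsCompl Wp Wm := by
    constructor
    · rw [Submodule.disjoint_def]
      intro v h1 h3
      have h4 : (2 : F) • v = 0 := by
        rw [two_smul]
        nth_rw 1 [((hp v).1 h1).symm.trans ((hm v).1 h3)]
        exact neg_add_cancel v
      exact (smul_eq_zero.1 h4).resolve_left h2
    · rw [codisjoint_iff, Submodule.eq_top_iff']
      intro v
      refine Submodule.mem_sup.2 ⟨(2 : F)⁻¹ • (v + f v), ?_, (2 : F)⁻¹ • (v - f v), ?_, ?_⟩
      · rw [hp, map_smul, map_add, hff, add_comm]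
      · rw [hm, map_smul, map_sub, hff, ← smul_neg, neg_sub]
      · rw [← smul_add, add_add_sub_cancel, ← two_smul F v, inv_smul_smul₀ h2]
  have hbl : ∀ {r s : ℕ} (bp : Module.Basis (Fin r) F Wp) (bm : Module.Basis (Fin s) F Wm) (i),
      f (((bp.prod bm).map (Submodule.prodEquivOfIsCompl Wp Wm hc)) i) =
        (Sum.elim (fun _ => (1 : F)) (fun _ => -1) i) •
          ((bp.prod bm).map (Submodule.prodEquivOfIsCompl Wp Wm hc)) i := by
    intro r s bp bm i
    rcases i with i | i
    · simp only [Sum.elim_inl, one_smul]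
      refine (hp _).1 ?_
      simp [Module.Basis.prod_apply]
    · simp only [Sum.elim_inr, neg_one_smul]
      refine (hm _).1 ?_
      simp [Module.Basis.prod_apply]
  have hdim : Module.finrank F Wp + Module.finrank F Wm = 3 := by
    have := Module.finrank_eq_card_basis (((Module.finBasis F Wp).prod (Module.finBasis F Wm)).map
      (Submodule.prodEquivOfIsCompl Wp Wm hc))
    simpa using this.symm
  have hs : (-1 : F) ^ Module.finrank F Wm = 1 := by
    set b := ((Module.finBasis F Wp).prod (Module.finBasis F Wm)).map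
      (Submodule.prodEquivOfIsCompl Wp Wm hc) with hb
    have h := LinearMap.det_toMatrix b f
    have hd : LinearMap.toMatrix b b f =
        Matrix.diagonal (Sum.elim (fun _ => (1 : F)) (fun _ => -1)) := by
      ext i j
      rw [LinearMap.toMatrix_apply, hb, hbl, map_smul, Module.Basis.repr_self]
      rw [Matrix.diagonal_apply, Finsupp.smul_apply, Finsupp.single_apply]
      rcases eq_or_ne i j with rfl | hij
      · simp
      · simp [hij, hij.symm]
    rw [hd, Matrix.det_diagonal, hf, LinearMap.det_toLin', hdet, Fintype.prod_sum_type] at h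
    simpa using h
  have hne' : Module.finrank F Wm ≠ 0 := by
    intro h0
    refine hne (Matrix.toLin'.injective (LinearMap.ext fun v => ?_))
    have htop : Wp = ⊤ := Submodule.eq_top_of_finrank_eq (by rw [Module.finrank_fin_fun]; omega)
    rw [Matrix.toLin'_one, LinearMap.id_apply, ← hf]
    exact (hp v).1 (htop ▸ Submodule.mem_top)
  have hs2 : Module.finrank F Wm = 2 := by
    have hne1 : (-1 : F) ≠ 1 := fun h => h2 (by linear_combination -h)
    rcases Nat.lt_or_ge (Module.finrank F Wm) 4 with h | h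
    · interval_cases h' : Module.finrank F Wm
      · exact absurd rfl hne'
      · exact absurd (by simpa using hs) hne1
      · rfl
      · exact absurd (by simpa [pow_succ] using hs) hne1
    · omega
  let b : Module.Basis (Fin 3) F (Fin 3 → F) :=
    (((Module.finBasisOfFinrankEq F Wp (show _ = 1 by omega)).prod
      (Module.finBasisOfFinrankEq F Wm hs2)).map
        (Submodule.prodEquivOfIsCompl Wp Wm hc)).reindex finSumFinEquiv
  have hbf : ∀ j, g *ᵥ b j = (![1, -1, -1] j : F) • b j := by
    intro j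
    rw [← Matrix.toLin'_apply, ← hf]
    simp only [b, Module.Basis.reindex_apply]
    rw [hbl]
    congr 1
    fin_cases j <;> rfl
  have := (Pi.basisFun F (Fin 3)).invertibleToMatrix b
  refine ⟨GeneralLinearGroup.mkOfDetNeZero ((Pi.basisFun F (Fin 3)).toMatrix b)
    (Matrix.isUnit_det_of_invertible _).ne_zero, ?_⟩
  rw [GeneralLinearGroup.val_mkOfDetNeZero]
  ext i j
  rw [Matrix.mul_diagonal]
  have h := congrFun (hbf j) i
  simp only [Matrix.mulVec, dotProduct, Pi.smul_apply, smul_eq_mul] at h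
  simp only [Matrix.mul_apply, Module.Basis.toMatrix_apply, Pi.basisFun_repr]
  rw [h, mul_comm]

/-- The block matrix `diag((det A)⁻¹, A)`. -/
def blockMat (A : Matrix (Fin 2) (Fin 2) F) : Matrix (Fin 3) (Fin 3) F :=
  !![A.det⁻¹, 0, 0; 0, A 0 0, A 0 1; 0, A 1 0, A 1 1]

theorem blockMat_det {A : Matrix (Fin 2) (Fin 2) F} (h : A.det ≠ 0) : (blockMat A).det = 1 := by
  rw [blockMat, Matrix.det_fin_three]
  simp
  rw [Matrix.det_fin_two] at h ⊢
  field_simp

theorem blockMat_mul (A B : Matrix (Fin 2) (Fin 2) F) :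
    blockMat (A * B) = blockMat A * blockMat B := by
  ext i j
  fin_cases i <;> fin_cases j <;>
    simp [blockMat, Matrix.mul_apply, Fin.sum_univ_three, Fin.sum_univ_two]
  ring

theorem blockMat_one : blockMat (1 : Matrix (Fin 2) (Fin 2) F) = 1 := by
  ext i j
  fin_cases i <;> fin_cases j <;> simp [blockMat]

/-- The block embedding of `GL₂` in `SL₃`. -/
def blockHom : GL (Fin 2) F →* SpecialLinearGroup (Fin 3) F where
  toFun A := ⟨blockMat A, blockMat_det (Matrix.isUnits_det_units A).ne_zero⟩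
  map_one' := Subtype.ext blockMat_one
  map_mul' A B := Subtype.ext (blockMat_mul (A : Matrix (Fin 2) (Fin 2) F) B)

theorem blockHom_coe (A : GL (Fin 2) F) : (blockHom A).1 =
    !![((A : Matrix (Fin 2) (Fin 2) F).det)⁻¹, 0, 0;
      0, (A : Matrix (Fin 2) (Fin 2) F) 0 0, (A : Matrix (Fin 2) (Fin 2) F) 0 1;
      0, (A : Matrix (Fin 2) (Fin 2) F) 1 0, (A : Matrix (Fin 2) (Fin 2) F) 1 1] := rfl

/-- Conjugation of `SL₃` by an element of `GL₃`. -/
def conjHom (M : GL (Fin 3) F) :
    SpecialLinearGroup (Fin 3) F →* SpecialLinearGroup (Fin 3) F where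
  toFun x := ⟨(M : Matrix (Fin 3) (Fin 3) F) * x * ((M⁻¹ : GL (Fin 3) F) : Matrix (Fin 3) (Fin 3) F),
    by rw [Matrix.det_units_conj, x.2]⟩
  map_one' := Subtype.ext (by simp)
  map_mul' x y := Subtype.ext
    (show (M : Matrix (Fin 3) (Fin 3) F) * (x.1 * y.1) * ((M⁻¹ : GL (Fin 3) F) : Matrix _ _ F) =
      ((M : Matrix (Fin 3) (Fin 3) F) * x.1 * ((M⁻¹ : GL (Fin 3) F) : Matrix _ _ F)) *
      ((M : Matrix (Fin 3) (Fin 3) F) * y.1 * ((M⁻¹ : GL (Fin 3) F) : Matrix _ _ F))
      by simp [mul_assoc])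

theorem conjHom_coe (M : GL (Fin 3) F) (x : SpecialLinearGroup (Fin 3) F) : (conjHom M x).1 =
    (M : Matrix (Fin 3) (Fin 3) F) * x.1 * ((M⁻¹ : GL (Fin 3) F) : Matrix (Fin 3) (Fin 3) F) := rfl

theorem conjHom_inv (M : GL (Fin 3) F) (x : SpecialLinearGroup (Fin 3) F) :
    conjHom M (conjHom M⁻¹ x) = x := by
  apply Subtype.ext
  rw [conjHom_coe, conjHom_coe, inv_inv]
  simp [mul_assoc]

theorem conjHom_inv' (M : GL (Fin 3) F) (x : SpecialLinearGroup (Fin 3) F) :
    conjHom M⁻¹ (conjHom M x) = x := by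
  apply Subtype.ext
  rw [conjHom_coe, conjHom_coe, inv_inv]
  simp [mul_assoc]

theorem mem_blockHom_range (h2 : (2 : F) ≠ 0) {y : SpecialLinearGroup (Fin 3) F}
    (h : y * blockHom (-1 : GL (Fin 2) F) = blockHom (-1 : GL (Fin 2) F) * y) : y ∈ (blockHom (F := F)).range := by
  have he : ∀ i j, (y.1 * (blockHom (-1 : GL (Fin 2) F)).1) i j
      = ((blockHom (-1 : GL (Fin 2) F)).1 * y.1) i j := fun i j =>
    congrArg (fun z : SpecialLinearGroup (Fin 3) F => z.1 i j) h
  have hz : ∀ a : F, a = -a → a = 0 := fun a ha =>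
    (mul_eq_zero.1 (show (2 : F) * a = 0 by linear_combination ha)).resolve_left h2
  have h01 : y.1 0 1 = 0 := hz _ (by
    have := he 0 1; simp [blockHom_coe, Matrix.mul_apply, Fin.sum_univ_three, Matrix.det_fin_two] at this
    linear_combination -this)
  have h02 : y.1 0 2 = 0 := hz _ (by
    have := he 0 2; simp [blockHom_coe, Matrix.mul_apply, Fin.sum_univ_three, Matrix.det_fin_two] at this
    linear_combination -this)
  have h10 : y.1 1 0 = 0 := hz _ (by
    have := he 1 0; simp [blockHom_coe, Matrix.mul_apply, Fin.sum_univ_three, Matrix.det_fin_two] at this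
    linear_combination this)
  have h20 : y.1 2 0 = 0 := hz _ (by
    have := he 2 0; simp [blockHom_coe, Matrix.mul_apply, Fin.sum_univ_three, Matrix.det_fin_two] at this
    linear_combination this)
  have hd : y.1 0 0 * (y.1 1 1 * y.1 2 2 - y.1 1 2 * y.1 2 1) = 1 := by
    have h := y.2
    rw [Matrix.det_fin_three, h01, h02] at h
    linear_combination h
  have hA : (!![y.1 1 1, y.1 1 2; y.1 2 1, y.1 2 2]).det ≠ 0 := by
    rw [Matrix.det_fin_two_of]
    intro h0
    rw [h0, mul_zero] at hd
    exact zero_ne_one hd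
  refine ⟨GeneralLinearGroup.mkOfDetNeZero _ hA, Subtype.ext ?_⟩
  ext i j
  fin_cases i <;> fin_cases j <;>
    simp [blockHom_coe, Matrix.det_fin_two, h01, h02, h10, h20]
  exact (eq_inv_of_mul_eq_one_left hd).symm

variable (F) in
/-- Scalars of order dividing three inside `GL₂`. -/
def scalHom : (powMonoidHom 3 : Fˣ →* Fˣ).ker →* GL (Fin 2) F :=
  (Units.map (Matrix.scalar (Fin 2)).toMonoidHom).comp (Subgroup.subtype _)

theorem scalHom_injective : Function.Injective (scalHom F) := by
  intro a b h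
  have h1 := congrArg (fun u : GL (Fin 2) F => (u : Matrix (Fin 2) (Fin 2) F) 0 0) h
  simp [scalHom] at h1
  exact Subtype.ext (Units.ext h1)

theorem scalHom_central : (scalHom F).range ≤ Subgroup.center (GL (Fin 2) F) := by
  rintro _ ⟨c, rfl⟩
  refine Subgroup.mem_center_iff.2 fun A => Units.ext ?_
  simp only [scalHom, MonoidHom.coe_comp, Function.comp_apply, Subgroup.coe_subtype, Units.val_mul,
    Units.coe_map, RingHom.toMonoidHom_eq_coe, MonoidHom.coe_coe]
  exact ((Matrix.scalar_commute _ (fun r => Commute.all _ r) _).eq).symm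

theorem centralizer_iso [Fintype F] (h2 : (2 : F) ≠ 0)
    (t : Matrix.ProjectiveSpecialLinearGroup (Fin 3) F) (ht : orderOf t = 2) :
    ∃ (Z : Subgroup (GL (Fin 2) F)) (_ : Z.Normal), Z ≤ Subgroup.center (GL (Fin 2) F) ∧
      Nat.card Z = Nat.gcd (Fintype.card F - 1) 3 ∧
      Nonempty (↥(Subgroup.centralizer ({t} : Set (Matrix.ProjectiveSpecialLinearGroup (Fin 3) F)))
        ≃* GL (Fin 2) F ⧸ Z) := by
  obtain ⟨g0, hg0⟩ := QuotientGroup.mk'_surjective (Subgroup.center (SpecialLinearGroup (Fin 3) F)) t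
  set π := QuotientGroup.mk' (Subgroup.center (SpecialLinearGroup (Fin 3) F))
  have htt : t ^ 2 = 1 := by rw [← ht, pow_orderOf_eq_one]
  have hcen3 : ∀ z ∈ Subgroup.center (SpecialLinearGroup (Fin 3) F), z ^ 3 = 1 := by
    intro z hz
    obtain ⟨r, hr, hrz⟩ := Matrix.SpecialLinearGroup.mem_center_iff.1 hz
    apply Subtype.ext
    rw [Matrix.SpecialLinearGroup.coe_pow, ← hrz, ← map_pow]
    rw [Fintype.card_fin] at hr
    rw [hr, map_one]; rfl
  have hker : ∀ x, π x = 1 ↔ x ∈ Subgroup.center (SpecialLinearGroup (Fin 3) F) := fun x => by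
    rw [← MonoidHom.mem_ker, QuotientGroup.ker_mk']
  set g := g0 ^ 3 with hg
  have hgg : g * g = 1 := by
    rw [hg, ← pow_two, ← pow_mul, mul_comm, pow_mul]
    refine hcen3 _ ((hker _).1 ?_)
    rw [map_pow, hg0, htt]
  have hπg : π g = t := by
    rw [hg, map_pow, hg0, pow_succ, htt, one_mul]
  have hgne : g.1 ≠ 1 := fun h => by
    have h1 : g = 1 := Subtype.ext h
    rw [h1, map_one] at hπg
    rw [← hπg, orderOf_one] at ht
    omega
  obtain ⟨M, hM⟩ := exists_diag h2 (congrArg Subtype.val hgg) g.2 hgne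
  have hgM : conjHom M (blockHom (-1 : GL (Fin 2) F)) = g := by
    apply Subtype.ext
    have hD : (blockHom (-1 : GL (Fin 2) F)).1 = Matrix.diagonal ![1, -1, -1] := by
      ext i j
      fin_cases i <;> fin_cases j <;> simp [blockHom_coe, Matrix.det_fin_two]
    change (M : Matrix (Fin 3) (Fin 3) F) * (blockHom (-1 : GL (Fin 2) F)).1 * _ = _
    rw [hD, ← hM, mul_assoc, ← Units.val_mul, mul_inv_cancel, Units.val_one, mul_one]
  set ψ : GL (Fin 2) F →* Matrix.ProjectiveSpecialLinearGroup (Fin 3) F :=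
    π.comp ((conjHom M).comp blockHom) with hψ
  have hrange : ψ.range = Subgroup.centralizer ({t} : Set _) := by
    apply le_antisymm
    · rintro _ ⟨A, rfl⟩
      rw [Subgroup.mem_centralizer_singleton_iff, ← hπg, ← hgM, hψ]
      simp only [MonoidHom.coe_comp, Function.comp_apply]
      rw [← map_mul, ← map_mul, ← map_mul, ← map_mul, ← map_mul, ← map_mul]
      simp
    · intro u hu
      obtain ⟨x, rfl⟩ := QuotientGroup.mk'_surjective (Subgroup.center (SpecialLinearGroup (Fin 3) F)) u
      rw [Subgroup.mem_centralizer_singleton_iff, ← hπg] at hu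
      set z := g⁻¹ * (x * g * x⁻¹) with hz
      have hzc : z ∈ Subgroup.center (SpecialLinearGroup (Fin 3) F) := (hker z).1 (by
        rw [hz, map_mul, map_inv, map_mul, map_mul, map_inv, hu, mul_inv_cancel_right, inv_mul_cancel])
      have hxg : x * g * x⁻¹ = g * z := by rw [hz, mul_inv_cancel_left]
      have hz2 : z * z = 1 := by
        have h1 : (x * g * x⁻¹) * (x * g * x⁻¹) = 1 := by
          rw [← MulAut.conj_apply, ← map_mul, hgg, map_one]
        rw [hxg, mul_assoc, ← mul_assoc z, ← Subgroup.mem_center_iff.1 hzc g, mul_assoc g z,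
          ← mul_assoc, hgg, one_mul] at h1
        exact h1
      have hz1 : z = 1 := by
        have h3 := hcen3 z hzc
        rwa [pow_succ, pow_two, hz2, one_mul] at h3
      rw [hz1, mul_one, mul_inv_eq_iff_eq_mul] at hxg
      have hy : conjHom M⁻¹ x * blockHom (-1 : GL (Fin 2) F) = blockHom (-1 : GL (Fin 2) F) * conjHom M⁻¹ x := by
        have hb : conjHom M⁻¹ g = blockHom (-1 : GL (Fin 2) F) := by
          rw [← hgM]
          exact conjHom_inv' M _
        rw [← hb, ← map_mul, ← map_mul, hxg]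
      obtain ⟨A, hA⟩ := mem_blockHom_range h2 hy
      exact ⟨A, by rw [hψ]; simp only [MonoidHom.coe_comp, Function.comp_apply, hA, conjHom_inv]; rfl⟩
  have hkereq : ψ.ker = (scalHom F).range := by
    ext A
    rw [MonoidHom.mem_ker, hψ, MonoidHom.comp_apply, MonoidHom.comp_apply, hker,
      Matrix.SpecialLinearGroup.mem_center_iff, Fintype.card_fin]
    constructor
    · rintro ⟨r, hr, hrA⟩
      have hsA : Matrix.scalar (Fin 3) r = (blockHom A).1 := by
        have h1 : ((M⁻¹ : GL (Fin 3) F) : Matrix (Fin 3) (Fin 3) F) * Matrix.scalar (Fin 3) r *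
            (M : Matrix (Fin 3) (Fin 3) F) = (blockHom A).1 := by
          rw [hrA]
          rw [conjHom_coe]; simp [mul_assoc]
        rw [← h1, ← (Matrix.scalar_commute r (fun s => Commute.all _ s) _).eq, mul_assoc, ← Units.val_mul,
          inv_mul_cancel, Units.val_one, mul_one]
      have hr0 : r ≠ 0 := fun h => by rw [h] at hr; simp at hr
      refine ⟨⟨Units.mk0 r hr0, MonoidHom.mem_ker.2 (Units.ext (by simpa using hr))⟩, Units.ext ?_⟩
      ext i j
      have h00 := congrFun (congrFun hsA 1) 1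
      have h01 := congrFun (congrFun hsA 1) 2
      have h10 := congrFun (congrFun hsA 2) 1
      have h11 := congrFun (congrFun hsA 2) 2
      simp [blockHom_coe] at h00 h01 h10 h11
      fin_cases i <;> fin_cases j <;> simp [scalHom, h00.symm, h01.symm, h10.symm, h11.symm]
    · rintro ⟨⟨c, hc⟩, rfl⟩
      have hc3 : (c : F) ^ 3 = 1 := by
        have := congrArg Units.val (MonoidHom.mem_ker.1 hc)
        simpa using this
      refine ⟨(c : F), hc3, ?_⟩
      have hb : (blockHom (scalHom F ⟨c, hc⟩)).1 = Matrix.scalar (Fin 3) (c : F) := by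
        ext i j
        fin_cases i <;> fin_cases j <;> simp [blockHom_coe, scalHom, Matrix.det_fin_two]
        exact inv_eq_of_mul_eq_one_left (by linear_combination hc3)
      change _ = (M : Matrix (Fin 3) (Fin 3) F) * (blockHom (scalHom F ⟨c, hc⟩)).1 * _
      rw [hb, ← (Matrix.scalar_commute (c : F) (fun s => Commute.all _ s) _).eq, mul_assoc,
        ← Units.val_mul, mul_inv_cancel, Units.val_one, mul_one]
  refine ⟨ψ.ker, inferInstance, hkereq ▸ scalHom_central, ?_, ⟨?_⟩⟩
  · rw [hkereq, ← Nat.card_congr (MonoidHom.ofInjective scalHom_injective).toEquiv,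
      IsCyclic.card_powMonoidHom_ker, Nat.card_units, Nat.card_eq_fintype_card]
  · exact ((QuotientGroup.quotientKerEquivRange ψ).trans (MulEquiv.subgroupCongr hrange)).symm

end CfsgLib.Involution.PSL3Involution
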