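import Mathlib
import Cfsg.Agent.Lib.Fusion.NormalRankTwo

/-!
# Tools for coprime action on an abelian group

Fixed points and norms of subgroups of `MulAut V`, spanning by fixed points of maximal subgroups of an
elementary abelian group, subsets with regular stabilizer for `p`-groups of odd order, and a bound on the
number of homomorphisms into a group of order `p`.
-/

set_option autoImplicit false

namespace CfsgLib.Involution.MovedVector

open scoped Pointwise commutatorElement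

universe u

section
variable {V : Type u} [CommGroup V]

/-- The fixed points of a group of automorphisms. -/
def fixV (N : Subgroup (MulAut V)) : Subgroup V where
  carrier := {v | ∀ n ∈ N, n v = v}
  one_mem' := fun n _ => map_one n
  mul_mem' := fun {a b} ha hb n hn => by rw [map_mul, ha n hn, hb n hn]
  inv_mem' := fun {a} ha n hn => by rw [map_inv, ha n hn]

theorem mem_fixV {N : Subgroup (MulAut V)} {v : V} : v ∈ fixV N ↔ ∀ n ∈ N, n v = v := Iff.rfl

theorem fixV_anti {N M : Subgroup (MulAut V)} (h : N ≤ M) : fixV M ≤ fixV N := fun _ hv n hn => hv n (h hn)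

theorem mem_fixV_sup {N M : Subgroup (MulAut V)} {v : V} (hN : v ∈ fixV N) (hM : v ∈ fixV M) :
    v ∈ fixV (N ⊔ M) := by
  intro n hn
  have hle : N ⊔ M ≤ MulAction.stabilizer (MulAut V) v :=
    sup_le (fun n hn => MulAction.mem_stabilizer_iff.2 (hN n hn)) (fun n hn => MulAction.mem_stabilizer_iff.2 (hM n hn))
  exact MulAction.mem_stabilizer_iff.1 (hle hn)

theorem mem_fixV_zpowers {x : MulAut V} {v : V} : v ∈ fixV (Subgroup.zpowers x) ↔ x v = v := by
  refine ⟨fun h => h x (Subgroup.mem_zpowers x), fun h n hn => ?_⟩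
  have hle : Subgroup.zpowers x ≤ MulAction.stabilizer (MulAut V) v :=
    Subgroup.zpowers_le.2 (MulAction.mem_stabilizer_iff.2 h)
  exact MulAction.mem_stabilizer_iff.1 (hle hn)

theorem fixV_eq_top_iff {N : Subgroup (MulAut V)} : fixV N = ⊤ ↔ N = ⊥ := by
  refine ⟨fun h => (Subgroup.eq_bot_iff_forall N).2 fun n hn => MulEquiv.ext fun v => ?_, ?_⟩
  · exact (h ▸ Subgroup.mem_top v : v ∈ fixV N) n hn
  · rintro rfl
    exact eq_top_iff.2 fun v _ n hn => by rw [Subgroup.mem_bot.1 hn]; rfl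

/-- Conjugation of a subgroup. -/
def cj (h : MulAut V) (N : Subgroup (MulAut V)) : Subgroup (MulAut V) := N.map (MulAut.conj h).toMonoidHom

theorem mem_cj {h : MulAut V} {N : Subgroup (MulAut V)} {x : MulAut V} : x ∈ cj h N ↔ h⁻¹ * x * h ∈ N := by
  constructor
  · rintro ⟨y, hy, rfl⟩
    simpa [mul_assoc] using hy
  · intro hx
    exact ⟨_, hx, by simp [mul_assoc]⟩

theorem cj_cj (g h : MulAut V) (N : Subgroup (MulAut V)) : cj g (cj h N) = cj (g * h) N := by
  ext x
  simp only [mem_cj, mul_inv_rev, mul_assoc]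

theorem cj_one (N : Subgroup (MulAut V)) : cj 1 N = N := by
  ext x
  simp [mem_cj]

theorem cj_mono (h : MulAut V) {N M : Subgroup (MulAut V)} (hle : N ≤ M) : cj h N ≤ cj h M :=
  Subgroup.map_mono hle

theorem cj_eq_iff {h : MulAut V} {N : Subgroup (MulAut V)} :
    cj h N = N ↔ h ∈ Subgroup.normalizer (N : Set (MulAut V)) := by
  rw [Subgroup.mem_normalizer_iff_map_conj_eq]
  rfl

theorem map_mem_fixV {h : MulAut V} {N : Subgroup (MulAut V)} {v : V} (hv : v ∈ fixV N) :
    h v ∈ fixV (cj h N) := by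
  intro n hn
  have e : h⁻¹ (n (h v)) = v := hv _ (mem_cj.1 hn)
  have h' := congrArg h e
  rwa [MulAut.apply_inv_self] at h'

variable [Finite V]

/-- The norm map of a subgroup. -/
noncomputable def nrm (N : Subgroup (MulAut V)) : V →* V :=
  letI := Fintype.ofFinite N
  { toFun := fun v => ∏ n : N, (n : MulAut V) v
    map_one' := by simp
    map_mul' := fun a b => by simp [map_mul, Finset.prod_mul_distrib] }

theorem nrm_def (N : Subgroup (MulAut V)) [Fintype N] (v : V) : nrm N v = ∏ n : N, (n : MulAut V) v := by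
  show (@Finset.prod N V _ (@Finset.univ N (Fintype.ofFinite N)) fun n => (n : MulAut V) v) = _
  congr 1
  convert rfl

theorem nrm_mem_fixV (N : Subgroup (MulAut V)) (v : V) : nrm N v ∈ fixV N := by
  classical
  haveI := Fintype.ofFinite N
  intro m hm
  rw [nrm_def, map_prod]
  exact Fintype.prod_equiv (Equiv.mulLeft (⟨m, hm⟩ : N)) _ _ fun n => rfl

theorem nrm_of_mem_fixV {N : Subgroup (MulAut V)} {v : V} (hv : v ∈ fixV N) : nrm N v = v ^ Nat.card N := by
  classical
  haveI := Fintype.ofFinite N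
  rw [nrm_def, Finset.prod_congr rfl (g := fun _ => v) fun (n : N) _ => hv n.1 n.2, Finset.prod_const, Finset.card_univ,
    Nat.card_eq_fintype_card]

theorem nrm_cj (h : MulAut V) (N : Subgroup (MulAut V)) (v : V) : nrm (cj h N) (h v) = h (nrm N v) := by
  classical
  haveI := Fintype.ofFinite N
  haveI := Fintype.ofFinite (cj h N)
  rw [nrm_def, nrm_def, map_prod]
  exact (Fintype.prod_equiv (show N ≃ cj h N from (N.equivMapOfInjective _ (MulAut.conj h).injective).toEquiv) _ _ fun n => by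
    show h ((n : MulAut V) v) = h ((n : MulAut V) (h⁻¹ (h v)))
    rw [MulAut.inv_apply_self]).symm

theorem map_nrm {h : MulAut V} {N : Subgroup (MulAut V)} (hh : h ∈ Subgroup.normalizer (N : Set (MulAut V)))
    (v : V) : h (nrm N v) = nrm N (h v) := by
  rw [← nrm_cj, cj_eq_iff.2 hh]

/-- Points fixed by a subgroup normalizing `N` are killed by the norm of `N`, if nothing is fixed by both. -/
theorem nrm_eq_one {N M : Subgroup (MulAut V)} (hM : M ≤ Subgroup.normalizer (N : Set (MulAut V)))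
    (h : fixV (N ⊔ M) = ⊥) {v : V} (hv : v ∈ fixV M) : nrm N v = 1 := by
  have hfix : nrm N v ∈ fixV M := fun m hm => by rw [map_nrm (hM hm), hv m hm]
  exact Subgroup.mem_bot.1 (h ▸ mem_fixV_sup (nrm_mem_fixV N v) hfix)

variable {p : ℕ} [hp : Fact p.Prime]

theorem pow_inj (hcop : ∀ v : V, v ^ p = 1 → v = 1) {N : Subgroup (MulAut V)} (hN : IsPGroup p N) {a b : V}
    (h : a ^ Nat.card N = b ^ Nat.card N) : a = b := by
  obtain ⟨n, hn⟩ := hN.exists_card_eq
  rw [hn] at h
  have key : ∀ (k : ℕ) (v : V), v ^ p ^ k = 1 → v = 1 := by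
    intro k
    induction k with
    | zero => intro v hv; simpa using hv
    | succ k ih =>
      intro v hv
      rw [pow_succ', pow_mul] at hv
      exact hcop v (ih _ hv)
  refine eq_of_div_eq_one (key n _ ?_)
  rw [div_pow, h, div_self']

theorem nrm_single {ι : Type*} (hcop : ∀ v : V, v ^ p = 1 → v = 1) (s : Finset ι)
    (N : ι → Subgroup (MulAut V)) (hN : ∀ i, IsPGroup p (N i))
    (hnorm : ∀ i ∈ s, ∀ j ∈ s, N j ≤ Subgroup.normalizer (N i : Set (MulAut V)))
    (hfix : ∀ i ∈ s, ∀ j ∈ s, i ≠ j → fixV (N i ⊔ N j) = ⊥) (u : ι → V) (hu : ∀ i ∈ s, u i ∈ fixV (N i))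
    {i : ι} (hi : i ∈ s) : nrm (N i) (∏ j ∈ s, u j) = u i ^ Nat.card (N i) := by
  rw [map_prod, Finset.prod_eq_single i, nrm_of_mem_fixV (hu i hi)]
  · exact fun j hj hne => nrm_eq_one (hnorm i hi j hj) (hfix i hi j hj (Ne.symm hne)) (hu j hj)
  · exact fun h => absurd hi h

/-- Independent fixed spaces. -/
theorem card_pow_le {ι : Type*} [Fintype ι] (hcop : ∀ v : V, v ^ p = 1 → v = 1)
    (N : ι → Subgroup (MulAut V)) (hN : ∀ i, IsPGroup p (N i))
    (hnorm : ∀ i j, N j ≤ Subgroup.normalizer (N i : Set (MulAut V)))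
    (hfix : ∀ i j, i ≠ j → fixV (N i ⊔ N j) = ⊥) (c : ℕ) (hc : ∀ i, c ≤ Nat.card (fixV (N i))) :
    c ^ Fintype.card ι ≤ Nat.card V := by
  let f : (∀ i, fixV (N i)) → V := fun u => ∏ i, (u i : V)
  have hf : Function.Injective f := by
    intro u w h
    funext i
    refine Subtype.ext (pow_inj hcop (hN i) ?_)
    have h1 := congrArg (nrm (N i)) h
    simp only [f] at h1
    rw [nrm_single hcop _ N hN (fun i _ j _ => hnorm i j) (fun i _ j _ => hfix i j) (fun j => (u j : V))
        (fun j _ => (u j).2) (Finset.mem_univ i),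
      nrm_single hcop _ N hN (fun i _ j _ => hnorm i j) (fun i _ j _ => hfix i j) (fun j => (w j : V))
        (fun j _ => (w j).2) (Finset.mem_univ i)] at h1
    exact h1
  refine le_trans ?_ (Nat.card_le_card_of_injective f hf)
  rw [Nat.card_pi, ← Finset.card_univ, ← Finset.prod_const]
  exact Finset.prod_le_prod' fun i _ => hc i

/-- The key relation: `p`-th powers of fixed points of `L` are products of fixed points of larger groups. -/
theorem pow_mem_of_larger {x y : MulAut V} (hxy : Commute x y) (hx : x ^ p = 1) (hy : y ^ p = 1)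
    {L : Subgroup (MulAut V)} (hLx : ∀ l ∈ L, Commute l x) (hLy : ∀ l ∈ L, Commute l y) (S : Subgroup V)
    (h1 : fixV (L ⊔ Subgroup.zpowers y) ≤ S) (h2 : ∀ i : ℕ, fixV (L ⊔ Subgroup.zpowers (x * y ^ i)) ≤ S)
    {v : V} (hv : v ∈ fixV L) : v ^ p ∈ S := by
  classical
  haveI : NeZero p := ⟨hp.out.ne_zero⟩
  -- products over the powers of an element
  let T : MulAut V → V := fun g => ∏ j : ZMod p, (g ^ j.val) v
  have hT : ∀ g : MulAut V, g ^ p = 1 → (∀ l ∈ L, Commute l g) → T g ∈ fixV (L ⊔ Subgroup.zpowers g) := by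
    intro g hg hLg
    refine mem_fixV_sup (fun l hl => ?_) (mem_fixV_zpowers.2 ?_)
    · rw [map_prod]
      refine Finset.prod_congr rfl fun j _ => ?_
      rw [← MulAut.mul_apply, ((hLg l hl).pow_right j.val).eq, MulAut.mul_apply, hv l hl]
    · rw [map_prod]
      refine Fintype.prod_equiv (Equiv.addRight (1 : ZMod p)) _ _ fun j => ?_
      rw [← MulAut.mul_apply, ← pow_succ', Equiv.coe_addRight]
      rw [pow_eq_pow_mod (j.val + 1) hg, ZMod.val_add, ZMod.val_one]
  have hmul : ∀ i : ℕ, (x * y ^ i) ^ p = 1 := fun i => by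
    rw [(hxy.pow_right i).mul_pow, hx, ← pow_mul, mul_comm, pow_mul, hy, one_pow, one_mul]
  have hY : T y ∈ fixV (L ⊔ Subgroup.zpowers y) := hT y hy hLy
  -- the total product
  have htot : ∏ i : ZMod p, T (x * y ^ i.val) = v ^ p * ∏ j ∈ Finset.univ.erase (0 : ZMod p), (x ^ j.val) (T y) := by
    simp only [T]
    rw [Finset.prod_comm, ← Finset.mul_prod_erase _ _ (Finset.mem_univ (0 : ZMod p))]
    congr 1
    · rw [Finset.prod_congr rfl (g := fun _ => v) fun i _ => by rw [ZMod.val_zero, pow_zero, MulAut.one_apply],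
        Finset.prod_const, Finset.card_univ, ZMod.card]
    · refine Finset.prod_congr rfl fun j hj => ?_
      rw [map_prod]
      refine Fintype.prod_equiv (Equiv.mulRight₀ j (Finset.ne_of_mem_erase hj)) _ _ fun i => ?_
      rw [(hxy.pow_right i.val).mul_pow, MulAut.mul_apply, ← pow_mul, pow_eq_pow_mod (i.val * j.val) hy,
        Equiv.mulRight₀_apply, ZMod.val_mul]
  have hmem : ∏ i : ZMod p, T (x * y ^ i.val) ∈ S := Subgroup.prod_mem S fun i _ =>
    h2 i.val (hT _ (hmul i.val) fun l hl => (hLx l hl).mul_right ((hLy l hl).pow_right i.val))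
  rw [htot] at hmem
  have hxT : ∀ j : ℕ, (x ^ j) (T y) ∈ S := fun j => h1 fun m hm => by
    have hc : Commute m (x ^ j) := by
      have hle : L ⊔ Subgroup.zpowers y ≤ Subgroup.centralizer ({x ^ j} : Set (MulAut V)) :=
        sup_le (fun l hl => Subgroup.mem_centralizer_singleton_iff.2 ((hLx l hl).pow_right j).eq)
          (Subgroup.zpowers_le.2 (Subgroup.mem_centralizer_singleton_iff.2 ((hxy.symm).pow_right j).eq))
      exact Subgroup.mem_centralizer_singleton_iff.1 (hle hm)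
    rw [← MulAut.mul_apply, hc.eq, MulAut.mul_apply, hY m hm]
  exact (Subgroup.mul_mem_cancel_right S (Subgroup.prod_mem S fun j _ => hxT j.val)).1 hmem

theorem mem_of_pow_mem (hcop : ∀ v : V, v ^ p = 1 → v = 1) {S : Subgroup V} {v : V} (h : v ^ p ∈ S) : v ∈ S := by
  haveI : Fact p.Prime := hp
  have hbij : Function.Bijective fun s : S => s ^ p := by
    refine (Finite.injective_iff_bijective).1 fun a b hab => ?_
    refine Subtype.ext (eq_of_div_eq_one (hcop _ ?_))
    have h' := congrArg Subtype.val hab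
    simp only [SubmonoidClass.coe_pow] at h'
    rw [div_pow, h', div_self']
  obtain ⟨s, hs⟩ := hbij.2 ⟨v ^ p, h⟩
  have hs' : (s : V) ^ p = v ^ p := congrArg Subtype.val hs
  have : (s : V) = v := eq_of_div_eq_one (hcop _ (by rw [div_pow, hs', div_self']))
  exact this ▸ s.2

/-- If `L < E` is not maximal, the fixed points of `L` come from larger subgroups. -/
theorem fixV_le_of_larger (hcop : ∀ v : V, v ^ p = 1 → v = 1) {E L : Subgroup (MulAut V)}
    (hEc : ∀ a ∈ E, ∀ b ∈ E, Commute a b) (hEp : ∀ a ∈ E, a ^ p = 1) (hLE : L ≤ E) {x y : MulAut V}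
    (hx : x ∈ E) (hy : y ∈ E) (hxL : x ∉ L) (hyL : y ∉ L ⊔ Subgroup.zpowers x) (S : Subgroup V)
    (h : ∀ g ∈ E, g ∉ L → fixV (L ⊔ Subgroup.zpowers g) ≤ S) : fixV L ≤ S := by
  intro v hv
  refine mem_of_pow_mem hcop (pow_mem_of_larger (hEc x hx y hy) (hEp x hx) (hEp y hy)
    (fun l hl => hEc l (hLE hl) x hx) (fun l hl => hEc l (hLE hl) y hy) S
    (h y hy fun hyl => hyL (Subgroup.mem_sup_left hyl)) (fun i => h _ (mul_mem hx (pow_mem hy i)) fun hxy => ?_) hv)
  have hyi : y ^ i ∈ L ⊔ Subgroup.zpowers x := by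
    have := mul_mem (inv_mem (Subgroup.mem_sup_right (S := L) (Subgroup.mem_zpowers x)))
      (Subgroup.mem_sup_left (T := Subgroup.zpowers x) hxy)
    rwa [inv_mul_cancel_left] at this
  by_cases hpi : p ∣ i
  · obtain ⟨k, rfl⟩ := hpi
    rw [pow_mul, hEp y hy, one_pow, mul_one] at hxy
    exact hxL hxy
  · obtain ⟨m, hm⟩ := exists_pow_eq_self_of_coprime (x := y) (n := i)
      (Nat.Coprime.coprime_dvd_right (orderOf_dvd_of_pow_eq_one (hEp y hy))
        ((hp.out.coprime_iff_not_dvd.2 hpi).symm))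
    exact hyL (hm ▸ pow_mem hyi m)

/-- A group of automorphisms of `W` from one preserving `W`. -/
noncomputable def res (W : Subgroup V) (H₁ : Subgroup (MulAut V)) (hW : ∀ h ∈ H₁, ∀ w ∈ W, h w ∈ W) :
    H₁ →* MulAut W where
  toFun h :=
    { toFun := fun w => ⟨(h : MulAut V) w, hW h h.2 w w.2⟩
      invFun := fun w => ⟨(h : MulAut V)⁻¹ w, hW _ (inv_mem h.2) w w.2⟩
      left_inv := fun w => Subtype.ext (MulAut.inv_apply_self _ _ _)
      right_inv := fun w => Subtype.ext (MulAut.apply_inv_self _ _ _)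
      map_mul' := fun a b => Subtype.ext (map_mul (h : MulAut V) (a : V) b) }
  map_one' := MulEquiv.ext fun _ => rfl
  map_mul' _ _ := MulEquiv.ext fun _ => rfl

theorem res_apply (W : Subgroup V) (H₁ : Subgroup (MulAut V)) (hW : ∀ h ∈ H₁, ∀ w ∈ W, h w ∈ W) (h : H₁)
    (w : W) : ((res W H₁ hW h w : W) : V) = (h : MulAut V) w := rfl

end

section hom
variable {G : Type*} [Group G] [Finite G] {p : ℕ} [hp : Fact p.Prime]

/-- Functions on `U` with values in a group of order `p`, multiplicative and trivial on `Z`, are at most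
`|U : Z|` in number, provided every subgroup above `Z` is normal in `U` and `U` has exponent `p` over `Z`. -/
theorem card_hom_le (U Z C : Subgroup G) (hC : Nat.card C = p) (hZU : Z ≤ U)
    (hUZ : ∀ u ∈ U, ∀ w ∈ U, ⁅u, w⁆ ∈ Z) (hUp : ∀ u ∈ U, u ^ p ∈ Z)
    {ι : Type*} (f : ι → G → G) (hval : ∀ i, ∀ u ∈ U, f i u ∈ C)
    (hmul : ∀ i, ∀ u ∈ U, ∀ w ∈ U, f i (u * w) = f i u * f i w) (hZ : ∀ i, ∀ u ∈ Z, f i u = 1)
    (hinj : ∀ i j, (∀ u ∈ U, f i u = f j u) → i = j) : Nat.card ι * Nat.card Z ≤ Nat.card U := by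
  classical
  haveI := Fintype.ofFinite C
  haveI : Finite ι := Finite.of_injective (fun i => fun u : U => (⟨f i u, hval i u u.2⟩ : C)) fun i j h =>
    hinj i j fun u hu => congrArg Subtype.val (congrFun h ⟨u, hu⟩)
  haveI := Fintype.ofFinite ι
  suffices key : ∀ L : Subgroup G, Z ≤ L → L ≤ U →
      (Finset.univ.image fun i : ι => fun u : L => f i u).card * Nat.card Z ≤ Nat.card L by
    have h := key U hZU le_rfl
    rwa [Finset.card_image_of_injective _ (fun i j h => hinj i j fun u hu => congrFun h ⟨u, hu⟩),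
      Finset.card_univ, ← Nat.card_eq_fintype_card] at h
  intro L
  induction hn : Nat.card L using Nat.strong_induction_on generalizing L with
  | _ n ih =>
    subst hn
    intro hZL hLU
    by_cases hLZ : L ≤ Z
    · obtain rfl : L = Z := le_antisymm hLZ hZL
      refine le_trans (Nat.mul_le_mul_right _ (Finset.card_le_one.2 ?_)) (one_mul _).le
      intro a ha b hb
      obtain ⟨i, -, rfl⟩ := Finset.mem_image.1 ha
      obtain ⟨j, -, rfl⟩ := Finset.mem_image.1 hb
      funext u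
      rw [hZ i u u.2, hZ j u u.2]
    obtain ⟨M, ⟨hZM, hML⟩, hmax⟩ := Set.Finite.exists_maximal (Set.toFinite {M : Subgroup G | Z ≤ M ∧ M < L})
      ⟨Z, le_rfl, lt_of_le_not_ge hZL hLZ⟩
    obtain ⟨x, hxL, hxM⟩ := Set.not_subset.1 (fun h => hML.not_ge h : ¬ (L : Set G) ⊆ M)
    -- every element of `L` is `m * x ^ k`
    have hnorm : ∀ u ∈ L, u ∈ Subgroup.normalizer (M : Set G) := by
      intro u hu
      refine Subgroup.mem_normalizer_iff.2 fun m => ⟨fun hm => ?_, fun hm => ?_⟩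
      · have := mul_mem (hZM (hUZ u (hLU hu) m (hLU (hML.le hm)))) hm
        rwa [commutatorElement_def, inv_mul_cancel_right] at this
      · have h1 := mul_mem (hZM (hUZ u⁻¹ (inv_mem (hLU hu)) _ (hLU (hML.le hm)))) hm
        rw [commutatorElement_def, inv_mul_cancel_right, inv_inv] at h1
        simpa [mul_assoc] using h1
    have hle : Subgroup.zpowers x ≤ Subgroup.normalizer (M : Set G) := Subgroup.zpowers_le.2 (hnorm x hxL)
    have hsup : M ⊔ Subgroup.zpowers x = L := by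
      refine le_antisymm (sup_le hML.le (Subgroup.zpowers_le.2 hxL)) ?_
      by_contra hnot
      have hlt : M ⊔ Subgroup.zpowers x < L :=
        lt_of_le_not_ge (sup_le hML.le (Subgroup.zpowers_le.2 hxL)) hnot
      exact hxM (hmax ⟨hZM.trans le_sup_left, hlt⟩ le_sup_left (Subgroup.mem_sup_right (Subgroup.mem_zpowers x)))
    have hdec : ∀ u ∈ L, ∃ m ∈ M, ∃ k : ℕ, u = m * x ^ k := by
      intro u hu
      rw [← hsup, ← SetLike.mem_coe, Subgroup.coe_mul_of_right_le_normalizer_left _ _ hle] at hu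
      obtain ⟨m, hm, y, hy, rfl⟩ := hu
      obtain ⟨k, rfl⟩ := mem_powers_iff_mem_zpowers.2 hy
      exact ⟨m, hm, k, rfl⟩
    have hcardM : p * Nat.card M ≤ Nat.card L := by
      rw [← (M.subgroupOf L).index_mul_card, Nat.card_congr (Subgroup.subgroupOfEquivOfLe hML.le).toEquiv]
      refine Nat.mul_le_mul_right _ ?_
      by_contra hlt
      -- the cosets of `1, x, …` are distinct
      let g : Fin p → L ⧸ M.subgroupOf L := fun k => QuotientGroup.mk ⟨x ^ (k : ℕ), pow_mem hxL _⟩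
      have hg : Function.Injective g := by
        intro a b hab
        by_contra hne
        wlog hlab : (a : ℕ) < b generalizing a b
        · exact this hab.symm (Ne.symm hne) (lt_of_le_of_ne (Nat.not_lt.1 hlab) fun e => hne (Fin.ext e.symm))
        have h := QuotientGroup.eq.1 hab
        rw [Subgroup.mem_subgroupOf] at h
        simp only [Subgroup.coe_mul, Subgroup.coe_inv] at h
        have hd : x ^ ((b : ℕ) - a) ∈ M := by
          rw [← Nat.add_sub_cancel' hlab.le, pow_add, inv_mul_cancel_left] at h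
          exact h
        obtain ⟨s, hs⟩ := Nat.exists_mul_mod_eq_one_of_coprime (n := (b : ℕ) - a) (k := p)
          ((hp.out.coprime_iff_not_dvd.2 (Nat.not_dvd_of_pos_of_lt (by omega) (by omega))).symm) hp.out.one_lt
        refine hxM ?_
        have h2 := pow_mem hd s
        rw [← pow_mul, ← Nat.div_add_mod (((b : ℕ) - a) * s) p, hs.2, pow_succ, pow_mul] at h2
        exact ((Subgroup.mul_mem_cancel_left M (pow_mem (hZM (hUp x (hLU hxL))) _)).1 h2)
      have := Nat.card_le_card_of_injective g hg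
      rw [Nat.card_eq_fintype_card, Fintype.card_fin] at this
      exact hlt this
    have ih' := ih (Nat.card M) (Set.Finite.card_lt_card (Set.toFinite _) hML) M rfl hZM (hML.le.trans hLU)
    refine le_trans ?_ hcardM
    refine le_trans (Nat.mul_le_mul_right _ (?_ : _ ≤ p * (Finset.univ.image fun i : ι => fun u : M => f i u).card))
      (by rw [mul_assoc]; exact Nat.mul_le_mul_left p ih')
    rw [show p = (C : Set G).toFinset.card by
      rw [Set.toFinset_card, ← Nat.card_eq_fintype_card]; exact hC.symm, mul_comm, ← Finset.card_product]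
    refine Finset.card_le_card_of_injOn (fun a => ((fun u : M => a ⟨u, hML.le u.2⟩), a ⟨x, hxL⟩)) ?_ ?_
    · intro a ha
      obtain ⟨i, -, rfl⟩ := Finset.mem_image.1 ha
      exact Finset.mem_product.2 ⟨Finset.mem_image.2 ⟨i, Finset.mem_univ _, rfl⟩,
        Set.mem_toFinset.2 (hval i x (hLU hxL))⟩
    · intro a ha b hb hab
      obtain ⟨i, -, rfl⟩ := Finset.mem_image.1 ha
      obtain ⟨j, -, rfl⟩ := Finset.mem_image.1 hb
      simp only [Prod.mk.injEq] at hab
      funext ⟨u, hu⟩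
      obtain ⟨m, hm, k, rfl⟩ := hdec u hu
      have hpow : ∀ (l : ι) (k : ℕ), f l (x ^ k) = f l x ^ k := by
        intro l k
        induction k with
        | zero => rw [pow_zero, pow_zero, hZ l 1 (one_mem Z)]
        | succ k ih => rw [pow_succ, hmul l _ (pow_mem (hLU hxL) k) x (hLU hxL), ih, pow_succ]
      show f i (m * x ^ k) = f j (m * x ^ k)
      rw [hmul i m (hLU (hML.le hm)) _ (pow_mem (hLU hxL) k), hmul j m (hLU (hML.le hm)) _ (pow_mem (hLU hxL) k),
        hpow, hpow, hab.2, show f i m = f j m from congrFun hab.1 ⟨m, hm⟩]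

end hom

section regular
variable {Ω : Type*} [DecidableEq Ω] {P : Type*} [Group P] [Finite P] [MulAction P Ω] {p : ℕ} [hp : Fact p.Prime]

/-- A `p`-group of odd order has a subset whose stabilizer is the kernel of the action. -/
theorem exists_regular_subset (hP : IsPGroup p P) (hp2 : p ≠ 2) (Q : Subgroup P) (Δ : Finset Ω)
    (hΔ : ∀ g ∈ Q, ∀ x ∈ Δ, g • x ∈ Δ) :
    ∃ S ⊆ Δ, ∀ g ∈ Q, (∀ x ∈ Δ, g • x ∈ S ↔ x ∈ S) → ∀ x ∈ Δ, g • x = x := by
  classical
  induction hn : Δ.card using Nat.strong_induction_on generalizing Q Δ with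
  | _ n ih =>
    subst hn
    rcases Δ.eq_empty_or_nonempty with rfl | ⟨ω, hω⟩
    · exact ⟨∅, subset_rfl, fun _ _ _ x hx => absurd hx (Finset.notMem_empty x)⟩
    by_cases htr : ∀ x ∈ Δ, ∃ g ∈ Q, g • ω = x
    swap
    · -- split off an orbit
      push Not at htr
      obtain ⟨x₀, hx₀, hx₀'⟩ := htr
      set O := Δ.filter fun x => ∃ g ∈ Q, g • ω = x
      have hωO : ω ∈ O := Finset.mem_filter.2 ⟨hω, 1, one_mem Q, one_smul _ _⟩
      have hO : ∀ g ∈ Q, ∀ x ∈ O, g • x ∈ O := by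
        intro g hg x hx
        obtain ⟨hxΔ, k, hk, rfl⟩ := Finset.mem_filter.1 hx
        exact Finset.mem_filter.2 ⟨hΔ g hg _ hxΔ, g * k, mul_mem hg hk, mul_smul _ _ _⟩
      have hO' : ∀ g ∈ Q, ∀ x ∈ Δ \ O, g • x ∈ Δ \ O := by
        intro g hg x hx
        rw [Finset.mem_sdiff] at hx ⊢
        exact ⟨hΔ g hg x hx.1, fun h => hx.2 (by simpa using hO g⁻¹ (inv_mem hg) _ h)⟩
      have hlt1 : O.card < Δ.card := Finset.card_lt_card
        ((Finset.ssubset_iff_of_subset (Finset.filter_subset _ _)).2 ⟨x₀, hx₀, fun h => by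
          obtain ⟨g, hg, e⟩ := (Finset.mem_filter.1 h).2
          exact hx₀' g hg e⟩)
      have hlt2 : (Δ \ O).card < Δ.card := Finset.card_lt_card
        ((Finset.ssubset_iff_of_subset Finset.sdiff_subset).2 ⟨ω, hω, fun h => (Finset.mem_sdiff.1 h).2 hωO⟩)
      obtain ⟨S₁, hS₁, h₁⟩ := ih _ hlt1 Q O hO rfl
      obtain ⟨S₂, hS₂, h₂⟩ := ih _ hlt2 Q (Δ \ O) hO' rfl
      refine ⟨S₁ ∪ S₂, Finset.union_subset (hS₁.trans (Finset.filter_subset _ _))
        (hS₂.trans Finset.sdiff_subset), fun g hg h x hx => ?_⟩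
      by_cases hxO : x ∈ O
      · refine h₁ g hg (fun y hy => ?_) x hxO
        have h' := h y (Finset.mem_filter.1 hy).1
        have n1 : y ∉ S₂ := fun h => (Finset.mem_sdiff.1 (hS₂ h)).2 hy
        have n2 : g • y ∉ S₂ := fun h => (Finset.mem_sdiff.1 (hS₂ h)).2 (hO g hg y hy)
        simpa [Finset.mem_union, n1, n2] using h'
      · refine h₂ g hg (fun y hy => ?_) x (Finset.mem_sdiff.2 ⟨hx, hxO⟩)
        have h' := h y (Finset.mem_sdiff.1 hy).1
        have n1 : y ∉ S₁ := fun h => (Finset.mem_sdiff.1 hy).2 (hS₁ h)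
        have n2 : g • y ∉ S₁ := fun h => (Finset.mem_sdiff.1 (hO' g hg y hy)).2 (hS₁ h)
        simpa [Finset.mem_union, n1, n2] using h'
    -- the transitive case
    set St : Subgroup Q := (MulAction.stabilizer P ω).subgroupOf Q
    by_cases hSt : St = ⊤
    · refine ⟨∅, Finset.empty_subset _, fun g hg _ x hx => ?_⟩
      have hfix : ∀ k ∈ Q, k • ω = ω := fun k hk =>
        (hSt ▸ Subgroup.mem_top (⟨k, hk⟩ : Q) : (⟨k, hk⟩ : Q) ∈ St)
      obtain ⟨k, hk, rfl⟩ := htr x hx
      rw [← mul_smul, hfix _ (mul_mem hg hk), hfix k hk]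
    obtain ⟨M, hM, hStM⟩ := (eq_top_or_exists_le_coatom St).resolve_left hSt
    haveI := (hP.to_subgroup Q).isNilpotent
    haveI hMn : M.Normal := Subgroup.NormalizerCondition.normal_of_coatom M Group.normalizerCondition_of_isNilpotent hM
    -- the block of `ω`
    set Δ₀ := Δ.filter fun x => ∃ m : Q, m ∈ M ∧ (m : P) • ω = x
    have hΔ₀ : ∀ g ∈ M.map Q.subtype, ∀ x ∈ Δ₀, g • x ∈ Δ₀ := by
      rintro _ ⟨g, hg, rfl⟩ x hx
      obtain ⟨hxΔ, m, hm, rfl⟩ := Finset.mem_filter.1 hx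
      exact Finset.mem_filter.2 ⟨hΔ g g.2 _ hxΔ, g * m, mul_mem hg hm, by rw [Subgroup.coe_mul, mul_smul]; rfl⟩
    have hq : ∀ k l : Q, (k : P) • ω = (l : P) • ω → (k : Q ⧸ M) = l := fun k l h => by
      rw [QuotientGroup.eq]
      refine hStM ?_
      show ((k⁻¹ * l : Q) : P) • ω = ω
      rw [Subgroup.coe_mul, mul_smul, ← h, Subgroup.coe_inv, inv_smul_smul]
    have hω₀ : ω ∈ Δ₀ := Finset.mem_filter.2 ⟨hω, 1, one_mem M, one_smul _ _⟩
    have hlt : Δ₀.card < Δ.card := by
      obtain ⟨k, hk⟩ := not_forall.1 fun h : ∀ k : Q, k ∈ M => hM.1 ((Subgroup.eq_top_iff' M).2 h)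
      refine Finset.card_lt_card ((Finset.ssubset_iff_of_subset (Finset.filter_subset _ _)).2
        ⟨(k : P) • ω, hΔ k k.2 ω hω, fun h => ?_⟩)
      obtain ⟨m, hm, e⟩ := (Finset.mem_filter.1 h).2
      have := QuotientGroup.eq.1 (hq m k e)
      exact hk ((Subgroup.mul_mem_cancel_left M (inv_mem hm)).1 this)
    have hodd : Odd Δ₀.card := by
      haveI := Fintype.ofFinite P
      have himg : Δ₀ = (Finset.univ.filter fun g : P => g ∈ M.map Q.subtype).image (· • ω) := by
        ext x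
        simp only [Δ₀, Finset.mem_filter, Finset.mem_image, Finset.mem_univ, true_and]
        constructor
        · rintro ⟨-, m, hm, rfl⟩
          exact ⟨m, ⟨m, hm, rfl⟩, rfl⟩
        · rintro ⟨_, ⟨m, hm, rfl⟩, rfl⟩
          exact ⟨hΔ _ m.2 ω hω, m, hm, rfl⟩
      have hdvd : Δ₀.card ∣ Nat.card (M.map Q.subtype) := by
        have horb : (MulAction.orbit (M.map Q.subtype) ω) = (Δ₀ : Set Ω) := by
          ext x
          rw [himg, Finset.coe_image, Set.mem_image]
          constructor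
          · rintro ⟨⟨g, hg⟩, rfl⟩
            exact ⟨g, Finset.mem_coe.2 (Finset.mem_filter.2 ⟨Finset.mem_univ _, hg⟩), rfl⟩
          · rintro ⟨g, hg, rfl⟩
            exact ⟨⟨g, (Finset.mem_filter.1 (Finset.mem_coe.1 hg)).2⟩, rfl⟩
        refine ⟨Nat.card (MulAction.stabilizer (M.map Q.subtype) ω), ?_⟩
        rw [← Nat.card_congr (MulAction.orbitProdStabilizerEquivGroup (M.map Q.subtype) ω), Nat.card_prod, horb,
          SetLike.coe_sort_coe, Nat.card_eq_finsetCard]
      obtain ⟨j, hj⟩ := (hP.to_subgroup (M.map Q.subtype)).exists_card_eq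
      rw [hj] at hdvd
      obtain ⟨i, -, hi⟩ := (Nat.dvd_prime_pow hp.out).1 hdvd
      rw [hi]
      exact (hp.out.odd_of_ne_two hp2).pow
    obtain ⟨S₀, hS₀, h₀⟩ := ih _ hlt (M.map Q.subtype) Δ₀ hΔ₀ rfl
    choose w hwQ hw using htr
    let q : ∀ x ∈ Δ, Q ⧸ M := fun x hx => ((⟨w x hx, hwQ x hx⟩ : Q) : Q ⧸ M)
    let rep : Q ⧸ M → Q := fun c => if c = 1 then 1 else c.out
    have hrep : ∀ c, ((rep c : Q) : Q ⧸ M) = c := fun c => by
      by_cases h : c = 1
      · simp [rep, h]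
      · simp [rep, h]
    have hqmul : ∀ (k : Q) (x : Ω) (hx : x ∈ Δ), q ((k : P) • x) (hΔ k k.2 x hx) = (k : Q ⧸ M) * q x hx := by
      intro k x hx
      refine (hq _ (k * ⟨w x hx, hwQ x hx⟩) ?_).trans (QuotientGroup.mk_mul M _ _)
      rw [Subgroup.coe_mul, mul_smul]
      exact (hw _ (hΔ k k.2 x hx)).trans (congrArg ((k : P) • ·) (hw x hx).symm)
    have hq0 : ∀ (x : Ω) (hx : x ∈ Δ), q x hx = 1 ↔ x ∈ Δ₀ := by
      intro x hx
      constructor
      · intro h
        exact Finset.mem_filter.2 ⟨hx, ⟨w x hx, hwQ x hx⟩, (QuotientGroup.eq_one_iff _).1 h, hw x hx⟩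
      · intro h
        obtain ⟨m, hm, rfl⟩ := (Finset.mem_filter.1 h).2
        exact (hq _ m (hw _ hx)).trans ((QuotientGroup.eq_one_iff m).2 hm)
    set S := Δ.filter fun x => ∃ hx : x ∈ Δ, ((((rep (q x hx))⁻¹ : Q) : P) • x ∈ S₀ ↔ q x hx = 1)
    have hSmem : ∀ (x : Ω) (hx : x ∈ Δ), x ∈ S ↔ ((((rep (q x hx))⁻¹ : Q) : P) • x ∈ S₀ ↔ q x hx = 1) :=
      fun x hx => ⟨fun h => (Finset.mem_filter.1 h).2.2, fun h => Finset.mem_filter.2 ⟨hx, hx, h⟩⟩
    have hS0 : ∀ x ∈ Δ₀, x ∈ S ↔ x ∈ S₀ := by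
      intro x hx
      have hxΔ := (Finset.mem_filter.1 hx).1
      rw [hSmem x hxΔ, (hq0 x hxΔ).2 hx]
      simp [rep]
    refine ⟨S, Finset.filter_subset _ _, fun g hg hgS => ?_⟩
    -- `g` fixes the block of `ω`
    have hgM : (⟨g, hg⟩ : Q) ∈ M := by
      by_contra hgM
      have hc : ((⟨g, hg⟩ : Q) : Q ⧸ M) ≠ 1 := fun h => hgM ((QuotientGroup.eq_one_iff _).1 h)
      set c := ((⟨g, hg⟩ : Q) : Q ⧸ M)
      set m : P := (((rep c)⁻¹ * ⟨g, hg⟩ : Q) : P)
      have hm : m ∈ M.map Q.subtype :=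
        ⟨(rep c)⁻¹ * ⟨g, hg⟩, (QuotientGroup.eq_one_iff _).1 (by
          rw [QuotientGroup.mk_mul, QuotientGroup.mk_inv, hrep, inv_mul_cancel]), rfl⟩
      have hflip : ∀ x ∈ Δ₀, x ∈ S₀ ↔ m • x ∉ S₀ := by
        intro x hx
        have hxΔ := (Finset.mem_filter.1 hx).1
        have h1 := hgS x hxΔ
        rw [hS0 x hx, hSmem _ (hΔ g hg x hxΔ)] at h1
        have h2 : q (g • x) (hΔ g hg x hxΔ) = c := by
          rw [show q (g • x) _ = _ from hqmul ⟨g, hg⟩ x hxΔ, (hq0 x hxΔ).2 hx, mul_one]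
        rw [h2, iff_false_right hc] at h1
        rw [← h1]
        show ¬ (((rep c)⁻¹ : Q) : P) • g • x ∈ S₀ ↔ ¬ m • x ∈ S₀
        rw [← mul_smul]
        rfl
      have hcard : S₀.card = (Δ₀ \ S₀).card := by
        refine Finset.card_bij' (fun x _ => m • x) (fun x _ => m⁻¹ • x) ?_ ?_ ?_ ?_
        · exact fun x hx => Finset.mem_sdiff.2 ⟨hΔ₀ m hm x (hS₀ hx), (hflip x (hS₀ hx)).1 hx⟩
        · intro x hx
          rw [Finset.mem_sdiff] at hx
          have hy := hΔ₀ m⁻¹ (inv_mem hm) x hx.1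
          exact (hflip _ hy).2 (by rw [smul_inv_smul]; exact hx.2)
        · intros; simp
        · intros; simp
      rw [Finset.card_sdiff_of_subset hS₀] at hcard
      have := Finset.card_le_card hS₀
      obtain ⟨t, ht⟩ := hodd
      omega
    -- hence every block, and inside a block it fixes every point
    intro x hx
    set k := rep (q x hx)
    have hm : ((k⁻¹ * ⟨g, hg⟩ * k : Q) : P) ∈ M.map Q.subtype := ⟨_, hMn.conj_mem' _ hgM k, rfl⟩
    have hy : (((k⁻¹ : Q) : P) • x) ∈ Δ₀ := by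
      refine (hq0 _ (hΔ _ (k⁻¹).2 x hx)).1 ?_
      rw [hqmul _ _ hx, QuotientGroup.mk_inv, hrep, inv_mul_cancel]
    have hfix := h₀ _ hm (fun y hy => ?_) _ hy
    · have := congrArg ((k : P) • ·) hfix
      simpa [← mul_smul, mul_assoc] using this
    have hyΔ := (Finset.mem_filter.1 hy).1
    have hky : q ((k : P) • y) (hΔ k k.2 y hyΔ) = q x hx := by
      rw [hqmul _ _ hyΔ, (hq0 y hyΔ).2 hy, mul_one, hrep]
    have hgky : q (g • (k : P) • y) (hΔ g hg _ (hΔ k k.2 y hyΔ)) = q x hx := by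
      rw [show q (g • (k : P) • y) _ = _ from hqmul ⟨g, hg⟩ _ (hΔ k k.2 y hyΔ), hky,
        (QuotientGroup.eq_one_iff _).2 hgM, one_mul]
    have h1 := hgS _ (hΔ k k.2 y hyΔ)
    rw [hSmem _ (hΔ k k.2 y hyΔ), hSmem _ (hΔ g hg _ (hΔ k k.2 y hyΔ)), hky, hgky] at h1
    change ((((k⁻¹ : Q) : P) • g • (k : P) • y ∈ S₀ ↔ _) ↔ (((k⁻¹ : Q) : P) • (k : P) • y ∈ S₀ ↔ _)) at h1
    simp only [Subgroup.coe_inv, inv_smul_smul] at h1
    rw [Subgroup.coe_mul, Subgroup.coe_mul, mul_smul, mul_smul, Subgroup.coe_inv]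
    by_cases hc : q x hx = 1
    · simpa [hc] using h1
    · rw [iff_false_right hc, iff_false_right hc] at h1
      exact not_iff_not.1 h1

end regular

end CfsgLib.Involution.MovedVector
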