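import Mathlib
import Cfsg.Agent.Lib.Involution.MovedVectorBasics
import Cfsg.Agent.Lib.Fusion.NormalRankTwo

/-!
# A vector moved by all conjugates of an element

Let `p` be odd, `V` a finite abelian group of order prime to `p`, `H` a group of automorphisms of `V` and
`a ≠ 1` an element of a normal `p`-subgroup of `H`.  Then some `v ∈ V` is fixed by no `H`-conjugate of `a`.
-/

set_option autoImplicit false

namespace CfsgLib.Involution.MovedVector

open scoped commutatorElement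

universe u

section groupTools
variable {G : Type*} [Group G] {p : ℕ} [hp : Fact p.Prime]

omit hp in
theorem le_normalizer_of_conj {H E : Subgroup G} (h : ∀ g ∈ H, ∀ x ∈ E, g * x * g⁻¹ ∈ E) :
    H ≤ Subgroup.normalizer (E : Set G) := by
  intro g hg
  refine Subgroup.mem_normalizer_iff.2 fun x => ⟨h g hg x, fun hx => ?_⟩
  have := h g⁻¹ (inv_mem hg) _ hx
  simpa [mul_assoc] using this

omit hp in
theorem le_normalizer_of_comm {M N : Subgroup G} (h : ∀ m ∈ M, ∀ n ∈ N, Commute m n) :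
    M ≤ Subgroup.normalizer (N : Set G) :=
  le_normalizer_of_conj fun m hm n hn => by rwa [(h m hm n hn).eq, mul_inv_cancel_right]

theorem mem_zpowers_of_mem {c z : G} (hz : z ^ p = 1) (hc : c ∈ Subgroup.zpowers z) (hc1 : c ≠ 1) :
    z ∈ Subgroup.zpowers c := by
  have hz1 : z ≠ 1 := fun h => hc1 (by rw [h, Subgroup.zpowers_one_eq_bot] at hc; exact Subgroup.mem_bot.1 hc)
  have ho : orderOf z = p := orderOf_eq_prime hz hz1
  obtain ⟨i, rfl⟩ := Subgroup.mem_zpowers_iff.1 hc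
  have hi : IsCoprime (p : ℤ) i := by
    refine (Nat.prime_iff_prime_int.1 hp.out).coprime_iff_not_dvd.2 fun h => hc1 ?_
    exact orderOf_dvd_iff_zpow_eq_one.1 (by rwa [ho])
  obtain ⟨a, b, hab⟩ := hi
  refine ⟨b, ?_⟩
  show (z ^ i) ^ b = z
  have e : z ^ (a * (p : ℤ)) = 1 := by rw [mul_comm, zpow_mul, zpow_natCast, hz, one_zpow]
  calc (z ^ i) ^ b = z ^ (a * (p : ℤ)) * z ^ (b * i) := by rw [e, one_mul, mul_comm b i, zpow_mul]
    _ = z := by rw [← zpow_add, hab, zpow_one]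

omit hp in
theorem mul_pow_of_comm {x y : G} (hx : Commute ⁅y, x⁆ x) (hy : Commute ⁅y, x⁆ y) (n : ℕ) :
    (x * y) ^ n = x ^ n * y ^ n * ⁅y, x⁆ ^ n.choose 2 := by
  set c := ⁅y, x⁆ with hc
  have hyx : y * x = c * x * y := by rw [hc, commutatorElement_def]; group
  have hpow : ∀ n : ℕ, y ^ n * x = c ^ n * x * y ^ n := by
    intro n
    induction n with
    | zero => simp
    | succ n ih =>
      calc y ^ (n + 1) * x = y * (y ^ n * x) := by rw [pow_succ', mul_assoc]
        _ = y * (c ^ n * x * y ^ n) := by rw [ih]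
        _ = c ^ n * (y * x) * y ^ n := by
          rw [← mul_assoc, ← mul_assoc, ← (hy.pow_left n).eq]
          group
        _ = c ^ n * (c * x * y) * y ^ n := by rw [hyx]
        _ = c ^ (n + 1) * x * y ^ (n + 1) := by
          rw [pow_succ, pow_succ' y]
          group
  induction n with
  | zero => simp
  | succ n ih =>
    have hcxy : Commute (c ^ n.choose 2) (x * y) := (hx.pow_left _).mul_right (hy.pow_left _)
    calc (x * y) ^ (n + 1) = x ^ n * y ^ n * (c ^ n.choose 2 * (x * y)) := by rw [pow_succ, ih, mul_assoc]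
      _ = x ^ n * (y ^ n * x) * y * c ^ n.choose 2 := by rw [hcxy.eq]; group
      _ = x ^ n * (c ^ n * x * y ^ n) * y * c ^ n.choose 2 := by rw [hpow]
      _ = x ^ (n + 1) * (c ^ n * y ^ (n + 1)) * c ^ n.choose 2 := by
        rw [(hx.pow_left n).eq, pow_succ, pow_succ y]
        group
      _ = x ^ (n + 1) * y ^ (n + 1) * (c ^ n * c ^ n.choose 2) := by
        rw [(hy.pow_left n |>.pow_right (n + 1)).eq]
        group
      _ = _ := by rw [← pow_add, Nat.choose_succ_succ' n 1, Nat.choose_one_right]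

/-- Structure of a `p`-group, `p` odd, all whose `H`-invariant elementary abelian subgroups are cyclic. -/
theorem symplectic [Finite G] (hp2 : p ≠ 2) {H P : Subgroup G} (hPn : H ≤ Subgroup.normalizer (P : Set G))
    (hPH : P ≤ H) (hP : IsPGroup p P) (hne : P ≠ ⊥)
    (hcyc : ∀ E : Subgroup G, E ≤ P → H ≤ Subgroup.normalizer (E : Set G) → (∀ x ∈ E, ∀ y ∈ E, Commute x y) →
      (∀ x ∈ E, x ^ p = 1) → ∀ x ∈ E, x ≠ 1 → E = Subgroup.zpowers x) :
    ∃ (z : G) (U : Subgroup G), z ∈ U ∧ z ≠ 1 ∧ z ^ p = 1 ∧ U ≤ P ∧ H ≤ Subgroup.normalizer (U : Set G) ∧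
      H ≤ Subgroup.normalizer (Subgroup.zpowers z : Set G) ∧ (∀ x ∈ P, Commute z x) ∧
      (∀ x ∈ U, x ^ p = 1) ∧ (∀ x ∈ U, ∀ y ∈ U, ⁅x, y⁆ ∈ Subgroup.zpowers z) ∧
      (∀ x ∈ U, (∀ y ∈ U, Commute x y) → x ∈ Subgroup.zpowers z) ∧ ∀ a ∈ P, a ^ p = 1 → a ∈ U := by
  classical
  -- the central subgroup of order `p`
  let Z₀ : Subgroup G :=
    { carrier := {x | x ∈ P ∧ x ^ p = 1 ∧ ∀ y ∈ P, Commute x y}
      one_mem' := ⟨one_mem P, one_pow p, fun y _ => Commute.one_left y⟩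
      mul_mem' := fun {a b} ha hb => ⟨mul_mem ha.1 hb.1, by rw [(ha.2.2 b hb.1).mul_pow, ha.2.1, hb.2.1, one_mul],
        fun y hy => (ha.2.2 y hy).mul_left (hb.2.2 y hy)⟩
      inv_mem' := fun {a} ha => ⟨inv_mem ha.1, by rw [inv_pow, ha.2.1, inv_one], fun y hy => (ha.2.2 y hy).inv_left⟩ }
  haveI : Nontrivial P := (Subgroup.nontrivial_iff_ne_bot P).2 hne
  haveI := hP.center_nontrivial
  obtain ⟨j, hj, hcard⟩ := (hP.to_subgroup (Subgroup.center P)).nontrivial_iff_card.1 inferInstance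
  obtain ⟨z', hz'⟩ := exists_prime_orderOf_dvd_card' (G := Subgroup.center P) p (hcard ▸ dvd_pow_self p hj.ne')
  set z : G := ((z' : P) : G)
  have hzP : z ∈ P := (z' : P).2
  have hzo : orderOf z = p := by rw [← hz', Subgroup.orderOf_coe, Subgroup.orderOf_coe]
  have hzp : z ^ p = 1 := by rw [← hzo, pow_orderOf_eq_one]
  have hz1 : z ≠ 1 := fun h => hp.out.ne_one (by rw [← hzo, h, orderOf_one])
  have hzc : ∀ x ∈ P, Commute z x := fun x hx =>
    (congrArg Subtype.val (Subgroup.mem_center_iff.1 z'.2 ⟨x, hx⟩)).symm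
  have hZ₀n : H ≤ Subgroup.normalizer (Z₀ : Set G) := by
    refine le_normalizer_of_conj fun g hg x hx => ⟨(Subgroup.mem_normalizer_iff.1 (hPn hg) x).1 hx.1, ?_, ?_⟩
    · rw [conj_pow, hx.2.1, mul_one, mul_inv_cancel]
    · intro y hy
      have hy' : g⁻¹ * y * g ∈ P := (Subgroup.mem_normalizer_iff''.1 (hPn hg) y).1 hy
      have h : Commute (g * x * g⁻¹) (g * (g⁻¹ * y * g) * g⁻¹) := (hx.2.2 _ hy').map (MulAut.conj g).toMonoidHom
      simpa [mul_assoc] using h
  have hZ₀ : Z₀ = Subgroup.zpowers z :=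
    hcyc Z₀ (fun x hx => hx.1) hZ₀n (fun x hx y hy => hx.2.2 y hy.1) (fun x hx => hx.2.1) z ⟨hzP, hzp, hzc⟩ hz1
  have hzn : H ≤ Subgroup.normalizer (Subgroup.zpowers z : Set G) := hZ₀ ▸ hZ₀n
  have hzm : ∀ c ∈ Subgroup.zpowers z, c ∈ P ∧ c ^ p = 1 ∧ ∀ y ∈ P, Commute c y := fun c hc => by
    rw [← hZ₀] at hc; exact hc
  -- `U`
  let U : Subgroup G :=
    { carrier := {x | x ∈ P ∧ x ^ p = 1 ∧ ∀ y ∈ P, ⁅x, y⁆ ∈ Subgroup.zpowers z}
      one_mem' := ⟨one_mem P, one_pow p, fun y _ => by rw [commutatorElement_one_left]; exact one_mem _⟩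
      mul_mem' := fun {a b} ha hb => by
        refine ⟨mul_mem ha.1 hb.1, ?_, fun y hy => ?_⟩
        · have hc := hzm _ (hb.2.2 a ha.1)
          rw [mul_pow_of_comm (hc.2.2 a ha.1) (hc.2.2 b hb.1), ha.2.1, hb.2.1, one_mul, one_mul]
          obtain ⟨t, ht⟩ := hp.out.dvd_choose_self (by norm_num : (2 : ℕ) ≠ 0)
            (lt_of_le_of_ne hp.out.two_le (Ne.symm hp2))
          rw [ht, pow_mul, hc.2.1, one_pow]
        · have e : ⁅a * b, y⁆ = a * ⁅b, y⁆ * a⁻¹ * ⁅a, y⁆ := by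
            rw [commutatorElement_def, commutatorElement_def, commutatorElement_def]; group
          rw [e, ((hzm _ (hb.2.2 y hy)).2.2 a ha.1).symm.eq, mul_inv_cancel_right]
          exact mul_mem (hb.2.2 y hy) (ha.2.2 y hy)
      inv_mem' := fun {a} ha => by
        refine ⟨inv_mem ha.1, by rw [inv_pow, ha.2.1, inv_one], fun y hy => ?_⟩
        have e : ⁅a⁻¹, y⁆ = a⁻¹ * ⁅a, y⁆⁻¹ * a := by
          rw [commutatorElement_def, commutatorElement_def]; group
        rw [e, mul_assoc, (((hzm _ (ha.2.2 y hy)).2.2 a ha.1).inv_left).eq, inv_mul_cancel_left]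
        exact inv_mem (ha.2.2 y hy) }
  have hUn : H ≤ Subgroup.normalizer (U : Set G) := by
    refine le_normalizer_of_conj fun g hg x hx => ⟨(Subgroup.mem_normalizer_iff.1 (hPn hg) x).1 hx.1, ?_, ?_⟩
    · rw [conj_pow, hx.2.1, mul_one, mul_inv_cancel]
    · intro y hy
      have hy' : g⁻¹ * y * g ∈ P := (Subgroup.mem_normalizer_iff''.1 (hPn hg) y).1 hy
      have e : ⁅g * x * g⁻¹, y⁆ = g * ⁅x, g⁻¹ * y * g⁆ * g⁻¹ := by
        rw [commutatorElement_def, commutatorElement_def]; group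
      rw [e]
      exact (Subgroup.mem_normalizer_iff.1 (hzn hg) _).1 (hx.2.2 _ hy')
  have hzU : z ∈ U := ⟨hzP, hzp, fun y hy => by
    rw [commutatorElement_eq_one_iff_mul_comm.2 (hzc y hy).eq]; exact one_mem _⟩
  -- the centre of `U`
  let ZU : Subgroup G := U ⊓ Subgroup.centralizer (U : Set G)
  have hZUn : H ≤ Subgroup.normalizer (ZU : Set G) := by
    refine le_normalizer_of_conj fun g hg x hx => ⟨(Subgroup.mem_normalizer_iff.1 (hUn hg) x).1 hx.1, ?_⟩
    refine Subgroup.mem_centralizer_iff.2 fun y hy => ?_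
    have hy' : g⁻¹ * y * g ∈ U := (Subgroup.mem_normalizer_iff''.1 (hUn hg) y).1 hy
    have h : Commute (g⁻¹ * y * g) x := Subgroup.mem_centralizer_iff.1 hx.2 _ hy'
    have h' : Commute (g * (g⁻¹ * y * g) * g⁻¹) (g * x * g⁻¹) := h.map (MulAut.conj g).toMonoidHom
    simpa [mul_assoc] using h'.eq
  have hZU : ZU = Subgroup.zpowers z := by
    refine hcyc ZU (fun x hx => hx.1.1) hZUn (fun x hx y hy => ?_) (fun x hx => hx.1.2.1) z
      ⟨hzU, Subgroup.mem_centralizer_iff.2 fun y hy => ((hzc y hy.1).eq).symm⟩ hz1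
    exact (Subgroup.mem_centralizer_iff.1 hx.2 y hy.1).symm
  have hcenter : ∀ x ∈ U, (∀ y ∈ U, Commute x y) → x ∈ Subgroup.zpowers z := fun x hx h =>
    hZU ▸ (⟨hx, Subgroup.mem_centralizer_iff.2 fun y hy => (h y hy).eq.symm⟩ : x ∈ ZU)
  have hUU : ∀ x ∈ U, ∀ y ∈ U, ⁅x, y⁆ ∈ Subgroup.zpowers z := fun x hx y hy => hx.2.2 y hy.1
  -- the centralizer of `U` in `P` is cyclic
  set R : Subgroup P := (Subgroup.centralizer (U : Set G)).subgroupOf P with hRdef
  haveI hRn : R.Normal := by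
    refine ⟨fun r hr g => ?_⟩
    rw [hRdef, Subgroup.mem_subgroupOf, Subgroup.mem_centralizer_iff]
    intro y hy
    have hy' : (g : G)⁻¹ * y * g ∈ U := (Subgroup.mem_normalizer_iff''.1 (hUn (hPH g.2)) y).1 hy
    have h : Commute ((g : G)⁻¹ * y * g) r := Subgroup.mem_centralizer_iff.1 hr _ hy'
    have h' : Commute ((g : G) * ((g : G)⁻¹ * y * g) * (g : G)⁻¹) ((g : G) * r * (g : G)⁻¹) :=
      h.map (MulAut.conj (g : G)).toMonoidHom
    simpa [mul_assoc] using h'.eq
  have hR : IsCyclic R := by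
    by_contra hR
    obtain ⟨E, hER, hEn, hEe, hEc⟩ := CfsgLib.Fusion.NormalRankTwo.exists_normal_rankTwo hP hp2 hR
    haveI := hEn
    haveI : (Subgroup.zpowers (⟨z, hzP⟩ : P)).Normal := by
      refine ⟨fun n hn g => ?_⟩
      obtain ⟨i, rfl⟩ := Subgroup.mem_zpowers_iff.1 hn
      have hc : Commute g (⟨z, hzP⟩ : P) := Subtype.ext ((hzc g g.2).eq.symm)
      rw [(hc.zpow_right i).eq, mul_inv_cancel_right]
      exact Subgroup.zpow_mem _ (Subgroup.mem_zpowers _) i
    obtain ⟨x, hxE, hxz, -, hxc⟩ := CfsgLib.Fusion.NormalRankTwo.exists_central_of_lt hP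
      (M := Subgroup.zpowers (⟨z, hzP⟩ : P)) (N := E) (fun h => by
        have hle := Subgroup.card_le_of_le h
        rw [hEc, Nat.card_zpowers, Subgroup.orderOf_mk, hzo] at hle
        nlinarith [hp.out.two_le])
    have hval : ∀ c : P, c ∈ Subgroup.zpowers (⟨z, hzP⟩ : P) → (c : G) ∈ Subgroup.zpowers z := fun c hc => by
      obtain ⟨i, rfl⟩ := Subgroup.mem_zpowers_iff.1 hc
      rw [Subgroup.coe_zpow]
      exact Subgroup.zpow_mem _ (Subgroup.mem_zpowers z) i
    have hxU : (x : G) ∈ U := by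
      refine ⟨x.2, congrArg Subtype.val (hEe.2 x hxE), fun y hy => ?_⟩
      have h := hval _ (hxc ⟨y, hy⟩)
      rw [← commutatorElement_inv]
      exact inv_mem h
    have hxc' : (x : G) ∈ Subgroup.zpowers z :=
      hcenter _ hxU fun y hy => (Subgroup.mem_centralizer_iff.1 (hER hxE) y hy).symm
    obtain ⟨i, hi⟩ := Subgroup.mem_zpowers_iff.1 hxc'
    exact hxz ⟨i, Subtype.ext hi⟩
  refine ⟨z, U, hzU, hz1, hzp, fun x hx => hx.1, hUn, hzn, hzc, fun x hx => hx.2.1, hUU, hcenter,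
    fun a haP hap => ?_⟩
  -- `P = U C_P(U)`
  set Zs : Subgroup U := (Subgroup.zpowers z).subgroupOf U
  have hzle : Subgroup.zpowers z ≤ U := Subgroup.zpowers_le.2 hzU
  have hflip : ∀ g ∈ P, ∀ u ∈ U, ⁅g, u⁆ ∈ Subgroup.zpowers z := fun g hg u hu => by
    rw [← commutatorElement_inv]
    exact inv_mem (hu.2.2 g hg)
  obtain ⟨u₀, hu₀, hu₀a⟩ : ∃ u₀ ∈ U, ∀ u ∈ U, ⁅a, u⁆ = ⁅u₀, u⁆ := by
    by_contra hno
    push Not at hno
    let f : Option (U ⧸ Zs) → G → G := fun o u => match o with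
      | none => ⁅a, u⁆
      | some q => ⁅(q.out : G), u⁆
    have hfP : ∀ o, ∃ g ∈ P, f o = fun u => ⁅g, u⁆ := by
      rintro (_ | q)
      · exact ⟨a, haP, rfl⟩
      · exact ⟨(q.out : G), q.out.2.1, rfl⟩
    have h := card_hom_le (p := p) U (Subgroup.zpowers z) (Subgroup.zpowers z)
      (by rw [Nat.card_zpowers, hzo]) hzle hUU (fun u hu => by rw [hu.2.1]; exact one_mem _) f ?_ ?_ ?_ ?_
    · have hidx := Zs.index_mul_card
      rw [Nat.card_congr (Subgroup.subgroupOfEquivOfLe hzle).toEquiv, Subgroup.index_eq_card] at hidx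
      rw [Finite.card_option, add_mul, hidx, one_mul, Nat.card_zpowers, hzo] at h
      have := hp.out.pos
      omega
    · intro o u hu
      obtain ⟨g, hg, e⟩ := hfP o
      rw [e]
      exact hflip g hg u hu
    · intro o u hu w hw
      obtain ⟨g, hg, e⟩ := hfP o
      rw [e]
      show ⁅g, u * w⁆ = ⁅g, u⁆ * ⁅g, w⁆
      have e2 : ⁅g, u * w⁆ = ⁅g, u⁆ * (u * ⁅g, w⁆ * u⁻¹) := by
        rw [commutatorElement_def, commutatorElement_def, commutatorElement_def]; group
      rw [e2, ((hzm _ (hflip g hg w hw)).2.2 u hu.1).symm.eq, mul_inv_cancel_right]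
    · intro o u hu
      obtain ⟨g, hg, e⟩ := hfP o
      rw [e]
      exact commutatorElement_eq_one_iff_mul_comm.2 ((hzm u hu).2.2 g hg).eq.symm
    · rintro (_ | q) (_ | q') heq
      · rfl
      · obtain ⟨u, hu, h'⟩ := hno _ q'.out.2
        exact absurd (heq u hu) h'
      · obtain ⟨u, hu, h'⟩ := hno _ q.out.2
        exact absurd (heq u hu).symm h'
      · congr 1
        rw [← q.out_eq', ← q'.out_eq', QuotientGroup.eq, Subgroup.mem_subgroupOf]
        refine hcenter _ (mul_mem (inv_mem q.out.2) q'.out.2) fun w hw => ?_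
        have e : ⁅(q.out : G), w⁆ = ⁅(q'.out : G), w⁆ := heq w hw
        rw [commutatorElement_def, commutatorElement_def, mul_left_inj] at e
        show ((q.out : G)⁻¹ * (q'.out : G)) * w = w * ((q.out : G)⁻¹ * (q'.out : G))
        calc ((q.out : G)⁻¹ * (q'.out : G)) * w
            = (q.out : G)⁻¹ * ((q'.out : G) * w * (q'.out : G)⁻¹) * (q'.out : G) := by group
          _ = (q.out : G)⁻¹ * ((q.out : G) * w * (q.out : G)⁻¹) * (q'.out : G) := by rw [← e]
          _ = w * ((q.out : G)⁻¹ * (q'.out : G)) := by group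
  -- the `C_P(U)` part of `a`
  set r := u₀⁻¹ * a with hr
  have hrU : ∀ u ∈ U, Commute r u := by
    intro u hu
    have e := hu₀a u hu
    rw [commutatorElement_def, commutatorElement_def, mul_left_inj] at e
    show u₀⁻¹ * a * u = u * (u₀⁻¹ * a)
    calc u₀⁻¹ * a * u = u₀⁻¹ * (a * u * a⁻¹) * a := by group
      _ = u₀⁻¹ * (u₀ * u * u₀⁻¹) * a := by rw [e]
      _ = u * (u₀⁻¹ * a) := by group
  have hrP : r ∈ P := mul_mem (inv_mem hu₀.1) haP
  have hrR : (⟨r, hrP⟩ : P) ∈ R := Subgroup.mem_centralizer_iff.2 fun u hu => (hrU u hu).eq.symm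
  have hrp : r ^ p = 1 := by
    have h : a ^ p = u₀ ^ p * r ^ p := by rw [← (hrU u₀ hu₀).symm.mul_pow, hr, mul_inv_cancel_left]
    rw [hap, hu₀.2.1, one_mul] at h
    exact h.symm
  have hrz : r ∈ Subgroup.zpowers z := by
    have hzR : (⟨z, hzP⟩ : P) ∈ R := Subgroup.mem_centralizer_iff.2 fun u hu => (hzc u hu.1).eq.symm
    haveI := Fintype.ofFinite R
    have h := IsCyclic.card_pow_eq_one_le (α := R) hp.out.pos
    by_contra hnot
    let ψ : Subgroup.zpowers z → R := fun c => ⟨⟨c, (hzm c c.2).1⟩,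
      Subgroup.mem_centralizer_iff.2 fun u hu => ((hzm c c.2).2.2 u hu.1).eq.symm⟩
    haveI := Fintype.ofFinite (Subgroup.zpowers z)
    have hsub : insert (⟨⟨r, hrP⟩, hrR⟩ : R) (Finset.univ.image ψ) ⊆
        Finset.univ.filter fun x : R => x ^ p = 1 := by
      intro x hx
      refine Finset.mem_filter.2 ⟨Finset.mem_univ x, Subtype.ext (Subtype.ext ?_)⟩
      rcases Finset.mem_insert.1 hx with rfl | hx
      · exact hrp
      · obtain ⟨c, -, rfl⟩ := Finset.mem_image.1 hx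
        exact (hzm c c.2).2.1
    have h2 := (Finset.card_le_card hsub).trans h
    rw [Finset.card_insert_of_notMem, Finset.card_image_of_injective, Finset.card_univ, ← Nat.card_eq_fintype_card,
      Nat.card_zpowers, hzo] at h2
    · omega
    · exact fun c d e => Subtype.ext (congrArg (fun x : R => ((x : P) : G)) e)
    · intro hmem
      obtain ⟨c, -, e⟩ := Finset.mem_image.1 hmem
      have h2 : (c : G) = r := congrArg (fun x : R => ((x : P) : G)) e
      exact hnot (h2 ▸ c.2)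
  have : u₀ * r = a := by rw [hr, mul_inv_cancel_left]
  exact this ▸ mul_mem hu₀ (hzle hrz)

end groupTools

section main
variable {p : ℕ} [hp : Fact p.Prime]

/-- The statement at a given group. -/
def Moved (p : ℕ) (V : Type u) [CommGroup V] : Prop :=
  ∀ (H P : Subgroup (MulAut V)) (a : MulAut V), P ≤ H → H ≤ Subgroup.normalizer (P : Set (MulAut V)) →
    IsPGroup p P → a ∈ P → a ≠ 1 → ∃ v : V, ∀ h ∈ H, (h * a * h⁻¹) v ≠ v

variable {V : Type u} [CommGroup V] [Finite V]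

theorem moved_of_res (hcop : ∀ v : V, v ^ p = 1 → v = 1)
    (ih : ∀ (W : Type u) [CommGroup W] [Finite W], Nat.card W < Nat.card V →
      (∀ w : W, w ^ p = 1 → w = 1) → Moved p W)
    {H P H₁ : Subgroup (MulAut V)} (hPn : H ≤ Subgroup.normalizer (P : Set (MulAut V)))
    (hP : IsPGroup p P) (hle : H₁ ≤ H) (W : Subgroup V) (hW : ∀ h ∈ H₁, ∀ w ∈ W, h w ∈ W) (hWt : W ≠ ⊤)
    {a : MulAut V} (haP : a ∈ P) (ha₁ : a ∈ H₁) (hne : ∃ w ∈ W, a w ≠ w) :
    ∃ w ∈ W, ∀ h ∈ H₁, (h * a * h⁻¹) w ≠ w := by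
  have hlt : Nat.card W < Nat.card V :=
    lt_of_le_of_ne (Subgroup.card_le_card_group W) fun e => hWt (Subgroup.eq_top_of_card_eq W e)
  let f := res W H₁ hW
  let P₁ : Subgroup H₁ := P.subgroupOf H₁
  have hP₁ : IsPGroup p (P₁.map f) := (hP.comap_of_injective _ (Subgroup.subtype_injective _)).map f
  have hn : f.range ≤ Subgroup.normalizer (P₁.map f : Set (MulAut W)) := by
    refine le_normalizer_of_conj ?_
    rintro _ ⟨g, rfl⟩ _ ⟨x, hx, rfl⟩
    exact ⟨g * x * g⁻¹, (Subgroup.mem_normalizer_iff.1 (hPn (hle g.2)) (x : MulAut V)).1 hx, by simp⟩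
  obtain ⟨w₀, hw₀, hw₀'⟩ := hne
  obtain ⟨w, hw⟩ := ih W hlt (fun w hw => Subtype.ext (hcop w (congrArg Subtype.val hw))) f.range (P₁.map f)
    (f ⟨a, ha₁⟩) (Subgroup.map_le_range f P₁) hn hP₁ ⟨⟨a, ha₁⟩, haP, rfl⟩
    (fun e => by
      have h := congrArg Subtype.val (DFunLike.congr_fun e (⟨w₀, hw₀⟩ : W))
      exact hw₀' h)
  refine ⟨w, w.2, fun h hh e => hw (f ⟨h, hh⟩) ⟨_, rfl⟩ ?_⟩
  rw [← map_inv, ← map_mul, ← map_mul]
  exact Subtype.ext e

/-- Reduction to the case where normal subgroups of `H` in `P` fix nothing. -/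
theorem moved_of_fixed (hcop : ∀ v : V, v ^ p = 1 → v = 1)
    (ih : ∀ (W : Type u) [CommGroup W] [Finite W], Nat.card W < Nat.card V →
      (∀ w : W, w ^ p = 1 → w = 1) → Moved p W)
    {H P N : Subgroup (MulAut V)} (hPH : P ≤ H) (hPn : H ≤ Subgroup.normalizer (P : Set (MulAut V)))
    (hP : IsPGroup p P) (hN : N ≠ ⊥) (hNp : IsPGroup p N) (hNn : H ≤ Subgroup.normalizer (N : Set (MulAut V)))
    (hfix : fixV N ≠ ⊥) {a : MulAut V} (haP : a ∈ P) (hne : a ≠ 1) : ∃ v : V, ∀ h ∈ H, (h * a * h⁻¹) v ≠ v := by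
  have hF : ∀ h ∈ H, ∀ v ∈ fixV N, h v ∈ fixV N := fun h hh v hv => by
    have := map_mem_fixV (h := h) hv
    rwa [cj_eq_iff.2 (hNn hh)] at this
  have hK : ∀ h ∈ H, ∀ v ∈ (nrm N).ker, h v ∈ (nrm N).ker := fun h hh v hv => by
    rw [MonoidHom.mem_ker] at hv ⊢
    rw [← map_nrm (hNn hh), hv, map_one]
  by_cases h1 : ∃ w ∈ fixV N, a w ≠ w
  · obtain ⟨w, -, hw⟩ := moved_of_res hcop ih hPn hP le_rfl (fixV N) hF
      (fun e => hN (fixV_eq_top_iff.1 e)) haP (hPH haP) h1
    exact ⟨w, hw⟩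
  push Not at h1
  have h2 : ∃ w ∈ (nrm N).ker, a w ≠ w := by
    by_contra h2
    push Not at h2
    refine hne (MulEquiv.ext fun v => pow_inj hcop hNp ?_)
    show a v ^ Nat.card N = v ^ Nat.card N
    rw [← map_pow]
    have hk : v ^ Nat.card N / nrm N v ∈ (nrm N).ker := by
      rw [MonoidHom.mem_ker, map_div, map_pow, nrm_of_mem_fixV (nrm_mem_fixV N v), div_self']
    have h3 := h2 _ hk
    rwa [map_div, h1 _ (nrm_mem_fixV N v), div_left_inj] at h3
  obtain ⟨w, -, hw⟩ := moved_of_res hcop ih hPn hP le_rfl (nrm N).ker hK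
    (fun e => by
      obtain ⟨v, hv, hv1⟩ := (Subgroup.bot_or_exists_ne_one _).resolve_left hfix
      refine hv1 (pow_inj hcop hNp ?_)
      rw [one_pow, ← nrm_of_mem_fixV hv, ← MonoidHom.mem_ker, e]
      exact Subgroup.mem_top v) haP (hPH haP) h2
  exact ⟨w, hw⟩

/-- A maximal subgroup of `E` with fixed points. -/
def IsBlock (E K : Subgroup (MulAut V)) : Prop :=
  K < E ∧ fixV K ≠ ⊥ ∧ ∀ L, K < L → L ≤ E → L = E

omit hp in
theorem isBlock_cj {E K : Subgroup (MulAut V)} (hK : IsBlock E K) {h : MulAut V} (hh : cj h E = E) :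
    IsBlock E (cj h K) := by
  have hinv : cj h⁻¹ E = E := by conv_lhs => rw [← hh, cj_cj, inv_mul_cancel, cj_one]
  refine ⟨lt_of_le_of_ne (hh ▸ cj_mono h hK.1.le) fun e => hK.1.ne ?_, ?_, fun L hL hLE => ?_⟩
  · rw [← cj_one K, ← inv_mul_cancel h, ← cj_cj, e, hinv]
  · intro e
    obtain ⟨v, hv, hv1⟩ := (Subgroup.bot_or_exists_ne_one _).resolve_left hK.2.1
    exact hv1 (h.injective (by rw [map_one]; exact Subgroup.mem_bot.1 (e ▸ map_mem_fixV hv)))
  · have h1 : K ≤ cj h⁻¹ L := by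
      rw [← cj_one K, ← inv_mul_cancel h, ← cj_cj]
      exact cj_mono _ hL.le
    have h2 : K < cj h⁻¹ L := lt_of_le_of_ne h1 fun e => hL.ne (by
      rw [e, cj_cj, mul_inv_cancel, cj_one])
    have h3 := hK.2.2 _ h2 (hinv ▸ cj_mono _ hLE)
    calc L = cj h (cj h⁻¹ L) := by rw [cj_cj, mul_inv_cancel, cj_one]
      _ = E := by rw [h3, hh]

/-- The case of a noncyclic elementary abelian normal subgroup. -/
theorem moved_of_blocks (hp2 : p ≠ 2) (hcop : ∀ v : V, v ^ p = 1 → v = 1)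
    (ih : ∀ (W : Type u) [CommGroup W] [Finite W], Nat.card W < Nat.card V →
      (∀ w : W, w ^ p = 1 → w = 1) → Moved p W)
    {H P E : Subgroup (MulAut V)} (hPH : P ≤ H) (hPn : H ≤ Subgroup.normalizer (P : Set (MulAut V)))
    (hP : IsPGroup p P) (hEn : H ≤ Subgroup.normalizer (E : Set (MulAut V)))
    (hEc : ∀ x ∈ E, ∀ y ∈ E, Commute x y) (hEp : ∀ x ∈ E, x ^ p = 1) (hEfix : fixV E = ⊥)
    {e₀ : MulAut V} (he₀ : e₀ ∈ E) (he₀1 : e₀ ≠ 1) (hncyc : E ≠ Subgroup.zpowers e₀)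
    {a : MulAut V} (haP : a ∈ P) (hne : a ≠ 1) : ∃ v : V, ∀ h ∈ H, (h * a * h⁻¹) v ≠ v := by
  classical
  haveI : Finite (Subgroup (MulAut V)) := Finite.of_injective _ SetLike.coe_injective
  haveI := Fintype.ofFinite (Subgroup (MulAut V))
  set B : Finset (Subgroup (MulAut V)) := Finset.univ.filter fun K => IsBlock E K
  have hB : ∀ {K}, K ∈ B ↔ IsBlock E K := fun {K} => by simp [B]
  have hEP : IsPGroup p E := fun x => ⟨1, Subtype.ext (by rw [pow_one]; exact hEp x x.2)⟩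
  have hBp : ∀ K ∈ B, IsPGroup p K := fun K hK => hEP.to_le (hB.1 hK).1.le
  have hjoin : ∀ {K L}, IsBlock E K → IsBlock E L → K ≠ L → fixV (K ⊔ L) = ⊥ := by
    intro K L hK hL hKL
    rw [← hEfix]
    congr 1
    refine hK.2.2 _ (lt_of_le_of_ne le_sup_left fun e => hKL ?_) (sup_le hK.1.le hL.1.le)
    have hLK : L ≤ K := e ▸ le_sup_right
    by_contra hne'
    exact hK.1.ne (hL.2.2 K (lt_of_le_of_ne hLK (Ne.symm hne')) hK.1.le)
  have hnormKL : ∀ {K L}, IsBlock E K → IsBlock E L → L ≤ Subgroup.normalizer (K : Set (MulAut V)) :=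
    fun {K L} hK hL => le_normalizer_of_comm fun x hx y hy => hEc x (hL.1.le hx) y (hK.1.le hy)
  -- the fixed spaces of blocks generate
  set S : Subgroup V := ⨆ K : {K // IsBlock E K}, fixV (K : Subgroup (MulAut V)) with hS
  have hspan : S = ⊤ := by
    by_contra hSt
    have hbad : ({L : Subgroup (MulAut V) | L ≤ E ∧ ¬ fixV L ≤ S}).Nonempty :=
      ⟨⊥, bot_le, fun h => hSt (eq_top_iff.2 ((fixV_eq_top_iff (V := V) (N := ⊥)).2 rfl ▸ h))⟩
    obtain ⟨L, ⟨hLE, hLS⟩, hmax⟩ := Set.Finite.exists_maximal (Set.toFinite _) hbad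
    have hLfix : fixV L ≠ ⊥ := fun e => hLS (e ▸ bot_le)
    have hLE' : L < E := lt_of_le_of_ne hLE fun e => hLfix (e ▸ hEfix)
    have hnb : ¬ IsBlock E L := fun h =>
      hLS (le_iSup (fun K : {K // IsBlock E K} => fixV (K : Subgroup (MulAut V))) ⟨L, h⟩)
    simp only [IsBlock, not_and, not_forall] at hnb
    obtain ⟨M, hLM, hME, hMne⟩ := hnb hLE' hLfix
    obtain ⟨x, hxM, hxL⟩ := Set.not_subset.1 (fun h => hLM.not_ge h : ¬ (M : Set (MulAut V)) ⊆ L)
    obtain ⟨y, hyE, hyM⟩ := Set.not_subset.1 (fun h => hMne (le_antisymm hME h) : ¬ (E : Set (MulAut V)) ⊆ M)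
    refine hLS (fixV_le_of_larger hcop hEc hEp hLE (hME hxM) hyE hxL
      (fun h => hyM ((sup_le hLM.le (Subgroup.zpowers_le.2 hxM)) h)) S fun g hg hgL => ?_)
    by_contra hnot
    exact hgL (hmax ⟨sup_le hLE (Subgroup.zpowers_le.2 hg), hnot⟩ le_sup_left
      (Subgroup.mem_sup_right (Subgroup.mem_zpowers g)))
  have hexK : ∀ g : MulAut V, g ≠ 1 → ∃ K, IsBlock E K ∧ ∃ w ∈ fixV K, g w ≠ w := by
    intro g hg
    by_contra hno
    push Not at hno
    refine hg (MulEquiv.ext fun v => mem_fixV_zpowers.1 ?_)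
    have hle : S ≤ fixV (Subgroup.zpowers g) := iSup_le fun K w hw => mem_fixV_zpowers.2 (hno K K.2 w hw)
    exact hle (hspan ▸ Subgroup.mem_top v)
  have hcjE : ∀ h ∈ H, cj h E = E := fun h hh => cj_eq_iff.2 (hEn hh)
  have hcjB : ∀ h ∈ H, ∀ K ∈ B, cj h K ∈ B := fun h hh K hK => hB.2 (isBlock_cj (hB.1 hK) (hcjE h hh))
  have hnrm : ∀ (s : Finset (Subgroup (MulAut V))) (u : Subgroup (MulAut V) → V), s ⊆ B →
      (∀ K ∈ s, u K ∈ fixV K) → ∀ M ∈ s, nrm M (∏ K ∈ s, u K) = u M ^ Nat.card M := by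
    intro s u hs hu M hM
    rw [map_prod, Finset.prod_eq_single M, nrm_of_mem_fixV (hu M hM)]
    · exact fun K hK hne' => nrm_eq_one (hnormKL (hB.1 (hs hM)) (hB.1 (hs hK)))
        (hjoin (hB.1 (hs hM)) (hB.1 (hs hK)) (Ne.symm hne')) (hu K hK)
    · exact fun h => absurd hM h
  by_cases hfixall : ∀ K ∈ B, a ∈ Subgroup.normalizer (K : Set (MulAut V))
  · -- `a` preserves every block
    obtain ⟨K, hK, hKa⟩ := hexK a hne
    set H₁ := H ⊓ Subgroup.normalizer (K : Set (MulAut V)) with hH₁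
    have hKt : fixV K ≠ ⊤ := fun e => by
      have hK1 := fixV_eq_top_iff.1 e
      refine hncyc (hK.2.2 _ (lt_of_le_of_ne (hK1 ▸ bot_le) fun h => he₀1 ?_) (Subgroup.zpowers_le.2 he₀)).symm
      rw [hK1] at h
      exact Subgroup.mem_bot.1 (h ▸ Subgroup.mem_zpowers e₀)
    obtain ⟨v₁, hv₁, hmov⟩ := moved_of_res hcop ih hPn hP (inf_le_left : H₁ ≤ H) (fixV K)
      (fun h hh v hv => by
        have := map_mem_fixV (h := h) hv
        rwa [cj_eq_iff.2 (Subgroup.mem_inf.1 hh).2] at this) hKt haP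
      (Subgroup.mem_inf.2 ⟨hPH haP, hfixall K (hB.2 hK)⟩) hKa
    set O := B.filter fun M => ∃ h ∈ H, cj h K = M
    have hrep : ∀ M : Subgroup (MulAut V), ∃ h : MulAut V, M ∈ O → h ∈ H ∧ cj h K = M := by
      intro M
      by_cases hM : M ∈ O
      · obtain ⟨h, hh, e⟩ := (Finset.mem_filter.1 hM).2
        exact ⟨h, fun _ => ⟨hh, e⟩⟩
      · exact ⟨1, fun h => absurd h hM⟩
    choose rep hrep using hrep
    refine ⟨∏ M ∈ O, rep M v₁, fun h hh hfix => ?_⟩
    set a' := h * a * h⁻¹ with ha'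
    have hM₀ : cj h K ∈ O := Finset.mem_filter.2 ⟨hcjB h hh K (hB.2 hK), h, hh, rfl⟩
    obtain ⟨hh₀, hK₀⟩ := hrep _ hM₀
    have ha'n : a' ∈ Subgroup.normalizer (cj h K : Set (MulAut V)) := by
      rw [← cj_eq_iff, ha', cj_cj, show h * a * h⁻¹ * h = h * a by group, ← cj_cj,
        cj_eq_iff.2 (hfixall K (hB.2 hK))]
    have hn := hnrm O (fun M => rep M v₁) (Finset.filter_subset _ _)
      (fun M hM => by
        have := map_mem_fixV (h := rep M) hv₁
        rwa [(hrep M hM).2] at this) _ hM₀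
    have h1 : a' (rep (cj h K) v₁) = rep (cj h K) v₁ := by
      refine pow_inj hcop (hBp _ (Finset.mem_filter.1 hM₀).1) ?_
      rw [← map_pow, ← hn, map_nrm ha'n, hfix]
    set h₀ := rep (cj h K)
    have hs : h₀⁻¹ * h ∈ H₁ := by
      refine Subgroup.mem_inf.2 ⟨mul_mem (inv_mem hh₀) hh, cj_eq_iff.1 ?_⟩
      rw [← cj_cj, ← hK₀, cj_cj, inv_mul_cancel, cj_one]
    refine hmov _ hs ?_
    have h2 := congrArg (⇑(h₀⁻¹)) h1
    rw [MulAut.inv_apply_self] at h2
    rw [← MulAut.mul_apply, ← MulAut.mul_apply, ha'] at h2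
    rw [show h₀⁻¹ * h * a * (h₀⁻¹ * h)⁻¹ = h₀⁻¹ * (h * a * h⁻¹ * h₀) by group]
    exact h2
  · -- some block is moved
    letI : MulAction P (Subgroup (MulAut V)) :=
      { smul := fun g K => cj (g : MulAut V) K
        one_smul := fun K => cj_one K
        mul_smul := fun g g' K => (cj_cj _ _ K).symm }
    obtain ⟨S₁, hS₁, hreg⟩ := exists_regular_subset hP hp2 (⊤ : Subgroup P) B
      fun g _ K hK => hcjB _ (hPH g.2) K hK
    have hu : ∀ K : Subgroup (MulAut V), ∃ u : V, K ∈ B → u ∈ fixV K ∧ u ≠ 1 := by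
      intro K
      by_cases hK : K ∈ B
      · obtain ⟨u, hu, hu1⟩ := (Subgroup.bot_or_exists_ne_one _).resolve_left (hB.1 hK).2.1
        exact ⟨u, fun _ => ⟨hu, hu1⟩⟩
      · exact ⟨1, fun h => absurd h hK⟩
    choose u hu using hu
    set v := ∏ K ∈ S₁, u K
    have hchar : ∀ K ∈ B, nrm K v = 1 ↔ K ∉ S₁ := by
      intro K hK
      constructor
      · intro h hKS
        rw [hnrm S₁ u hS₁ (fun L hL => (hu L (hS₁ hL)).1) K hKS] at h
        exact (hu K hK).2 (pow_inj hcop (hBp K hK) (h.trans (one_pow _).symm))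
      · intro hKS
        rw [map_prod]
        exact Finset.prod_eq_one fun L hL => nrm_eq_one (hnormKL (hB.1 hK) (hB.1 (hS₁ hL)))
          (hjoin (hB.1 hK) (hB.1 (hS₁ hL)) fun e => hKS (e ▸ hL)) (hu L (hS₁ hL)).1
    refine ⟨v, fun h hh hfix => hfixall fun K hK => ?_⟩
    have ha'P : h * a * h⁻¹ ∈ P := (Subgroup.mem_normalizer_iff.1 (hPn hh) a).1 haP
    have hall := hreg ⟨_, ha'P⟩ (Subgroup.mem_top _) fun L hL => by
      show cj (h * a * h⁻¹) L ∈ S₁ ↔ L ∈ S₁
      have e := nrm_cj (h * a * h⁻¹) L v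
      rw [hfix] at e
      have h1 := hchar L hL
      have h2 := hchar _ (hcjB _ (hPH ha'P) L hL)
      rw [e, MulEquiv.map_eq_one_iff] at h2
      exact not_iff_not.1 (h2.symm.trans h1)
    have h1 : cj (h * a * h⁻¹) (cj h K) = cj h K := hall (cj h K) (hcjB h hh K hK)
    rw [cj_cj, show h * a * h⁻¹ * h = h * a by group, ← cj_cj] at h1
    rw [← cj_eq_iff]
    have h2 := congrArg (cj h⁻¹) h1
    rwa [cj_cj, inv_mul_cancel, cj_one, cj_cj, inv_mul_cancel, cj_one] at h2

/-- The extraspecial case, by counting. -/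
theorem moved_of_symplectic (hp2 : p ≠ 2) (hcop : ∀ v : V, v ^ p = 1 → v = 1)
    {H P U : Subgroup (MulAut V)} {z a : MulAut V} (hPn : H ≤ Subgroup.normalizer (P : Set (MulAut V)))
    (hPp : IsPGroup p P) (hzU : z ∈ U) (hz1 : z ≠ 1) (hzp : z ^ p = 1) (hUP : U ≤ P)
    (hzn : H ≤ Subgroup.normalizer (Subgroup.zpowers z : Set (MulAut V)))
    (hzc : ∀ x ∈ P, Commute z x) (hUp : ∀ x ∈ U, x ^ p = 1)
    (hUU : ∀ x ∈ U, ∀ y ∈ U, ⁅x, y⁆ ∈ Subgroup.zpowers z)
    (hcen : ∀ x ∈ U, (∀ y ∈ U, Commute x y) → x ∈ Subgroup.zpowers z)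
    (hUa : ∀ x ∈ P, x ^ p = 1 → x ∈ U) (hzfix : fixV (Subgroup.zpowers z) = ⊥)
    (haP : a ∈ P) (hap : a ^ p = 1) (hne : a ≠ 1) : ∃ v : V, ∀ h ∈ H, (h * a * h⁻¹) v ≠ v := by
  classical
  have hp1 := hp.out.two_le
  have hzo : orderOf z = p := orderOf_eq_prime hzp hz1
  have hzmem : ∀ c ∈ Subgroup.zpowers z, c ≠ 1 → ∀ v : V, c v = v → v = 1 := fun c hc hc1 v hv => by
    have hle : Subgroup.zpowers z ≤ Subgroup.zpowers c := Subgroup.zpowers_le.2 (mem_zpowers_of_mem hzp hc hc1)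
    exact Subgroup.mem_bot.1 (hzfix ▸ fixV_anti hle (mem_fixV_zpowers.2 hv))
  obtain ⟨v₀, hv₀⟩ : ∃ v : V, v ≠ 1 := by
    by_contra h
    push Not at h
    exact hne (MulEquiv.ext fun v => by rw [h v, map_one]; rfl)
  by_cases haz : a ∈ Subgroup.zpowers z
  · refine ⟨v₀, fun h hh hfix => hv₀ (hzmem _ ((Subgroup.mem_normalizer_iff.1 (hzn hh) a).1 haz) (fun e => ?_) v₀ hfix)⟩
    exact hne (conj_eq_one_iff.1 e)
  by_contra hno
  push Not at hno
  have hzle : Subgroup.zpowers z ≤ U := Subgroup.zpowers_le.2 hzU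
  have hzcU : ∀ c ∈ Subgroup.zpowers z, ∀ x ∈ U, Commute c x := fun c hc x hx => by
    obtain ⟨i, rfl⟩ := Subgroup.mem_zpowers_iff.1 hc
    exact (hzc x (hUP hx)).zpow_left i
  have hmulr : ∀ x ∈ U, ∀ u ∈ U, ∀ w ∈ U, ⁅x, u * w⁆ = ⁅x, u⁆ * ⁅x, w⁆ := fun x hx u hu w hw => by
    have e : ⁅x, u * w⁆ = ⁅x, u⁆ * (u * ⁅x, w⁆ * u⁻¹) := by
      rw [commutatorElement_def, commutatorElement_def, commutatorElement_def]; group
    rw [e, (hzcU _ (hUU x hx w hw) u hu).symm.eq, mul_inv_cancel_right]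
  -- a maximal abelian subgroup of `U`
  obtain ⟨E, ⟨hEU, hzE, hEc⟩, hEmax⟩ := Set.Finite.exists_maximal
    (Set.toFinite {E : Subgroup (MulAut V) | E ≤ U ∧ z ∈ E ∧ ∀ x ∈ E, ∀ y ∈ E, Commute x y})
    ⟨Subgroup.zpowers z, hzle, Subgroup.mem_zpowers z, fun x hx y hy => hzcU x hx y (hzle hy)⟩
  have hzEle : Subgroup.zpowers z ≤ E := Subgroup.zpowers_le.2 hzE
  have hself : ∀ x ∈ U, (∀ y ∈ E, Commute x y) → x ∈ E := by
    intro x hx hc
    refine hEmax ⟨sup_le hEU (Subgroup.zpowers_le.2 hx), Subgroup.mem_sup_left hzE, ?_⟩ le_sup_left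
      (Subgroup.mem_sup_right (Subgroup.mem_zpowers x))
    intro a ha b hb
    rw [Subgroup.zpowers_eq_closure, ← Subgroup.closure_eq E, ← Subgroup.closure_union] at ha hb
    have hcomm : ∀ s ∈ ((E : Set (MulAut V)) ∪ {x}), ∀ t ∈ ((E : Set (MulAut V)) ∪ {x}), s * t = t * s := by
      rintro s (hs | rfl) t (ht | rfl)
      · exact (hEc s hs t ht).eq
      · exact (hc s hs).eq.symm
      · exact (hc t ht).eq
      · rfl
    haveI := Subgroup.isMulCommutative_closure hcomm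
    exact congrArg Subtype.val (IsMulCommutative.is_comm.comm
      (⟨a, ha⟩ : Subgroup.closure ((E : Set (MulAut V)) ∪ {x})) ⟨b, hb⟩)
  set ι := U ⧸ E.subgroupOf U
  set M := Nat.card ι with hM
  have hcardU : M * Nat.card E = Nat.card U := by
    have h := (E.subgroupOf U).index_mul_card
    rwa [Nat.card_congr (Subgroup.subgroupOfEquivOfLe hEU).toEquiv, Subgroup.index_eq_card] at h
  have hcz : Nat.card (Subgroup.zpowers z) = p := by rw [Nat.card_zpowers, hzo]
  have hkill : ∀ x ∈ U, ∀ c ∈ Subgroup.zpowers z, ⁅x, c⁆ = 1 := fun x hx c hc =>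
    commutatorElement_eq_one_iff_mul_comm.2 (hzcU c hc x hx).eq.symm
  have hsame : ∀ x y w : MulAut V, ⁅x, w⁆ = ⁅y, w⁆ → Commute (x⁻¹ * y) w := fun x y w e => by
    rw [commutatorElement_def, commutatorElement_def, mul_left_inj] at e
    show x⁻¹ * y * w = w * (x⁻¹ * y)
    calc x⁻¹ * y * w = x⁻¹ * (y * w * y⁻¹) * y := by group
      _ = x⁻¹ * (x * w * x⁻¹) * y := by rw [← e]
      _ = w * (x⁻¹ * y) := by group
  have hMK : M * p ≤ Nat.card E := by
    have h := card_hom_le (p := p) E (Subgroup.zpowers z) (Subgroup.zpowers z) hcz hzEle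
      (fun u hu w hw => hUU u (hEU hu) w (hEU hw)) (fun u hu => by rw [hUp u (hEU hu)]; exact one_mem _)
      (fun (q : ι) u => ⁅(q.out : MulAut V), u⁆) (fun q u hu => hUU _ q.out.2 u (hEU hu))
      (fun q u hu w hw => hmulr _ q.out.2 u (hEU hu) w (hEU hw))
      (fun q u hu => hkill _ q.out.2 u hu) (fun q q' heq => by
        rw [← q.out_eq', ← q'.out_eq', QuotientGroup.eq, Subgroup.mem_subgroupOf]
        exact hself _ (mul_mem (inv_mem q.out.2) q'.out.2) fun w hw => hsame _ _ _ (heq w hw))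
    rwa [hcz] at h
  have hKM : Nat.card E ≤ M * p := by
    set κ := E ⧸ (Subgroup.zpowers z).subgroupOf E
    have hK : Nat.card κ * p = Nat.card E := by
      have h := ((Subgroup.zpowers z).subgroupOf E).index_mul_card
      rwa [Nat.card_congr (Subgroup.subgroupOfEquivOfLe hzEle).toEquiv, Subgroup.index_eq_card, hcz] at h
    have h := card_hom_le (p := p) U E (Subgroup.zpowers z) hcz hEU
      (fun u hu w hw => hzEle (hUU u hu w hw)) (fun u hu => by rw [hUp u hu]; exact one_mem _)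
      (fun (q : κ) u => ⁅(q.out : MulAut V), u⁆) (fun q u hu => hUU _ (hEU q.out.2) u hu)
      (fun q u hu w hw => hmulr _ (hEU q.out.2) u hu w hw)
      (fun q u hu => commutatorElement_eq_one_iff_mul_comm.2 (hEc _ q.out.2 u hu).eq)
      (fun q q' heq => by
        rw [← q.out_eq', ← q'.out_eq', QuotientGroup.eq, Subgroup.mem_subgroupOf]
        exact hcen _ (mul_mem (inv_mem (hEU q.out.2)) (hEU q'.out.2)) fun w hw => hsame _ _ _ (heq w hw))
    rw [← hcardU] at h
    rw [← hK]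
    exact Nat.mul_le_mul_right p (Nat.le_of_mul_le_mul_right h Nat.card_pos)
  have haU := hUa a haP hap
  have hUcard : Nat.card U = p * (M * M) := by rw [← hcardU, le_antisymm hKM hMK]; ring
  have hpM : p ∣ M := by
    have hdvd : M ∣ Nat.card U := ⟨_, hcardU.symm⟩
    obtain ⟨j, hj⟩ := (hPp.to_le hUP).exists_card_eq
    rw [hj] at hdvd
    obtain ⟨i, -, hi⟩ := (Nat.dvd_prime_pow hp.out).1 hdvd
    rcases Nat.eq_zero_or_pos i with h0 | h0
    · exfalso
      refine haz (hcen a haU fun y hy => ?_)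
      have hcE : Nat.card U = Nat.card E := by rw [← hcardU, hi, h0, pow_zero, one_mul]
      have hUE : E = U := Subgroup.eq_of_le_of_card_ge hEU hcE.le
      rw [← hUE] at haU hy
      exact hEc a haU y hy
    · rw [hi]
      exact dvd_pow_self p h0.ne'
  -- a complement of `z` in `E` with a fixed point
  obtain ⟨E₀, ⟨hE₀E, hE₀f⟩, hE₀max⟩ := Set.Finite.exists_maximal
    (Set.toFinite {L : Subgroup (MulAut V) | L ≤ E ∧ fixV L ≠ ⊥})
    ⟨⊥, bot_le, fun h => hv₀ (Subgroup.mem_bot.1 (h ▸ ((fixV_eq_top_iff (V := V) (N := ⊥)).2 rfl ▸ Subgroup.mem_top v₀)))⟩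
  have hzE₀ : z ∉ E₀ := fun h => hE₀f (le_bot_iff.1 (hzfix ▸ fixV_anti (Subgroup.zpowers_le.2 h)))
  have hEsup : ∀ y ∈ E, y ∈ E₀ ⊔ Subgroup.zpowers z := by
    intro y hy
    by_contra hy'
    refine hE₀f (le_bot_iff.1 (fixV_le_of_larger hcop hEc (fun x hx => hUp x (hEU hx)) hE₀E hzE hy hzE₀ hy' ⊥
      fun g hg hgL => le_of_eq ?_))
    by_contra hnot
    exact hgL (hE₀max ⟨sup_le hE₀E (Subgroup.zpowers_le.2 hg), hnot⟩ le_sup_left
      (Subgroup.mem_sup_right (Subgroup.mem_zpowers g)))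
  have hEn : ∀ u ∈ U, ∀ e ∈ E, u * e * u⁻¹ ∈ E := fun u hu e he => by
    have h := mul_mem (hzEle (hUU u hu e (hEU he))) he
    rwa [commutatorElement_def, inv_mul_cancel_right] at h
  haveI := Fintype.ofFinite ι
  have hlow : (p + 1) ^ M ≤ Nat.card V := by
    rw [hM, Nat.card_eq_fintype_card]
    refine card_pow_le hcop (fun q : ι => cj (q.out : MulAut V) E₀) (fun q => ?_) (fun q q' => ?_) (fun q q' hne' => ?_)
      (p + 1) (fun q => ?_)
    · exact fun x => ⟨1, Subtype.ext (by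
        obtain ⟨e, he, hx⟩ := x.2
        rw [pow_one, SubmonoidClass.coe_pow, OneMemClass.coe_one, ← hx]
        show (MulAut.conj (q.out : MulAut V) e) ^ p = 1
        rw [← map_pow, hUp e (hEU (hE₀E he)), map_one])⟩
    · refine le_normalizer_of_comm ?_
      rintro _ ⟨e, he, rfl⟩ _ ⟨e', he', rfl⟩
      exact hEc _ (hEn _ q'.out.2 e (hE₀E he)) _ (hEn _ q.out.2 e' (hE₀E he'))
    · -- two complements generate `E`
      refine le_bot_iff.1 (hzfix ▸ fixV_anti (Subgroup.zpowers_le.2 ?_))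
      by_contra hz'
      refine hne' ?_
      rw [← q.out_eq', ← q'.out_eq', QuotientGroup.eq, Subgroup.mem_subgroupOf]
      set x : MulAut V := (q.out : MulAut V)⁻¹ * (q'.out : MulAut V) with hx
      have hxU : x ∈ U := mul_mem (inv_mem q.out.2) q'.out.2
      refine hself x hxU fun e he => ?_
      obtain ⟨e₀', he₀', c, hc, rfl⟩ : ∃ e₀' ∈ E₀, ∃ c ∈ Subgroup.zpowers z, e₀' * c = e := by
        have h := hEsup e he
        rw [← SetLike.mem_coe, Subgroup.coe_mul_of_right_le_normalizer_left _ _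
          (le_normalizer_of_comm fun s hs t ht => hzcU s hs t (hEU (hE₀E ht)))] at h
        obtain ⟨e₀', he₀', c, hc, h⟩ := h
        exact ⟨e₀', he₀', c, hc, h⟩
      refine (Commute.mul_right ?_ (hzcU c hc x hxU).symm)
      by_contra hcm
      refine hz' ?_
      have hd : ⁅x, e₀'⁆ ∈ cj (q.out : MulAut V) E₀ ⊔ cj (q'.out : MulAut V) E₀ := by
        have hc1 : Commute (q.out : MulAut V) ⁅x, e₀'⁆ := (hzcU _ (hUU x hxU e₀' (hEU (hE₀E he₀'))) _ q.out.2).symm
        have e1 : ⁅x, e₀'⁆ = (MulAut.conj (q'.out : MulAut V) e₀') * (MulAut.conj (q.out : MulAut V) e₀')⁻¹ := by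
          calc ⁅x, e₀'⁆ = (q.out : MulAut V) * ⁅x, e₀'⁆ * (q.out : MulAut V)⁻¹ := by
                rw [hc1.eq, mul_inv_cancel_right]
            _ = _ := by
                rw [hx, commutatorElement_def, MulAut.conj_apply, MulAut.conj_apply]
                group
        rw [e1]
        exact mul_mem (Subgroup.mem_sup_right ⟨e₀', he₀', rfl⟩) (inv_mem (Subgroup.mem_sup_left ⟨e₀', he₀', rfl⟩))
      exact Subgroup.zpowers_le.2 hd (mem_zpowers_of_mem hzp (hUU x hxU e₀' (hEU (hE₀E he₀')))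
        (fun h => hcm (commutatorElement_eq_one_iff_mul_comm.1 h)))
    · -- at least `p + 1` fixed points
      obtain ⟨v, hv, hv1⟩ := (Subgroup.bot_or_exists_ne_one _).resolve_left hE₀f
      let f : Option (Fin p) → fixV (cj (q.out : MulAut V) E₀) := fun o => match o with
        | none => 1
        | some j => ⟨(q.out : MulAut V) ((z ^ (j : ℕ)) v), map_mem_fixV (fun n hn => by
            rw [← MulAut.mul_apply, ((hzc n (hUP (hEU (hE₀E hn)))).pow_left _).symm.eq, MulAut.mul_apply,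
              hv n hn])⟩
      have hf : Function.Injective f := by
        have hkey : ∀ i j : Fin p, i < j → (z ^ (i : ℕ)) v ≠ (z ^ (j : ℕ)) v := by
          intro i j hij e
          have hij' : (i : ℕ) < j := hij
          rw [← Nat.add_sub_cancel' hij'.le, pow_add, MulAut.mul_apply] at e
          refine hv1 (hzmem _ (pow_mem (Subgroup.mem_zpowers z) ((j : ℕ) - i)) (fun h => ?_) v
            ((MulEquiv.injective _) e).symm)
          have h1 := Nat.le_of_dvd (by omega) (hzo ▸ orderOf_dvd_of_pow_eq_one h)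
          have := j.2
          omega
        rintro (_ | i) (_ | j) e
        · rfl
        · have h : (1 : V) = (q.out : MulAut V) ((z ^ (j : ℕ)) v) := congrArg Subtype.val e
          exact absurd ((MulEquiv.map_eq_one_iff _).1 ((MulEquiv.map_eq_one_iff _).1 h.symm)) hv1
        · have h : (q.out : MulAut V) ((z ^ (i : ℕ)) v) = 1 := congrArg Subtype.val e
          exact absurd ((MulEquiv.map_eq_one_iff _).1 ((MulEquiv.map_eq_one_iff _).1 h)) hv1
        · have h : (q.out : MulAut V) ((z ^ (i : ℕ)) v) = (q.out : MulAut V) ((z ^ (j : ℕ)) v) :=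
            congrArg Subtype.val e
          rcases lt_trichotomy i j with hlt | rfl | hlt
          · exact absurd ((MulEquiv.injective _) h) (hkey i j hlt)
          · rfl
          · exact absurd ((MulEquiv.injective _) h).symm (hkey j i hlt)
      have := Nat.card_le_card_of_injective f hf
      rwa [Finite.card_option, Nat.card_eq_fintype_card, Fintype.card_fin] at this
  -- counting
  haveI := Fintype.ofFinite V
  haveI := Fintype.ofFinite (MulAut V)
  set S : Finset (MulAut V) := Finset.univ.filter fun x => x ∈ U ∧ x ∉ Subgroup.zpowers z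
  have hScard : S.card + p = p * (M * M) := by
    rw [← hUcard, ← hcz, Nat.card_eq_fintype_card, Nat.card_eq_fintype_card, Fintype.card_subtype,
      Fintype.card_subtype, ← Finset.card_union_of_disjoint]
    · congr 1
      ext x
      simp only [S, Finset.mem_union, Finset.mem_filter, Finset.mem_univ, true_and]
      constructor
      · rintro (⟨h, -⟩ | h)
        · exact h
        · exact hzle h
      · intro h
        by_cases hx : x ∈ Subgroup.zpowers z
        · exact Or.inr hx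
        · exact Or.inl ⟨h, hx⟩
    · rw [Finset.disjoint_left]
      simp only [S, Finset.mem_filter, Finset.mem_univ, true_and, not_and, and_imp]
      exact fun x _ hx => hx
  have hfixed : ∀ v : V, p - 1 ≤ (S.filter fun x => x v = v).card := by
    intro v
    obtain ⟨h, hh, hfix⟩ := hno v
    set a' := h * a * h⁻¹ with ha'
    have ha'P : a' ∈ P := (Subgroup.mem_normalizer_iff.1 (hPn hh) a).1 haP
    have ha'p : a' ^ p = 1 := by rw [ha', conj_pow, hap, mul_one, mul_inv_cancel]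
    have ha'1 : a' ≠ 1 := fun e => hne (conj_eq_one_iff.1 e)
    have ha'o : orderOf a' = p := orderOf_eq_prime ha'p ha'1
    have ha'z : a' ∉ Subgroup.zpowers z := fun e => haz ((Subgroup.mem_normalizer_iff.1 (hzn hh) a).2 e)
    have hsub : (Finset.Ico 1 p).image (fun j => a' ^ j) ⊆ S.filter fun x => x v = v := by
      intro x hx
      obtain ⟨j, hj, rfl⟩ := Finset.mem_image.1 hx
      rw [Finset.mem_Ico] at hj
      simp only [S, Finset.mem_filter, Finset.mem_univ, true_and]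
      refine ⟨⟨pow_mem (hUa a' ha'P ha'p) j, fun hz' => ha'z ?_⟩,
        mem_fixV_zpowers.2 hfix _ (pow_mem (Subgroup.mem_zpowers a') j)⟩
      refine Subgroup.zpowers_le.2 hz' (mem_zpowers_of_mem ha'p (pow_mem (Subgroup.mem_zpowers a') j) fun e => ?_)
      have := Nat.le_of_dvd (by omega) (ha'o ▸ orderOf_dvd_of_pow_eq_one e)
      omega
    refine le_trans ?_ (Finset.card_le_card hsub)
    rw [Finset.card_image_of_injOn, Nat.card_Ico]
    intro i hi j hj e
    rw [Finset.coe_Ico, Set.mem_Ico] at hi hj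
    exact pow_injOn_Iio_orderOf (show i < orderOf a' by omega) (show j < orderOf a' by omega) e
  have hmaxC : ∀ x ∈ S, Nat.card (fixV (Subgroup.zpowers x)) ^ p ≤ Nat.card V := by
    intro x hx
    simp only [S, Finset.mem_filter, Finset.mem_univ, true_and] at hx
    obtain ⟨y, hy, hyx⟩ : ∃ y ∈ U, ¬ Commute x y := by
      by_contra h
      push Not at h
      exact hx.2 (hcen x hx.1 h)
    set c := ⁅y, x⁆ with hc
    have hcz' : c ∈ Subgroup.zpowers z := hUU y hy x hx.1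
    have hc1 : c ≠ 1 := fun h => hyx (commutatorElement_eq_one_iff_mul_comm.1 h).symm
    have hco : orderOf c = p := orderOf_eq_prime (hUp c (hzle hcz')) hc1
    have hcx : Commute c x := hzcU c hcz' x hx.1
    have hcy : Commute c y := hzcU c hcz' y hy
    have hconj : ∀ i : ℕ, y ^ i * x * (y ^ i)⁻¹ = c ^ i * x := by
      intro i
      induction i with
      | zero => simp
      | succ i ih =>
        calc y ^ (i + 1) * x * (y ^ (i + 1))⁻¹ = y * (y ^ i * x * (y ^ i)⁻¹) * y⁻¹ := by rw [pow_succ']; group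
          _ = y * c ^ i * x * y⁻¹ := by rw [ih]; group
          _ = c ^ i * (y * x * y⁻¹ * x⁻¹) * x := by rw [← (hcy.pow_left i).eq]; group
          _ = c ^ (i + 1) * x := by rw [pow_succ, hc, commutatorElement_def]
    have hmemU : ∀ i : ℕ, c ^ i * x ∈ U := fun i => mul_mem (pow_mem (hzle hcz') i) hx.1
    have hzx : ∀ i j : ℕ, Commute (c ^ i * x) (c ^ j * x) := fun i j =>
      ((Commute.pow_pow (Commute.refl c) i j).mul_right (hcx.pow_left i)).mul_left
        (((hcx.pow_left j).symm).mul_right (Commute.refl x))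
    have h := card_pow_le hcop (fun i : Fin p => Subgroup.zpowers (c ^ (i : ℕ) * x))
      (fun i => IsPGroup.of_card (n := 1) (by
        rw [Nat.card_zpowers, pow_one, orderOf_eq_prime (hUp _ (hmemU i))]
        intro e
        exact hx.2 (by
          rw [show x = (c ^ (i : ℕ))⁻¹ by rw [eq_inv_iff_mul_eq_one, ← (hcx.pow_left _).eq, e]]
          exact inv_mem (pow_mem hcz' _))))
      (fun i j => le_normalizer_of_comm fun s hs t ht => by
        obtain ⟨k, rfl⟩ := Subgroup.mem_zpowers_iff.1 hs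
        obtain ⟨l, rfl⟩ := Subgroup.mem_zpowers_iff.1 ht
        exact ((hzx j i).zpow_left k).zpow_right l)
      (fun i j hij => by
        refine Subgroup.eq_bot_iff_forall _ |>.2 fun v hv => ?_
        have h1 : (c ^ (i : ℕ) * x) v = v := hv _ (Subgroup.mem_sup_left (Subgroup.mem_zpowers _))
        have h2 : (c ^ (j : ℕ) * x) v = v := hv _ (Subgroup.mem_sup_right (Subgroup.mem_zpowers _))
        have key : ∀ i j : ℕ, i < j → j < p → (c ^ i * x) v = v → (c ^ j * x) v = v → v = 1 := by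
          intro i j hij hjp h1 h2
          rw [← Nat.add_sub_cancel' hij.le, pow_add, (Commute.pow_pow (Commute.refl c) i (j - i)).eq, mul_assoc,
            MulAut.mul_apply, h1] at h2
          refine hzmem _ (pow_mem hcz' (j - i)) (fun e => ?_) v h2
          have := Nat.le_of_dvd (by omega) (hco ▸ orderOf_dvd_of_pow_eq_one e)
          omega
        rcases lt_trichotomy (i : ℕ) j with hlt | heq | hlt
        · exact key i j hlt j.2 h1 h2
        · exact absurd (Fin.ext heq) hij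
        · exact key j i hlt i.2 h2 h1)
      (Nat.card (fixV (Subgroup.zpowers x))) (fun i => ?_)
    · rwa [Fintype.card_fin] at h
    · refine Nat.card_le_card_of_injective (fun v => ⟨(y ^ (i : ℕ)) v, ?_⟩) fun v w e => ?_
      · have := map_mem_fixV (h := y ^ (i : ℕ)) v.2
        rwa [cj, MonoidHom.map_zpowers, MulEquiv.coe_toMonoidHom, MulAut.conj_apply, hconj] at this
      · exact Subtype.ext ((MulEquiv.injective _) (congrArg Subtype.val e))
  have hSne : S.Nonempty := ⟨a, by simp only [S, Finset.mem_filter, Finset.mem_univ, true_and]; exact ⟨haU, haz⟩⟩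
  obtain ⟨x₀, hx₀, hx₀max⟩ := S.exists_max_image (fun x => Nat.card (fixV (Subgroup.zpowers x))) hSne
  set C := Nat.card (fixV (Subgroup.zpowers x₀))
  have hdouble : (p - 1) * Nat.card V ≤ S.card * C := by
    rw [Nat.card_eq_fintype_card, mul_comm, ← Finset.card_univ, ← smul_eq_mul, ← Finset.sum_const]
    refine (Finset.sum_le_sum fun v _ => hfixed v).trans ?_
    rw [Finset.sum_congr rfl fun v _ => Finset.card_filter _ _, Finset.sum_comm, ← smul_eq_mul, ← Finset.sum_const]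
    refine Finset.sum_le_sum fun x hx => ?_
    rw [← Finset.card_filter]
    refine le_trans (le_of_eq ?_) (hx₀max x hx)
    rw [Nat.card_eq_fintype_card, Fintype.card_subtype]
    congr 1
    ext v
    simp [mem_fixV_zpowers]
  -- the numerical contradiction
  obtain ⟨k, hk⟩ := hpM
  set N := Nat.card V
  have hN0 : 0 < N := Nat.card_pos
  have h1 : ((p - 1) * (p + 1) ^ (k * (p - 1))) ^ p ≤ S.card ^ p := by
    have e1 : ((p + 1) ^ (k * (p - 1))) ^ p = ((p + 1) ^ M) ^ (p - 1) := by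
      rw [← pow_mul, ← pow_mul, hk]; ring_nf
    rw [mul_pow, e1]
    refine le_trans (Nat.mul_le_mul_left _ (Nat.pow_le_pow_left hlow _)) ?_
    refine Nat.le_of_mul_le_mul_right (c := N) ?_ hN0
    rw [mul_assoc, ← pow_succ, Nat.sub_add_cancel hp.out.one_le, ← mul_pow]
    refine (Nat.pow_le_pow_left hdouble p).trans ?_
    rw [mul_pow]
    exact Nat.mul_le_mul_left _ (hmaxC x₀ hx₀)
  have h2 := (Nat.pow_le_pow_iff_left hp.out.ne_zero).1 h1
  have hk1 : 1 ≤ k := by
    rcases Nat.eq_zero_or_pos k with h | h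
    · exfalso
      rw [hk, h, mul_zero, mul_zero, mul_zero] at hScard
      omega
    · exact h
  have h3 : (p + 1) ^ 2 * (k * k) ≤ (p + 1) ^ (k * (p - 1)) := by
    refine le_trans ?_ (Nat.pow_le_pow_right (Nat.succ_pos p) (Nat.mul_le_mul_left k (show 2 ≤ p - 1 by omega)))
    obtain ⟨l, rfl⟩ : ∃ l, k = l + 1 := ⟨k - 1, by omega⟩
    rw [show (l + 1) * 2 = 2 + (l + l) by ring, pow_add, pow_add]
    refine Nat.mul_le_mul_left _ ?_
    have : l + 1 ≤ (p + 1) ^ l := Nat.lt_pow_self (by omega)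
    exact Nat.mul_le_mul this this
  obtain ⟨q, hq⟩ : ∃ q, p = q + 3 := ⟨p - 3, by omega⟩
  have h4 : (p - 1) * ((p + 1) ^ 2 * (k * k)) + p ≤ p * ((p * k) * (p * k)) := by
    rw [← hk, ← hScard]
    exact Nat.add_le_add_right ((Nat.mul_le_mul_left _ h3).trans h2) p
  rw [hq, show q + 3 - 1 = q + 2 by omega] at h4
  nlinarith [h4, Nat.mul_le_mul hk1 hk1, Nat.zero_le (q * q * (k * k)), Nat.zero_le (q * (k * k))]

theorem moved (hp2 : p ≠ 2) : ∀ (n : ℕ) (V : Type u) [CommGroup V] [Finite V], Nat.card V = n →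
    (∀ v : V, v ^ p = 1 → v = 1) → Moved p V := by
  intro n
  induction n using Nat.strong_induction_on with
  | _ n ihn =>
    intro V _ _ hn hcop H P a hPH hPn hP haP hne
    subst hn
    have ih : ∀ (W : Type u) [CommGroup W] [Finite W], Nat.card W < Nat.card V →
        (∀ w : W, w ^ p = 1 → w = 1) → Moved p W := fun W _ _ hlt hc => ihn _ hlt W rfl hc
    -- we may assume that `a` has order `p`
    obtain ⟨j, hj⟩ := IsPGroup.iff_orderOf.1 hP ⟨a, haP⟩
    rw [Subgroup.orderOf_mk] at hj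
    have hj0 : j ≠ 0 := fun h => hne (orderOf_eq_one_iff.1 (by rw [hj, h, pow_zero]))
    set b := a ^ p ^ (j - 1) with hb
    have hbo : orderOf b = p := by
      rw [hb, orderOf_pow_of_dvd (pow_ne_zero _ hp.out.ne_zero) (hj ▸ pow_dvd_pow p (by omega)), hj,
        Nat.pow_div (by omega) hp.out.pos, show j - (j - 1) = 1 by omega, pow_one]
    have hbP : b ∈ P := pow_mem haP _
    have hbp : b ^ p = 1 := by rw [← hbo, pow_orderOf_eq_one]
    have hb1 : b ≠ 1 := fun h => hp.out.ne_one (by rw [← hbo, h, orderOf_one])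
    suffices h : ∃ v : V, ∀ h ∈ H, (h * b * h⁻¹) v ≠ v by
      obtain ⟨v, hv⟩ := h
      refine ⟨v, fun h hh hfix => hv h hh ?_⟩
      rw [hb, ← conj_pow]
      exact mem_fixV_zpowers.2 hfix _ (pow_mem (Subgroup.mem_zpowers _) _)
    by_cases hred : ∃ N : Subgroup (MulAut V), N ≤ P ∧ N ≠ ⊥ ∧ H ≤ Subgroup.normalizer (N : Set (MulAut V)) ∧
        fixV N ≠ ⊥
    · obtain ⟨N, hNP, hN1, hNn, hNf⟩ := hred
      exact moved_of_fixed hcop ih hPH hPn hP hN1 (hP.to_le hNP) hNn hNf hbP hb1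
    push Not at hred
    by_cases hcyc : ∀ E : Subgroup (MulAut V), E ≤ P → H ≤ Subgroup.normalizer (E : Set (MulAut V)) →
        (∀ x ∈ E, ∀ y ∈ E, Commute x y) → (∀ x ∈ E, x ^ p = 1) → ∀ x ∈ E, x ≠ 1 → E = Subgroup.zpowers x
    · have hPne : P ≠ ⊥ := fun h => hne (Subgroup.mem_bot.1 (h ▸ haP))
      obtain ⟨z, U, hzU, hz1, hzp, hUP, -, hzn, hzc, hUp, hUU, hcen, hUa⟩ :=
        symplectic hp2 hPn hPH hP hPne hcyc
      refine moved_of_symplectic hp2 hcop hPn hP hzU hz1 hzp hUP hzn hzc hUp hUU hcen hUa ?_ hbP hbp hb1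
      exact hred _ (Subgroup.zpowers_le.2 (hUP hzU)) (Subgroup.zpowers_ne_bot.2 hz1) hzn
    · push Not at hcyc
      obtain ⟨E, hEP, hEn, hEc, hEp, x, hx, hx1, hEx⟩ := hcyc
      exact moved_of_blocks hp2 hcop ih hPH hPn hP hEn hEc hEp
        (hred E hEP (fun h => hx1 (Subgroup.mem_bot.1 (h ▸ hx))) hEn) hx hx1 hEx hbP hb1

end main

end CfsgLib.Involution.MovedVector
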