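import Cfsg.Agent.Lib.Involution.DihedralSylow
import Cfsg.Agent.Lib.Fusion.ThompsonTransfer

/-!
# Fusion of fours groups in groups with dihedral Sylow 2-subgroups
-/

set_option autoImplicit false

namespace CfsgLib.Involution.DihedralSylow

variable {G : Type*} [Group G] [Finite G]

theorem commute_of_complement {K : Subgroup G} {p : ℕ} [Fact p.Prime]
    (hK : Cfsg.HasNormalPComplement p K) (S : Sylow p G) (hSK : (S : Subgroup G) ≤ K) {c : G}
    (hc : c ∈ K) : ∃ s ∈ S, ∀ u ∈ S, c * u * c⁻¹ ∈ S → c * u * c⁻¹ = s * u * s⁻¹ := by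
  obtain ⟨P, N, hN, hcompl⟩ := hK
  haveI := hN
  set P₀ : Sylow p K := S.subtype hSK with hP₀
  obtain ⟨d, hd⟩ := MulAction.exists_smul_eq K P P₀
  have hdisj : ∀ x, x ∈ N → x ∈ (P₀ : Subgroup K) → x = 1 := by
    intro x hxN hxP
    rw [← hd] at hxP
    obtain ⟨y, hy, hyx⟩ := hxP
    have hyN : y ∈ N := by
      have := hN.conj_mem x hxN d⁻¹
      rw [← hyx] at this
      simpa [mul_assoc] using this
    have : y = 1 := Subgroup.mem_bot.1 (hcompl.disjoint.le_bot ⟨hyN, hy⟩)
    rw [← hyx, this]; exact map_one _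
  obtain ⟨⟨⟨n, hn⟩, ⟨t, ht⟩⟩, he⟩ := hcompl.2 (d⁻¹ * ⟨c, hc⟩ * d)
  simp only at he
  have ht' : d * t * d⁻¹ ∈ (P₀ : Subgroup K) := by
    rw [← hd]; exact ⟨t, ht, rfl⟩
  refine ⟨((d * t * d⁻¹ : K) : G), ht', fun u hu hcu => ?_⟩
  set n' := d * n * d⁻¹
  set t' := d * t * d⁻¹
  have hct : (⟨c, hc⟩ : K) = n' * t' := by
    calc (⟨c, hc⟩ : K) = d * (d⁻¹ * ⟨c, hc⟩ * d) * d⁻¹ := by group
      _ = n' * t' := by rw [← he]; simp only [n', t']; group
  set x : K := t' * ⟨u, hSK hu⟩ * t'⁻¹ with hx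
  have hxP : x ∈ (P₀ : Subgroup K) :=
    mul_mem (mul_mem ht' (show (⟨u, hSK hu⟩ : K) ∈ (P₀ : Subgroup K) from hu)) (inv_mem ht')
  have h1 : n' * x * n'⁻¹ ∈ (P₀ : Subgroup K) := by
    have : n' * x * n'⁻¹ = ⟨c, hc⟩ * ⟨u, hSK hu⟩ * (⟨c, hc⟩ : K)⁻¹ := by rw [hct, hx]; group
    rw [this]
    exact hcu
  have h2 : n' * x * n'⁻¹ * x⁻¹ = 1 := hdisj _ (by
    have hn' : n' ∈ N := hN.conj_mem n hn d
    rw [show n' * x * n'⁻¹ * x⁻¹ = n' * (x * n'⁻¹ * x⁻¹) by group]
    exact mul_mem hn' (hN.conj_mem _ (inv_mem hn') x)) (mul_mem h1 (inv_mem hxP))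
  have h3 : (⟨c, hc⟩ : K) * ⟨u, hSK hu⟩ * (⟨c, hc⟩ : K)⁻¹ = x := by
    rw [hct, ← mul_inv_eq_one]
    calc _ = n' * x * n'⁻¹ * x⁻¹ := by rw [hx]; group
      _ = 1 := h2
  exact congrArg Subtype.val h3

variable {a b : G} {k : ℕ} {S : Sylow 2 G} (h : Gen (S : Subgroup G) a b k)
include h

/-- The centraliser of the central involution has a normal 2-complement. -/
theorem npc_centralizer :
    Cfsg.HasNormalPComplement 2 (Subgroup.centralizer ({a ^ ((2 : ℤ) ^ k)} : Set G)) := by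
  haveI : Fact (Nat.Prime 2) := ⟨Nat.prime_two⟩
  set C := Subgroup.centralizer ({a ^ ((2 : ℤ) ^ k)} : Set G)
  have hle : (S : Subgroup G) ≤ C := fun x hx =>
    Subgroup.mem_centralizer_singleton_iff.2 (z_comm h x hx).eq.symm
  refine CfsgLib.Fusion.Alperin.npc_of_frobenius (S.subtype hle) fun Q hQ g hg ho => ?_
  have hg' : (g : G) ∈ Subgroup.normalizer ((Q.map C.subtype : Subgroup G) : Set G) :=
    Subgroup.le_normalizer_map C.subtype ⟨g, hg, rfl⟩
  have h1 := centralizes h (Q := Q.map C.subtype) (fun x hx => by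
      obtain ⟨y, hy, rfl⟩ := hx; exact hQ hy) hg'
    (by rw [Subgroup.orderOf_coe]; exact Nat.coprime_two_right.1 ho)
    (fun _ => Subgroup.mem_centralizer_singleton_iff.1 g.2)
  rw [Subgroup.mem_centralizer_iff]
  intro q hq
  exact Subtype.ext (Subgroup.mem_centralizer_iff.1 h1 _ ⟨q, hq, rfl⟩)

/-- Fusion fixing the central involution happens in the Sylow subgroup. -/
theorem exists_conj_mem {c : G} (hc : Commute c (a ^ ((2 : ℤ) ^ k))) :
    ∃ s ∈ S, ∀ u ∈ S, c * u * c⁻¹ ∈ S → c * u * c⁻¹ = s * u * s⁻¹ :=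
  haveI : Fact (Nat.Prime 2) := ⟨Nat.prime_two⟩
  commute_of_complement (npc_centralizer h) S
    (fun x hx => Subgroup.mem_centralizer_singleton_iff.2 (z_comm h x hx).eq.symm)
    (Subgroup.mem_centralizer_singleton_iff.2 hc.eq)

theorem card_sylow : Nat.card S = 2 ^ (k + 2) := by
  classical
  have e : Nat.card S = Nat.card (Subgroup.zpowers a ⊕ Subgroup.zpowers a) := by
    refine (Nat.card_eq_of_bijective (fun x : Subgroup.zpowers a ⊕ Subgroup.zpowers a =>
      (⟨Sum.elim (fun r : Subgroup.zpowers a => (r : G)) (fun r : Subgroup.zpowers a => (r : G) * b) x, by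
        rcases x with r | r
        · exact (Subgroup.zpowers_le.2 h.amem) r.2
        · exact mul_mem ((Subgroup.zpowers_le.2 h.amem) r.2) h.bmem⟩ : S)) ⟨?_, ?_⟩).symm
    · rintro (r | r) (r' | r') he <;> have he' := congrArg Subtype.val he <;> simp only [Sum.elim_inl, Sum.elim_inr] at he'
      · exact congrArg Sum.inl (Subtype.ext he')
      · exact absurd ((Subgroup.mul_mem_cancel_left _ r'.2).1 (he' ▸ r.2)) h.nb
      · exact absurd ((Subgroup.mul_mem_cancel_left _ r.2).1 (he'.symm ▸ r'.2)) h.nb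
      · exact congrArg Sum.inr (Subtype.ext (mul_right_cancel he'))
    · rintro ⟨x, hx⟩
      rcases h.cases x hx with ⟨i, rfl⟩ | ⟨i, rfl⟩
      · exact ⟨Sum.inl ⟨_, i, rfl⟩, rfl⟩
      · exact ⟨Sum.inr ⟨_, i, rfl⟩, rfl⟩
  rw [e, Nat.card_sum, Nat.card_zpowers, h.ord]; ring

omit h in
/-- Every fours group is conjugate to a standard one. -/
theorem exists_conj_standard (S : Sylow 2 G) {V : Subgroup G} (hV : IsKleinFour V) :
    ∃ x : G, V.map (MulAut.conj x).toMonoidHom ≤ S ∧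
      IsKleinFour (V.map (MulAut.conj x).toMonoidHom : Subgroup G) := by
  haveI : Fact (Nat.Prime 2) := ⟨Nat.prime_two⟩
  haveI := hV
  have hp : IsPGroup 2 V := IsPGroup.of_card (n := 2) (by rw [IsKleinFour.card_four]; norm_num)
  obtain ⟨x, hx⟩ := Basic.exists_conj_le S hp
  refine ⟨x, ?_, ?_⟩
  · rintro _ ⟨v, hv, rfl⟩; exact hx v hv
  · set e := V.equivMapOfInjective (MulAut.conj x).toMonoidHom (MulAut.conj x).injective
    exact ⟨by rw [← Nat.card_congr e.toEquiv, IsKleinFour.card_four],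
      by rw [← Monoid.exponent_eq_of_mulEquiv e, IsKleinFour.exponent_two]⟩

/-- For `8 ≤ |S|`: a 2-subgroup normalising a fours group has order at most eight. -/
theorem card_le_eight {U T : Subgroup G} (hU : IsKleinFour U) (hT : IsPGroup 2 T) (hUT : U ≤ T)
    (hTU : T ≤ Subgroup.normalizer (U : Set G)) : Nat.card T ≤ 8 := by
  classical
  haveI : Fact (Nat.Prime 2) := ⟨Nat.prime_two⟩
  obtain ⟨x, hx⟩ := Basic.exists_conj_le S hT
  set f := (MulAut.conj x).toMonoidHom
  have hU'S : U.map f ≤ S := by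
    rintro _ ⟨v, hv, rfl⟩; exact hx v (hUT hv)
  have hU'k : IsKleinFour (U.map f : Subgroup G) := by
    haveI := hU
    set e := U.equivMapOfInjective f (MulAut.conj x).injective
    exact ⟨by rw [← Nat.card_congr e.toEquiv, IsKleinFour.card_four],
      by rw [← Monoid.exponent_eq_of_mulEquiv e, IsKleinFour.exponent_two]⟩
  obtain ⟨-, i, hiff⟩ := klein_cases h hU'S hU'k
  set z := a ^ ((2 : ℤ) ^ k)
  haveI := Fintype.ofFinite G
  let Ω : Finset (Subgroup.zpowers a) := Finset.univ.filter fun r => r ^ 4 = 1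
  have hΩ : Ω.card ≤ 4 := IsCyclic.card_pow_eq_one_le (by norm_num)
  let target : Finset G := Ω.image (fun r : Subgroup.zpowers a => (r : G)) ∪ Ω.image (fun r : Subgroup.zpowers a => (r : G) * (a ^ i * b))
  have htgt : target.card ≤ 8 := by
    refine (Finset.card_union_le _ _).trans ?_
    have := Finset.card_image_le (s := Ω) (f := fun r : Subgroup.zpowers a => (r : G))
    have := Finset.card_image_le (s := Ω) (f := fun r : Subgroup.zpowers a => (r : G) * (a ^ i * b))
    omega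
  have key : ∀ y ∈ T.map f, y ∈ target := by
    rintro _ ⟨t, ht, rfl⟩
    have hyS : f t ∈ (S : Subgroup G) := hx t ht
    have hnorm : ∀ u ∈ U.map f, f t * u * (f t)⁻¹ ∈ U.map f := by
      rintro _ ⟨u, hu, rfl⟩
      exact ⟨t * u * t⁻¹, (Subgroup.mem_normalizer_iff.1 (hTU ht) u).1 hu,
        by rw [map_mul, map_mul, map_inv]⟩
    have hsU : a ^ i * b ∈ U.map f := (hiff _).2 (Or.inr (Or.inr (Or.inl rfl)))
    have hrot : ∀ q : ℤ, a ^ (q + i) * b ∈ U.map f → a ^ q = 1 ∨ a ^ q = z := by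
      intro q hq
      have hsq := (hiff _).1 hq
      rcases hsq with e | e | e | e
      · exact absurd e (refl_ne_one h _)
      · exact absurd e (refl_ne h _ _)
      · left
        rwa [zpow_add, mul_assoc, mul_eq_right] at e
      · right
        rwa [zpow_add, mul_assoc, mul_left_inj] at e
    have h4 : ∀ q : ℤ, (a ^ q = 1 ∨ a ^ q = z) → ∀ l : ℤ, q = 2 * l →
        (⟨a ^ l, l, rfl⟩ : Subgroup.zpowers a) ∈ Ω := by
      intro q hq l hl
      simp only [Ω, Finset.mem_filter, Finset.mem_univ, true_and]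
      apply Subtype.ext
      push_cast
      rw [show (4 : ℕ) = 2 * 2 by norm_num, pow_mul, ← zpow_natCast (a ^ l), ← zpow_mul,
        show l * ((2 : ℕ) : ℤ) = q by rw [hl]; push_cast; ring, pow_two]
      rcases hq with hq | hq
      · rw [hq, one_mul]
      · rw [hq]; exact z_sq h
    rcases h.cases _ hyS with ⟨j, hj⟩ | ⟨j, hj⟩
    · refine Finset.mem_union_left _ (Finset.mem_image.2 ⟨⟨a ^ j, j, rfl⟩, ?_, hj.symm⟩)
      have h1 := hnorm _ hsU
      rw [hj, conj_rot h, add_comm] at h1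
      exact h4 _ (hrot _ h1) j rfl
    · refine Finset.mem_union_right _ (Finset.mem_image.2 ⟨⟨a ^ (j - i), _, rfl⟩, ?_, ?_⟩)
      · have h1 := hnorm _ hsU
        rw [hj, refl_conj h, show 2 * j - i = 2 * (j - i) + i by ring] at h1
        exact h4 _ (hrot _ h1) (j - i) rfl
      · rw [hj]
        simp only
        rw [← mul_assoc, ← zpow_add, sub_add_cancel]
  have h1 : Nat.card (T.map f) ≤ target.card := by
    rw [← Nat.card_eq_finsetCard]
    exact Nat.card_le_card_of_injective (fun y : T.map f => (⟨y.1, key _ y.2⟩ : target))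
      fun y y' he => Subtype.ext (congrArg (fun w : target => (w : G)) he)
  rw [← Nat.card_congr (T.equivMapOfInjective f (MulAut.conj x).injective).toEquiv] at h1
  omega

/-- For `8 ≤ |S|`, fours groups with reflections of different parity are not conjugate. -/
theorem not_conj (hk : 1 ≤ k) {U V : Subgroup G} {i j : ℤ} (hUS : U ≤ S) (hVS : V ≤ S)
    (hU : IsKleinFour U) (hV : IsKleinFour V) (hi : a ^ i * b ∈ U) (hj : a ^ j * b ∈ V)
    (hodd : Odd (j - i)) (g : G) : U.map (MulAut.conj g).toMonoidHom ≠ V := by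
  classical
  haveI : Fact (Nat.Prime 2) := ⟨Nat.prime_two⟩
  intro hg
  obtain ⟨k', rfl⟩ : ∃ k', k = k' + 1 := Nat.exists_eq_add_one.2 hk
  set z := a ^ ((2 : ℤ) ^ (k' + 1)) with hz
  set q := a ^ ((2 : ℤ) ^ k') with hq
  -- the rotation of order four normalises every fours group of the Sylow subgroup
  have hqn : ∀ W : Subgroup G, W ≤ S → IsKleinFour W → ∀ w ∈ W, q * w * q⁻¹ ∈ W := by
    intro W hWS hW w hw
    obtain ⟨hzW, l, hiff⟩ := klein_cases h hWS hW
    have hsz : q * z * q⁻¹ = z := by rw [hq, hz, Commute.zpow_zpow_self a _ _, mul_inv_cancel_right]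
    have hss : q * (a ^ l * b) * q⁻¹ = z * (a ^ l * b) := by
      rw [hq, conj_rot h, hz, ← mul_assoc, ← zpow_add, pow_succ]
      congr 2; ring
    rcases (hiff w).1 hw with rfl | rfl | rfl | rfl
    · simp
    · rw [hsz]; exact hzW
    · rw [hss]; exact (hiff _).2 (Or.inr (Or.inr (Or.inr rfl)))
    · rw [show q * (z * (a ^ l * b)) * q⁻¹ = (q * z * q⁻¹) * (q * (a ^ l * b) * q⁻¹) by group, hsz,
        hss, ← mul_assoc, hz, z_sq h, one_mul]
      exact (hiff _).2 (Or.inr (Or.inr (Or.inl rfl)))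
  have hqN : ∀ W : Subgroup G, W ≤ S → IsKleinFour W →
      q ∈ Subgroup.normalizer (W : Set G) := by
    intro W hWS hW
    refine Subgroup.mem_normalizer_iff_map_conj_eq.2 (Subgroup.eq_of_le_of_card_ge ?_ ?_)
    · rintro _ ⟨w, hw, rfl⟩; exact hqn W hWS hW w hw
    · rw [← Nat.card_congr (W.equivMapOfInjective (MulAut.conj q : G →* G)
        (MulAut.conj q).injective).toEquiv]
  have hsyl : ∀ W : Subgroup G, W ≤ S → IsKleinFour W →
      8 ≤ Nat.card ((S : Subgroup G) ⊓ Subgroup.normalizer (W : Set G) : Subgroup G) := by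
    intro W hWS hW
    haveI := hW
    have hlt : W < (S : Subgroup G) ⊓ Subgroup.normalizer (W : Set G) := by
      refine lt_of_le_not_ge (le_inf hWS Subgroup.le_normalizer) fun hge => ?_
      have hqW : q ∈ W := hge ⟨zpow_mem h _, hqN W hWS hW⟩
      have h1 := TwoGroupLifts.mul_self_of_isKleinFour hW hqW
      rw [hq, ← zpow_add, ← two_mul, ← pow_succ'] at h1
      exact z_ne h h1
    have h8 := Subgroup.card_subgroup_dvd_card
      (W.subgroupOf ((S : Subgroup G) ⊓ Subgroup.normalizer (W : Set G)))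
    rw [Nat.card_congr (Subgroup.subgroupOfEquivOfLe hlt.le).toEquiv, IsKleinFour.card_four] at h8
    obtain ⟨e, he⟩ := h8
    rcases e with - | - | e
    · rw [mul_zero] at he; exact absurd he Nat.card_pos.ne'
    · exact absurd (Subgroup.eq_of_le_of_card_ge hlt.le (by rw [he, IsKleinFour.card_four])) hlt.ne
    · omega
  set N := Subgroup.normalizer (V : Set G) with hN
  set D := (S : Subgroup G) ⊓ Subgroup.normalizer (U : Set G) with hD
  set E := (S : Subgroup G) ⊓ N with hE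
  set f := (MulAut.conj g).toMonoidHom with hf
  have hDN : D.map f ≤ N := by
    rintro _ ⟨d, hd, rfl⟩
    rw [hN, ← hg]
    exact Subgroup.le_normalizer_map f ⟨d, hd.2, rfl⟩
  obtain ⟨R, hR⟩ := ((S.2.to_le inf_le_left : IsPGroup 2 E).of_equiv
    (Subgroup.subgroupOfEquivOfLe (inf_le_right : E ≤ N)).symm).exists_le_sylow
  obtain ⟨R', hR'⟩ := (((S.2.to_le inf_le_left : IsPGroup 2 D).map f).of_equiv
    (Subgroup.subgroupOfEquivOfLe hDN).symm).exists_le_sylow
  have hVE : V ≤ E := le_inf hVS Subgroup.le_normalizer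
  have hbound : Nat.card R ≤ 8 := by
    have := card_le_eight h (U := V) (T := (R : Subgroup N).map N.subtype) hV (R.2.map _)
      (fun v hv => ⟨⟨v, (inf_le_right : E ≤ N) (hVE hv)⟩, hR (hVE hv), rfl⟩)
      (Subgroup.map_subtype_le _)
    rwa [← Nat.card_congr ((R : Subgroup N).equivMapOfInjective _ N.subtype_injective).toEquiv] at this
  have hReq : E.subgroupOf N = (R : Subgroup N) := Subgroup.eq_of_le_of_card_ge hR (by
    rw [Nat.card_congr (Subgroup.subgroupOfEquivOfLe (inf_le_right : E ≤ N)).toEquiv]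
    exact hbound.trans (hsyl V hVS hV))
  have hR'eq : (D.map f).subgroupOf N = (R' : Subgroup N) := Subgroup.eq_of_le_of_card_ge hR' (by
    rw [Nat.card_congr (Subgroup.subgroupOfEquivOfLe hDN).toEquiv,
      ← Nat.card_congr (D.equivMapOfInjective f (MulAut.conj g).injective).toEquiv,
      R'.card_eq_multiplicity, ← R.card_eq_multiplicity]
    exact hbound.trans (hsyl U hUS hU))
  obtain ⟨n, hn⟩ := MulAction.exists_smul_eq N R' R
  set c := (n : G) * g with hc
  have hcV : ∀ u ∈ U, c * u * c⁻¹ ∈ V := by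
    intro u hu
    have : g * u * g⁻¹ ∈ V := by rw [← hg]; exact ⟨u, hu, rfl⟩
    rw [hc, show (n : G) * g * u * ((n : G) * g)⁻¹ = (n : G) * (g * u * g⁻¹) * (n : G)⁻¹ by group]
    exact (Subgroup.mem_normalizer_iff.1 n.2 _).1 this
  obtain ⟨hzU, i₀, -⟩ := klein_cases h hUS hU
  obtain ⟨hzV, j₀, hiffV⟩ := klein_cases h hVS hV
  have hqE : q ∈ E := ⟨zpow_mem h _, hqN V hVS hV⟩
  -- the image of the central involution commutes with the rotation of order four
  obtain ⟨d, hdD, hdq⟩ : ∃ d ∈ D, c * d * c⁻¹ = q := by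
    have h1 : (⟨q, hqE.2⟩ : N) ∈ (R : Subgroup N) := hReq ▸ hqE
    rw [← hn] at h1
    obtain ⟨y, hy, hyq⟩ := h1
    rw [SetLike.mem_coe, ← hR'eq, Subgroup.mem_subgroupOf] at hy
    obtain ⟨d, hd, hdy⟩ := hy
    refine ⟨d, hd, ?_⟩
    have h2 := congrArg Subtype.val hyq
    change (n : G) * (y : G) * (n : G)⁻¹ = q at h2
    rw [← h2, ← hdy, hc]
    change _ = (n : G) * (g * d * g⁻¹) * (n : G)⁻¹
    group
  have hcz : Commute c z := by
    refine mul_inv_eq_iff_eq_mul.1 ?_
    have hzc : Commute (c * z * c⁻¹) q := by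
      rw [← hdq]
      exact ((z_comm h d hdD.1)).map (MulAut.conj c).toMonoidHom
    have hne : c * z * c⁻¹ ≠ 1 := fun e => z_ne h (conj_eq_one_iff.1 e)
    have hnc : ∀ l : ℤ, ¬ Commute (a ^ l * b) q := by
      intro l hcomm
      have h1 := conj_rot h ((2 : ℤ) ^ k') l
      rw [← hcomm.eq, mul_inv_cancel_right, mul_left_inj, ← mul_inv_eq_one, ← zpow_neg, ← zpow_add,
        zpow_eq_one h] at h1
      have h2 : (0 : ℤ) < 2 ^ k' := by positivity
      rw [show l + -(l + 2 * 2 ^ k') = -(2 * 2 ^ k') by ring, dvd_neg, pow_succ, pow_succ] at h1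
      have := Int.le_of_dvd (by linarith) h1
      linarith
    rcases (hiffV _).1 (hcV z hzU) with e | e | e | e
    · exact absurd e hne
    · exact e
    · rw [e] at hzc; exact absurd hzc (hnc _)
    · rw [e, ← mul_assoc, ← zpow_add] at hzc; exact absurd hzc (hnc _)
  obtain ⟨s, hs, hsu⟩ := exists_conj_mem h hcz
  have h1 := hsu _ (refl_mem h i) (hVS (hcV _ hi))
  have h2 := hcV _ hi
  rw [h1] at h2
  obtain ⟨w, hw⟩ : ∃ w : ℤ, s * (a ^ i * b) * s⁻¹ = a ^ (2 * w + i) * b := by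
    rcases h.cases s hs with ⟨t, rfl⟩ | ⟨t, rfl⟩
    · exact ⟨t, by rw [conj_rot h, add_comm]⟩
    · exact ⟨t - i, by rw [refl_conj h]; congr 2; ring⟩
  rw [hw] at h2
  have h3 := refl_commute h (TwoGroupLifts.commute_of_isKleinFour hV hj h2)
  obtain ⟨e, he⟩ := hodd
  rcases h3 with h3 | h3
  · rw [mul_left_inj, ← mul_inv_eq_one, ← zpow_neg, ← zpow_add, zpow_eq_one h, pow_succ'] at h3
    have := dvd_trans (dvd_mul_right 2 _) h3
    omega
  · rw [← mul_assoc, ← zpow_add, mul_left_inj, ← mul_inv_eq_one, ← zpow_neg, ← zpow_add,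
      zpow_eq_one h, pow_succ'] at h3
    have h4 := dvd_trans (dvd_mul_right 2 _) h3
    have h5 : (2 : ℤ) ∣ 2 ^ (k' + 1) := dvd_pow_self 2 (Nat.succ_ne_zero k')
    omega

end CfsgLib.Involution.DihedralSylow
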