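import Cfsg.Agent.Lib.Involution.QDFusionTheorems
import Cfsg.Agent.Lib.Involution.WreathedFusionTheorems
import Cfsg.Agent.Lib.Involution.ZStar.Weakly

/-!
# Involution centralisers with quasi-dihedral or wreathed Sylow 2-subgroups
-/

set_option autoImplicit false

namespace CfsgLib.Involution.CentralizerQW

open CfsgLib.Involution.SylowFusionTools
open scoped Pointwise

universe u

section transport

variable {S T : Type*} [Group S] [Group T] (e : S ≃* T)

theorem qdGen_map {x y : S} {K : ℕ} (h : QuasiDihedral.QDGen x y K) :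
    QuasiDihedral.QDGen (e x) (e y) K :=
  ⟨h.kpow, (Nat.card_congr e.toEquiv).symm.trans h.card, (MulEquiv.orderOf_eq e x).trans h.ord,
    (MulEquiv.orderOf_eq e y).trans h.ordy, by
      rw [← map_inv, ← map_mul, ← map_mul, h.conj, map_zpow]⟩

theorem wrGen_map {x y z : S} {K : ℕ} (h : Wreathed.WrGen x y z K) :
    Wreathed.WrGen (e x) (e y) (e z) K :=
  ⟨h.kpow, (Nat.card_congr e.toEquiv).symm.trans h.card, (MulEquiv.orderOf_eq e x).trans h.ord,
    by rw [← map_mul, h.comm, map_mul],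
    by
      rw [← MonoidHom.coe_coe, ← MonoidHom.map_zpowers, ← MonoidHom.map_zpowers,
        ← Subgroup.map_inf _ _ _ e.injective, h.disj, Subgroup.map_bot],
    (MulEquiv.orderOf_eq e z).trans h.ordz, by rw [← map_inv, ← map_mul, ← map_mul, h.conj]⟩

end transport

variable {G : Type u} [Group G] [Finite G]

/-- A nontrivial 2-power index normal subgroup yields a subgroup of index two. -/
theorem exists_index_two_of_normal {M : Subgroup G} [M.Normal] {k : ℕ} (hM : M.index = 2 ^ (k + 1)) :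
    ∃ H : Subgroup G, H.index = 2 := by
  haveI : Fact (Nat.Prime 2) := ⟨Nat.prime_two⟩
  have hc : Nat.card (G ⧸ M) = 2 ^ (k + 1) := hM
  obtain ⟨L, hL⟩ := Sylow.exists_subgroup_card_pow_prime (G := G ⧸ M) 2 (n := k)
    (hc ▸ pow_dvd_pow 2 (by omega))
  refine ⟨L.comap (QuotientGroup.mk' M), ?_⟩
  rw [Subgroup.index_comap_of_surjective _ (QuotientGroup.mk'_surjective M)]
  have h1 := L.card_mul_index
  rw [hL, hc, pow_succ] at h1
  exact Nat.eq_of_mul_eq_mul_left (Nat.two_pow_pos k) h1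

theorem qd_fused {S : Sylow 2 G} {x y : (S : Subgroup G)} {K : ℕ} (h : QuasiDihedral.QDGen x y K)
    (hG : ∀ H : Subgroup G, H.index ≠ 2) :
    QDFusion.FusedTwo x y K ∧ QDFusion.FusedFour x y K := by
  haveI : Fact (Nat.Prime 2) := ⟨Nat.prime_two⟩
  haveI : NeZero K := ⟨(QuasiDihedral.pos h).ne'⟩
  obtain ⟨Q, hQS, ⟨eQ⟩⟩ := QDFusion.exists_quat h
  by_cases hF' : QDFusion.FusedFour x y K
  · refine ⟨?_, hF'⟩
    by_contra hF
    obtain ⟨M, -, hM, -⟩ := QDFusion.quaternion_case h eQ hQS hF hF'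
    exact hG M hM
  · exfalso
    by_cases hF : QDFusion.FusedTwo x y K
    · set T := TwoGroupLifts.fourGroup (QDFusion.cz x K) (QDFusion.rf x y 0)
        (Dihedral.mul_self (QDFusion.cz_orderOf h))
        (Dihedral.mul_self (by simpa using QDFusion.rf_orderOf_even h 0))
        ((QDFusion.cz_comm h (x ^ (0 : ℤ) * y).2).symm.eq) with hTdef
      have ho : orderOf (QDFusion.rf x y 0) = 2 := by simpa using QDFusion.rf_orderOf_even h 0
      have hne : QDFusion.cz x K ≠ QDFusion.rf x y 0 := fun e =>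
        QuasiDihedral.xy_ne_zpow h 0 _ (Subtype.ext e).symm
      have hT : IsKleinFour T := TwoGroupLifts.isKleinFour_of_four
        (Dihedral.ne_one (QDFusion.cz_orderOf h)) (Dihedral.ne_one ho) hne
        (Dihedral.mul_self (QDFusion.cz_orderOf h)) (Dihedral.mul_self ho)
        ((QDFusion.cz_comm h (x ^ (0 : ℤ) * y).2).symm.eq) fun _ => TwoGroupLifts.mem_fourGroup
      have hTS : T ≤ (S : Subgroup G) := by
        intro g hg
        rcases TwoGroupLifts.mem_fourGroup.1 hg with e | e | e | e <;> rw [e]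
        exacts [one_mem _, (x ^ (4 * (K : ℤ))).2, (x ^ (0 : ℤ) * y).2,
          mul_mem (x ^ (4 * (K : ℤ))).2 (x ^ (0 : ℤ) * y).2]
      obtain ⟨M, -, hM, -⟩ := QDFusion.dihedral_case h hT hTS hF hF'
      exact hG M hM
    · obtain ⟨P, N, hN, hc⟩ := QDFusion.nilpotent_case h hF hF'
      obtain ⟨e, he⟩ := h.kpow
      have hidx : N.index = 2 ^ (e + 3 + 1) := by
        rw [hc.symm.index_eq_card, Nat.card_congr (Sylow.equiv P S).toEquiv, h.card, he]
        ring
      haveI := hN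
      obtain ⟨H, hH⟩ := exists_index_two_of_normal hidx
      exact hG H hH

theorem wreathed_fused {S : Sylow 2 G} {x y z : (S : Subgroup G)} {K : ℕ}
    (h : Wreathed.WrGen x y z K) (hG : ∀ H : Subgroup G, H.index ≠ 2) :
    WreathedFusion.FusedU x y K ∧ WreathedFusion.FusedV x y z K := by
  haveI : NeZero K := ⟨(Wreathed.pos h).ne'⟩
  by_cases hV : WreathedFusion.FusedV x y z K
  · refine ⟨?_, hV⟩
    by_contra hU
    obtain ⟨Q, hQS, ⟨eQ⟩⟩ := WreathedFusion.exists_quat h
    obtain ⟨M, hMn, hM, -⟩ := WreathedFusion.quaternion_case h hU hV eQ hQS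
    obtain ⟨e, he⟩ := h.kpow
    obtain ⟨H, hH⟩ := exists_index_two_of_normal (M := M) (k := e + 1) (by rw [hM, he]; ring)
    exact hG H hH
  · exfalso
    obtain ⟨M, -, hM, -⟩ := WreathedFusion.base_index_two h hV
    exact hG M hM

/-- A conjugate Sylow subgroup whose centre contains the given involution, with a presentation. -/
theorem exists_central_sylow {S : Sylow 2 G} {c x : G}
    (hc : ∀ s ∈ S, Commute s c) (hcS : c ∈ S) (hcx : IsConj c x) :
    ∃ T : Sylow 2 G, x ∈ T ∧ (∀ s ∈ T, Commute s x) ∧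
      Nonempty ((S : Subgroup G) ≃* (T : Subgroup G)) := by
  obtain ⟨g, rfl⟩ := isConj_iff.1 hcx
  refine ⟨g • S, Basic.mem_smul_sylow_iff.2 (by simpa [mul_assoc] using hcS), fun s hs => ?_,
    ⟨Sylow.equiv S (g • S)⟩⟩
  have := (hc _ (Basic.mem_smul_sylow_iff.1 hs)).map (MulAut.conj g).toMonoidHom
  simpa [mul_assoc] using this

omit [Finite G] in
theorem isConj_in_centralizer {x : G} {a b : Subgroup.centralizer ({x} : Set G)}
    (ha : (a : G) * a = x) (hb : (b : G) * b = x) (hab : IsConj (a : G) (b : G)) : IsConj a b := by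
  obtain ⟨g, hg⟩ := isConj_iff.1 hab
  refine isConj_iff.2 ⟨⟨g, Subgroup.mem_centralizer_singleton_iff.2 ?_⟩, Subtype.ext hg⟩
  refine mul_inv_eq_iff_eq_mul.1 ?_
  conv_lhs => rw [← ha]
  rw [← conj_mul, hg, hb]

theorem qd_centralizer {S : Sylow 2 G} (hS : Cfsg.IsQuasiDihedral (S : Subgroup G))
    (hG : ∀ H : Subgroup G, H.index ≠ 2) {x : G} (hx : orderOf x = 2) :
    ∃ R : Sylow 2 ↥(Subgroup.centralizer ({x} : Set G)), Nat.card R = Nat.card S ∧
      (∃ K : Subgroup ↥(Subgroup.centralizer ({x} : Set G)), K.Normal ∧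
        (∃ a : ℕ, K.index = 2 ^ a) ∧ (∀ H : Subgroup ↥K, H.index ≠ 2) ∧
        (∀ P : Sylow 2 ↥K, ∃ m : ℕ, 1 ≤ m ∧
          Nonempty ((P : Subgroup ↥K) ≃* QuaternionGroup (2 ^ m)))) ∧
      (∀ Z₀ : Subgroup ↥(Subgroup.centralizer ({x} : Set G)),
        Z₀ ≤ ((Subgroup.center (R : Subgroup ↥(Subgroup.centralizer ({x} : Set G)))).map
          (R : Subgroup ↥(Subgroup.centralizer ({x} : Set G))).subtype) →
        Cfsg.IsWeaklyClosed Z₀ (R : Subgroup ↥(Subgroup.centralizer ({x} : Set G)))) := by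
  obtain ⟨K, a, b, h, -⟩ := QuasiDihedral.exists_gen hS
  haveI : NeZero K := ⟨(QuasiDihedral.pos h).ne'⟩
  have hall : IsConj (QDFusion.cz a K) x := (QDFusion.involution_classes h hx).elim id
    ((qd_fused h hG).1.symm.trans ·)
  obtain ⟨T, hxT, hTx, ⟨e1⟩⟩ := exists_central_sylow (fun s hs => QDFusion.cz_comm h hs)
    (a ^ (4 * (K : ℤ))).2 hall
  have h1 := qdGen_map e1 h
  have hcz : QDFusion.cz (e1 a) K = x := by
    have hm : (⟨x, hxT⟩ : (T : Subgroup G)) ∈ Subgroup.center (T : Subgroup G) :=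
      Subgroup.mem_center_iff.2 fun s => Subtype.ext (hTx s s.2).eq
    rw [QuasiDihedral.center_eq h1] at hm
    have h2 : (QDFusion.cz (e1 a) K) ∈ Subgroup.zpowers x := by
      have h3 := congrArg (Subgroup.map (T : Subgroup G).subtype)
        (zpowers_eq_of_mem (G := (T : Subgroup G)) (a := ⟨x, hxT⟩)
          (by rw [QuasiDihedral.orderOf_z h1, ← Subgroup.orderOf_coe]; exact hx) hm)
      rw [MonoidHom.map_zpowers, MonoidHom.map_zpowers] at h3
      exact h3 ▸ Subgroup.mem_zpowers _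
    obtain ⟨l, hl⟩ := Subgroup.mem_zpowers_iff.1 h2
    obtain ⟨r, rfl | rfl⟩ := Int.even_or_odd' l
    · rw [zpow_mul, zpow_two, Dihedral.mul_self hx, one_zpow] at hl
      exact absurd hl.symm (Dihedral.ne_one (QDFusion.cz_orderOf h1))
    · rw [zpow_add_one, zpow_mul, zpow_two, Dihedral.mul_self hx, one_zpow, one_mul] at hl
      exact hl.symm
  set C := Subgroup.centralizer ({x} : Set G) with hC
  have hTC : (T : Subgroup G) ≤ C := fun s hs =>
    Subgroup.mem_centralizer_singleton_iff.2 (hTx s hs).eq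
  set R := T.subtype hTC with hR
  set e2 : (T : Subgroup G) ≃* (R : Subgroup C) :=
    (Subgroup.subgroupOfEquivOfLe hTC).symm with he2
  have hcoe2 : ∀ t : (T : Subgroup G), (((e2 t : (R : Subgroup C)) : C) : G) = (t : G) :=
    fun t => rfl
  have h2 := qdGen_map e2 h1
  have hF : ¬ QDFusion.FusedTwo (e2 (e1 a)) (e2 (e1 b)) K := by
    intro hF
    obtain ⟨g, hg⟩ := isConj_iff.1 hF.symm
    have hcentral : Commute g (QDFusion.cz (e2 (e1 a)) K) := by
      apply Subtype.ext
      have hcoe : ((QDFusion.cz (e2 (e1 a)) K : C) : G) = x := by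
        rw [← hcz]; simp [QDFusion.cz, hcoe2]
      push_cast
      rw [hcoe]
      exact Subgroup.mem_centralizer_singleton_iff.1 g.2
    rw [hcentral.eq, mul_inv_cancel_right] at hg
    exact QuasiDihedral.xy_ne_zpow h2 0 _ (Subtype.ext hg).symm
  have hF' : QDFusion.FusedFour (e2 (e1 a)) (e2 (e1 b)) K := by
    refine isConj_in_centralizer ?_ ?_ ?_
    · have := congrArg (fun t : C => (t : G)) (QDFusion.rf_sq h2 0)
      simp only [mul_zero, zero_add, Subgroup.coe_mul] at this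
      rw [this, ← hcz]; simp [QDFusion.cz, hcoe2]
    · have := congrArg (fun t : C => (t : G)) (QDFusion.ri_sq h2)
      simp only [Subgroup.coe_mul] at this
      rw [this, ← hcz]; simp [QDFusion.cz, hcoe2]
    · have := (qd_fused h1 hG).2
      simpa [QDFusion.FusedFour, QDFusion.rf, QDFusion.ri, hcoe2] using this
  obtain ⟨Q, hQ, ⟨eQ⟩⟩ := QDFusion.exists_quat h2
  refine ⟨R, ?_, ?_, fun Z₀ hZ => ?_⟩
  · exact Nat.card_congr ((e1.trans e2).symm).toEquiv
  · obtain ⟨M, hMn, hM, hP, hno⟩ := QDFusion.quaternion_case h2 eQ hQ hF hF'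
    exact ⟨M, hMn, ⟨1, by rw [hM, pow_one]⟩, hno, hP⟩
  · have hw := QDFusion.weakly_closed_center h2 hF
    refine ⟨hZ.trans hw.1, fun g hg => ?_⟩
    have hZc : Nat.card ((Subgroup.center (R : Subgroup C)).map (R : Subgroup C).subtype) = 2 := by
      rw [Subgroup.card_subtype, QuasiDihedral.center_eq h2, Nat.card_zpowers,
        QuasiDihedral.orderOf_z h2]
    have hd := Subgroup.card_dvd_of_le hZ
    rw [hZc] at hd
    rcases (Nat.dvd_prime Nat.prime_two).1 hd with e | e
    · rw [Subgroup.card_eq_one.1 e, Subgroup.map_bot]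
    · have heq := Subgroup.eq_of_le_of_card_ge hZ (by rw [hZc, e])
      rw [heq] at hg ⊢
      exact hw.2 g hg

theorem wreathed_centralizer {S : Sylow 2 G} (hS : Cfsg.IsWreathed (S : Subgroup G))
    (hG : ∀ H : Subgroup G, H.index ≠ 2) {x : G} (hx : orderOf x = 2) :
    ∃ R : Sylow 2 ↥(Subgroup.centralizer ({x} : Set G)), Nat.card R = Nat.card S ∧
      (∃ K : Subgroup ↥(Subgroup.centralizer ({x} : Set G)), K.Normal ∧
        (∃ a : ℕ, K.index = 2 ^ a) ∧ (∀ H : Subgroup ↥K, H.index ≠ 2) ∧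
        (∀ P : Sylow 2 ↥K, ∃ m : ℕ, 1 ≤ m ∧
          Nonempty ((P : Subgroup ↥K) ≃* QuaternionGroup (2 ^ m)))) ∧
      (∀ Z₀ : Subgroup ↥(Subgroup.centralizer ({x} : Set G)),
        Z₀ ≤ ((Subgroup.center (R : Subgroup ↥(Subgroup.centralizer ({x} : Set G)))).map
          (R : Subgroup ↥(Subgroup.centralizer ({x} : Set G))).subtype) →
        Cfsg.IsWeaklyClosed Z₀ (R : Subgroup ↥(Subgroup.centralizer ({x} : Set G)))) := by
  obtain ⟨K, a, b, c, h, -⟩ := Wreathed.exists_gen hS
  haveI : NeZero K := ⟨(Wreathed.pos h).ne'⟩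
  obtain ⟨Q₀, hQ₀, ⟨eQ₀⟩⟩ := WreathedFusion.exists_quat h
  obtain ⟨hU, hV⟩ := wreathed_fused h hG
  have hall : IsConj (WreathedFusion.cc a b K) x :=
    (WreathedFusion.ee_classes h (WreathedFusion.tt_isConj_ee h hV eQ₀ hQ₀ 0)
      (WreathedFusion.involution_classes h hx)).elim id hU.trans
  obtain ⟨T, hxT, hTx, ⟨e1⟩⟩ := exists_central_sylow
    (fun s hs => WreathedFusion.zc_comm h (WreathedFusion.cc_mem_zc h) hs)
    (WreathedFusion.w2_mem _ _) hall
  have h1 := wrGen_map e1 h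
  have hcc : WreathedFusion.cc (e1 a) (e1 b) K = x := by
    refine (WreathedFusion.zc_invol h1 ?_ hx).symm
    rw [← WreathedFusion.center_map h1]
    exact ⟨⟨x, hxT⟩, Subgroup.mem_center_iff.2 fun s => Subtype.ext (hTx s s.2).eq, rfl⟩
  set C := Subgroup.centralizer ({x} : Set G) with hC
  have hTC : (T : Subgroup G) ≤ C := fun s hs =>
    Subgroup.mem_centralizer_singleton_iff.2 (hTx s hs).eq
  set R := T.subtype hTC with hR
  set e2 : (T : Subgroup G) ≃* (R : Subgroup C) :=
    (Subgroup.subgroupOfEquivOfLe hTC).symm with he2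
  have hcoe2 : ∀ t : (T : Subgroup G), (((e2 t : (R : Subgroup C)) : C) : G) = (t : G) :=
    fun t => rfl
  have h2 := wrGen_map e2 h1
  have hU' : ¬ WreathedFusion.FusedU (e2 (e1 a)) (e2 (e1 b)) K := by
    intro hF
    obtain ⟨g, hg⟩ := isConj_iff.1 hF
    have hcentral : Commute g (WreathedFusion.cc (e2 (e1 a)) (e2 (e1 b)) K) := by
      apply Subtype.ext
      have hcoe : ((WreathedFusion.cc (e2 (e1 a)) (e2 (e1 b)) K : C) : G) = x := by
        rw [← hcc]; simp [WreathedFusion.cc, WreathedFusion.w2, Wreathed.W, hcoe2]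
      push_cast
      rw [hcoe]
      exact Subgroup.mem_centralizer_singleton_iff.1 g.2
    rw [hcentral.eq, mul_inv_cancel_right] at hg
    exact WreathedFusion.cc_ne_ee h2 hg
  have hV' : WreathedFusion.FusedV (e2 (e1 a)) (e2 (e1 b)) (e2 (e1 c)) K := by
    refine isConj_in_centralizer ?_ ?_ ?_
    · have := congrArg (fun t : C => (t : G)) (WreathedFusion.sq_cc_of_jj h2 0)
      simp only [Subgroup.coe_mul] at this
      rw [this, ← hcc]; simp [WreathedFusion.cc, WreathedFusion.w2, Wreathed.W, hcoe2]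
    · have := congrArg (fun t : C => (t : G)) (WreathedFusion.ii_sq h2)
      simp only [Subgroup.coe_mul] at this
      rw [this, ← hcc]; simp [WreathedFusion.cc, WreathedFusion.w2, Wreathed.W, hcoe2]
    · have := (wreathed_fused h1 hG).2
      simpa [WreathedFusion.FusedV, WreathedFusion.jj, WreathedFusion.ii, WreathedFusion.wz,
        WreathedFusion.w2, Wreathed.W, hcoe2] using this
  obtain ⟨Q, hQ, ⟨eQ⟩⟩ := WreathedFusion.exists_quat h2
  refine ⟨R, ?_, ?_, fun Z₀ hZ => ?_⟩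
  · exact Nat.card_congr ((e1.trans e2).symm).toEquiv
  · obtain ⟨M, hMn, hM, hP, hno⟩ := WreathedFusion.quaternion_case h2 hU' hV' eQ hQ
    obtain ⟨e, he⟩ := h.kpow
    exact ⟨M, hMn, ⟨e + 2, by rw [hM, he]; ring⟩, hno, hP⟩
  · rw [WreathedFusion.center_map h2] at hZ
    exact WreathedFusion.weakly_closed h2 hU' hV' eQ hQ hZ

/-- An isolated involution makes the centre of the Sylow subgroup central modulo the odd core. -/
theorem center_comm_mem {S : Sylow 2 G}
    (hS : Cfsg.IsQuasiDihedral (S : Subgroup G) ∨ Cfsg.IsWreathed (S : Subgroup G)) {z : G}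
    (hzS : z ∈ S) (hz : Cfsg.IsIsolatedInvolution z) {u : G}
    (hu : u ∈ (Subgroup.center (S : Subgroup G)).map (S : Subgroup G).subtype) (g : G) :
    u * g * u⁻¹ * g⁻¹ ∈ Cfsg.oddCore G := by
  have hfix := (Isolated.isolated_iff_sylow hz.1 hzS).1 hz
  have hzc : ⟨z, hzS⟩ ∈ Subgroup.center (S : Subgroup G) := by
    refine Subgroup.mem_center_iff.2 fun s => Subtype.ext ?_
    exact mul_inv_eq_iff_eq_mul.1 (hfix s (mul_mem (mul_mem s.2 hzS) (inv_mem s.2)))
  refine ZStar.comm_mem_oddCore_of_fixed S (Subgroup.map_subtype_le _ hu) (fun g hg => ?_) g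
  rcases hS with hS | hS
  · obtain ⟨K, a, b, h, -⟩ := QuasiDihedral.exists_gen hS
    rw [QuasiDihedral.center_eq h] at hu hzc
    have hzz := zpowers_eq_of_mem (G := (S : Subgroup G)) (a := ⟨z, hzS⟩)
      (by rw [QuasiDihedral.orderOf_z h, ← Subgroup.orderOf_coe]; exact hz.1) hzc
    rw [← hzz, MonoidHom.map_zpowers] at hu
    obtain ⟨l, rfl⟩ := Subgroup.mem_zpowers_iff.1 hu
    change g * z ^ l * g⁻¹ = z ^ l
    obtain ⟨r, rfl | rfl⟩ := Int.even_or_odd' l
    · rw [zpow_mul, zpow_two, Dihedral.mul_self hz.1, one_zpow, mul_one, mul_inv_cancel]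
    · change g * z ^ (2 * r + 1) * g⁻¹ ∈ S at hg
      rw [zpow_add_one, zpow_mul, zpow_two, Dihedral.mul_self hz.1, one_zpow, one_mul] at hg ⊢
      exact hfix g hg
  · obtain ⟨K, a, b, c, h, -⟩ := Wreathed.exists_gen hS
    rw [WreathedFusion.center_map h] at hu
    have hzcc : z = WreathedFusion.cc a b K := by
      refine WreathedFusion.zc_invol h ?_ hz.1
      rw [← WreathedFusion.center_map h]
      exact ⟨_, hzc, rfl⟩
    have hU : ¬ WreathedFusion.FusedU a b K := fun hF => by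
      obtain ⟨t, ht⟩ := isConj_iff.1 hF
      have h1 := hfix t (by rw [hzcc, ht]; exact WreathedFusion.w2_mem _ _)
      rw [hzcc, ht] at h1
      exact WreathedFusion.cc_ne_ee h h1.symm
    exact WreathedFusion.zc_fixed_all h hU hu hg

end CfsgLib.Involution.CentralizerQW
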