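import Cfsg.Agent.Lib.Involution.ClassFourAux
import Cfsg.Agent.Lib.TwoGroups.CyclicMax

/-!
# 2-groups with fourth centre of order 16 and large centraliser of the third centre
-/

set_option autoImplicit false

open scoped commutatorElement

namespace CfsgLib.Involution.ClassFour

open Subgroup

variable {T : Type*} [Group T] [Finite T]

/-- The upper central series. -/
abbrev Zu (T : Type*) [Group T] (i : ℕ) : Subgroup T := Subgroup.upperCentralSeries T i

theorem comm_mem {i : ℕ} {x : T} (hx : x ∈ Zu T (i + 1)) (y : T) : ⁅x, y⁆ ∈ Zu T i :=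
  Subgroup.mem_upperCentralSeries_succ_iff.mp hx y

theorem comm_mem' {i : ℕ} {x : T} (hx : x ∈ Zu T (i + 1)) (y : T) : ⁅y, x⁆ ∈ Zu T i := by
  rw [← commutatorElement_inv]; exact inv_mem (comm_mem hx y)

theorem mono {i j : ℕ} (h : i ≤ j) : Zu T i ≤ Zu T j := Subgroup.upperCentralSeries_mono (G := T) h

theorem exists_step (hT : IsPGroup 2 T) (i : ℕ) (N : Subgroup T) [hN : N.Normal] (h : ¬ N ≤ Zu T i) :
    ∃ n ∈ N, n ∈ Zu T (i + 1) ∧ n ∉ Zu T i := by
  classical
  have : Fact (Nat.Prime 2) := ⟨Nat.prime_two⟩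
  obtain ⟨m, hm⟩ := hT.isNilpotent.nilpotent'
  have hex : ∃ j, ∃ n ∈ N, n ∈ Zu T j ∧ n ∉ Zu T i := by
    obtain ⟨n, hn, hn'⟩ := SetLike.not_le_iff_exists.mp h
    exact ⟨m, n, hn, (by rw [Zu, hm]; exact Subgroup.mem_top n), hn'⟩
  obtain ⟨n, hnN, hnj, hni⟩ := Nat.find_spec hex
  rcases Nat.eq_zero_or_pos (Nat.find hex) with h0 | hpos
  · rw [h0, Zu, Subgroup.upperCentralSeries_zero, Subgroup.mem_bot] at hnj
    exact absurd (hnj ▸ Subgroup.one_mem _) hni
  obtain ⟨k, hk⟩ : ∃ k, Nat.find hex = k + 1 := ⟨_, (Nat.succ_pred_eq_of_pos hpos).symm⟩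
  rw [hk] at hnj
  refine ⟨n, hnN, Subgroup.mem_upperCentralSeries_succ_iff.mpr fun y => ?_, hni⟩
  by_contra hy
  refine Nat.find_min hex (show k < Nat.find hex by omega) ⟨⁅n, y⁆, ?_, comm_mem hnj y, hy⟩
  rw [commutatorElement_def, show n * y * n⁻¹ * y⁻¹ = n * (y * n⁻¹ * y⁻¹) by group]
  exact mul_mem hnN (hN.conj_mem _ (inv_mem hnN) y)

theorem two_mul_card_le {G : Type*} [Group G] [Finite G] {H K : Subgroup G} (h1 : H ≤ K) (h2 : H ≠ K) :
    2 * Nat.card H ≤ Nat.card K := by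
  obtain ⟨c, hc⟩ := Subgroup.card_dvd_of_le h1
  have hpos : 0 < Nat.card H := Nat.card_pos
  rcases Nat.lt_or_ge c 2 with hc2 | hc2
  · interval_cases c
    · have : 0 < Nat.card K := Nat.card_pos
      omega
    · exact absurd (Subgroup.eq_of_le_of_card_ge h1 (by omega)) h2
  · nlinarith

/-- The hypotheses. -/
structure Setting (T : Type*) [Group T] (W : Subgroup T) : Prop where
  pg : IsPGroup 2 T
  big : 2 ^ 14 ≤ Nat.card T
  four : Nat.card (Zu T 4) = 16
  hW : W = Subgroup.centralizer ((Zu T 3 : Subgroup T) : Set T)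
  small : Nat.card (frattini W) ≤ 8
  index16 : ∀ U : Subgroup W, U.index ≤ 16 → frattini W ≤ U

namespace Setting

variable {W : Subgroup T} (S : Setting T W)

include S

theorem card_Zu : Nat.card (Zu T 1) = 2 ∧ Nat.card (Zu T 2) = 4 ∧ Nat.card (Zu T 3) = 8 := by
  have hlt : ∀ i < 4, 2 * Nat.card (Zu T i) ≤ Nat.card (Zu T (i + 1)) := fun i hi => by
    refine two_mul_card_le (mono (by omega)) fun he => ?_
    have htop : ¬ (⊤ : Subgroup T) ≤ Zu T i := fun hle => by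
      have h1 : Nat.card T ≤ 16 := by
        rw [← S.four, ← Subgroup.card_top (G := T)]
        exact Nat.le_of_dvd Nat.card_pos (Subgroup.card_dvd_of_le (hle.trans (mono (by omega))))
      have := S.big
      omega
    obtain ⟨n, -, h1, h2⟩ := exists_step S.pg i ⊤ htop
    exact h2 (he ▸ h1)
  have h0 : Nat.card (Zu T 0) = 1 := by rw [Zu, Subgroup.upperCentralSeries_zero]; exact Subgroup.card_bot
  have := hlt 0 (by norm_num)
  have := hlt 1 (by norm_num)
  have := hlt 2 (by norm_num)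
  have := hlt 3 (by norm_num)
  have := S.four
  simp only [zero_add, Nat.reduceAdd] at *
  omega

theorem card_Zu_le {i : ℕ} (hi : i ≤ 4) : Nat.card (Zu T i) = 2 ^ i := by
  obtain ⟨h1, h2, h3⟩ := S.card_Zu
  have h0 : Nat.card (Zu T 0) = 1 := by rw [Zu, Subgroup.upperCentralSeries_zero]; exact Subgroup.card_bot
  interval_cases i
  · exact h0
  · exact h1
  · exact h2
  · exact h3
  · exact S.four

theorem gen_step {i : ℕ} (hi : i ≤ 3) {H : Subgroup T} (hH : Zu T i ≤ H) {n : T} (hn : n ∈ H)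
    (h1 : n ∈ Zu T (i + 1)) (h2 : n ∉ Zu T i) : Zu T (i + 1) ≤ H := by
  have hne : Zu T i ≠ H ⊓ Zu T (i + 1) := fun he => h2 (he ▸ ⟨hn, h1⟩)
  have h := two_mul_card_le (le_inf hH (mono (by omega))) hne
  rw [S.card_Zu_le (by omega : i ≤ 4)] at h
  have := Subgroup.eq_of_le_of_card_ge (inf_le_right : H ⊓ Zu T (i + 1) ≤ _)
    (by rw [S.card_Zu_le (by omega : i + 1 ≤ 4), pow_succ]; omega)
  exact this ▸ inf_le_left

theorem dichotomy (N : Subgroup T) [hN : N.Normal] : ∀ i ≤ 3, N ≤ Zu T i ∨ Zu T (i + 1) ≤ N := by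
  intro i
  induction i with
  | zero =>
    intro _
    by_cases h : N ≤ Zu T 0
    · exact Or.inl h
    obtain ⟨n, hn, h1, h2⟩ := exists_step S.pg 0 N h
    exact Or.inr (S.gen_step (by norm_num) (by rw [Zu, Subgroup.upperCentralSeries_zero]; exact bot_le) hn h1 h2)
  | succ i ih =>
    intro hi
    by_cases h : N ≤ Zu T (i + 1)
    · exact Or.inl h
    obtain ⟨n, hn, h1, h2⟩ := exists_step S.pg (i + 1) N h
    rcases ih (by omega) with h' | h'
    · exact absurd (h'.trans (mono (by omega))) h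
    · exact Or.inr (S.gen_step hi h' hn h1 h2)

theorem normal : W.Normal := by rw [S.hW]; infer_instance

theorem mem_iff {t : T} : t ∈ W ↔ ∀ z ∈ Zu T 3, z * t = t * z := by
  rw [S.hW, Subgroup.mem_centralizer_iff]; rfl

theorem fix_Zu2 {t v : T} (hv : v ∈ Zu T 2) (hv' : v ∉ Zu T 1) (h : v * t = t * v) :
    ∀ z ∈ Zu T 2, z * t = t * z := fun z hz =>
  (Subgroup.mem_centralizer_singleton_iff.mp (S.gen_step (i := 1) (by norm_num)
    (H := Subgroup.centralizer {t}) (fun y hy => by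
      rw [Zu, Subgroup.upperCentralSeries_one] at hy
      exact Subgroup.mem_centralizer_singleton_iff.mpr (Subgroup.mem_center_iff.mp hy t).symm)
    (Subgroup.mem_centralizer_singleton_iff.mpr h) hv hv' hz))

theorem mem_of_fix {t u : T} (hu : u ∈ Zu T 3) (hu' : u ∉ Zu T 2) (h : u * t = t * u)
    (h2 : ∀ z ∈ Zu T 2, z * t = t * z) : t ∈ W :=
  S.mem_iff.mpr fun _ hz => Subgroup.mem_centralizer_singleton_iff.mp (S.gen_step (i := 2) (by norm_num)
    (H := Subgroup.centralizer {t}) (fun y hy => Subgroup.mem_centralizer_singleton_iff.mpr (h2 y hy))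
    (Subgroup.mem_centralizer_singleton_iff.mpr h) hu hu' hz)

theorem exists_uv : ∃ u v : T, u ∈ Zu T 3 ∧ u ∉ Zu T 2 ∧ v ∈ Zu T 2 ∧ v ∉ Zu T 1 := by
  obtain ⟨h1, h2, h3⟩ := S.card_Zu
  obtain ⟨u, hu, hu'⟩ := SetLike.exists_of_lt (lt_of_le_of_ne (mono (T := T) (i := 2) (j := 3) (by norm_num))
    fun h => by rw [h] at h2; omega)
  obtain ⟨v, hv, hv'⟩ := SetLike.exists_of_lt (lt_of_le_of_ne (mono (T := T) (i := 1) (j := 2) (by norm_num))
    fun h => by rw [h] at h1; omega)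
  exact ⟨u, v, hu, hu', hv, hv'⟩

theorem mk_eq {u v : T} (hu : u ∈ Zu T 3) (hu' : u ∉ Zu T 2) (hv : v ∈ Zu T 2) (hv' : v ∉ Zu T 1) {a b : T} :
    (a : T ⧸ W) = b ↔ ⁅a, u⁆ = ⁅b, u⁆ ∧ ⁅a, v⁆ = ⁅b, v⁆ := by
  have key : ∀ y : T, ⁅a, y⁆ = ⁅b, y⁆ ↔ y * (a⁻¹ * b) = (a⁻¹ * b) * y := fun y => by
    constructor
    · intro h
      have h' : a * y * a⁻¹ = b * y * b⁻¹ := by
        simpa only [commutatorElement_def, mul_left_inj] using h
      calc y * (a⁻¹ * b) = a⁻¹ * (a * y * a⁻¹) * b := by group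
        _ = a⁻¹ * (b * y * b⁻¹) * b := by rw [h']
        _ = (a⁻¹ * b) * y := by group
    · intro h
      have h' : a * y * a⁻¹ = b * y * b⁻¹ :=
        calc a * y * a⁻¹ = a * (y * (a⁻¹ * b)) * b⁻¹ := by group
          _ = a * ((a⁻¹ * b) * y) * b⁻¹ := by rw [h]
          _ = b * y * b⁻¹ := by group
      simp only [commutatorElement_def, h']
  rw [QuotientGroup.eq, key u, key v]
  exact ⟨fun h => ⟨S.mem_iff.mp h u hu, S.mem_iff.mp h v (mono (by norm_num) hv)⟩,
    fun h => S.mem_of_fix hu hu' h.1 (S.fix_Zu2 hv hv' h.2)⟩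

theorem index_le : W.index ≤ 8 := by
  obtain ⟨u, v, hu, hu', hv, hv'⟩ := S.exists_uv
  have hinj : Function.Injective fun q : T ⧸ W =>
      ((⟨⁅q.out, u⁆, comm_mem' hu _⟩, ⟨⁅q.out, v⁆, comm_mem' hv _⟩) : Zu T 2 × Zu T 1) := fun p q h => by
    rw [← QuotientGroup.out_eq' p, ← QuotientGroup.out_eq' q]
    exact (S.mk_eq hu hu' hv hv').mpr ⟨congrArg (fun x => x.1.1) h, congrArg (fun x => x.2.1) h⟩
  have h := Nat.card_le_card_of_injective _ hinj
  rwa [Nat.card_prod, S.card_Zu.1, S.card_Zu.2.1] at h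

theorem card_ge : 2 ^ 11 ≤ Nat.card W := by
  have h := W.card_mul_index
  have := S.index_le
  have := S.big
  nlinarith

theorem Zu4_le : Zu T 4 ≤ W := by
  have := S.normal
  refine (S.dichotomy W 3 le_rfl).resolve_left fun h => ?_
  have h' := Nat.le_of_dvd Nat.card_pos (Subgroup.card_dvd_of_le h)
  rw [S.card_Zu.2.2] at h'
  have := S.card_ge
  omega

theorem Zu3_le : Zu T 3 ≤ W := (mono (by norm_num)).trans S.Zu4_le

theorem central {z : T} (hz : z ∈ Zu T 3) {w : T} (hw : w ∈ W) : z * w = w * z := S.mem_iff.mp hw z hz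

theorem frattini_le : (frattini W).map W.subtype ≤ Zu T 3 := by
  have := S.normal
  refine (S.dichotomy _ 3 le_rfl).resolve_right fun h => ?_
  have h' := Nat.le_of_dvd Nat.card_pos (Subgroup.card_dvd_of_le h)
  rw [Subgroup.card_map_of_injective W.subtype_injective, S.four] at h'
  have := S.small
  omega

theorem sq_mem (w : W) : (w : T) ^ 2 ∈ Zu T 3 := by
  have : Fact (Nat.Prime 2) := ⟨Nat.prime_two⟩
  exact S.frattini_le ⟨w ^ 2, CfsgLib.PGroup.Frattini.pow_mem_frattini (S.pg.to_subgroup W) w, rfl⟩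

theorem comm_mem_three {a b : T} (ha : a ∈ W) (hb : b ∈ W) : ⁅a, b⁆ ∈ Zu T 3 :=
  comm_mem_of_sq (A := W) (B := (Zu T 3).subgroupOf W) (fun w => S.sq_mem w) ⟨a, ha⟩ ⟨b, hb⟩

/-- Conjugation by `t` inside `W`. -/
def cj (S : Setting T W) (t : T) (w : W) : W := ⟨t * w * t⁻¹, S.normal.conj_mem _ w.2 t⟩

theorem cj_cj (s t : T) (w : W) : S.cj s (S.cj t w) = S.cj (s * t) w :=
  Subtype.ext (by simp only [cj, mul_inv_rev, mul_assoc])

theorem cj_mul (t : T) (a b : W) : S.cj t (a * b) = S.cj t a * S.cj t b :=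
  Subtype.ext (by simp only [cj, Subgroup.coe_mul]; group)

theorem exists_psi [W.Normal] (i : ℕ) (hi : i ≤ 3) (hsq : ∀ w : W, (w : T) ^ 2 ∈ Zu T i) :
    ∃ ψ : W → T ⧸ W → ZMod 2, (∀ a b, ψ (a * b) = ψ a + ψ b) ∧ (∀ w, ψ w = 0 ↔ (w : T) ∈ Zu T i) ∧
      (∀ (t : T) (w : W) (q : T ⧸ W), ψ (S.cj t w) q = ψ w ((t : T ⧸ W)⁻¹ * q)) ∧
      Nat.card W = 2 ^ i * Nat.card (Set.range ψ) := by
  classical
  have hle : Zu T (i + 1) ≤ W := (mono (by omega)).trans S.Zu4_le
  obtain ⟨z, hz, hz'⟩ := SetLike.exists_of_lt (lt_of_le_of_ne (mono (T := T) (Nat.le_succ i)) fun h => by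
    have h1 := S.card_Zu_le (show i ≤ 4 by omega)
    rw [h, S.card_Zu_le (show i + 1 ≤ 4 by omega), pow_succ] at h1
    have : 0 < 2 ^ i := by positivity
    omega)
  obtain ⟨H, hBH, hzH, hH2⟩ := exists_index_two (A := W) (B := (Zu T i).subgroupOf W) hsq (ε := ⟨z, hle hz⟩) hz'
  let l : W → ZMod 2 := fun w => if w ∈ H then 0 else 1
  have hl : ∀ a b, l (a * b) = l a + l b := fun a b => by
    have := Subgroup.mul_mem_iff_of_index_two hH2 (a := a) (b := b)
    by_cases ha : a ∈ H <;> by_cases hb : b ∈ H <;> simp [l, ha, hb, this] <;> decide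
  have hl1 : l 1 = 0 := if_pos H.one_mem
  let ψ : W → T ⧸ W → ZMod 2 := fun w q => l (S.cj q.out⁻¹ w)
  have hwd : ∀ (t : T) (w : W), ψ w (t : T ⧸ W) = l (S.cj t⁻¹ w) := fun t w => by
    obtain ⟨m, hm⟩ := QuotientGroup.mk_out_eq_mul W t
    show l (S.cj (QuotientGroup.mk t : T ⧸ W).out⁻¹ w) = _
    rw [hm, mul_inv_rev, ← S.cj_cj]
    have e : S.cj (m : T)⁻¹ (S.cj t⁻¹ w) = m⁻¹ * S.cj t⁻¹ w * m :=
      Subtype.ext (by simp only [cj, Subgroup.coe_mul, Subgroup.coe_inv, inv_inv])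
    rw [e, hl, hl, add_comm (l m⁻¹), add_assoc, ← hl, inv_mul_cancel, hl1, add_zero]
  have hadd : ∀ a b, ψ (a * b) = ψ a + ψ b := fun a b => funext fun q => by
    show l _ = l _ + l _
    rw [S.cj_mul, hl]
  have heq : ∀ (t : T) (w : W) (q : T ⧸ W), ψ (S.cj t w) q = ψ w ((t : T ⧸ W)⁻¹ * q) := fun t w q => by
    obtain ⟨s, rfl⟩ := QuotientGroup.mk_surjective q
    rw [← QuotientGroup.mk_inv, ← QuotientGroup.mk_mul, hwd, hwd, S.cj_cj, mul_inv_rev, inv_inv]
  let f : W →* Multiplicative (T ⧸ W → ZMod 2) :=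
    MonoidHom.mk' (fun w => Multiplicative.ofAdd (ψ w)) fun a b => by rw [hadd]; rfl
  have hker : ∀ w : W, ψ w = 0 ↔ (w : T) ∈ Zu T i := by
    have h0 : ∀ w : W, (w : T) ∈ Zu T i → ψ w = 0 := fun w hw => funext fun q =>
      if_pos (hBH (Subgroup.Normal.conj_mem (H := Zu T i) inferInstance _ hw q.out⁻¹))
    have hN : (f.ker.map W.subtype).Normal := ⟨by
      rintro _ ⟨w, hw, rfl⟩ t
      refine ⟨S.cj t w, ?_, rfl⟩
      have hw' : ψ w = 0 := hw
      show ψ (S.cj t w) = 0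
      funext q
      rw [heq, hw']; rfl⟩
    rcases S.dichotomy (f.ker.map W.subtype) i hi with h | h
    · exact fun w => ⟨fun hw => h ⟨w, hw, rfl⟩, h0 w⟩
    · exfalso
      obtain ⟨w, hw, hwz⟩ := h hz
      have hw' : ψ w = 0 := hw
      have h1 := congrFun hw' ((1 : T) : T ⧸ W)
      rw [hwd] at h1
      have e : S.cj (1 : T)⁻¹ w = ⟨z, hle hz⟩ := Subtype.ext (by simp [cj, ← hwz])
      rw [e] at h1
      simp [l, hzH] at h1
  refine ⟨ψ, hadd, hker, heq, ?_⟩
  have h1 := f.ker.card_mul_index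
  rw [Subgroup.index_ker] at h1
  have e1 : f.ker = (Zu T i).subgroupOf W := by
    ext w; exact hker w
  rw [e1, Nat.card_congr (Subgroup.subgroupOfEquivOfLe ((mono (by omega)).trans S.Zu4_le)).toEquiv,
    S.card_Zu_le (by omega : i ≤ 4)] at h1
  exact h1.symm

theorem card_le [W.Normal] (i : ℕ) (hi : i ≤ 3) (hsq : ∀ w : W, (w : T) ^ 2 ∈ Zu T i) :
    Nat.card W ≤ 2 ^ i * 2 ^ W.index := by
  obtain ⟨ψ, -, -, -, hc⟩ := S.exists_psi i hi hsq
  rw [hc]
  refine Nat.mul_le_mul le_rfl ((Nat.card_le_card_of_injective _ Subtype.val_injective).trans ?_)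
  rw [Nat.card_fun, Nat.card_zmod]
  rfl

theorem index_eq [W.Normal] : W.index = 8 := by
  have h1 := (S.card_le 3 le_rfl S.sq_mem)
  have h2 := S.card_ge
  have h3 := S.index_le
  by_contra h
  have : 2 ^ W.index ≤ 2 ^ 7 := Nat.pow_le_pow_right (by norm_num) (by omega)
  omega

theorem card_W [W.Normal] : Nat.card W = 2 ^ 11 := by
  have h1 := S.card_le 3 le_rfl S.sq_mem
  rw [S.index_eq] at h1
  have := S.card_ge
  omega

theorem card_T : Nat.card T = 2 ^ 14 := by
  have := S.normal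
  rw [← W.card_mul_index, S.index_eq, S.card_W]
  norm_num

theorem frattini_eq : (frattini W).map W.subtype = Zu T 3 := by
  have := S.normal
  have : Fact (Nat.Prime 2) := ⟨Nat.prime_two⟩
  refine le_antisymm S.frattini_le ((S.dichotomy _ 2 (by norm_num)).resolve_left fun h => ?_)
  have h1 := S.card_le 2 (by norm_num) fun w =>
    h ⟨w ^ 2, CfsgLib.PGroup.Frattini.pow_mem_frattini (S.pg.to_subgroup W) w, rfl⟩
  rw [S.index_eq, S.card_W] at h1
  norm_num at h1

theorem mem_of_index_le {U : Subgroup W} (hU : U.index ≤ 16) {w : W} (hw : (w : T) ∈ Zu T 3) : w ∈ U := by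
  obtain ⟨y, hy, hyw⟩ := S.frattini_eq.symm ▸ hw
  exact (Subtype.ext hyw : y = w) ▸ S.index16 U hU hy

set_option maxHeartbeats 800000 in
theorem not_big (K : Subgroup W) (hK : ∀ k ∈ K, ∀ w : W, ⁅(k : T), (w : T)⁆ ∈ Zu T 2) (hc : 2 ^ 7 ≤ Nat.card K) :
    False := by
  have := S.normal
  obtain ⟨h1, h2, h3⟩ := S.card_Zu
  let B : Subgroup W := (Zu T 2).subgroupOf W
  let q := QuotientGroup.mk' B
  have hq := QuotientGroup.mk'_surjective B
  let E : Subgroup (W ⧸ B) := ((Zu T 3).subgroupOf W).map q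
  have hB : Nat.card B = 4 := by
    rw [Nat.card_congr (Subgroup.subgroupOfEquivOfLe ((mono (by norm_num)).trans S.Zu4_le)).toEquiv, h2]
  have hQ : Nat.card (W ⧸ B) = 2 ^ 9 := by
    have h := B.card_eq_card_quotient_mul_card_subgroup
    rw [hB, S.card_W] at h
    omega
  have hker : q.ker ≤ (Zu T 3).subgroupOf W := by
    rw [QuotientGroup.ker_mk']; exact fun w hw => mono (T := T) (show 2 ≤ 3 by norm_num) hw
  have hE : Nat.card E = 2 := by
    have e1 : E.index = ((Zu T 3).subgroupOf W).index := Subgroup.index_map_eq _ hq hker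
    have e2 := ((Zu T 3).subgroupOf W).card_mul_index
    rw [Nat.card_congr (Subgroup.subgroupOfEquivOfLe S.Zu3_le).toEquiv, h3, S.card_W] at e2
    have e3 := E.card_mul_index
    rw [hQ, e1, show ((Zu T 3).subgroupOf W).index = 256 by omega] at e3
    omega
  have hEc : E ≤ Subgroup.center (W ⧸ B) := by
    rintro _ ⟨w, hw, rfl⟩
    rw [Subgroup.mem_center_iff]
    intro g
    obtain ⟨g, rfl⟩ := hq g
    rw [← map_mul, ← map_mul]
    exact congrArg q (Subtype.ext (S.central hw g.2).symm)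
  have hsq : ∀ x : W ⧸ B, x ^ 2 ∈ E := fun x => by
    obtain ⟨w, rfl⟩ := hq x
    refine Subgroup.mem_map.mpr ⟨w ^ 2, ?_, ?_⟩
    · rw [Subgroup.mem_subgroupOf, SubgroupClass.coe_pow]
      exact S.sq_mem w
    · rw [map_pow]
  refine no_big_centre E hQ hE hEc hsq (fun U hU => ?_) ?_
  · rintro _ ⟨w, hw, rfl⟩
    exact S.mem_of_index_le (U := U.comap q) ((Subgroup.index_comap_of_surjective U hq).le.trans hU) hw
  · have hKC : K ≤ (Subgroup.center (W ⧸ B)).comap q := fun k hk => by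
      rw [Subgroup.mem_comap, Subgroup.mem_center_iff]
      intro g
      obtain ⟨g, rfl⟩ := hq g
      have hkg : q ⁅k, g⁆ = 1 := by
        rw [QuotientGroup.mk'_apply, QuotientGroup.eq_one_iff]
        exact hK k hk g
      rw [map_commutatorElement, commutatorElement_eq_one_iff_mul_comm] at hkg
      exact hkg.symm
    have e1 := Subgroup.index_antitone hKC
    rw [Subgroup.index_comap_of_surjective _ hq] at e1
    have e2 := (Subgroup.center (W ⧸ B)).card_mul_index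
    have e3 := K.card_mul_index
    rw [hQ] at e2
    rw [S.card_W] at e3
    have : K.index ≤ 16 := by nlinarith
    nlinarith

theorem commutator_eq : (commutator W).map W.subtype = Zu T 3 := by
  have := S.normal
  have : Fact (Nat.Prime 2) := ⟨Nat.prime_two⟩
  refine le_antisymm ?_ ((S.dichotomy _ 2 (by norm_num)).resolve_left fun h => ?_)
  · rw [Subgroup.map_le_iff_le_comap, commutator_def, Subgroup.commutator_le]
    exact fun a _ b _ => S.comm_mem_three a.2 b.2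
  · refine S.not_big ⊤ (fun k _ w => h ⟨⁅k, w⁆, ?_, rfl⟩) ?_
    · rw [commutator_def]
      exact Subgroup.commutator_mem_commutator (Subgroup.mem_top k) (Subgroup.mem_top w)
    · rw [Subgroup.card_top, S.card_W]; norm_num

theorem Zu3_sq : ∀ z ∈ Zu T 3, z ^ 2 = 1 := by
  intro z hz
  let P : Subgroup T :=
    { carrier := {y | y ∈ Zu T 3 ∧ y ^ 2 = 1}
      one_mem' := ⟨one_mem _, one_pow 2⟩
      mul_mem' := fun {a b} ha hb => ⟨mul_mem ha.1 hb.1, by
        rw [Commute.mul_pow (S.central ha.1 (S.Zu3_le hb.1)), ha.2, hb.2, one_mul]⟩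
      inv_mem' := fun {a} ha => ⟨inv_mem ha.1, by rw [inv_pow, ha.2, inv_one]⟩ }
  have hle : (commutator W).map W.subtype ≤ P := by
    rw [Subgroup.map_le_iff_le_comap, commutator_def, Subgroup.commutator_le]
    intro a _ b _
    refine ⟨S.comm_mem_three a.2 b.2, ?_⟩
    show ⁅(a : T), (b : T)⁆ ^ 2 = 1
    have hc := S.central (S.comm_mem_three a.2 b.2) a.2
    have e : ⁅(a : T) * a, (b : T)⁆ = (a : T) * ⁅(a : T), (b : T)⁆ * (a : T)⁻¹ * ⁅(a : T), (b : T)⁆ := by
      simp only [commutatorElement_def]; group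
    rw [← hc, mul_assoc ⁅(a : T), (b : T)⁆, mul_inv_cancel, mul_one] at e
    rw [pow_two, ← e, ← pow_two]
    exact commutatorElement_eq_one_iff_mul_comm.mpr (S.central (S.sq_mem a) b.2)
  exact (hle (S.commutator_eq.symm ▸ hz)).2

end Setting

end CfsgLib.Involution.ClassFour
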