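import Mathlib
import Cfsg.Agent.Lib.PGroup.Frattini

/-!
# Auxiliary facts for 2-groups with small fourth centre
-/

set_option autoImplicit false

open scoped commutatorElement

namespace CfsgLib.Involution.ClassFour

variable {A : Type*} [Group A] [Finite A]

theorem comm_mem_of_sq {B : Subgroup A} [B.Normal] (hsq : ∀ a : A, a ^ 2 ∈ B) (a b : A) : ⁅a, b⁆ ∈ B := by
  have h2 : ∀ y : A ⧸ B, y * y = 1 := fun y => by
    obtain ⟨y, rfl⟩ := QuotientGroup.mk'_surjective B y
    rw [← map_mul, QuotientGroup.mk'_apply, QuotientGroup.eq_one_iff, ← pow_two]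
    exact hsq y
  rw [← QuotientGroup.eq_one_iff, ← QuotientGroup.mk'_apply, map_commutatorElement,
    commutatorElement_eq_one_iff_mul_comm]
  generalize QuotientGroup.mk' B a = x
  generalize QuotientGroup.mk' B b = y
  calc x * y = (y * y) * (x * y) * (x * x) := by rw [h2, h2, one_mul, mul_one]
    _ = y * ((y * x) * (y * x)) * x := by simp only [mul_assoc]
    _ = y * x := by rw [h2, mul_one]

/-- A subgroup of index 2 over `B` avoiding a given element, when the quotient by `B` has exponent 2. -/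
theorem exists_index_two {B : Subgroup A} [B.Normal] (hsq : ∀ a : A, a ^ 2 ∈ B) {ε : A} (hε : ε ∉ B) :
    ∃ H : Subgroup A, B ≤ H ∧ ε ∉ H ∧ H.index = 2 := by
  classical
  obtain ⟨H, ⟨hBH, hεH⟩, hmax⟩ : ∃ H : Subgroup A, (B ≤ H ∧ ε ∉ H) ∧
      ∀ K : Subgroup A, B ≤ K → ε ∉ K → H ≤ K → K = H := by
    obtain ⟨H, hH, hmax⟩ := Set.Finite.exists_maximal (Set.toFinite {H : Subgroup A | B ≤ H ∧ ε ∉ H})
      ⟨B, le_rfl, hε⟩
    exact ⟨H, hH, fun K h1 h2 h3 => le_antisymm (hmax ⟨h1, h2⟩ h3) h3⟩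
  have hn : H.Normal := ⟨fun h hh g => by
    have : g * h * g⁻¹ = ⁅g, h⁆ * h := by simp [commutatorElement_def]
    rw [this]
    exact mul_mem (hBH (comm_mem_of_sq hsq g h)) hh⟩
  refine ⟨H, hBH, hεH, Subgroup.index_eq_two_iff.mpr ⟨ε, fun b => ?_⟩⟩
  by_cases hb : b ∈ H
  · exact Or.inr ⟨hb, fun h => hεH ((H.mul_mem_cancel_left hb).mp h)⟩
  · refine Or.inl ⟨?_, hb⟩
    let K : Subgroup A :=
      { carrier := {y | y ∈ H ∨ b * y ∈ H}
        one_mem' := Or.inl H.one_mem
        mul_mem' := by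
          rintro p q (hp | hp) (hq | hq)
          · exact Or.inl (mul_mem hp hq)
          · refine Or.inr ?_
            have := mul_mem (hn.conj_mem p hp b) hq
            simpa [mul_assoc] using this
          · exact Or.inr (by rw [← mul_assoc]; exact mul_mem hp hq)
          · refine Or.inl ?_
            have h := mul_mem (mul_mem (hn.conj_mem _ hp b⁻¹) (inv_mem (hBH (hsq b)))) hq
            have e : b⁻¹ * (b * p) * b⁻¹⁻¹ * (b ^ 2)⁻¹ * (b * q) = p * q := by group
            rwa [e] at h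
        inv_mem' := by
          rintro p (hp | hp)
          · exact Or.inl (inv_mem hp)
          · refine Or.inr ?_
            have h := mul_mem (hn.conj_mem _ (inv_mem hp) b) (hBH (hsq b))
            have e : b * (b * p)⁻¹ * b⁻¹ * b ^ 2 = b * p⁻¹ := by group
            rwa [e] at h }
    have hbK : b ∈ K := Or.inr (by rw [← pow_two]; exact hBH (hsq b))
    by_cases hεK : ε ∈ K
    · rcases hεK with h | h
      · exact absurd h hεH
      · exact h
    · exact absurd (hmax K (fun y hy => Or.inl (hBH hy)) hεK (fun y hy => Or.inl hy) ▸ hbK) hb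

/-- A group of order `2⁹` with a central subgroup `E` of order 2 containing all squares, inside all subgroups of
index at most 16, has centre of order less than 32. -/
theorem no_big_centre {Q : Type*} [Group Q] [Finite Q] (E : Subgroup Q) (hQ : Nat.card Q = 2 ^ 9)
    (hE : Nat.card E = 2) (hEc : E ≤ Subgroup.center Q) (hsq : ∀ x : Q, x ^ 2 ∈ E)
    (h16 : ∀ U : Subgroup Q, U.index ≤ 16 → E ≤ U) (hC : 2 ^ 5 ≤ Nat.card (Subgroup.center Q)) : False := by
  classical
  have hEn : E.Normal := ⟨fun e he g => by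
    rw [Subgroup.mem_center_iff.mp (hEc he) g, mul_assoc, mul_inv_cancel, mul_one]; exact he⟩
  have htwo : ∀ H K : Subgroup Q, H ≤ K → H ≠ K → 2 * Nat.card H ≤ Nat.card K := fun H K h1 h2 => by
    obtain ⟨c, hc⟩ := Subgroup.card_dvd_of_le h1
    have hpos : 0 < Nat.card H := Nat.card_pos
    rcases Nat.lt_or_ge c 2 with hc2 | hc2
    · interval_cases c
      · have : 0 < Nat.card K := Nat.card_pos
        omega
      · exact absurd (Subgroup.eq_of_le_of_card_ge h1 (by omega)) h2
    · nlinarith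
  obtain ⟨A, hA, hAc⟩ : ∃ A : Subgroup Q, (∀ a ∈ A, ∀ b ∈ A, a * b = b * a) ∧ 2 ^ 7 ≤ Nat.card A := by
    let C := Subgroup.center Q
    by_cases hCtop : C = ⊤
    · exact ⟨C, fun a ha b _ => (Subgroup.mem_center_iff.mp ha b).symm, by
        rw [hCtop, Subgroup.card_top, hQ]; norm_num⟩
    obtain ⟨x, -, hx⟩ := SetLike.exists_of_lt (lt_top_iff_ne_top.mpr hCtop)
    let D := Subgroup.centralizer ({x} : Set Q)
    have hcomm : ∀ S : Set Q, (∀ a ∈ S, ∀ b ∈ S, a * b = b * a) →
        ∀ a ∈ Subgroup.closure S, ∀ b ∈ Subgroup.closure S, a * b = b * a := fun S hS a ha b hb => by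
      have h1 : Subgroup.closure S ≤ Subgroup.centralizer S :=
        (Subgroup.closure_le _).mpr fun y hy => Subgroup.mem_centralizer_iff.mpr fun z hz => hS z hz y hy
      have h2 : Subgroup.closure S ≤ Subgroup.centralizer (Subgroup.closure S : Set Q) := by
        rw [Subgroup.centralizer_closure]; exact h1
      exact (Subgroup.mem_centralizer_iff.mp (h2 hb)) a ha
    let A1 := Subgroup.closure ((C : Set Q) ∪ {x})
    have hA1 : ∀ a ∈ A1, ∀ b ∈ A1, a * b = b * a := hcomm _ (by
      rintro a (ha | rfl) b (hb | rfl)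
      · exact (Subgroup.mem_center_iff.mp ha b).symm
      · exact (Subgroup.mem_center_iff.mp ha _).symm
      · exact Subgroup.mem_center_iff.mp hb _
      · rfl)
    have hxA1 : x ∈ A1 := Subgroup.subset_closure (Or.inr rfl)
    have hA1c : 2 ^ 6 ≤ Nat.card A1 := by
      have := htwo C A1 (fun y hy => Subgroup.subset_closure (Or.inl hy)) (fun h => hx (h ▸ hxA1))
      have hC' : 2 ^ 5 ≤ Nat.card C := hC
      omega
    by_cases h7 : 2 ^ 7 ≤ Nat.card A1
    · exact ⟨A1, hA1, h7⟩
    have hD : 2 ^ 8 ≤ Nat.card D := by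
      let f : Q → E := fun y => ⟨⁅y, x⁆, comm_mem_of_sq hsq y x⟩
      let g : Q →* E := MonoidHom.mk' f fun y z => Subtype.ext (by
        show ⁅y * z, x⁆ = ⁅y, x⁆ * ⁅z, x⁆
        have hc := Subgroup.mem_center_iff.mp (hEc (comm_mem_of_sq hsq z x))
        have e : ⁅y * z, x⁆ = y * ⁅z, x⁆ * y⁻¹ * ⁅y, x⁆ := by simp only [commutatorElement_def]; group
        rw [e, hc y, mul_assoc ⁅z, x⁆ y, mul_inv_cancel, mul_one]
        exact (hc _).symm)
      have hker : g.ker = D := by
        ext y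
        rw [MonoidHom.mem_ker, Subgroup.mem_centralizer_singleton_iff]
        exact Subtype.ext_iff.trans commutatorElement_eq_one_iff_mul_comm
      have h1 := g.ker.card_mul_index
      have h2 : g.ker.index ≤ 2 := by
        rw [Subgroup.index_ker]
        exact hE ▸ Nat.card_le_card_of_injective _ (Subgroup.subtype_injective _)
      rw [hker, hQ] at h1
      rw [hker] at h2
      nlinarith
    have hA1D : A1 ≤ D := fun y hy => Subgroup.mem_centralizer_singleton_iff.mpr (hA1 y hy x hxA1)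
    have hne : A1 ≠ D := fun h => h7 (by
      rw [h]
      exact le_trans (by norm_num) hD)
    obtain ⟨y, hyD, hy⟩ := SetLike.exists_of_lt (lt_of_le_of_ne hA1D hne)
    refine ⟨Subgroup.closure ((C : Set Q) ∪ {x, y}), hcomm _ ?_, ?_⟩
    · have hxy : y * x = x * y := Subgroup.mem_centralizer_singleton_iff.mp hyD
      rintro a (ha | ha) b (hb | hb)
      · exact (Subgroup.mem_center_iff.mp ha b).symm
      · exact (Subgroup.mem_center_iff.mp ha _).symm
      · exact Subgroup.mem_center_iff.mp hb _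
      · rcases ha with rfl | rfl <;> rcases hb with rfl | rfl
        · rfl
        · exact hxy.symm
        · exact hxy
        · rfl
    · have h1 : A1 ≤ Subgroup.closure ((C : Set Q) ∪ {x, y}) := Subgroup.closure_mono (by
        rintro a (ha | rfl)
        · exact Or.inl ha
        · exact Or.inr (Or.inl rfl))
      have := htwo A1 _ h1 (fun h => hy (h ▸ Subgroup.subset_closure (Or.inr (Or.inr rfl))))
      omega
  -- the elements of exponent 2 of `A`
  have hAcomm : IsMulCommutative A := ⟨⟨fun a b => Subtype.ext (hA a a.2 b b.2)⟩⟩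
  let sq : A →* E := MonoidHom.mk' (fun a => ⟨(a : Q) ^ 2, hsq _⟩) fun a b => Subtype.ext (by
    show ((a : Q) * b) ^ 2 = (a : Q) ^ 2 * (b : Q) ^ 2
    exact Commute.mul_pow (hA a a.2 b b.2) 2)
  let Ω : Subgroup Q := sq.ker.map A.subtype
  have hΩ : 2 ^ 6 ≤ Nat.card Ω := by
    rw [Subgroup.card_map_of_injective A.subtype_injective]
    have h1 := sq.ker.card_mul_index
    have h2 : sq.ker.index ≤ 2 := by
      rw [Subgroup.index_ker]
      exact hE ▸ Nat.card_le_card_of_injective _ (Subgroup.subtype_injective _)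
    nlinarith
  have hΩ2 : ∀ a : Ω, a ^ 2 = 1 := by
    rintro ⟨_, a, ha, rfl⟩
    exact Subtype.ext (congrArg Subtype.val ha :)
  obtain ⟨ε, hεE, hε1⟩ := (Subgroup.ne_bot_iff_exists_ne_one (H := E)).mp (fun h => by
    rw [h, Subgroup.card_bot] at hE; omega) |> fun ⟨e, he⟩ => (⟨e.1, e.2, fun h => he (Subtype.ext h)⟩ :
      ∃ e : Q, e ∈ E ∧ e ≠ 1)
  have hindex : ∀ H : Subgroup Q, 2 ^ 5 ≤ Nat.card H → H.index ≤ 16 := fun H hH => by
    have := H.card_mul_index
    rw [hQ] at this
    nlinarith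
  by_cases hεΩ : ε ∈ Ω
  · obtain ⟨H, -, hH, hH2⟩ := exists_index_two (B := (⊥ : Subgroup Ω))
      (fun a => Subgroup.mem_bot.mpr (hΩ2 a)) (ε := ⟨ε, hεΩ⟩) (fun h => hε1 (congrArg Subtype.val h :))
    have hHc : 2 ^ 5 ≤ Nat.card (H.map Ω.subtype) := by
      rw [Subgroup.card_map_of_injective Ω.subtype_injective]
      have := H.card_mul_index
      rw [hH2] at this
      omega
    obtain ⟨a, ha, hae⟩ := h16 _ (hindex _ hHc) hεE
    exact hH ((Subtype.ext hae : a = ⟨ε, hεΩ⟩) ▸ ha)
  · exact hεΩ (h16 _ (hindex _ (le_trans (by norm_num) hΩ)) hεE)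

/-- An automorphism of odd order of a 2-group that is trivial modulo the Frattini subgroup is trivial. -/
theorem mulAut_eq_one {T : Type*} [Group T] [Finite T] (hT : IsPGroup 2 T) (φ : MulAut T)
    (ho : Odd (orderOf φ)) (h : ∀ t : T, t⁻¹ * φ t ∈ frattini T) : φ = 1 := by
  classical
  have : Fact (Nat.Prime 2) := ⟨Nat.prime_two⟩
  by_contra hne
  obtain ⟨q, hq, hdvd⟩ := Nat.exists_prime_and_dvd (mt orderOf_eq_one_iff.mp hne)
  have : Fact q.Prime := ⟨hq⟩
  have hq2 : ¬ 2 ∣ q := fun h2 => by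
    exact Nat.not_even_iff_odd.mpr ho (even_iff_two_dvd.mpr (h2.trans hdvd))
  obtain ⟨k, hk⟩ := hdvd
  set χ := φ ^ k with hχ
  have hχq : χ ^ q = 1 := by rw [hχ, ← pow_mul, mul_comm, ← hk, pow_orderOf_eq_one]
  have hpow : ∀ (n : ℕ) (t : T), t⁻¹ * (φ ^ n) t ∈ frattini T := by
    intro n
    induction n with
    | zero => intro t; simp
    | succ n ih =>
      intro t
      have h' := mul_mem (ih t) (h ((φ ^ n) t))
      rw [mul_assoc, mul_inv_cancel_left] at h'
      rwa [pow_succ', MulAut.mul_apply]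
  have hfix : ∀ t : T, ∃ s : T, χ s = s ∧ (s : T ⧸ frattini T) = t := by
    intro t
    let S := {s : T // (s : T ⧸ frattini T) = t}
    have : Fintype S := Fintype.ofFinite S
    let f : Function.End S := fun s => ⟨χ s.1,
      (QuotientGroup.eq.mpr (hpow k s.1)).symm.trans s.2⟩
    have hf : ∀ (m : ℕ) (s : S), ((f ^ m) s).1 = (χ ^ m) s.1 := by
      intro m s
      induction m with
      | zero => rfl
      | succ m ih =>
        rw [pow_succ', pow_succ']
        show χ (((f ^ m) s).1) = χ ((χ ^ m) s.1)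
        rw [ih]
    have hmod := Equiv.Perm.card_fixedPoints_modEq (p := q) (n := 1) (f := f)
      (funext fun s => Subtype.ext (by rw [pow_one, hf, hχq]; rfl))
    have hS : Fintype.card S = Nat.card (frattini T) := by
      rw [← Nat.card_eq_fintype_card]
      exact Nat.card_congr ((Equiv.setCongr (by
        ext s
        show (s : T ⧸ frattini T) = t ↔ _
        rw [mem_leftCoset_iff, SetLike.mem_coe, eq_comm, QuotientGroup.eq])).trans (Subgroup.leftCosetEquivSubgroup t))
    obtain ⟨j, hj⟩ := IsPGroup.iff_card.mp (hT.to_subgroup (frattini T))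
    obtain ⟨⟨s, hs⟩⟩ : Nonempty f.fixedPoints := by
      rw [← Fintype.card_pos_iff]
      refine Nat.pos_of_ne_zero fun h0 => hq2 ?_
      have hd : q ∣ Fintype.card S := Nat.modEq_zero_iff_dvd.mp (h0 ▸ hmod)
      rw [hS, hj] at hd
      exact ((Nat.prime_dvd_prime_iff_eq hq Nat.prime_two).mp (hq.dvd_of_dvd_pow hd)) ▸ dvd_rfl
    exact ⟨s.1, congrArg Subtype.val hs, s.2⟩
  have htop : χ.toMonoidHom.eqLocus (MonoidHom.id T) ⊔ frattini T = ⊤ := by
    rw [eq_top_iff]
    intro t _
    obtain ⟨s, hs, hst⟩ := hfix t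
    rw [show t = s * (s⁻¹ * t) by group]
    exact mul_mem (Subgroup.mem_sup_left hs) (Subgroup.mem_sup_right (QuotientGroup.eq.mp hst))
  have h1 : χ = 1 := MulEquiv.ext fun t => by
    have := frattini_nongenerating htop
    exact (this ▸ Subgroup.mem_top t : t ∈ χ.toMonoidHom.eqLocus (MonoidHom.id T))
  have hdk := orderOf_dvd_of_pow_eq_one h1
  rw [hk] at hdk
  have hk0 : 0 < k := Nat.pos_of_ne_zero fun h0 => by
    rw [h0, mul_zero] at hk
    exact (orderOf_pos φ).ne' hk
  have := Nat.le_of_dvd hk0 hdk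
  nlinarith [hq.two_le]

end CfsgLib.Involution.ClassFour
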