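import Cfsg.Agent.Lib.Involution.ClassFour

/-!
# The action on the third centre and the centre of its centraliser
-/

set_option autoImplicit false

open scoped commutatorElement

namespace CfsgLib.Involution.ClassFour

open Subgroup

/-- A function on the dihedral group of order 8 with vanishing sum, invariant under inversion and vanishing on a
four-group minus 1, is invariant under the central involution. -/
theorem dihedral_fn : ∀ k1 k2 : DihedralGroup 4, k1 ≠ 1 → k2 ≠ 1 → k1 ≠ k2 → k1 * k1 = 1 → k2 * k2 = 1 →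
    k1 * k2 = k2 * k1 → ∀ g : DihedralGroup 4, ∀ b : DihedralGroup 4 → ZMod 2, b 1 = 0 → ∑ x, b x = 0 →
    (∀ x, b x⁻¹ = b x) → b k1 = 0 → b k2 = 0 → b (k1 * k2) = 0 → b (DihedralGroup.r 2 * g) = b g := by
  decide +kernel

theorem dihedral_centre : DihedralGroup.r 2 ≠ (1 : DihedralGroup 4) ∧
    ∀ g : DihedralGroup 4, DihedralGroup.r 2 * g = g * DihedralGroup.r 2 := by
  decide +kernel

variable {T : Type*} [Group T] [Finite T] {W : Subgroup T}

namespace Setting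

variable (S : Setting T W)

include S

theorem exists_t [W.Normal] {u v a b : T} (hu : u ∈ Zu T 3) (hu' : u ∉ Zu T 2) (hv : v ∈ Zu T 2)
    (hv' : v ∉ Zu T 1) (ha : a ∈ Zu T 2) (hb : b ∈ Zu T 1) : ∃ t : T, ⁅t, u⁆ = a ∧ ⁅t, v⁆ = b := by
  let f : T ⧸ W → Zu T 2 × Zu T 1 := fun q =>
    (⟨⁅q.out, u⁆, comm_mem' hu _⟩, ⟨⁅q.out, v⁆, comm_mem' hv _⟩)
  have hinj : Function.Injective f := fun p q h => by
    rw [← QuotientGroup.out_eq' p, ← QuotientGroup.out_eq' q]
    exact (S.mk_eq hu hu' hv hv').mpr ⟨congrArg (fun x => x.1.1) h, congrArg (fun x => x.2.1) h⟩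
  have hc : Nat.card (Zu T 2 × Zu T 1) ≤ Nat.card (T ⧸ W) := by
    rw [Nat.card_prod, S.card_Zu.1, S.card_Zu.2.1]
    exact S.index_eq.ge
  obtain ⟨q, hq⟩ := (hinj.bijective_of_nat_card_le hc).2 (⟨a, ha⟩, ⟨b, hb⟩)
  exact ⟨q.out, congrArg (fun x => x.1.1) hq, congrArg (fun x => x.2.1) hq⟩

/-- Elements fixing `Z₂` have images of order at most 2. -/
theorem sq_mk [W.Normal] {u v k : T} (hu : u ∈ Zu T 3) (hu' : u ∉ Zu T 2) (hv : v ∈ Zu T 2) (hv' : v ∉ Zu T 1)
    (hk : ⁅k, v⁆ = 1) : (k : T ⧸ W) * (k : T ⧸ W) = 1 := by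
  have hfix := S.fix_Zu2 hv hv' (commutatorElement_eq_one_iff_mul_comm.mp hk).symm
  rw [← QuotientGroup.mk_mul, QuotientGroup.eq_one_iff]
  have ha := comm_mem' hu k
  refine S.mem_of_fix hu hu' ?_ fun z hz => by rw [← mul_assoc, hfix z hz, mul_assoc, hfix z hz, mul_assoc]
  refine (commutatorElement_eq_one_iff_mul_comm.mp (?_ : ⁅k * k, u⁆ = 1)).symm
  have e : ⁅k * k, u⁆ = k * ⁅k, u⁆ * k⁻¹ * ⁅k, u⁆ := by simp only [commutatorElement_def]; group
  rw [e, ← hfix _ ha, mul_assoc ⁅k, u⁆, mul_inv_cancel, mul_one, ← pow_two]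
  exact S.Zu3_sq _ (mono (by norm_num) ha)

theorem exists_frame [W.Normal] : ∃ (e : T ⧸ W ≃* DihedralGroup 4) (k1 k2 v : T),
    v ∈ Zu T 2 ∧ v ∉ Zu T 1 ∧ ⁅k1, v⁆ = 1 ∧ ⁅k2, v⁆ = 1 ∧ ⁅k1 * k2, v⁆ = 1 ∧ k1 ∉ W ∧ k2 ∉ W ∧
    k1 * k2 ∉ W ∧ (k1 : T ⧸ W) ≠ (k2 : T ⧸ W) ∧ e (k1 : T ⧸ W) * e (k2 : T ⧸ W) = e (k2 : T ⧸ W) * e (k1 : T ⧸ W) := by
  classical
  obtain ⟨u, v, hu, hu', hv, hv'⟩ := S.exists_uv
  have hsqv : v * v = 1 := by rw [← pow_two]; exact S.Zu3_sq v (mono (by norm_num) hv)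
  obtain ⟨⟨z, hz⟩, hz1'⟩ := (Subgroup.ne_bot_iff_exists_ne_one (H := Zu T 1)).mp (fun h => by
    have h1 := S.card_Zu.1
    rw [h, Subgroup.card_bot] at h1
    omega)
  have hz1 : z ≠ 1 := fun h => hz1' (Subtype.ext h)
  have hzc : ∀ t : T, t * z = z * t := fun t => by
    rw [Zu, Subgroup.upperCentralSeries_one] at hz
    exact Subgroup.mem_center_iff.mp hz t
  have hzz : z * z = 1 := by rw [← pow_two]; exact S.Zu3_sq z (mono (by norm_num) hz)
  have hv1 : v ≠ 1 := fun h => hv' (h ▸ one_mem _)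
  have hvz : v ≠ z := fun h => hv' (h ▸ hz)
  obtain ⟨k1, h1u, h1v⟩ := S.exists_t hu hu' hv hv' (mono (by norm_num) hz) (one_mem _)
  obtain ⟨k2, h2u, h2v⟩ := S.exists_t hu hu' hv hv' hv (one_mem _)
  obtain ⟨s, hsu, hsv⟩ := S.exists_t hu hu' hv hv' (one_mem _) hz
  have hmul : ∀ a b y : T, ⁅a * b, y⁆ = a * ⁅b, y⁆ * a⁻¹ * ⁅a, y⁆ := fun a b y => by
    simp only [commutatorElement_def]; group
  have hconjz : ∀ a : T, a * z * a⁻¹ = z := fun a => by rw [hzc, mul_assoc, mul_inv_cancel, mul_one]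
  have hconjv : ∀ a : T, a * v * a⁻¹ = ⁅a, v⁆ * v := fun a => by simp only [commutatorElement_def]; group
  have one_u : ⁅(1 : T), u⁆ = 1 := commutatorElement_one_left u
  have one_v : ⁅(1 : T), v⁆ = 1 := commutatorElement_one_left v
  have hne1 : ∀ a : T, ⁅a, u⁆ ≠ 1 → a ∉ W := fun a ha haW =>
    ha (commutatorElement_eq_one_iff_mul_comm.mpr (S.central hu haW).symm)
  let ρ := k2 * s
  have hρu : ⁅ρ, u⁆ = v := by rw [hmul, hsu, h2u]; group
  have hρv : ⁅ρ, v⁆ = z := by rw [hmul, hsv, h2v, hconjz, mul_one]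
  have hρ2u : ⁅ρ * ρ, u⁆ = z := by
    rw [hmul, hρu, hconjv, hρv, mul_assoc, hsqv, mul_one]
  have hρ2v : ⁅ρ * ρ, v⁆ = 1 := by rw [hmul, hρv, hconjz, hzz]
  have hs2 : (s : T ⧸ W) * s = 1 := by
    rw [← QuotientGroup.mk_mul, ← QuotientGroup.mk_one, S.mk_eq hu hu' hv hv', one_u, one_v, hmul, hmul, hsu,
      hsv, hconjz, hzz]
    exact ⟨by group, rfl⟩
  have hsρ : ((s * ρ : T) : T ⧸ W) * ((s * ρ : T) : T ⧸ W) = 1 := S.sq_mk hu hu' hv hv' (by
    rw [hmul, hρv, hsv, hconjz, hzz])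
  have hρ4 : ((ρ : T) : T ⧸ W) ^ 4 = 1 := by
    rw [show (4 : ℕ) = 2 * 2 by norm_num, pow_mul, pow_two, pow_two, ← QuotientGroup.mk_mul]
    exact S.sq_mk hu hu' hv hv' hρ2v
  have hρ2 : ¬ ((ρ : T) : T ⧸ W) ^ 2 = 1 := fun h => by
    rw [pow_two, ← QuotientGroup.mk_mul, QuotientGroup.eq_one_iff] at h
    exact hne1 _ (hρ2u ▸ hz1) h
  have : Fact (Nat.Prime 2) := ⟨Nat.prime_two⟩
  have hord : orderOf ((ρ : T) : T ⧸ W) = 4 :=
    orderOf_eq_prime_pow (p := 2) (n := 1) (by simpa using hρ2) (by simpa using hρ4)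
  have hnot : (s : T ⧸ W) ∉ Subgroup.zpowers ((ρ : T) : T ⧸ W) := fun h => by
    have h' : (s : T ⧸ W) ∈ (Finset.range (orderOf ((ρ : T) : T ⧸ W))).image (((ρ : T) : T ⧸ W) ^ ·) :=
      (IsOfFinOrder.mem_zpowers_iff_mem_range_orderOf (isOfFinOrder_of_finite _)).mp h
    rw [hord, Finset.mem_image] at h'
    obtain ⟨n, hn, hn'⟩ := h'
    have hn4 := Finset.mem_range.mp hn
    interval_cases n
    · rw [pow_zero, ← QuotientGroup.mk_one, S.mk_eq hu hu' hv hv', one_v, hsv] at hn'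
      exact hz1 hn'.2.symm
    · rw [pow_one, S.mk_eq hu hu' hv hv', hρu, hsu] at hn'
      exact hv1 hn'.1
    · rw [pow_two, ← QuotientGroup.mk_mul, S.mk_eq hu hu' hv hv', hρ2v, hsv] at hn'
      exact hz1 hn'.2.symm
    · have h4 : ((ρ : T) : T ⧸ W) * s = 1 := by
        rw [← hn', ← pow_succ']; exact hρ4
      have h5 : ((ρ : T) : T ⧸ W) = s := by
        rw [← mul_one ((ρ : T) : T ⧸ W), ← hs2, ← mul_assoc, h4, one_mul]
      rw [S.mk_eq hu hu' hv hv', hρu, hsu] at h5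
      exact hv1 h5.1
  have hconj : (s : T ⧸ W) * ρ * (s : T ⧸ W)⁻¹ = ((ρ : T) : T ⧸ W)⁻¹ := by
    rw [QuotientGroup.mk_mul] at hsρ
    rw [inv_eq_of_mul_eq_one_right hs2, eq_inv_iff_mul_eq_one, mul_assoc]
    exact hsρ
  obtain ⟨e⟩ := CfsgLib.TwoGroups.CyclicMax.dihedral_iso (G := T ⧸ W) hord S.index_eq hnot hs2 hconj
  have h12u : ⁅k1 * k2, u⁆ = v * z := by rw [hmul, h2u, h1u, hconjv, h1v, one_mul]
  have h12v : ⁅k1 * k2, v⁆ = 1 := by rw [hmul, h2v, h1v]; group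
  refine ⟨e, k1, k2, v, hv, hv', h1v, h2v, h12v, hne1 _ (h1u ▸ hz1), hne1 _ (h2u ▸ hv1),
    hne1 _ (h12u ▸ fun h => hvz (by rw [← mul_one v, ← hzz, ← mul_assoc, h, one_mul])), fun h => ?_, ?_⟩
  · rw [S.mk_eq hu hu' hv hv', h1u, h2u] at h
    exact hvz h.1.symm
  · rw [← map_mul, ← map_mul]
    congr 1
    have a1 := S.sq_mk hu hu' hv hv' h1v
    have a2 := S.sq_mk hu hu' hv hv' h2v
    have a3 := S.sq_mk hu hu' hv hv' h12v
    rw [QuotientGroup.mk_mul] at a3
    rw [← inv_eq_of_mul_eq_one_right a3, _root_.mul_inv_rev, inv_eq_of_mul_eq_one_right a1,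
      inv_eq_of_mul_eq_one_right a2]

/-- The subgroup of `W` generated over `Z₃` by the conjugates of a generator is everything. -/
theorem eq_top_of_conj [W.Normal] {ψ : W → T ⧸ W → ZMod 2} (hadd : ∀ a b, ψ (a * b) = ψ a + ψ b)
    (hker : ∀ w, ψ w = 0 ↔ (w : T) ∈ Zu T 3) [DecidableEq (T ⧸ W)] {X : T ⧸ W → W}
    (hX : ∀ g, ψ (X g) = Pi.single g 1) (H : Subgroup W) (h3 : ∀ w : W, (w : T) ∈ Zu T 3 → w ∈ H)
    (hXH : ∀ g, X g ∈ H) : H = ⊤ := by
  classical
  rw [eq_top_iff]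
  intro w _
  have : Fintype (T ⧸ W) := Fintype.ofFinite _
  have key : ∀ s : Finset (T ⧸ W), ∀ f : T ⧸ W → ZMod 2, ∃ y ∈ H, ψ y = ∑ g ∈ s, Pi.single g (f g) := by
    intro s f
    induction s using Finset.induction with
    | empty => exact ⟨1, one_mem _, by rw [Finset.sum_empty, hker]; exact one_mem _⟩
    | insert g s hgs ih =>
      obtain ⟨y, hy, hy'⟩ := ih
      rw [Finset.sum_insert hgs]
      rcases (show ∀ a : ZMod 2, a = 0 ∨ a = 1 by decide) (f g) with h | h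
      · exact ⟨y, hy, by rw [h, Pi.single_zero, zero_add, hy']⟩
      · exact ⟨X g * y, mul_mem (hXH g) hy, by rw [hadd, hX, h, hy']⟩
  obtain ⟨y, hy, hy'⟩ := key Finset.univ (ψ w)
  rw [Finset.univ_sum_single] at hy'
  have hyw : ((w * y⁻¹ : W) : T) ∈ Zu T 3 := (hker _).mp (by
    have h1 : ψ (w * y⁻¹) + ψ y = ψ w := by rw [← hadd, inv_mul_cancel_right]
    rw [hy'] at h1
    exact add_eq_right.mp h1)
  have := mul_mem (h3 _ hyw) hy
  rwa [inv_mul_cancel_right] at this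

theorem exists_gen [W.Normal] [DecidableEq (T ⧸ W)] : ∃ (ψ : W → T ⧸ W → ZMod 2) (x : W),
    (∀ a b, ψ (a * b) = ψ a + ψ b) ∧ (∀ w, ψ w = 0 ↔ (w : T) ∈ Zu T 3) ∧
    (∀ (t : T) (w : W) (q : T ⧸ W), ψ (S.cj t w) q = ψ w ((t : T ⧸ W)⁻¹ * q)) ∧
    Function.Surjective ψ ∧ ∀ t : T, ψ (S.cj t x) = Pi.single (t : T ⧸ W) 1 := by
  obtain ⟨ψ, hadd, hker, heq, hc⟩ := S.exists_psi 3 le_rfl S.sq_mem
  have hsurj : Function.Surjective ψ := by
    rw [S.card_W] at hc
    have h1 : Nat.card (T ⧸ W → ZMod 2) = 2 ^ 8 := by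
      rw [Nat.card_fun, Nat.card_zmod, show Nat.card (T ⧸ W) = 8 from S.index_eq]
    exact Set.range_eq_univ.mp (Set.eq_of_subset_of_ncard_le (Set.subset_univ _) (by
      rw [Set.ncard_univ, h1, ← Nat.card_coe_set_eq]; omega))
  obtain ⟨x, hx⟩ := hsurj (Pi.single 1 1)
  refine ⟨ψ, x, hadd, hker, heq, hsurj, fun t => funext fun q => ?_⟩
  rw [heq, hx, Pi.single_apply, Pi.single_apply]
  exact if_congr inv_mul_eq_one (by rfl) (by rfl) |>.trans (by simp only [eq_comm])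

/-- `Z₄` is not central in `W`. -/
theorem not_central (hc : ∀ z ∈ Zu T 4, ∀ w ∈ W, z * w = w * z) : False := by
  classical
  have := S.normal
  have : Fintype (T ⧸ W) := Fintype.ofFinite _
  obtain ⟨e, k1, k2, v, hv, hv', hk1, hk2, hk12, hn1, hn2, hn12, hne, hcomm⟩ := S.exists_frame
  obtain ⟨ψ, x, hadd, hker, heq, hsurj, hx⟩ := S.exists_gen
  let X : T ⧸ W → W := fun g => S.cj g.out x
  have hX : ∀ g, ψ (X g) = Pi.single g 1 := fun g => by rw [hx, QuotientGroup.out_eq']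
  let β : W → W → ZMod 2 := fun a b => if ⁅(a : T), (b : T)⁆ ∈ Zu T 2 then 0 else 1
  have h2ind : ((Zu T 2).subgroupOf (Zu T 3)).index = 2 := by
    have h := ((Zu T 2).subgroupOf (Zu T 3)).card_mul_index
    rw [Nat.card_congr (Subgroup.subgroupOfEquivOfLe (mono (by norm_num))).toEquiv, S.card_Zu.2.1,
      S.card_Zu.2.2] at h
    omega
  have β_add : ∀ a a' b, β (a * a') b = β a b + β a' b := fun a a' b => by
    have h1 := S.comm_mem_three a.2 b.2
    have h2 := S.comm_mem_three a'.2 b.2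
    have e' : ⁅((a * a' : W) : T), (b : T)⁆ = ⁅(a' : T), (b : T)⁆ * ⁅(a : T), (b : T)⁆ := by
      have e1 : ⁅(a : T) * a', (b : T)⁆ = a * ⁅(a' : T), (b : T)⁆ * (a : T)⁻¹ * ⁅(a : T), (b : T)⁆ := by
        simp only [commutatorElement_def]; group
      rw [Subgroup.coe_mul, e1, ← S.central h2 a.2, mul_assoc _ (a : T), mul_inv_cancel, mul_one]
    have h3 : ⁅(a' : T), (b : T)⁆ * ⁅(a : T), (b : T)⁆ ∈ Zu T 2 ↔
        (⁅(a' : T), (b : T)⁆ ∈ Zu T 2 ↔ ⁅(a : T), (b : T)⁆ ∈ Zu T 2) :=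
      Subgroup.mul_mem_iff_of_index_two h2ind (a := ⟨_, h2⟩) (b := ⟨_, h1⟩)
    show (if ⁅((a * a' : W) : T), (b : T)⁆ ∈ Zu T 2 then (0 : ZMod 2) else 1) = _
    rw [e']
    by_cases c1 : ⁅(a : T), (b : T)⁆ ∈ Zu T 2 <;> by_cases c2 : ⁅(a' : T), (b : T)⁆ ∈ Zu T 2 <;>
      simp [β, h3, c1, c2] <;> decide
  have β_comm : ∀ a b, β a b = β b a := fun a b => by
    show ite _ _ _ = ite _ _ _
    simp only [← commutatorElement_inv (a : T) (b : T), inv_mem_iff]
  have β_zero : ∀ a b : W, (a : T) * b = b * a → β a b = 0 := fun a b h =>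
    if_pos (by rw [commutatorElement_eq_one_iff_mul_comm.mpr h]; exact one_mem _)
  have β_cj : ∀ t a b, β (S.cj t a) (S.cj t b) = β a b := fun t a b => by
    have e' : ⁅t * (a : T) * t⁻¹, t * (b : T) * t⁻¹⁆ = t * ⁅(a : T), (b : T)⁆ * t⁻¹ := by
      simp only [commutatorElement_def]; group
    show ite (⁅t * (a : T) * t⁻¹, t * (b : T) * t⁻¹⁆ ∈ Zu T 2) _ _ = ite _ _ _
    rw [e']
    refine if_congr ⟨fun h => ?_, fun h => Subgroup.Normal.conj_mem inferInstance _ h t⟩ rfl rfl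
    simpa [mul_assoc] using Subgroup.Normal.conj_mem inferInstance _ h t⁻¹
  have inv_eq : ∀ a : W, ψ a⁻¹ = ψ a := fun a => by
    have h := hadd a⁻¹ a
    rw [inv_mul_cancel, (hker 1).mpr (one_mem _)] at h
    funext q
    have := congrFun h q
    exact (show ∀ y z : ZMod 2, 0 = y + z → y = z by decide) _ _ this
  have β_congr : ∀ a a' b, ψ a = ψ a' → β a b = β a' b := fun a a' b h => by
    have hm : ((a'⁻¹ * a : W) : T) ∈ Zu T 3 := (hker _).mp (by
      rw [hadd, inv_eq, h]; funext q; exact CharTwo.add_self_eq_zero _)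
    conv_lhs => rw [← mul_inv_cancel_left a' a]
    rw [β_add, β_zero (a'⁻¹ * a) b (S.central hm b.2), add_zero]
  let b : T ⧸ W → ZMod 2 := fun g => β x (X g)
  have hx1 : ψ x = Pi.single 1 1 :=
    (congrArg ψ (Subtype.ext (by simp [Setting.cj]) : S.cj 1 x = x)).symm.trans (hx 1)
  have hXX : ∀ h g, β (X h) (X g) = b (h⁻¹ * g) := fun h g => by
    rw [← β_cj h.out⁻¹, β_congr _ x _ (by
      rw [S.cj_cj, inv_mul_cancel, hx, hx1, QuotientGroup.mk_one]), β_comm]
    show _ = β x (X (h⁻¹ * g))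
    rw [β_comm x]
    refine β_congr _ _ _ ?_
    rw [S.cj_cj, hx, hX, QuotientGroup.mk_mul, QuotientGroup.mk_inv, QuotientGroup.out_eq', QuotientGroup.out_eq']
  have hsym : ∀ g, b g⁻¹ = b g := fun g => by
    have h1 := hXX g 1
    rw [mul_one, β_comm, hXX, inv_one, one_mul] at h1
    exact h1.symm
  let H : Subgroup W :=
    { carrier := {w | ∀ h, β (X h) w = ∑ g, ψ w g * b (h⁻¹ * g)}
      one_mem' := fun h => by
        rw [β_zero _ _ (by simp), (hker 1).mpr (one_mem _)]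
        simp
      mul_mem' := fun {p q} hp hq h => by
        rw [β_comm, β_add, β_comm p, β_comm q, hp h, hq h, hadd, ← Finset.sum_add_distrib]
        exact Finset.sum_congr rfl fun g _ => (add_mul _ _ _).symm
      inv_mem' := fun {p} hp h => by
        rw [β_comm, β_congr _ p _ (inv_eq p), β_comm, inv_eq]
        exact hp h }
  have hH : H = ⊤ := S.eq_top_of_conj hadd hker hX H (fun w hw h => by
      rw [β_zero (X h) w (S.central hw (X h).2).symm, (hker w).mpr hw]; simp) fun g h => by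
    rw [hXX, hX, Finset.sum_eq_single g (fun y _ hy => by rw [Pi.single_eq_of_ne hy, zero_mul])
      (fun hg => absurd (Finset.mem_univ g) hg), Pi.single_eq_same, one_mul]
  have formula : ∀ (w : W) h, β (X h) w = ∑ g, ψ w g * b (h⁻¹ * g) := fun w h =>
    (hH ▸ Subgroup.mem_top w : w ∈ H) h
  have hb1 : b 1 = 0 := by
    show β x (X 1) = 0
    rw [β_comm, β_congr _ x _ ((hX 1).trans hx1.symm)]
    exact β_zero _ _ rfl
  have hsum : ∑ g, b g = 0 := by
    obtain ⟨z, hz, hz'⟩ := SetLike.exists_of_lt (lt_of_le_of_ne (mono (T := T) (i := 3) (j := 4) (by norm_num))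
      fun h => by have h3 := S.card_Zu.2.2; rw [h, S.four] at h3; omega)
    let zw : W := ⟨z, S.Zu4_le hz⟩
    have hconst : ∀ q, ψ zw q = ψ zw 1 := fun q => by
      have h1 : ψ (S.cj q.out zw) = ψ zw := by
        funext r
        refine (show ∀ y y' : ZMod 2, y + y' = 0 → y = y' by decide) _ _ ?_
        have h2 : ψ (S.cj q.out zw * zw⁻¹) = 0 := (hker _).mpr (comm_mem' hz q.out)
        rw [hadd, inv_eq] at h2
        exact congrFun h2 r
      have h3 := congrFun h1 q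
      rw [heq, QuotientGroup.out_eq', inv_mul_cancel] at h3
      exact h3.symm
    have hone : ∀ q, ψ zw q = 1 := fun q => by
      rcases (show ∀ y : ZMod 2, y = 0 ∨ y = 1 by decide) (ψ zw 1) with h | h
      · exact absurd ((hker zw).mp (funext fun r => (hconst r).trans h)) hz'
      · exact (hconst q).trans h
    have h := formula zw 1
    rw [β_zero _ _ (hc z hz _ (X 1).2).symm] at h
    simpa [hone] using h.symm
  have hbk : ∀ k : T, ⁅k, v⁆ = 1 → k ∉ W → b (k : T ⧸ W) = 0 := fun k hk hkW => by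
    show β x (X (k : T ⧸ W)) = 0
    rw [β_comm, β_congr _ (S.cj k x) _ ((hX _).trans (hx k).symm), β_comm]
    obtain ⟨u, v', hu, hu', -, -⟩ := S.exists_uv
    refine if_pos ?_
    set y := ⁅(x : T), k * (x : T) * k⁻¹⁆ with hy
    have hy3 : y ∈ Zu T 3 := S.comm_mem_three x.2 (S.normal.conj_mem _ x.2 k)
    by_contra hy2
    have hfix := S.fix_Zu2 hv hv' (commutatorElement_eq_one_iff_mul_comm.mp hk).symm
    have hkk : k * k ∈ W := by
      obtain ⟨u₀, v₀, hu₀, hu₀', -, -⟩ := S.exists_uv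
      rw [← QuotientGroup.eq_one_iff, QuotientGroup.mk_mul]
      exact S.sq_mk hu₀ hu₀' hv hv' hk
    have hkx : k * (k * (x : T) * k⁻¹) * k⁻¹ = ⁅k * k, (x : T)⁆ * x := by
      simp only [commutatorElement_def]; group
    have hconj : k * y * k⁻¹ = y⁻¹ := by
      have e' : k * y * k⁻¹ = ⁅k * (x : T) * k⁻¹, k * (k * (x : T) * k⁻¹) * k⁻¹⁆ := by
        rw [hy]; simp only [commutatorElement_def]; group
      rw [e', hkx, hy, commutatorElement_inv]
      have hm := S.central (S.comm_mem_three hkk x.2) (S.normal.conj_mem _ x.2 k)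
      have e'' : ∀ a m c : T, m * a = a * m → ⁅a, m * c⁆ = m * ⁅a, c⁆ * m⁻¹ := fun a m c h => by
        calc ⁅a, m * c⁆ = (a * m) * c * a⁻¹ * c⁻¹ * m⁻¹ := by simp only [commutatorElement_def]; group
          _ = (m * a) * c * a⁻¹ * c⁻¹ * m⁻¹ := by rw [h]
          _ = m * ⁅a, c⁆ * m⁻¹ := by simp only [commutatorElement_def]; group
      have hW' : ⁅k * (x : T) * k⁻¹, (x : T)⁆ ∈ W := S.Zu3_le (S.comm_mem_three (S.normal.conj_mem _ x.2 k) x.2)
      rw [e'' _ _ _ hm, S.central (S.comm_mem_three hkk x.2) hW', mul_assoc, mul_inv_cancel, mul_one]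
    have hyy : y⁻¹ = y := inv_eq_of_mul_eq_one_right (by rw [← pow_two]; exact S.Zu3_sq y hy3)
    rw [hyy, mul_inv_eq_iff_eq_mul] at hconj
    exact hkW (S.mem_of_fix hy3 hy2 hconj.symm hfix)
  let c : T ⧸ W := e.symm (DihedralGroup.r 2)
  have hc1 : c ≠ 1 := fun h => dihedral_centre.1 (by
    have := congrArg e h
    simpa [c] using this)
  have hcc : ∀ g, c * g = g * c := fun g => e.injective (by
    rw [map_mul, map_mul, e.apply_symm_apply, dihedral_centre.2])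
  have hcc2 : c * c = 1 := e.injective (by
    rw [map_mul, e.apply_symm_apply, map_one]; rfl)
  have hsq : ∀ k : T, ⁅k, v⁆ = 1 → e (k : T ⧸ W) * e (k : T ⧸ W) = 1 := fun k hk => by
    obtain ⟨u₀, v₀, hu₀, hu₀', -, -⟩ := S.exists_uv
    rw [← map_mul, S.sq_mk hu₀ hu₀' hv hv' hk, map_one]
  have hne1 : ∀ k : T, k ∉ W → e (k : T ⧸ W) ≠ 1 := fun k hk h => hk (by
    rw [← QuotientGroup.eq_one_iff]; exact e.injective (h.trans (map_one e).symm))
  have hinv : ∀ g, b (c * g) = b g := fun g => by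
    have h := dihedral_fn (e k1) (e k2) (hne1 k1 hn1) (hne1 k2 hn2) (fun h => hne (e.injective h)) (hsq k1 hk1)
      (hsq k2 hk2) hcomm (e g) (b ∘ e.symm) (by simpa using hb1) ((e.symm.toEquiv.sum_comp b).trans hsum)
      (fun y => by simpa using hsym (e.symm y)) (by simpa using hbk k1 hk1 hn1) (by simpa using hbk k2 hk2 hn2)
      (by simpa [← map_mul, ← QuotientGroup.mk_mul] using hbk (k1 * k2) hk12 hn12)
    simpa [c] using h
  -- the invariant functions give a large centre modulo `Z₂`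
  let f : W →* Multiplicative (T ⧸ W → ZMod 2) :=
    MonoidHom.mk' (fun w => Multiplicative.ofAdd (ψ w)) fun p q => by rw [hadd]; rfl
  let η : W →* Multiplicative (T ⧸ W → ZMod 2) :=
    MonoidHom.mk' (fun w => Multiplicative.ofAdd fun q => ψ w q + ψ w (c * q)) fun p q => by
      show Multiplicative.ofAdd _ = Multiplicative.ofAdd _
      congr 1
      funext r
      simp only [hadd, Pi.add_apply]
      exact add_add_add_comm _ _ _ _
  have hfs : Function.Surjective f := fun y => by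
    obtain ⟨w, hw⟩ := hsurj (Multiplicative.toAdd y)
    exact ⟨w, congrArg Multiplicative.ofAdd hw⟩
  have hfM : f.ker ≤ η.ker := fun w hw => by
    have hw' : ψ w = 0 := hw
    show (fun q => ψ w q + ψ w (c * q)) = 0
    funext q; simp [hw']
  have hrange : η.range ≤ η.ker.map f := by
    rintro _ ⟨w, rfl⟩
    obtain ⟨w', hw'⟩ := hsurj fun q => ψ w q + ψ w (c * q)
    refine ⟨w', ?_, congrArg Multiplicative.ofAdd hw'⟩
    show (fun q => ψ w' q + ψ w' (c * q)) = 0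
    funext q
    simp only [hw', Pi.zero_apply]
    rw [← mul_assoc, hcc2, one_mul, add_comm (ψ w (c * q)), CharTwo.add_self_eq_zero]
  have e1 : η.ker.index = Nat.card η.range := Subgroup.index_ker η
  have e2 : (η.ker.map f).index = η.ker.index := Subgroup.index_map_eq _ hfs hfM
  have e3 := (η.ker.map f).card_mul_index
  have e4 := Nat.card_le_card_of_injective _ (Subgroup.inclusion_injective hrange)
  have e5 := η.ker.card_mul_index
  have e6 : Nat.card (Multiplicative (T ⧸ W → ZMod 2)) = 256 := by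
    rw [Nat.card_congr Multiplicative.toAdd, Nat.card_fun, Nat.card_zmod,
      show Nat.card (T ⧸ W) = 8 from S.index_eq]
    norm_num
  rw [e2, e6] at e3
  rw [S.card_W] at e5
  have e7 : η.ker.index ≤ 16 := by
    by_contra h
    push Not at h
    rw [← e1] at e4
    nlinarith
  refine S.not_big η.ker (fun k hk w => ?_) (by nlinarith)
  have hk' : ∀ q, ψ k q + ψ k (c * q) = 0 := fun q => congrFun hk q
  have hzero : ∀ h, β (X h) k = 0 := fun h => by
    rw [formula]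
    refine Finset.sum_involution (fun g _ => c * g) (fun g _ => ?_) (fun g _ _ => ?_)
      (fun g _ => Finset.mem_univ _) (fun g _ => by rw [← mul_assoc, hcc2, one_mul])
    · have hg : ψ k (c * g) = ψ k g :=
        ((show ∀ y z : ZMod 2, y + z = 0 → y = z by decide) _ _ (hk' g)).symm
      rw [hg, ← mul_assoc h⁻¹, ← hcc h⁻¹, mul_assoc, hinv, CharTwo.add_self_eq_zero]
    · exact fun h' => hc1 (mul_eq_right.mp h')
  let P : Subgroup W :=
    { carrier := {y | β y k = 0}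
      one_mem' := β_zero _ _ (by simp)
      mul_mem' := fun {p q} hp hq => by
        show β (p * q) k = 0
        rw [β_add, hp, hq, add_zero]
      inv_mem' := fun {p} hp => (β_congr _ p _ (inv_eq p)).trans hp }
  have hP := S.eq_top_of_conj hadd hker hX P (fun y hy => β_zero y k (S.central hy k.2)) hzero
  have h0 : β k w = 0 := (β_comm k w).trans (hP ▸ Subgroup.mem_top w : w ∈ P)
  by_contra h2
  exact one_ne_zero ((if_neg h2).symm.trans h0)

theorem card_center : Nat.card (Subgroup.center W) = 8 := by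
  have := S.normal
  rw [← Subgroup.card_map_of_injective W.subtype_injective, ← S.card_Zu.2.2]
  suffices h : (Subgroup.center W).map W.subtype = Zu T 3 by rw [h]
  refine le_antisymm ((S.dichotomy _ 3 le_rfl).resolve_right fun h => S.not_central fun z hz w hw => ?_)
    fun z hz => ⟨⟨z, S.Zu3_le hz⟩, Subgroup.mem_center_iff.mpr fun y => Subtype.ext (S.central hz y.2).symm, rfl⟩
  obtain ⟨y, hy, rfl⟩ := h hz
  exact (congrArg Subtype.val (Subgroup.mem_center_iff.mp hy ⟨w, hw⟩)).symm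

theorem quotient_dihedral [W.Normal] : Nonempty (T ⧸ W ≃* DihedralGroup 4) := by
  obtain ⟨e, -⟩ := S.exists_frame
  exact ⟨e⟩

end Setting

end CfsgLib.Involution.ClassFour
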