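import Cfsg.Agent.Lib.Involution.ClassFourCentre
import Cfsg.Prelude.Def_Transfer

/-!
# Automorphisms, weak closure
-/

set_option autoImplicit false

open scoped commutatorElement

namespace CfsgLib.Involution.ClassFour

open Subgroup

variable {T : Type*} [Group T] [Finite T] {W : Subgroup T}

namespace Setting

variable (S : Setting T W)

include S

theorem aut_mem (φ : MulAut T) (i : ℕ) (x : T) : φ x ∈ Zu T i ↔ x ∈ Zu T i := by
  have h := Subgroup.characteristic_iff_comap_eq.mp (inferInstance : (Zu T i).Characteristic) φ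
  exact SetLike.ext_iff.mp h x

theorem aut_fix (φ : MulAut T) (ho : Odd (orderOf φ)) : ∀ i ≤ 3, ∀ z ∈ Zu T i, φ z = z := by
  intro i
  induction i with
  | zero =>
    intro _ z hz
    rw [Zu, Subgroup.upperCentralSeries_zero, Subgroup.mem_bot] at hz
    rw [hz, map_one]
  | succ i ih =>
    intro hi
    have hfix := ih (by omega)
    obtain ⟨a, ha, ha'⟩ := SetLike.exists_of_lt (lt_of_le_of_ne (mono (T := T) (Nat.le_succ i)) fun h => by
      have h1 := S.card_Zu_le (show i ≤ 4 by omega)
      rw [h, S.card_Zu_le (show i + 1 ≤ 4 by omega), pow_succ] at h1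
      have : 0 < 2 ^ i := by positivity
      omega)
    have hidx : ((Zu T i).subgroupOf (Zu T (i + 1))).index = 2 := by
      have h := ((Zu T i).subgroupOf (Zu T (i + 1))).card_mul_index
      rw [Nat.card_congr (Subgroup.subgroupOfEquivOfLe (mono (by omega))).toEquiv,
        S.card_Zu_le (show i ≤ 4 by omega), S.card_Zu_le (show i + 1 ≤ 4 by omega), pow_succ] at h
      exact Nat.eq_of_mul_eq_mul_left (by positivity) h
    have hd : a⁻¹ * φ a ∈ Zu T i :=
      (Subgroup.mul_mem_iff_of_index_two hidx (a := ⟨a⁻¹, inv_mem ha⟩)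
        (b := ⟨φ a, (S.aut_mem φ _ a).mpr ha⟩)).mpr
        ⟨fun h => absurd (inv_mem_iff.mp h) ha', fun h => absurd ((S.aut_mem φ _ a).mp h) ha'⟩
    have hpow : ∀ n : ℕ, (φ ^ n) a = a * (a⁻¹ * φ a) ^ n := by
      intro n
      induction n with
      | zero => simp
      | succ n ihn =>
        rw [pow_succ' φ, MulAut.mul_apply, ihn, map_mul, map_pow, hfix _ hd, pow_succ', ← mul_assoc,
          mul_inv_cancel_left]
    have hd1 : (a⁻¹ * φ a) ^ orderOf φ = 1 := by
      have h := hpow (orderOf φ)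
      rwa [pow_orderOf_eq_one, MulAut.one_apply, eq_comm, mul_eq_left] at h
    obtain ⟨m, hm⟩ := ho
    rw [hm, pow_succ, pow_mul, S.Zu3_sq _ (mono (by omega) hd), one_pow, one_mul] at hd1
    have hfa : φ a = a := (inv_mul_eq_one.mp hd1).symm
    exact fun z hz => S.gen_step (by omega) (H := φ.toMonoidHom.eqLocus (MonoidHom.id T))
      (fun y hy => hfix y hy) (hfa : a ∈ φ.toMonoidHom.eqLocus (MonoidHom.id T)) ha ha' hz

/-- An automorphism of odd order is trivial. -/
theorem aut_trivial (φ : MulAut T) (ho : Odd (orderOf φ)) : φ = 1 := by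
  classical
  have := S.normal
  have : Fact (Nat.Prime 2) := ⟨Nat.prime_two⟩
  have h3 := S.aut_fix φ ho 3 le_rfl
  have hW : ∀ w ∈ W, φ w ∈ W := fun w hw => S.mem_iff.mpr fun z hz => by
    rw [← h3 z hz, ← map_mul, ← map_mul, S.central hz hw]
  have htW : ∀ t : T, t⁻¹ * φ t ∈ W := fun t => S.mem_iff.mpr fun z hz => by
    have hzn : t * z * t⁻¹ ∈ Zu T 3 := Subgroup.Normal.conj_mem inferInstance _ hz t
    have h := h3 _ hzn
    rw [map_mul, map_mul, h3 z hz, map_inv] at h
    calc z * (t⁻¹ * φ t) = t⁻¹ * (t * z * t⁻¹) * φ t := by group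
      _ = t⁻¹ * (φ t * z * (φ t)⁻¹) * φ t := by rw [h]
      _ = t⁻¹ * φ t * z := by group
  let F := frattini T
  let q := QuotientGroup.mk' F
  have hqF : ∀ y, q y = 1 ↔ y ∈ F := fun y => QuotientGroup.eq_one_iff y
  have hφF : ∀ y, φ y ∈ F ↔ y ∈ F := fun y => SetLike.ext_iff.mp
    (Subgroup.characteristic_iff_comap_eq.mp (inferInstance : F.Characteristic) φ) y
  obtain ⟨ψ, x, hadd, hker, heq, hsurj, hx⟩ := S.exists_gen
  let P : Subgroup W := ((Subgroup.zpowers (q x)).comap q).subgroupOf W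
  have hP : P = ⊤ := by
    refine S.eq_top_of_conj hadd hker (X := fun g => S.cj g.out x)
      (fun g => by rw [hx, QuotientGroup.out_eq']) P (fun w hw => ?_) fun g => ?_
    · show q w ∈ Subgroup.zpowers (q x)
      rw [(hqF w).mpr ?_]
      · exact one_mem _
      have h : (w : T) ∈ (commutator W).map W.subtype := S.commutator_eq.symm ▸ hw
      refine (?_ : (commutator W).map W.subtype ≤ F) h
      rw [Subgroup.map_le_iff_le_comap, commutator_def, Subgroup.commutator_le]
      exact fun a _ b _ => CfsgLib.PGroup.Frattini.commutatorElement_mem_frattini S.pg (a : T) b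
    · show q (g.out * (x : T) * g.out⁻¹) ∈ Subgroup.zpowers (q x)
      rw [show g.out * (x : T) * g.out⁻¹ = ⁅g.out, (x : T)⁆ * x by simp [commutatorElement_def], map_mul,
        (hqF _).mpr (CfsgLib.PGroup.Frattini.commutatorElement_mem_frattini S.pg _ _), one_mul]
      exact Subgroup.mem_zpowers _
  have hsq : ∀ y : T, q y * q y = 1 := fun y => by
    rw [← map_mul, ← pow_two, hqF]; exact CfsgLib.PGroup.Frattini.pow_mem_frattini S.pg y
  have hcase : ∀ w ∈ W, q w = 1 ∨ q w = q x := fun w hw => by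
    obtain ⟨n, hn⟩ := Subgroup.mem_zpowers_iff.mp (show q w ∈ Subgroup.zpowers (q x) from
      (hP ▸ Subgroup.mem_top (⟨w, hw⟩ : W) : (⟨w, hw⟩ : W) ∈ P))
    rcases Int.even_or_odd n with ⟨k, rfl⟩ | ⟨k, rfl⟩
    · left; rw [← hn, zpow_add, ← (Commute.refl (q x)).mul_zpow, hsq, one_zpow]
    · right; rw [← hn, zpow_add, zpow_one, two_mul, zpow_add, ← (Commute.refl (q x)).mul_zpow, hsq, one_zpow,
        one_mul]
  have hqW : ∀ w ∈ W, q (φ w) = q w := by
    intro w hw
    rcases hcase w hw with h | h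
    · rw [h, hqF, hφF, ← hqF, h]
    rcases hcase (φ w) (hW w hw) with h' | h'
    · rw [h', eq_comm, hqF, ← hφF, ← hqF, h']
    · rw [h, h']
  refine mulAut_eq_one S.pg φ ho fun t => ?_
  rw [← hqF]
  have hpowW : ∀ (n : ℕ) (w : T), w ∈ W → q ((φ ^ n) w) = q w ∧ (φ ^ n) w ∈ W := by
    intro n
    induction n with
    | zero => exact fun w hw => ⟨rfl, hw⟩
    | succ n ihn =>
      intro w hw
      obtain ⟨h1, h2⟩ := ihn w hw
      rw [pow_succ', MulAut.mul_apply]
      exact ⟨(hqW _ h2).trans h1, hW _ h2⟩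
  have hpow : ∀ n : ℕ, q ((φ ^ n) t) = q t * q (t⁻¹ * φ t) ^ n := by
    intro n
    induction n with
    | zero => simp
    | succ n ihn =>
      rw [pow_succ φ, MulAut.mul_apply]
      conv_lhs => rw [show φ t = t * (t⁻¹ * φ t) by group]
      rw [map_mul, map_mul, ihn, (hpowW n _ (htW t)).1, mul_assoc, ← pow_succ]
  have h := hpow (orderOf φ)
  rw [pow_orderOf_eq_one, MulAut.one_apply, eq_comm, mul_eq_left] at h
  obtain ⟨m, hm⟩ := ho
  rwa [hm, pow_succ, pow_mul, pow_two, hsq, one_pow, one_mul] at h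

/-- `W` is the only subgroup of its isomorphism type. -/
theorem eq_of_equiv (X : Subgroup T) (e : W ≃* X) : X = W := by
  have := S.normal
  let U : Subgroup W := (W.subgroupOf X).comap e.toMonoidHom
  have hU : U.index ≤ 8 := by
    rw [Subgroup.index_comap_of_surjective _ e.surjective, ← S.index_eq]
    exact Nat.le_of_dvd (by rw [S.index_eq]; norm_num) (Subgroup.relIndex_dvd_index_of_normal W X)
  have key : ∀ z : W, (z : T) ∈ Zu T 3 → ((e z : X) : T) ∈ Zu T 3 := by
    intro z hz
    have hzU : z ∈ U := S.mem_of_index_le (hU.trans (by norm_num)) hz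
    by_contra hne
    let j : U →* T := X.subtype.comp (e.toMonoidHom.comp U.subtype)
    obtain ⟨H, -, hzH, hH⟩ := exists_index_two (B := (Zu T 3).comap j)
      (fun u => by
        have h := S.sq_mem ⟨j u, u.2⟩
        show j (u ^ 2) ∈ Zu T 3
        rw [map_pow]
        exact h) (ε := ⟨z, hzU⟩) hne
    have hidx : (H.map U.subtype).index ≤ 16 := by
      rw [Subgroup.index_map_subtype, hH]
      omega
    obtain ⟨a, ha, haz⟩ := S.mem_of_index_le hidx hz
    exact hzH ((Subtype.ext haz : a = ⟨z, hzU⟩) ▸ ha)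
  let f : Zu T 3 → Zu T 3 := fun z => ⟨e ⟨z, S.Zu3_le z.2⟩, key ⟨z, S.Zu3_le z.2⟩ z.2⟩
  have hf : Function.Injective f := fun a b h => by
    have h' : e ⟨a, S.Zu3_le a.2⟩ = e ⟨b, S.Zu3_le b.2⟩ := Subtype.ext (congrArg (fun y : Zu T 3 => (y : T)) h :)
    exact Subtype.ext (congrArg Subtype.val (e.injective h') :)
  have hle : X ≤ W := fun y hy => S.mem_iff.mpr fun z hz => by
    obtain ⟨⟨z', hz'⟩, he⟩ := (Finite.injective_iff_surjective.mp hf) ⟨z, hz⟩
    obtain ⟨w, hw⟩ := e.surjective ⟨y, hy⟩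
    have he' : ((e ⟨z', S.Zu3_le hz'⟩ : X) : T) = z := congrArg Subtype.val he
    have hw' : ((e w : X) : T) = y := congrArg Subtype.val hw
    rw [← he', ← hw', ← Subgroup.coe_mul, ← Subgroup.coe_mul, ← map_mul, ← map_mul]
    exact congrArg (fun w : W => ((e w : X) : T)) (Subtype.ext (S.central hz' w.2))
  exact Subgroup.eq_of_le_of_card_ge hle (Nat.card_congr e.toEquiv).le

end Setting

theorem normalizer_complement {G : Type*} [Group G] [Finite G] (P : Sylow 2 G) {W : Subgroup ↥(P : Subgroup G)}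
    (S : Setting ↥(P : Subgroup G) W) :
    Cfsg.HasNormalPComplement 2 ↥(Subgroup.normalizer ((P : Subgroup G) : Set G)) := by
  have : Fact (Nat.Prime 2) := ⟨Nat.prime_two⟩
  let N := Subgroup.normalizer ((P : Subgroup G) : Set G)
  let T' : Sylow 2 N := P.subtype Subgroup.le_normalizer
  have hT' : (T' : Subgroup N).Normal := by
    show ((P : Subgroup G).subgroupOf N).Normal
    exact Subgroup.normal_in_normalizer
  obtain ⟨k, hk⟩ := IsPGroup.iff_card.mp T'.2
  have hodd : Odd (T' : Subgroup N).index :=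
    Nat.not_even_iff_odd.mp fun h => T'.not_dvd_index (even_iff_two_dvd.mp h)
  obtain ⟨H, hH⟩ := Subgroup.exists_right_complement'_of_coprime (N := (T' : Subgroup N)) (by
    rw [hk]; exact Nat.Coprime.pow_left _ ((Nat.coprime_two_left).mpr hodd))
  refine ⟨T', H, ?_, hH.symm⟩
  have hcard : Odd (Nat.card H) := by
    have h1 := hH.card_mul
    have h2 := (T' : Subgroup N).card_mul_index
    have h3 : Nat.card H = (T' : Subgroup N).index := Nat.eq_of_mul_eq_mul_left Nat.card_pos (h1.trans h2.symm)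
    rw [h3]; exact hodd
  rw [← Subgroup.normalizer_eq_top_iff, eq_top_iff, ← hH.sup_eq_top]
  refine sup_le (fun t ht => ?_) Subgroup.le_normalizer
  rw [Subgroup.mem_normalizer_iff]
  intro h
  have key : ∀ h ∈ H, t * h * t⁻¹ = h := fun h hh => by
    let φ : MulAut ↥(P : Subgroup G) := (P : Subgroup G).normalizerMonoidHom h
    have hφ : φ = 1 := S.aut_trivial φ (hcard.of_dvd_nat ((orderOf_map_dvd _ _).trans
      (Subgroup.orderOf_dvd_natCard H hh)))
    have h2 := congrArg Subtype.val (MulEquiv.congr_fun hφ ⟨(t : G), ht⟩)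
    have h3 : (h : G) * t * (h : G)⁻¹ = t := h2
    exact Subtype.ext (by
      simp only [Subgroup.coe_mul, Subgroup.coe_inv]
      rw [mul_inv_eq_iff_eq_mul]
      exact (mul_inv_eq_iff_eq_mul.mp h3).symm)
  constructor
  · exact fun hh => by rwa [key h hh]
  · intro hh
    have h' := key _ hh
    simp only [mul_left_inj, mul_right_inj, mul_inv_eq_iff_eq_mul] at h'
    rwa [show t * h * t⁻¹ = h from mul_inv_eq_iff_eq_mul.mpr h'] at hh

theorem weakly_closed {G : Type*} [Group G] [Finite G] (P : Sylow 2 G) {W : Subgroup ↥(P : Subgroup G)}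
    (S : Setting ↥(P : Subgroup G) W) :
    Cfsg.IsWeaklyClosed (W.map (P : Subgroup G).subtype) (P : Subgroup G) := by
  refine ⟨Subgroup.map_subtype_le W, fun g hg => ?_⟩
  set V := (W.map (P : Subgroup G).subtype).map (MulAut.conj g).toMonoidHom
  let e : W ≃* V.subgroupOf (P : Subgroup G) :=
    ((Subgroup.equivMapOfInjective W _ (P : Subgroup G).subtype_injective).trans
      (Subgroup.equivMapOfInjective _ _ (MulAut.conj g).injective)).trans (Subgroup.subgroupOfEquivOfLe hg).symm
  have h := congrArg (fun K => K.map (P : Subgroup G).subtype) (S.eq_of_equiv _ e)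
  simpa [Subgroup.map_subgroupOf_eq_of_le hg] using h

end CfsgLib.Involution.ClassFour
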