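import Mathlib
import Cfsg.Prelude.Def_Solvable
import Cfsg.Agent.Lib.Involution.MovedVector
import Cfsg.Agent.Lib.LocalEven.Residual

/-!
# A criterion for membership in `O_p` of a solvable group

Let `p` be odd and `A` a `p`-subgroup of a solvable group such that every conjugacy class contains an
element `g` with `A` subnormal in `⟨A, A^g⟩`.  Then `A ≤ O_p(G)`.
-/

set_option autoImplicit false

namespace CfsgLib.Involution.FlavellSubnormal

open scoped Pointwise commutatorElement
open CfsgLib.LocalEven CfsgLib.LocalEven.Residual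

universe u

variable {p : ℕ} [hp : Fact p.Prime]

theorem main (hp2 : p ≠ 2) : ∀ (n : ℕ) (G : Type u) [Group G] [Finite G], Nat.card G = n → Group.IsSolvable G →
    ∀ A : Subgroup G, IsPGroup p A →
      (∀ c : G, ∃ g : G, IsConj c g ∧ (A.subgroupOf (A ⊔ MulAut.conj g • A)).IsSubnormal) →
      A ≤ Cfsg.pCore p G := by
  intro n
  induction n using Nat.strong_induction_on with
  | _ n ih =>
    intro G _ _ hn hG A hA hyp
    subst hn
    by_cases hA1 : A = ⊥
    · exact hA1 ▸ bot_le
    -- the statement for a proper quotient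
    have hquot : ∀ N : Subgroup G, ∀ [N.Normal], N ≠ ⊥ →
        A.map (QuotientGroup.mk' N) ≤ Cfsg.pCore p (G ⧸ N) := by
      intro N _ hN
      have hs : Function.Surjective (QuotientGroup.mk' N) := QuotientGroup.mk'_surjective N
      have hlt : Nat.card (G ⧸ N) < Nat.card G := by
        rw [Subgroup.card_eq_card_quotient_mul_card_subgroup N]
        exact lt_mul_of_one_lt_right Nat.card_pos ((Subgroup.one_lt_card_iff_ne_bot N).2 hN)
      haveI := hG
      refine ih _ hlt (G ⧸ N) rfl inferInstance _ (hA.map _) fun c => ?_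
      obtain ⟨c₀, rfl⟩ := hs c
      obtain ⟨g, hcg, hsn⟩ := hyp c₀
      refine ⟨QuotientGroup.mk' N g, MonoidHom.map_isConj _ hcg, ?_⟩
      set π := QuotientGroup.mk' N
      set X := A ⊔ MulAut.conj g • A
      have hX : X.map π = A.map π ⊔ MulAut.conj (π g) • A.map π := by
        rw [Subgroup.map_sup]
        congr 1
        ext y
        rw [Subgroup.mem_map, Subgroup.mem_pointwise_smul_iff_inv_smul_mem, Subgroup.mem_map]
        constructor
        · rintro ⟨x, hx, rfl⟩
          rw [Subgroup.mem_pointwise_smul_iff_inv_smul_mem] at hx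
          exact ⟨_, hx, by simp [MulAut.smul_def, MulAut.conj_inv_apply]⟩
        · rintro ⟨x, hx, e⟩
          refine ⟨MulAut.conj g • x, Subgroup.smul_mem_pointwise_smul x _ A hx, ?_⟩
          rw [MulAut.smul_def, MulAut.conj_apply, map_mul, map_mul, map_inv, e]
          simp [MulAut.smul_def, MulAut.conj_inv_apply, mul_assoc]
      rw [← hX]
      have h := hsn.map (π.subgroupMap_surjective X)
      have e : (A.subgroupOf X).map (π.subgroupMap X) = (A.map π).subgroupOf (X.map π) := by
        ext ⟨y, hy⟩
        rw [Subgroup.mem_subgroupOf, Subgroup.mem_map]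
        constructor
        · rintro ⟨x, hx, e⟩
          exact ⟨x, hx, congrArg Subtype.val e⟩
        · rintro ⟨x, hx, e⟩
          exact ⟨⟨x, le_sup_left (a := A) hx⟩, hx, Subtype.ext e⟩
      rwa [e] at h
    -- `O_p(G) = 1`
    by_cases hcore : Cfsg.pCore p G = ⊥
    swap
    · haveI : (Cfsg.pCore p G).Normal := by
        rw [← Subgroup.normalizer_eq_top_iff, eq_top_iff]
        refine MovedVector.le_normalizer_of_conj fun g _ x hx => ?_
        have hle : Cfsg.pCore p G ≤ (Cfsg.pCore p G).comap (MulAut.conj g).toMonoidHom := by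
          refine sSup_le fun N hN => ?_
          haveI := hN.1
          exact fun y hy => le_sSup hN (hN.1.conj_mem y hy g)
        exact hle hx
      set N := Cfsg.pCore p G
      haveI : ((Cfsg.pCore p (G ⧸ N)).comap (QuotientGroup.mk' N)).Normal := by
        haveI : (Cfsg.pCore p (G ⧸ N)).Normal := by
          rw [← Subgroup.normalizer_eq_top_iff, eq_top_iff]
          refine MovedVector.le_normalizer_of_conj fun g _ x hx => ?_
          have hle : Cfsg.pCore p (G ⧸ N) ≤ (Cfsg.pCore p (G ⧸ N)).comap (MulAut.conj g).toMonoidHom := by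
            refine sSup_le fun M hM => ?_
            haveI := hM.1
            exact fun y hy => le_sSup hM (hM.1.conj_mem y hy g)
          exact hle hx
        infer_instance
      refine (Subgroup.map_le_iff_le_comap.1 (hquot N hcore)).trans ?_
      refine SylowIn.le_pCore ?_
      refine (SylowIn.isPGroup_pCore (G ⧸ N) p).comap_of_ker_isPGroup _ ?_
      rw [QuotientGroup.ker_mk']
      exact SylowIn.isPGroup_pCore G p
    exfalso
    -- a minimal normal subgroup
    haveI : Nontrivial G := by
      by_contra hnt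
      rw [not_nontrivial_iff_subsingleton] at hnt
      exact hA1 (Subsingleton.elim _ _)
    obtain ⟨V, ⟨hVn, hV1⟩, hVmin⟩ := Set.Finite.exists_minimal
      (Set.toFinite {V : Subgroup G | V.Normal ∧ V ≠ ⊥}) ⟨⊤, inferInstance, top_ne_bot⟩
    haveI := hVn
    have hVc : IsMulCommutative V := by
      haveI := hG
      haveI : Nontrivial V := (Subgroup.nontrivial_iff_ne_bot V).2 hV1
      have hlt := IsSolvable.commutator_lt_top_of_nontrivial V
      set D := (commutator V).map V.subtype
      haveI : D.Normal := ConjAct.normal_of_characteristic_of_normal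
      have hD : D = ⊥ := by
        by_contra hD
        have hle : D ≤ V := Subgroup.map_subtype_le _
        have h := hVmin ⟨inferInstance, hD⟩ hle
        refine hlt.ne (eq_top_iff.2 fun x _ => ?_)
        obtain ⟨y, hy, e⟩ := h x.2
        exact Subtype.ext e ▸ hy
      have hc : commutator V = ⊥ := (Subgroup.map_eq_bot_iff_of_injective _ V.subtype_injective).1 hD
      refine ⟨⟨fun a b => ?_⟩⟩
      have h : ⁅a, b⁆ ∈ commutator V :=
        Subgroup.commutator_mem_commutator (Subgroup.mem_top a) (Subgroup.mem_top b)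
      rw [hc, Subgroup.mem_bot] at h
      exact commutatorElement_eq_one_iff_mul_comm.1 h
    haveI := hVc
    letI : CommGroup V := { (inferInstance : Group V) with mul_comm := mul_comm' }
    have hcop : ∀ v : V, v ^ p = 1 → v = 1 := by
      intro v hv
      by_contra hv1
      let T : Subgroup V :=
        { carrier := {w | w ^ p = 1}
          one_mem' := one_pow p
          mul_mem' := fun {a b} (ha : a ^ p = 1) (hb : b ^ p = 1) => by
            show (a * b) ^ p = 1
            rw [mul_pow, ha, hb, one_mul]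
          inv_mem' := fun {a} (ha : a ^ p = 1) => by show a⁻¹ ^ p = 1; rw [inv_pow, ha, inv_one] }
      haveI : T.Characteristic := Subgroup.characteristic_iff_le_comap.2 fun f w (hw : w ^ p = 1) => by
        show (f w) ^ p = 1
        rw [← map_pow, hw, map_one]
      haveI : (T.map V.subtype).Normal := ConjAct.normal_of_characteristic_of_normal
      have hT : IsPGroup p (T.map V.subtype) :=
        (show IsPGroup p T from fun w => ⟨1, Subtype.ext (by rw [pow_one]; exact w.2)⟩).map _
      have h := SylowIn.le_pCore hT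
      rw [hcore, le_bot_iff, Subgroup.map_eq_bot_iff_of_injective _ V.subtype_injective] at h
      exact hv1 (Subgroup.mem_bot.1 (h ▸ (hv : v ∈ T)))
    -- the preimage of `O_p(G/V)` and its Sylow subgroup
    set π := QuotientGroup.mk' V
    haveI : (Cfsg.pCore p (G ⧸ V)).Normal := by
      rw [← Subgroup.normalizer_eq_top_iff, eq_top_iff]
      refine MovedVector.le_normalizer_of_conj fun g _ x hx => ?_
      have hle : Cfsg.pCore p (G ⧸ V) ≤ (Cfsg.pCore p (G ⧸ V)).comap (MulAut.conj g).toMonoidHom := by
        refine sSup_le fun M hM => ?_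
        haveI := hM.1
        exact fun y hy => le_sSup hM (hM.1.conj_mem y hy g)
      exact hle hx
    set M := (Cfsg.pCore p (G ⧸ V)).comap π with hM
    have hAM : A ≤ M := Subgroup.map_le_iff_le_comap.1 (hquot V hV1)
    obtain ⟨P₀, hP₀⟩ :=
      (hA.comap_of_injective M.subtype (Subgroup.subtype_injective _) : IsPGroup p (A.subgroupOf M)).exists_le_sylow
    set P := (P₀ : Subgroup M).map M.subtype
    have hAP : A ≤ P := fun a ha => ⟨⟨a, hAM ha⟩, hP₀ ha, rfl⟩
    have hPp : IsPGroup p P := P₀.isPGroup'.map _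
    set H := Subgroup.normalizer (P : Set G)
    have hHM : H ⊔ M = ⊤ := P₀.normalizer_sup_eq_top
    have hHV : H ⊔ V = ⊤ := by
      rw [← top_le_iff, ← hHM]
      refine sup_le le_sup_left ?_
      -- `M = P V`
      have hVM : V ≤ M := fun x hx => by
        rw [hM, Subgroup.mem_comap, show π x = 1 from (QuotientGroup.eq_one_iff x).2 hx]
        exact one_mem _
      have hcard : M ≤ P ⊔ V := by
        have h1 : IsPGroup p (Cfsg.pCore p (G ⧸ V)) := SylowIn.isPGroup_pCore _ p
        intro x hx
        let f : M →* Cfsg.pCore p (G ⧸ V) :=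
          (π.comp M.subtype).codRestrict _ fun m => m.2
        have hfs : Function.Surjective f := by
          intro y
          obtain ⟨w, hw⟩ := QuotientGroup.mk'_surjective V y.1
          exact ⟨⟨w, by rw [hM, Subgroup.mem_comap]; exact hw.symm ▸ y.2⟩, Subtype.ext hw⟩
        have hmap := (P₀.mapSurjective hfs).is_maximal' (h1.to_subgroup ⊤ |>.of_equiv (MulEquiv.refl _)) le_top
        have hx' : f ⟨x, hx⟩ ∈ (P₀.mapSurjective hfs : Subgroup _) := hmap ▸ Subgroup.mem_top _
        obtain ⟨y, hy, e⟩ := hx'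
        have e' : π (y : G) = π x := congrArg Subtype.val e
        rw [QuotientGroup.mk'_apply, QuotientGroup.mk'_apply, QuotientGroup.eq] at e'
        have hxy : x = (y : G) * ((y : G)⁻¹ * x) := (mul_inv_cancel_left _ _).symm
        rw [hxy]
        exact mul_mem (Subgroup.mem_sup_left ⟨y, hy, rfl⟩) (Subgroup.mem_sup_right e')
      exact hcard.trans (sup_le (Subgroup.le_normalizer.trans le_sup_left) le_sup_right)
    -- the action on `V`
    let φ : G →* MulAut V := MulAut.conjNormal
    have hφ : ∀ (g : G) (v : V), ((φ g v : V) : G) = g * v * g⁻¹ := fun g v => MulAut.conjNormal_apply g v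
    have hfaith : ∀ x ∈ P, φ x = 1 → x = 1 := by
      intro x hx hφx
      set C := P ⊓ φ.ker
      haveI : C.Normal := by
        rw [← Subgroup.normalizer_eq_top_iff, ← top_le_iff, ← hHV]
        refine sup_le (MovedVector.le_normalizer_of_conj fun g hg y hy => ⟨?_, ?_⟩)
          (MovedVector.le_normalizer_of_conj fun v hv y hy => ?_)
        · exact (Subgroup.mem_normalizer_iff.1 hg y).1 hy.1
        · exact (inferInstance : φ.ker.Normal).conj_mem y hy.2 g
        · have e : φ y ⟨v, hv⟩ = (⟨v, hv⟩ : V) := by rw [MonoidHom.mem_ker.1 hy.2]; rfl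
          have e' : y * v * y⁻¹ = v := (hφ y _).symm.trans (congrArg Subtype.val e)
          rw [← mul_inv_eq_iff_eq_mul.1 e', mul_inv_cancel_right]
          exact hy
      have h := SylowIn.le_pCore (hPp.to_le (inf_le_left : C ≤ P))
      rw [hcore, le_bot_iff] at h
      exact Subgroup.mem_bot.1 (h ▸ Subgroup.mem_inf.2 ⟨hx, MonoidHom.mem_ker.2 hφx⟩)
    obtain ⟨a, haA, ha1⟩ := (Subgroup.bot_or_exists_ne_one A).resolve_left hA1
    obtain ⟨v, hv⟩ := MovedVector.moved hp2 _ V rfl hcop (H.map φ) (P.map φ) (φ a)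
      (Subgroup.map_mono Subgroup.le_normalizer) (Subgroup.le_normalizer_map φ |>.trans (by rw [Subgroup.coe_map]))
      (hPp.map φ) ⟨a, hAP haA, rfl⟩ (fun e => ha1 (hfaith a (hAP haA) e))
    -- a conjugate of `v` normalizing the pair
    obtain ⟨g, hcg, hsn⟩ := hyp (v : G)
    obtain ⟨t, ht⟩ := isConj_iff.1 hcg
    have ht' : t ∈ H ⊔ V := hHV ▸ Subgroup.mem_top t
    rw [← SetLike.mem_coe, Subgroup.mul_normal] at ht'
    obtain ⟨h, hh, w, hw, rfl⟩ := ht'
    have hgv : g = h * v * h⁻¹ := by
      have e : (w : G) * v * w⁻¹ = v := by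
        have hc : (⟨w, hw⟩ : V) * v * (⟨w, hw⟩ : V)⁻¹ = v := by rw [mul_comm, inv_mul_cancel_left]
        exact congrArg Subtype.val hc
      rw [← ht]
      calc h * w * (v : G) * (h * w)⁻¹ = h * (w * v * w⁻¹) * h⁻¹ := by group
        _ = _ := by rw [e]
    have hgV : g ∈ V := hgv ▸ hVn.conj_mem _ v.2 h
    -- `a` commutes with `g`
    set X := A ⊔ MulAut.conj g • A with hX
    have hAX : A ≤ X := le_sup_left
    have hAcore : A.subgroupOf X ≤ Cfsg.pCore p X :=
      le_pCore_of_isSubnormal hsn (hA.comap_of_injective X.subtype (Subgroup.subtype_injective _))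
    haveI hcoreX : (Cfsg.pCore p X).Normal := by
      rw [← Subgroup.normalizer_eq_top_iff, eq_top_iff]
      refine MovedVector.le_normalizer_of_conj fun g _ x hx => ?_
      have hle : Cfsg.pCore p X ≤ (Cfsg.pCore p X).comap (MulAut.conj g).toMonoidHom := by
        refine sSup_le fun M hM => ?_
        haveI := hM.1
        exact fun y hy => le_sSup hM (hM.1.conj_mem y hy g)
      exact hle hx
    set c := g * a * g⁻¹ * a⁻¹ with hc
    have hcV : c ∈ V := by
      have e : c = g * (a * g⁻¹ * a⁻¹) := by rw [hc]; group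
      rw [e]
      exact mul_mem hgV (hVn.conj_mem _ (inv_mem hgV) a)
    have hcX : c ∈ X := mul_mem ((le_sup_right : MulAut.conj g • A ≤ X)
      (Subgroup.smul_mem_pointwise_smul a (MulAut.conj g) A haA)) (inv_mem (hAX haA))
    have hca : a * c * a⁻¹ = c := by
      have h1 : (⟨a, hAX haA⟩ : X) ∈ Cfsg.pCore p X := hAcore haA
      have h2 : ⁅(⟨a, hAX haA⟩ : X), ⟨c, hcX⟩⁆ ∈ Cfsg.pCore p X := by
        rw [commutatorElement_def, mul_assoc, mul_assoc, ← mul_assoc (⟨c, hcX⟩ : X)]
        exact mul_mem h1 (hcoreX.conj_mem _ (inv_mem h1) _)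
      have h3 : ⁅a, c⁆ ∈ V := by
        rw [commutatorElement_def]
        exact mul_mem (hVn.conj_mem c hcV a) (inv_mem hcV)
      obtain ⟨j, hj⟩ := (SylowIn.isPGroup_pCore X p) ⟨_, h2⟩
      have h4 : (⟨⁅a, c⁆, h3⟩ : V) ^ p ^ j = 1 := by
        refine Subtype.ext ?_
        have := congrArg (fun z : Cfsg.pCore p X => ((z : X) : G)) hj
        simpa [commutatorElement_def] using this
      have key : ∀ (k : ℕ) (v : V), v ^ p ^ k = 1 → v = 1 := by
        intro k
        induction k with
        | zero => intro v hv; simpa using hv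
        | succ k ih =>
          intro v hv
          rw [pow_succ', pow_mul] at hv
          exact hcop v (ih _ hv)
      have h5 : ⁅a, c⁆ = 1 := congrArg Subtype.val (key j _ h4)
      rw [commutatorElement_eq_one_iff_mul_comm] at h5
      rw [h5, mul_inv_cancel_right]
    have hc1 : c = 1 := by
      -- `a ^ n * g * a⁻ⁿ = c⁻ⁿ * g`
      have hcg' : Commute c g := congrArg Subtype.val (mul_comm (⟨c, hcV⟩ : V) ⟨g, hgV⟩)
      have hbase : a * g * a⁻¹ = c⁻¹ * g := by rw [hc]; group
      have hac : Commute a c := mul_inv_eq_iff_eq_mul.1 hca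
      have hpow : ∀ n : ℕ, a ^ n * g * (a ^ n)⁻¹ = (c ^ n)⁻¹ * g := by
        intro n
        induction n with
        | zero => simp
        | succ n ih =>
          calc a ^ (n + 1) * g * (a ^ (n + 1))⁻¹ = a * (a ^ n * g * (a ^ n)⁻¹) * a⁻¹ := by rw [pow_succ']; group
            _ = (a * (c ^ n)⁻¹) * g * a⁻¹ := by rw [ih]; group
            _ = ((c ^ n)⁻¹ * a) * g * a⁻¹ := by rw [(hac.pow_right n).inv_right.eq]
            _ = (c ^ n)⁻¹ * (a * g * a⁻¹) := by group
            _ = (c ^ (n + 1))⁻¹ * g := by rw [hbase, ← mul_assoc, ← mul_inv_rev, ← pow_succ']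
      obtain ⟨j, hj⟩ := hA ⟨a, haA⟩
      have hj' : a ^ p ^ j = 1 := congrArg Subtype.val hj
      have h1 := hpow (p ^ j)
      rw [hj', one_mul, inv_one, mul_one, eq_comm, mul_eq_right, inv_eq_one] at h1
      have key : ∀ (k : ℕ) (v : V), v ^ p ^ k = 1 → v = 1 := by
        intro k
        induction k with
        | zero => intro v hv; simpa using hv
        | succ k ih =>
          intro v hv
          rw [pow_succ', pow_mul] at hv
          exact hcop v (ih _ hv)
      exact congrArg Subtype.val (key j ⟨c, hcV⟩ (Subtype.ext h1))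
    have hag : a * g * a⁻¹ = g := by
      have : g * a * g⁻¹ = a := by rwa [hc, mul_inv_eq_one] at hc1
      rw [mul_inv_eq_iff_eq_mul]
      exact (mul_inv_eq_iff_eq_mul.1 this).symm
    -- so a conjugate of `a` fixes `v`
    refine hv (φ h⁻¹) ⟨h⁻¹, inv_mem hh, rfl⟩ ?_
    rw [← map_inv, ← map_mul, ← map_mul]
    refine Subtype.ext ((hφ _ _).trans ?_)
    rw [inv_inv]
    calc h⁻¹ * a * h * (v : G) * (h⁻¹ * a * h)⁻¹ = h⁻¹ * (a * (h * v * h⁻¹) * a⁻¹) * h := by group
      _ = (v : G) := by rw [← hgv, hag, hgv]; group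

theorem result {G : Type u} [Group G] [Finite G] (hG : Group.IsSolvable G) (hp2 : p ≠ 2) (A : Subgroup G)
    (hA : IsPGroup p A)
    (h : ∀ c : G, ∃ g : G, IsConj c g ∧ (A.subgroupOf (A ⊔ MulAut.conj g • A)).IsSubnormal) :
    A ≤ Cfsg.pCore p G :=
  main hp2 _ G rfl hG A hA h

end CfsgLib.Involution.FlavellSubnormal
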