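import Cfsg.Agent.Lib.Involution.QuasiDihedral
import Cfsg.Prelude.Def_Transfer

/-!
# Fours subgroups of dihedral and quasi-dihedral groups are self-centralising
-/

set_option autoImplicit false

namespace CfsgLib.Involution.FourCentralizer

variable {G : Type*} [Group G] [Finite G]

theorem le_of_card {T : Subgroup G} (hT : IsKleinFour T) {a : G} (ha : a ∈ T)
    (hc : Nat.card (Subgroup.centralizer ({a} : Set G)) ≤ 4) :
    Subgroup.centralizer (T : Set G) ≤ T := by
  have hle : T ≤ Subgroup.centralizer ({a} : Set G) := fun g hg =>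
    Subgroup.mem_centralizer_singleton_iff.2 (TwoGroupLifts.commute_of_isKleinFour hT hg ha)
  rw [Subgroup.eq_of_le_of_card_ge hle (by rw [hT.card_four]; exact hc)]
  exact Subgroup.centralizer_le (Set.singleton_subset_iff.2
    (Subgroup.mem_centralizer_singleton_iff.2 rfl))

theorem quasiDihedral {S : Type*} [Group S] [Finite S] (hS : Cfsg.IsQuasiDihedral S)
    {T : Subgroup S} (hT : IsKleinFour T) : Subgroup.centralizer (T : Set S) ≤ T := by
  classical
  obtain ⟨K, x, y, h, -⟩ := QuasiDihedral.exists_gen hS
  obtain ⟨-, m, hm, -⟩ := QuasiDihedral.four_structure h hT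
  refine le_of_card hT hm ?_
  have hsub : ((Subgroup.centralizer ({x ^ (2 * m) * y} : Set S) : Subgroup S) : Set S) ⊆
      (({1, x ^ (4 * (K : ℤ)), x ^ (2 * m) * y, x ^ (4 * (K : ℤ)) * (x ^ (2 * m) * y)} : Finset S) :
        Set S) := by
    intro g hg
    simpa using QuasiDihedral.centralizer_xy h (Subgroup.mem_centralizer_singleton_iff.1 hg)
  have h1 := Set.ncard_le_ncard hsub (Finset.finite_toSet _)
  rw [← Nat.card_coe_set_eq, Set.ncard_coe_finset] at h1
  exact h1.trans (Finset.card_le_four)

open DihedralGroup in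
theorem dihedral {m : ℕ} [NeZero m] {T : Subgroup (DihedralGroup m)} (hT : IsKleinFour T) :
    Subgroup.centralizer (T : Set (DihedralGroup m)) ≤ T := by
  classical
  have hrot : (Finset.univ.filter fun k : ZMod m => 2 • k = 0).card ≤ 2 :=
    IsAddCyclic.card_nsmul_eq_zero_le two_pos
  obtain ⟨i, hi⟩ : ∃ i, sr i ∈ T := by
    by_contra hno
    push Not at hno
    have hsub : (T : Set (DihedralGroup m)) ⊆
        ((Finset.univ.filter fun k : ZMod m => 2 • k = 0).image r : Finset _) := by
      rintro (k | k) hg
      · have h2 := TwoGroupLifts.mul_self_of_isKleinFour hT hg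
        rw [r_mul_r, one_def] at h2
        simp only [Finset.coe_image, Set.mem_image, Finset.mem_coe, Finset.mem_filter,
          Finset.mem_univ, true_and]
        exact ⟨k, by rw [two_nsmul]; exact r.inj h2, rfl⟩
      · exact absurd hg (hno k)
    have h1 := Set.ncard_le_ncard hsub (Finset.finite_toSet _)
    rw [← Nat.card_coe_set_eq, Set.ncard_coe_finset] at h1
    have h3 := h1.trans (Finset.card_image_le.trans hrot)
    simp only [SetLike.coe_sort_coe, hT.card_four] at h3
    omega
  refine le_of_card hT hi ?_
  set F := Finset.univ.filter fun k : ZMod m => 2 • k = 0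
  have hsub : ((Subgroup.centralizer ({sr i} : Set (DihedralGroup m)) : Subgroup _) : Set _) ⊆
      ((F.image r ∪ F.image fun k => sr (i + k) : Finset _) : Set (DihedralGroup m)) := by
    rintro (k | k) hg <;> have hc := Subgroup.mem_centralizer_singleton_iff.1 hg
    · rw [r_mul_sr, sr_mul_r] at hc
      simp only [Finset.coe_union, Finset.coe_image, Set.mem_union, Set.mem_image, Finset.mem_coe,
        F, Finset.mem_filter, Finset.mem_univ, true_and]
      refine Or.inl ⟨k, ?_, rfl⟩
      have := sr.inj hc
      rw [two_nsmul]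
      linear_combination -this
    · rw [sr_mul_sr, sr_mul_sr] at hc
      simp only [Finset.coe_union, Finset.coe_image, Set.mem_union, Set.mem_image, Finset.mem_coe,
        F, Finset.mem_filter, Finset.mem_univ, true_and]
      refine Or.inr ⟨k - i, ?_, by rw [add_sub_cancel]⟩
      have := r.inj hc
      rw [two_nsmul]
      linear_combination -this
  have h1 := Set.ncard_le_ncard hsub (Finset.finite_toSet _)
  rw [← Nat.card_coe_set_eq, Set.ncard_coe_finset] at h1
  refine h1.trans ((Finset.card_union_le _ _).trans ?_)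
  exact (add_le_add (Finset.card_image_le.trans hrot) (Finset.card_image_le.trans hrot))

/-- A self-centralising property of fours groups lifts through a central quotient. -/
theorem centralizer_eq {R : Type*} [Group R] [Finite R] {t : R} (ht : orderOf t = 2)
    [(Subgroup.zpowers t).Normal]
    (hq : ∀ T : Subgroup (R ⧸ Subgroup.zpowers t), IsKleinFour T →
      Subgroup.centralizer (T : Set (R ⧸ Subgroup.zpowers t)) ≤ T)
    {A : Subgroup R} (hA : Cfsg.IsElementaryAbelian 2 A) (hA8 : Nat.card A = 8) (htA : t ∈ A) :
    Subgroup.centralizer (A : Set R) = A := by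
  set π := QuotientGroup.mk' (Subgroup.zpowers t)
  set T := A.map π with hT
  have hker : π.ker ≤ A := by
    rw [QuotientGroup.ker_mk']; exact Subgroup.zpowers_le.2 htA
  have hcard : Nat.card T = 4 := by
    have h1 := Subgroup.card_mul_index ((π.domRestrict A).ker)
    rw [Subgroup.index_ker, MonoidHom.domRestrict_range] at h1
    have h2 : Nat.card (π.domRestrict A).ker = 2 := by
      rw [MonoidHom.ker_domRestrict, Nat.card_congr (Subgroup.subgroupOfEquivOfLe hker).toEquiv,
        QuotientGroup.ker_mk', Nat.card_zpowers, ht]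
    rw [h2, hA8, ← hT] at h1
    omega
  have hexp : Monoid.exponent T = 2 := by
    have hdvd : Monoid.exponent T ∣ 2 := Monoid.exponent_dvd_of_forall_pow_eq_one fun g => by
      obtain ⟨a, ha, he⟩ := g.2
      refine Subtype.ext ?_
      rw [SubgroupClass.coe_pow, ← he, ← map_pow]
      have h2 : a ^ 2 = 1 := hA.2 a ha
      rw [h2, map_one]; rfl
    rcases (Nat.dvd_prime Nat.prime_two).1 hdvd with h | h
    · have := Monoid.exp_eq_one_iff.1 h
      rw [Nat.card_eq_one_iff_unique.2 ⟨this, inferInstance⟩] at hcard
      omega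
    · exact h
  refine le_antisymm (fun g hg => ?_) (fun g hg => Subgroup.mem_centralizer_iff.2 fun a ha => ?_)
  · have h1 : π g ∈ T := hq T ⟨hcard, hexp⟩ (Subgroup.mem_centralizer_iff.2 (by
      rintro _ ⟨a, ha, rfl⟩
      rw [← map_mul, ← map_mul, Subgroup.mem_centralizer_iff.1 hg a ha]))
    obtain ⟨a, ha, he⟩ := h1
    have h2 : a⁻¹ * g ∈ π.ker := by rw [MonoidHom.mem_ker, map_mul, map_inv, he, inv_mul_cancel]
    simpa using mul_mem ha (hker h2)
  · exact congrArg Subtype.val (hA.1.is_comm.comm ⟨a, ha⟩ ⟨g, hg⟩)

end CfsgLib.Involution.FourCentralizer
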