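import Mathlib
import Cfsg.Agent.Lib.Classical.SL2Fours
import Cfsg.Agent.Lib.Classical.GL2Borel

/-!
# Redundant Sylow subgroups in `SL₂(q)` and `PSL₂(q)`

A Sylow `p`-subgroup `Q` is redundant if every `p`-element lies in another Sylow `p`-subgroup.
-/

set_option autoImplicit false
set_option linter.unusedSectionVars false
set_option backward.isDefEq.respectTransparency false

open Matrix Pointwise
open scoped MatrixGroups

namespace CfsgLib.Involution.SL2Redundant

open CfsgLib.Classical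

/-- There is a redundant Sylow `p`-subgroup. -/
def Red (G : Type*) [Group G] (p : ℕ) : Prop :=
  ∃ Q : Sylow p G, ∀ x : G, (∃ k : ℕ, orderOf x = p ^ k) → ∃ P : Sylow p G, P ≠ Q ∧ x ∈ P

section general
variable {G H : Type*} [Group G] [Finite G] [Group H] {p : ℕ} [Fact p.Prime]

theorem mem_of_normalizes {P : Sylow p G} {x : G} (hx : ∃ k : ℕ, orderOf x = p ^ k)
    (hn : x ∈ Subgroup.normalizer ((P : Subgroup G) : Set G)) : x ∈ P := by
  obtain ⟨k, hk⟩ := hx
  have hK : IsPGroup p (Subgroup.zpowers x) := IsPGroup.of_card (n := k) (by rw [Nat.card_zpowers, hk])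
  have hle : Subgroup.zpowers x ≤ Subgroup.normalizer ((P : Subgroup G) : Set G) :=
    Subgroup.zpowers_le.2 hn
  have h := P.is_maximal' (hK.to_sup_of_normal_right' P.isPGroup' hle) le_sup_right
  exact h.le ((le_sup_left : Subgroup.zpowers x ≤ _) (Subgroup.mem_zpowers x))

theorem exists_orderOf_pow {P : Sylow p G} {x : G} (hx : x ∈ P) : ∃ k : ℕ, orderOf x = p ^ k := by
  obtain ⟨k, hk⟩ := IsPGroup.iff_orderOf.1 P.isPGroup' ⟨x, hx⟩
  exact ⟨k, by rwa [Subgroup.orderOf_mk] at hk⟩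

theorem red_iff_of_central [Finite H] {f : G →* H} (hf : Function.Surjective f)
    (hker : f.ker ≤ Subgroup.center G) : Red H p ↔ Red G p := by
  have key : ∀ (P : Sylow p G) (x : G), (∃ k : ℕ, orderOf x = p ^ k) →
      f x ∈ P.mapSurjective hf → x ∈ P := by
    intro P x hx hm
    obtain ⟨y, hy, he⟩ := hm
    have hz : x * y⁻¹ ∈ Subgroup.center G := hker (by rw [MonoidHom.mem_ker, map_mul, map_inv, he, mul_inv_cancel])
    refine mem_of_normalizes hx ?_
    rw [show x = x * y⁻¹ * y by group]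
    exact mul_mem (Subgroup.center_le_normalizer _ hz) (Subgroup.le_normalizer hy)
  have inj : ∀ P P' : Sylow p G, P.mapSurjective hf = P'.mapSurjective hf → P' = P := by
    intro P P' h
    refine (Sylow.ext (P'.is_maximal' P.isPGroup' fun x hx => ?_)).symm
    exact key P x (exists_orderOf_pow hx) (h ▸ ⟨x, hx, rfl⟩)
  constructor
  · rintro ⟨Q', hQ'⟩
    obtain ⟨Q, rfl⟩ := Sylow.mapSurjective_surjective hf p Q'
    refine ⟨Q, fun x hx => ?_⟩
    obtain ⟨k, hk⟩ := hx
    obtain ⟨j, -, hj⟩ := (Nat.dvd_prime_pow (Fact.out : p.Prime)).1 (hk ▸ orderOf_map_dvd f x)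
    obtain ⟨P', hne, hP'⟩ := hQ' (f x) ⟨j, hj⟩
    obtain ⟨P, rfl⟩ := Sylow.mapSurjective_surjective hf p P'
    exact ⟨P, fun e => hne (by rw [e]), key P x ⟨k, hk⟩ hP'⟩
  · rintro ⟨Q, hQ⟩
    refine ⟨Q.mapSurjective hf, fun y hy => ?_⟩
    obtain ⟨k, hk⟩ := hy
    have hK : IsPGroup p (Subgroup.zpowers y) := IsPGroup.of_card (n := k) (by rw [Nat.card_zpowers, hk])
    obtain ⟨P', hP'⟩ := hK.exists_le_sylow
    obtain ⟨P, rfl⟩ := Sylow.mapSurjective_surjective hf p P'
    obtain ⟨x, hx, rfl⟩ := hP' (Subgroup.mem_zpowers y)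
    obtain ⟨P₁, hne, hP₁⟩ := hQ x (exists_orderOf_pow hx)
    exact ⟨P₁.mapSurjective hf, fun e => hne (inj _ _ e).symm, ⟨x, hP₁, rfl⟩⟩

theorem not_red_of_cyclic (h : ∀ P : Sylow p G, IsCyclic (P : Subgroup G)) : ¬ Red G p := by
  rintro ⟨Q, hQ⟩
  haveI := h Q
  obtain ⟨⟨x, hx⟩, hgen⟩ := IsCyclic.exists_generator (α := (Q : Subgroup G))
  obtain ⟨P, hne, hP⟩ := hQ x (exists_orderOf_pow hx)
  refine hne (Sylow.ext (Q.is_maximal' P.isPGroup' fun y hy => ?_))
  obtain ⟨i, hi⟩ := Subgroup.mem_zpowers_iff.1 (hgen ⟨y, hy⟩)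
  rw [show y = x ^ i from (congrArg Subtype.val hi).symm]
  exact zpow_mem hP i

theorem not_red_of_ti (h1 : ∀ P : Sylow p G, ∃ x ∈ P, x ≠ 1)
    (h : ∀ (P Q : Sylow p G) (x : G), x ∈ P → x ∈ Q → x ≠ 1 → P = Q) : ¬ Red G p := by
  rintro ⟨Q, hQ⟩
  obtain ⟨x, hx, hx1⟩ := h1 Q
  obtain ⟨P, hne, hP⟩ := hQ x (exists_orderOf_pow hx)
  exact hne (h P Q x hP hx hx1)

end general

section sl2
variable {F : Type*} [Field F]

local notation "M2" => Matrix (Fin 2) (Fin 2) F

/-- The centralizer of a non-scalar `2 × 2` matrix consists of its linear polynomials. -/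
theorem eq_linear_of_commute (A N : M2) (hA : ¬ ∃ l : F, A = l • 1) (h : A * N = N * A) :
    ∃ a b : F, N = a • 1 + b • A := by
  have e00 := congrFun (congrFun h 0) 0
  have e01 := congrFun (congrFun h 0) 1
  have e10 := congrFun (congrFun h 1) 0
  have e11 := congrFun (congrFun h 1) 1
  simp only [Matrix.mul_apply, Fin.sum_univ_two] at e00 e01 e10 e11
  by_cases h01 : A 0 1 = 0
  · by_cases h10 : A 1 0 = 0
    · have hd : A 0 0 - A 1 1 ≠ 0 := fun hd => hA ⟨A 0 0, by
        ext i j; fin_cases i <;> fin_cases j <;> simp [h01, h10]; linear_combination -hd⟩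
      rw [h01] at e00 e01
      rw [h10] at e10 e11
      have n01 : N 0 1 = 0 := (mul_eq_zero.1 (show (A 0 0 - A 1 1) * N 0 1 = 0 by linear_combination e01)).resolve_left hd
      have n10 : N 1 0 = 0 := (mul_eq_zero.1 (show (A 0 0 - A 1 1) * N 1 0 = 0 by linear_combination -e10)).resolve_left hd
      refine ⟨N 0 0 - (N 0 0 - N 1 1) / (A 0 0 - A 1 1) * A 0 0, (N 0 0 - N 1 1) / (A 0 0 - A 1 1), ?_⟩
      ext i j
      fin_cases i <;> fin_cases j <;> simp [h01, h10, n01, n10] <;> field_simp <;> ring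
    · refine ⟨N 0 0 - N 1 0 / A 1 0 * A 0 0, N 1 0 / A 1 0, ?_⟩
      ext i j
      fin_cases i <;> fin_cases j <;> simp [h10] <;> field_simp
      all_goals first | linear_combination e00 | linear_combination -e00 | linear_combination e10 | linear_combination -e10 | linear_combination e01 | linear_combination -e01 | linear_combination e11 | linear_combination -e11
  · refine ⟨N 0 0 - N 0 1 / A 0 1 * A 0 0, N 0 1 / A 0 1, ?_⟩
    ext i j
    fin_cases i <;> fin_cases j <;> simp [h01] <;> field_simp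
    all_goals first | linear_combination e00 | linear_combination -e00 | linear_combination e10 | linear_combination -e10 | linear_combination e01 | linear_combination -e01 | linear_combination e11 | linear_combination -e11

theorem not_scalar (g : SL(2, F)) (h1 : g ≠ 1) (h2 : g ≠ -1) : ¬ ∃ l : F, (g : M2) = l • 1 := by
  rintro ⟨l, hl⟩
  have hd := g.2
  rw [hl, det_smul, det_one, mul_one, Fintype.card_fin, sq, mul_self_eq_one_iff] at hd
  rcases hd with rfl | rfl
  · exact h1 (sl2_ext (by simpa using hl))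
  · exact h2 (sl2_ext (by simpa using hl))

theorem commute_of_commute (g : SL(2, F)) (h1 : g ≠ 1) (h2 : g ≠ -1) {x y : SL(2, F)}
    (hx : g * x = x * g) (hy : g * y = y * g) : x * y = y * x := by
  obtain ⟨a, b, ex⟩ := eq_linear_of_commute (g : M2) x (not_scalar g h1 h2)
    (by rw [← sl2_coe_mul, hx, sl2_coe_mul])
  obtain ⟨c, d, ey⟩ := eq_linear_of_commute (g : M2) y (not_scalar g h1 h2)
    (by rw [← sl2_coe_mul, hy, sl2_coe_mul])
  refine sl2_ext ?_
  rw [sl2_coe_mul, sl2_coe_mul, ex, ey]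
  simp only [add_mul, mul_add, smul_mul_assoc, mul_smul_comm, one_mul, mul_one, smul_smul]
  module

variable [Fintype F]

theorem sylow_ti (p : ℕ) [Fact p.Prime] [CharP F p] (P Q : Sylow p SL(2, F)) (x : SL(2, F))
    (hP : x ∈ P) (hQ : x ∈ Q) (hx : x ≠ 1) : P = Q := by
  classical
  set ι := (SpecialLinearGroup.toGL : SL(2, F) →* GL (Fin 2) F)
  have hinj : Function.Injective ι := SpecialLinearGroup.toGL_injective
  have hcard : ∀ R : Sylow p SL(2, F),
      Nat.card ((R : Subgroup SL(2, F)).map ι) = p ^ (Nat.card (GL (Fin 2) F)).factorization p := by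
    intro R
    rw [Subgroup.card_map_of_injective hinj, card_sylowSL2_subgroup R,
      ← (default : Sylow p (GL (Fin 2) F)).card_eq_multiplicity, card_sylow_gl rfl p]
    simp
  have heq : Sylow.ofCard _ (hcard P) = Sylow.ofCard _ (hcard Q) := by
    by_contra hne
    have h := sylowGL2_disjoint _ _ hne
    have hm : ι x ∈ (P : Subgroup SL(2, F)).map ι ⊓ (Q : Subgroup SL(2, F)).map ι :=
      ⟨⟨x, hP, rfl⟩, ⟨x, hQ, rfl⟩⟩
    simp only [Sylow.coe_ofCard] at h
    rw [h, Subgroup.mem_bot, map_eq_one_iff _ hinj] at hm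
    exact hx hm
  exact Sylow.ext (Subgroup.map_injective hinj (by simpa using congrArg (fun R : Sylow p (GL (Fin 2) F) => R.toSubgroup) heq))

theorem not_red_char (p : ℕ) [Fact p.Prime] [CharP F p] : ¬ Red SL(2, F) p := by
  refine not_red_of_ti (fun P => ?_) (sylow_ti p)
  haveI : Nontrivial (P : Subgroup SL(2, F)) := by
    rw [← Finite.one_lt_card_iff_nontrivial, card_sylowSL2_subgroup P]
    exact Fintype.one_lt_card
  obtain ⟨⟨x, hx⟩, hx1⟩ := exists_ne (1 : (P : Subgroup SL(2, F)))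
  exact ⟨x, hx, fun h => hx1 (Subtype.ext h)⟩

/-- Data of a quaternion Sylow `2`-subgroup with its cyclic part. -/
theorem exists_cyclic_part (hodd : Odd (Fintype.card F)) (h2 : (2 : F) ≠ 0) (Q : Sylow 2 SL(2, F)) :
    ∃ (s : ℕ) (c : SL(2, F)), 2 ≤ s ∧ (Nat.card SL(2, F)).factorization 2 = s + 1 ∧ c ∈ Q ∧
      orderOf c = 2 ^ s ∧ (∃ u v : SL(2, F), u ∈ Q ∧ v ∈ Q ∧ u * v ≠ v * u) ∧
      ∀ x ∈ Q, x ∈ Subgroup.zpowers c ∨ x * x = -1 := by
  obtain ⟨k, hk, hfac, ⟨e⟩⟩ := sl2_sylow_two hodd Q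
  set c : (Q : Subgroup SL(2, F)) := e.symm (QuaternionGroup.a 1) with hc
  have hco : orderOf (c : SL(2, F)) = 2 ^ (k + 1) := by
    rw [Subgroup.orderOf_coe, hc, e.symm.orderOf_eq, QuaternionGroup.orderOf_a_one, pow_succ']
  refine ⟨k + 1, c, by omega, hfac, c.2, hco, ?_, fun x hx => ?_⟩
  · refine ⟨c, e.symm (QuaternionGroup.xa 0), c.2, (e.symm _).2, fun h => ?_⟩
    have h' := congrArg e (show c * e.symm (QuaternionGroup.xa 0) = e.symm (QuaternionGroup.xa 0) * c from Subtype.ext h)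
    simp only [map_mul, MulEquiv.apply_symm_apply, hc, QuaternionGroup.a_mul_xa, QuaternionGroup.xa_mul_a,
      QuaternionGroup.xa.injEq] at h'
    have h'' : ((2 : ℕ) : ZMod (2 * 2 ^ k)) = 0 := by push_cast; linear_combination -h'
    rw [ZMod.natCast_eq_zero_iff] at h''
    have := Nat.le_of_dvd two_pos h''
    have := Nat.pow_le_pow_right two_pos hk
    omega
  · rcases hq : e ⟨x, hx⟩ with i | i
    · left
      haveI : NeZero (2 * 2 ^ k) := ⟨by positivity⟩
      have hx' : (⟨x, hx⟩ : (Q : Subgroup SL(2, F))) = c ^ i.val := by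
        apply e.injective
        rw [hq, map_pow, hc, e.apply_symm_apply, QuaternionGroup.a_one_pow, ZMod.natCast_zmod_val]
      rw [show x = (c : SL(2, F)) ^ i.val from congrArg Subtype.val hx']
      exact pow_mem (Subgroup.mem_zpowers _) _
    · right
      haveI : NeZero (2 ^ k) := ⟨by positivity⟩
      have h4 : orderOf x = 4 := by
        rw [show x = ((⟨x, hx⟩ : (Q : Subgroup SL(2, F))) : SL(2, F)) from rfl,
          Subgroup.orderOf_coe, ← e.orderOf_eq, hq, QuaternionGroup.orderOf_xa]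
      refine sl2_eq_neg_one h2 (fun h => ?_) ?_
      · have := orderOf_dvd_of_pow_eq_one (show x ^ 2 = 1 by rw [sq, h])
        rw [h4] at this
        omega
      · rw [show x * x * (x * x) = x ^ 4 by simp [pow_succ, mul_assoc], ← h4, pow_orderOf_eq_one]

theorem zpowers_normal_in {G : Type*} [Group G] [Finite G] {Q : Subgroup G} {c : G} (hc : c ∈ Q)
    (h : Nat.card Q = 2 * orderOf c) : Q ≤ Subgroup.normalizer (Subgroup.zpowers c : Set G) := by
  have hle : Subgroup.zpowers c ≤ Q := Subgroup.zpowers_le.2 hc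
  have hidx : (Subgroup.zpowers c).relIndex Q = 2 := by
    have h1 := Subgroup.relIndex_mul_relIndex ⊥ _ Q bot_le hle
    rw [Subgroup.relIndex_bot_left, Subgroup.relIndex_bot_left, Nat.card_zpowers, h] at h1
    rw [mul_comm 2] at h1
    exact Nat.eq_of_mul_eq_mul_left (orderOf_pos c) h1
  haveI : ((Subgroup.zpowers c).subgroupOf Q).Normal := Subgroup.normal_of_index_eq_two hidx
  exact Subgroup.normal_subgroupOf_iff_le_normalizer hle |>.1 inferInstance

theorem red_two (hodd : Odd (Fintype.card F)) (h2 : (2 : F) ≠ 0) {s : ℕ} (hs : 2 ≤ s)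
    (hfac : (Nat.card SL(2, F)).factorization 2 = s + 1) {g : SL(2, F)} (hg : 2 ^ s ∣ orderOf g)
    (hne : orderOf g ≠ 2 ^ s) (hexact : ¬ 2 ^ (s + 1) ∣ orderOf g) : Red SL(2, F) 2 := by
  classical
  obtain ⟨m, hm⟩ := hg
  have hmodd : ¬ 2 ∣ m := fun ⟨r, hr⟩ => hexact ⟨r, by rw [hm, hr, pow_succ]; ring⟩
  set c := g ^ m with hc
  set y := g ^ 2 ^ s with hy
  have hm0 : m ≠ 0 := fun h => hmodd (h ▸ dvd_zero 2)
  have hco : orderOf c = 2 ^ s := by
    rw [hc, orderOf_pow_of_dvd hm0 ⟨2 ^ s, by rw [hm, mul_comm]⟩, hm, Nat.mul_div_cancel _ (Nat.pos_of_ne_zero hm0)]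
  have hyo : orderOf y = m := by
    rw [hy, orderOf_pow_of_dvd (by positivity) ⟨m, hm⟩, hm, Nat.mul_div_cancel_left _ (by positivity)]
  have h4 : 4 ≤ 2 ^ s := le_trans (by norm_num) (Nat.pow_le_pow_right two_pos hs)
  obtain ⟨Q, hQ⟩ := (IsPGroup.of_card (p := 2) (G := Subgroup.zpowers c) (n := s)
    (by rw [Nat.card_zpowers, hco])).exists_le_sylow
  have hcQ : c ∈ Q := hQ (Subgroup.mem_zpowers c)
  have hcy : c * y = y * c := (Commute.pow_pow (Commute.refl g) m (2 ^ s)).eq
  have hy1 : y ≠ 1 := fun h => hne (by rw [h, orderOf_one] at hyo; rw [hm, ← hyo, mul_one])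
  have hy2 : y ≠ -1 := fun h => hmodd (by rw [h, sl2_orderOf_neg_one h2] at hyo; rw [← hyo])
  have hQy : MulAut.conj y • (Q : Subgroup SL(2, F)) ≠ Q := by
    intro hfix
    obtain ⟨s', c', -, hfac', hc'Q, -, ⟨u, v, hu, hv, huv⟩, -⟩ := exists_cyclic_part hodd h2 Q
    have hcard : Nat.card (Q : Subgroup SL(2, F)) = 2 * orderOf c := by
      rw [hco, Q.card_eq_multiplicity, hfac, pow_succ']
    have hcomm : ∀ w ∈ Q, y * w = w * y := by
      intro w hw
      by_cases hwc : w ∈ Subgroup.zpowers c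
      · obtain ⟨i, rfl⟩ := Subgroup.mem_zpowers_iff.1 hwc
        exact ((show Commute y c from hcy.symm).zpow_right i).eq
      have hywQ : ∀ w ∈ Q, y * w * y⁻¹ ∈ Q := fun w hw =>
        hfix.le (Subgroup.smul_mem_pointwise_smul w (MulAut.conj y) _ hw)
      -- `Q / ⟨c⟩` has order two
      have hidx : ((Subgroup.zpowers c).subgroupOf Q).index = 2 := by
        have hle : Subgroup.zpowers c ≤ (Q : Subgroup SL(2, F)) := Subgroup.zpowers_le.2 hcQ
        have h1 := Subgroup.relIndex_mul_relIndex ⊥ _ (Q : Subgroup SL(2, F)) bot_le hle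
        rw [Subgroup.relIndex_bot_left, Subgroup.relIndex_bot_left, Nat.card_zpowers, hcard, mul_comm 2] at h1
        exact Nat.eq_of_mul_eq_mul_left (orderOf_pos c) h1
      set d := y * w * y⁻¹ * w⁻¹ with hd
      have hdc : d ∈ Subgroup.zpowers c := by
        have hnot : y * w * y⁻¹ ∉ Subgroup.zpowers c := by
          intro h
          obtain ⟨i, hi⟩ := Subgroup.mem_zpowers_iff.1 h
          refine hwc (Subgroup.mem_zpowers_iff.2 ⟨i, ?_⟩)
          have : y⁻¹ * c ^ i * y = w := by rw [hi]; group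
          rw [← this, mul_assoc, ((show Commute y c from hcy.symm).zpow_right i).symm.eq, inv_mul_cancel_left]
        have h := (Subgroup.mul_mem_iff_of_index_two hidx (a := (⟨_, hywQ w hw⟩ : (Q : Subgroup SL(2, F))))
          (b := ⟨w⁻¹, inv_mem hw⟩)).2 (by simp [Subgroup.mem_subgroupOf, hnot, hwc])
        simpa [Subgroup.mem_subgroupOf, hd] using h
      have hdy : y * d = d * y := by
        obtain ⟨i, hi⟩ := Subgroup.mem_zpowers_iff.1 hdc
        rw [← hi]
        exact ((show Commute y c from hcy.symm).zpow_right i).eq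
      have hpow : ∀ j : ℕ, y ^ j * w * (y ^ j)⁻¹ = d ^ j * w := by
        intro j
        induction j with
        | zero => simp
        | succ j ih =>
          have hyd : y * d ^ j = d ^ j * y := ((show Commute y d from hdy).pow_right j).eq
          calc y ^ (j + 1) * w * (y ^ (j + 1))⁻¹ = y * (y ^ j * w * (y ^ j)⁻¹) * y⁻¹ := by
                rw [pow_succ']; group
            _ = y * d ^ j * (w * y⁻¹) := by rw [ih]; group
            _ = d ^ j * (y * w * y⁻¹) := by rw [hyd]; group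
            _ = d ^ (j + 1) * w := by rw [hd, pow_succ]; group
      have hdm := hpow m
      rw [show y ^ m = 1 by rw [← hyo, pow_orderOf_eq_one], one_mul, inv_one, mul_one, right_eq_mul] at hdm
      have hdo : orderOf d ∣ Nat.gcd (2 ^ s) m := Nat.dvd_gcd
        (hco ▸ orderOf_dvd_of_mem_zpowers hdc) (orderOf_dvd_of_pow_eq_one hdm)
      rw [(Nat.Coprime.pow_left s (Nat.prime_two.coprime_iff_not_dvd.2 hmodd)), Nat.dvd_one,
        orderOf_eq_one_iff, hd, mul_inv_eq_one, mul_inv_eq_iff_eq_mul] at hdo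
      exact hdo
    exact huv (commute_of_commute y hy1 hy2 (hcomm u hu) (hcomm v hv))
  set Q' : Sylow 2 SL(2, F) := y • Q with hQ'
  have hQ'ne : Q' ≠ Q := fun h => hQy (by
    have := congrArg (fun R : Sylow 2 SL(2, F) => (R : Subgroup SL(2, F))) h
    simpa [hQ', Sylow.coe_subgroup_smul] using this)
  have hcQ' : c ∈ Q' := by
    have := Subgroup.smul_mem_pointwise_smul c (MulAut.conj y) _ hcQ
    simp only [MulAut.smul_def, MulAut.conj_apply, ← hcy, mul_inv_cancel_right] at this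
    show c ∈ (Q' : Subgroup SL(2, F))
    rw [hQ', Sylow.coe_subgroup_smul]
    exact this
  refine ⟨Q, fun x hx => ?_⟩
  by_cases hxQ : x ∈ Q
  swap
  · obtain ⟨k, hk⟩ := hx
    obtain ⟨P, hP⟩ := (IsPGroup.of_card (p := 2) (G := Subgroup.zpowers x) (n := k)
      (by rw [Nat.card_zpowers, hk])).exists_le_sylow
    exact ⟨P, fun h => hxQ (h ▸ hP (Subgroup.mem_zpowers x)), hP (Subgroup.mem_zpowers x)⟩
  by_cases hxc : x ∈ Subgroup.zpowers c
  · exact ⟨Q', hQ'ne, (Subgroup.zpowers_le.2 hcQ') hxc⟩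
  have hx2 : x * x = -1 := by
    obtain ⟨s', c', -, hfac', hc'Q, hc'o, -, hall⟩ := exists_cyclic_part hodd h2 Q
    rw [hfac, add_left_inj] at hfac'
    subst hfac'
    by_contra hne
    -- outside `⟨c⟩` forces the generator of the cyclic part to agree
    have hcc : ∀ z ∈ Q, z * z ≠ -1 → z ∈ Subgroup.zpowers c' := fun z hz h => (hall z hz).resolve_right h
    have hx' := hcc x hxQ hne
    by_cases hc2 : c * c = -1
    · -- then `s = 2`, all squares outside the centre are `-1`
      have hs2 : 2 ^ s ∣ 4 := hco ▸ orderOf_dvd_of_pow_eq_one (by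
        rw [show c ^ 4 = (c * c) * (c * c) by simp [pow_succ, mul_assoc], hc2, neg_mul_neg, one_mul])
      have hx4 : x ^ 4 = 1 := by
        obtain ⟨i, rfl⟩ := Subgroup.mem_zpowers_iff.1 hx'
        rw [← zpow_natCast, ← _root_.zpow_mul, mul_comm, _root_.zpow_mul, zpow_natCast,
          orderOf_dvd_iff_pow_eq_one.1 (hc'o ▸ hs2), _root_.one_zpow]
      by_cases hx0 : x * x = 1
      · by_cases hx1 : x = 1
        · exact hxc (hx1 ▸ one_mem _)
        · exact hxc (by rw [sl2_eq_neg_one h2 hx1 hx0, ← hc2]; exact mul_mem (Subgroup.mem_zpowers c) (Subgroup.mem_zpowers c))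
      · exact hne (sl2_eq_neg_one h2 hx0 (by rw [← sq, ← sq, ← pow_mul]; exact hx4))
    · have heq : Subgroup.zpowers c = Subgroup.zpowers c' :=
        Subgroup.eq_of_le_of_card_ge (Subgroup.zpowers_le.2 (hcc c hcQ hc2))
          (by rw [Nat.card_zpowers, Nat.card_zpowers, hco, hc'o])
      exact hxc (heq ▸ hx')
  set t := c ^ 2 ^ (s - 2) with ht
  have ht2 : t * t = -1 := by
    have ho : orderOf t = 4 := by
      rw [ht, orderOf_pow_of_dvd (by positivity) (by rw [hco]; exact pow_dvd_pow 2 (Nat.sub_le _ _)), hco,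
        Nat.pow_div (Nat.sub_le _ _) two_pos, show s - (s - 2) = 2 by omega]
      norm_num
    refine sl2_eq_neg_one h2 (fun h => ?_) ?_
    · have := orderOf_dvd_of_pow_eq_one (show t ^ 2 = 1 by rw [sq, h])
      rw [ho] at this
      omega
    · rw [show t * t * (t * t) = t ^ 4 by simp [pow_succ, mul_assoc], ← ho, pow_orderOf_eq_one]
  obtain ⟨h, hh⟩ := sl2_trace_zero_conj h2 ht2 hx2
  have hxR : ∀ R : Sylow 2 SL(2, F), c ∈ R → x ∈ (h • R : Sylow 2 SL(2, F)) := by
    intro R hR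
    rw [← hh, ← MulAut.conj_apply]
    show MulAut.conj h t ∈ ((h • R : Sylow 2 SL(2, F)) : Subgroup SL(2, F))
    rw [Sylow.coe_subgroup_smul]
    exact Subgroup.smul_mem_pointwise_smul t (MulAut.conj h) _ (pow_mem hR _)
  by_cases hq : h • Q = Q
  · exact ⟨h • Q', fun e => hQ'ne (MulAction.injective h (e.trans hq.symm)), hxR Q' hcQ'⟩
  · exact ⟨h • Q, hq, hxR Q hcQ⟩

theorem not_red_two (p : ℕ) [Fact p.Prime] [CharP F p] (hp : p ≠ 2) (hodd : Odd (Fintype.card F))
    (h2 : (2 : F) ≠ 0) {s : ℕ} (hs : 2 ≤ s) (hfac : (Nat.card SL(2, F)).factorization 2 = s + 1)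
    (hside : Fintype.card F - 1 = 2 ^ s ∨ Fintype.card F + 1 = 2 ^ s) : ¬ Red SL(2, F) 2 := by
  classical
  rintro ⟨Q, hQ⟩
  obtain ⟨s', c, -, hfac', hcQ, hco, -, -⟩ := exists_cyclic_part hodd h2 Q
  rw [hfac, add_left_inj] at hfac'
  subst hfac'
  have h4 : 4 ≤ 2 ^ s := le_trans (by norm_num) (Nat.pow_le_pow_right two_pos hs)
  obtain ⟨P, hne, hP⟩ := hQ c ⟨s, hco⟩
  have hc1 : c ≠ 1 := fun h => by rw [h, orderOf_one] at hco; omega
  have hC : ∀ r : ℕ, r.Prime → r ≠ 2 → ∀ y : SL(2, F), c * y = y * c → orderOf y ≠ r := by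
    intro r hr hr2 y hy hyo
    have hcop : (orderOf c).Coprime (orderOf y) := by
      rw [hco, hyo]; exact ((Nat.coprime_primes Nat.prime_two hr).2 (Ne.symm hr2)).pow_left s
    by_cases hrp : r = p
    · subst hrp
      have hy1 : y ≠ 1 := fun h => by rw [h, orderOf_one] at hyo; exact hr.ne_one hyo.symm
      have hy2 : y ≠ -1 := fun h => hr2 (by rw [h, sl2_orderOf_neg_one h2] at hyo; exact hyo.symm)
      obtain ⟨a, b, hab⟩ := eq_linear_of_commute (y : M2) c (not_scalar y hy1 hy2)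
        (by rw [← sl2_coe_mul, ← hy, sl2_coe_mul])
      have hnil : ((y : M2) - 1) ^ r = 0 := by
        rw [sub_pow_char_of_commute r (Commute.one_right _), one_pow, ← sl2_coe_pow, ← hyo, pow_orderOf_eq_one]
        simp
      have hdet : ((y : M2) - 1).det = 0 := by
        have := congrArg Matrix.det hnil
        rw [det_pow, det_zero] at this
        exact eq_zero_of_pow_eq_zero this
      refine sl2_trace_of_order r (g := c) (by rw [hco]; exact ((Nat.coprime_primes Nat.prime_two hr).2 (Ne.symm hr2)).pow_left s) (by omega) ?_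
      have hyd := y.2
      have hcd := c.2
      rw [det_fin_two] at hdet hyd
      rw [hab, det_fin_two] at hcd
      rw [hab, trace_fin_two]
      simp at hdet hcd ⊢
      linear_combination 4 * hcd + (-4 * b ^ 2) * hyd + b ^ 2 * ((y : M2) 0 0 + (y : M2) 1 1 + 2) * (hyd - hdet)
    · have ho : orderOf (c * y) = 2 ^ s * r := by
        rw [Commute.orderOf_mul_eq_mul_orderOf_of_coprime hy hcop, hco, hyo]
      have hcp : (orderOf (c * y)).Coprime p := by
        rw [ho]
        exact Nat.Coprime.mul_left (((Nat.coprime_primes Nat.prime_two Fact.out).2 (Ne.symm hp)).pow_left s)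
          ((Nat.coprime_primes hr Fact.out).2 hrp)
      have hr3 : 3 ≤ r := by have := hr.two_le; omega
      have hbig : 3 * 2 ^ s ≤ 2 ^ s * r := by rw [mul_comm]; exact Nat.mul_le_mul_left _ hr3
      have hq1 : 1 < Fintype.card F := Fintype.one_lt_card
      rcases sl2_order_dvd p (c * y) hcp with hd | hd <;> rw [ho] at hd <;>
        have := Nat.le_of_dvd (by omega) hd <;> omega
  have hCc : ∀ y : SL(2, F), c * y = y * c → Odd (orderOf y) → y = 1 := by
    intro y hy ho
    by_contra hy1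
    obtain ⟨r, hr, hd⟩ := Nat.exists_prime_and_dvd (fun h => hy1 (orderOf_eq_one_iff.1 h))
    refine hC r hr ?_ (y ^ (orderOf y / r)) ((show Commute c y from hy).pow_right _).eq
      (orderOf_pow_orderOf_div (orderOf_pos y).ne' hd)
    rintro rfl
    exact (Nat.not_even_iff_odd.2 ho) (even_iff_two_dvd.2 hd)
  set N := Subgroup.normalizer (Subgroup.zpowers c : Set SL(2, F))
  have hN : IsPGroup 2 N := by
    rw [IsPGroup.iff_orderOf]
    intro ⟨y, hy⟩
    rw [Subgroup.orderOf_mk]
    obtain ⟨j, m, hm, hjm⟩ := Nat.exists_eq_two_pow_mul_odd (orderOf_pos y).ne'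
    refine ⟨j, ?_⟩
    -- the odd part centralises `c`
    have hz : orderOf (y ^ 2 ^ j) = m := by
      rw [orderOf_pow_of_dvd (by positivity) ⟨m, hjm⟩, hjm, Nat.mul_div_cancel_left _ (by positivity)]
    have hzc : c * (y ^ 2 ^ j) = (y ^ 2 ^ j) * c := by
      have hzN : y ^ 2 ^ j ∈ N := pow_mem hy _
      set z := y ^ 2 ^ j
      obtain ⟨i, hi⟩ := Subgroup.mem_zpowers_iff.1 ((Subgroup.mem_normalizer_iff.1 hzN c).1 (Subgroup.mem_zpowers c))
      have hiter : ∀ t : ℕ, z ^ t * c * (z ^ t)⁻¹ = c ^ (i ^ t) := by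
        intro t
        induction t with
        | zero => simp
        | succ t ih =>
          rw [show z ^ (t + 1) * c * (z ^ (t + 1))⁻¹ = z * (z ^ t * c * (z ^ t)⁻¹) * z⁻¹ by
            rw [pow_succ']; group, ih, ← conj_zpow, ← hi, ← _root_.zpow_mul, pow_succ']
      have h1 := hiter m
      rw [← hz, pow_orderOf_eq_one, one_mul, inv_one, mul_one, hz] at h1
      have hiu : IsUnit (i : ZMod (2 ^ s)) := by
        refine IsUnit.of_pow_eq_one (n := m) ?_ (fun h0 => absurd hm (by rw [h0]; decide))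
        have h2 : ((i ^ m : ℤ) : ZMod (orderOf c)) = ((1 : ℤ) : ZMod (orderOf c)) := by
          rw [ZMod.intCast_eq_intCast_iff_dvd_sub, ← neg_sub, dvd_neg, orderOf_dvd_iff_zpow_eq_one,
            _root_.zpow_sub, ← h1, zpow_one, mul_inv_cancel]
        rw [hco] at h2
        exact_mod_cast h2
      have hu1 : hiu.unit ^ m = 1 := by
        ext
        rw [Units.val_pow_eq_pow_val, IsUnit.unit_spec, Units.val_one]
        have h2 : ((i ^ m : ℤ) : ZMod (orderOf c)) = ((1 : ℤ) : ZMod (orderOf c)) := by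
          rw [ZMod.intCast_eq_intCast_iff_dvd_sub, ← neg_sub, dvd_neg, orderOf_dvd_iff_zpow_eq_one,
            _root_.zpow_sub, ← h1, zpow_one, mul_inv_cancel]
        rw [hco] at h2
        exact_mod_cast h2
      have hu : hiu.unit = 1 := by
        rw [← orderOf_eq_one_iff]
        have hd1 := orderOf_dvd_of_pow_eq_one hu1
        have hd2 : orderOf hiu.unit ∣ 2 ^ (s - 1) := by
          have := orderOf_dvd_natCard hiu.unit
          rwa [Nat.card_eq_fintype_card, ZMod.card_units_eq_totient, Nat.totient_prime_pow Nat.prime_two (by omega),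
            show (2 : ℕ) - 1 = 1 from rfl, mul_one] at this
        have := Nat.dvd_gcd hd2 hd1
        rwa [(Nat.Coprime.pow_left (s - 1) (Nat.coprime_two_left.2 hm)), Nat.dvd_one] at this
      have hu' : ((i : ℤ) : ZMod (orderOf c)) = ((1 : ℤ) : ZMod (orderOf c)) := by
        rw [hco]
        simpa using congrArg Units.val hu
      rw [ZMod.intCast_eq_intCast_iff_dvd_sub, orderOf_dvd_iff_zpow_eq_one, _root_.zpow_sub, zpow_one,
        mul_inv_eq_one] at hu'
      rw [← hu', eq_mul_inv_iff_mul_eq] at hi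
      exact hi
    have := hCc _ hzc (hz ▸ hm)
    rw [this, orderOf_one] at hz
    rw [hjm, ← hz, mul_one]
  have hle : ∀ R : Sylow 2 SL(2, F), c ∈ R → (R : Subgroup SL(2, F)) ≤ N := fun R hR =>
    zpowers_normal_in hR (by rw [R.card_eq_multiplicity, hfac, hco, pow_succ'])
  exact hne (Sylow.ext ((P.is_maximal' hN (hle P hP)).symm.trans (Q.is_maximal' hN (hle Q hcQ))))

theorem red_sl2_iff (p : ℕ) [hp : Fact p.Prime] :
    Red SL(2, F) p ↔
      (p = 2 ∧ (¬ ∃ k : ℕ, Fintype.card F + 1 = 2 ^ k) ∧ (¬ ∃ k : ℕ, Fintype.card F = 2 ^ k) ∧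
        ¬ ∃ k : ℕ, Fintype.card F = 2 ^ k + 1) := by
  classical
  obtain ⟨l, hl'⟩ := CharP.exists F
  obtain ⟨f, hl, hq⟩ := FiniteField.card F l
  haveI : Fact l.Prime := ⟨hl⟩
  by_cases hpl : p = l
  · subst hpl
    refine ⟨fun h => absurd h (not_red_char p), ?_⟩
    rintro ⟨rfl, -, h, -⟩
    exact absurd ⟨f, hq⟩ h
  by_cases hp2 : p = 2
  swap
  · exact ⟨fun h => absurd h (not_red_of_cyclic (sl2_sylow_cyclic l p hp2 hpl)), fun h => absurd h.1 hp2⟩
  subst hp2
  have hl2 : l ≠ 2 := Ne.symm hpl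
  set q := Fintype.card F with hqdef
  have hodd : Odd q := by rw [hq]; exact (hl.odd_of_ne_two hl2).pow
  have h2 : (2 : F) ≠ 0 := fun h => hl2 ((Nat.prime_dvd_prime_iff_eq hl Nat.prime_two).1
    ((CharP.cast_eq_zero_iff F l 2).1 (by exact_mod_cast h)))
  have hq3 : 3 ≤ q := by
    have : 1 < q := Fintype.one_lt_card
    rcases hodd with ⟨r, hr⟩; omega
  -- the side divisible by four
  obtain ⟨d, d', g, hgd, hd4, hd', hmul, hdd⟩ : ∃ (d d' : ℕ) (g : SL(2, F)), orderOf g = d ∧ 4 ∣ d ∧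
      ¬ 4 ∣ d' ∧ (q - 1) * (q + 1) = d * d' ∧ (d = q - 1 ∨ d = q + 1) ∧ 2 ∣ d' := by
    rcases hodd with ⟨r, hr⟩
    rcases Nat.even_or_odd r with ⟨u, hu⟩ | ⟨u, hu⟩
    · obtain ⟨g, hg⟩ := exists_sl2_minus (F := F)
      exact ⟨q - 1, q + 1, g, hg, ⟨u, by omega⟩, by omega, rfl, Or.inl rfl, by omega⟩
    · obtain ⟨g, hg⟩ := exists_sl2_plus (F := F) l
      exact ⟨q + 1, q - 1, g, hg, ⟨u + 1, by omega⟩, by omega, mul_comm _ _, Or.inr rfl, by omega⟩
  obtain ⟨hside, hd'2⟩ := hdd
  have hd0 : d ≠ 0 := by omega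
  have hd'0 : d' ≠ 0 := fun h => hd' (h ▸ dvd_zero 4)
  set s := d.factorization 2 with hsdef
  have hdvd := fun (n : ℕ) (hn : n ≠ 0) (j : ℕ) => Nat.prime_two.pow_dvd_iff_le_factorization (k := j) hn
  have hs : 2 ≤ s := (hdvd d hd0 2).1 hd4
  have hfac : (Nat.card SL(2, F)).factorization 2 = s + 1 := by
    have h1 : d'.factorization 2 = 1 := by
      have a1 := (hdvd d' hd'0 1).1 hd'2
      have a2 : ¬ 2 ≤ d'.factorization 2 := fun h => hd' ((hdvd d' hd'0 2).2 h)
      omega
    rw [card_sl2', ← hqdef, hmul, Nat.factorization_mul (by omega) (mul_ne_zero hd0 hd'0),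
      Nat.factorization_mul hd0 hd'0, Finsupp.add_apply, Finsupp.add_apply, h1,
      Nat.factorization_eq_zero_of_not_dvd (fun h => by rcases hodd with ⟨r, hr⟩; omega), zero_add]
  have hsd : 2 ^ s ∣ d := Nat.ordProj_dvd d 2
  by_cases hpow : d = 2 ^ s
  · refine ⟨fun h => absurd h (not_red_two l hl2 hodd h2 hs hfac ?_), ?_⟩
    · rcases hside with h | h
      · exact Or.inl (by omega)
      · exact Or.inr (by omega)
    · rintro ⟨-, h1, -, h3⟩
      rcases hside with h | h
      · exact absurd ⟨s, by omega⟩ h3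
      · exact absurd ⟨s, by omega⟩ h1
  · refine ⟨fun _ => ⟨rfl, ?_, ?_, ?_⟩, fun _ => red_two hodd h2 hs hfac (g := g) (hgd ▸ hsd) (hgd ▸ hpow) ?_⟩
    · rintro ⟨k, hk⟩
      have hk2 : 2 ≤ k := by
        by_contra h
        have : 2 ^ k ≤ 2 ^ 1 := Nat.pow_le_pow_right two_pos (by omega)
        omega
      have h4 : 4 ∣ q + 1 := hk ▸ pow_dvd_pow 2 hk2
      have : d = q + 1 := by omega
      refine hpow ?_
      rw [this, hk, hsdef, this, hk, Nat.factorization_pow, Finsupp.smul_apply, Nat.prime_two.factorization_self,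
        smul_eq_mul, mul_one]
    · rintro ⟨k, hk⟩
      rcases Nat.eq_zero_or_pos k with rfl | hk0
      · omega
      · have : 2 ∣ q := hk ▸ dvd_pow_self 2 (by omega)
        rcases hodd with ⟨r, hr⟩; omega
    · rintro ⟨k, hk⟩
      rcases Nat.lt_or_ge k 2 with hk2 | hk2
      · -- `q = 3`, so `d = 4`
        have : 2 ^ k ≤ 2 ^ 1 := Nat.pow_le_pow_right two_pos (by omega)
        have hd : d = 4 := by omega
        refine hpow ?_
        have : s ≤ 2 := by
          by_contra h
          have := Nat.le_of_dvd (by omega) ((pow_dvd_pow 2 (show 3 ≤ s by omega)).trans hsd)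
          omega
        rw [hd, show s = 2 by omega]
        norm_num
      · have h4 : 4 ∣ q - 1 := by rw [hk, Nat.add_sub_cancel]; exact pow_dvd_pow 2 hk2
        have : d = q - 1 := by omega
        have e : q - 1 = 2 ^ k := by omega
        refine hpow ?_
        rw [this, e, hsdef, this, e, Nat.factorization_pow, Finsupp.smul_apply, Nat.prime_two.factorization_self,
          smul_eq_mul, mul_one]
    · rw [hgd]
      exact Nat.pow_succ_factorization_not_dvd hd0 Nat.prime_two

theorem red_psl2_iff (p : ℕ) [Fact p.Prime] :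
    Red (Matrix.ProjectiveSpecialLinearGroup (Fin 2) F) p ↔ Red SL(2, F) p :=
  red_iff_of_central (QuotientGroup.mk'_surjective _) (by rw [QuotientGroup.ker_mk'])

end sl2

end CfsgLib.Involution.SL2Redundant
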