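import Mathlib
import Cfsg.Agent.Lib.Involution.SL2Redundant

/-!
# A redundant Sylow `p`-subgroup of `GL(p, q)` for `p ∥ q - 1`

The monomial group `μ_p ≀ C_p` is a Sylow `p`-subgroup `Q`; every element of `Q` commutes with an element
outside the normalizer of `Q`, or is conjugate to such an element of `Q`.
-/

set_option autoImplicit false
set_option linter.unusedSectionVars false
set_option backward.isDefEq.respectTransparency false

open Matrix Pointwise

namespace CfsgLib.Involution.GLRedundant

open CfsgLib.Involution.SL2Redundant (Red)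

section general
variable {G : Type*} [Group G] {p : ℕ} (Q : Sylow p G)

theorem smul_ne_of_not_mem {g y : G} (hy : y ∈ Q) (h : g * y * g⁻¹ ∉ Q) : g • Q ≠ Q := by
  intro e
  refine h ?_
  show g * y * g⁻¹ ∈ (Q : Subgroup G)
  rw [← e, Sylow.coe_subgroup_smul]
  exact Subgroup.smul_mem_pointwise_smul y (MulAut.conj g) _ hy

theorem mem_smul_of_commute {g x : G} (hx : x ∈ Q) (h : g * x = x * g) : x ∈ g • Q := by
  show x ∈ ((g • Q : Sylow p G) : Subgroup G)
  rw [Sylow.coe_subgroup_smul]
  have := Subgroup.smul_mem_pointwise_smul x (MulAut.conj g) _ hx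
  rwa [MulAut.smul_def, MulAut.conj_apply, h, mul_inv_cancel_right] at this

/-- An element conjugate to one lying in two Sylow subgroups lies in one different from `Q`. -/
theorem exists_ne_of_conj {s g h : G} (hs : s ∈ Q) (hgs : g * s = s * g) (hg : g • Q ≠ Q) :
    ∃ P : Sylow p G, P ≠ Q ∧ h * s * h⁻¹ ∈ P := by
  have key : ∀ R : Sylow p G, s ∈ R → h * s * h⁻¹ ∈ h • R := fun R hR => by
    show h * s * h⁻¹ ∈ ((h • R : Sylow p G) : Subgroup G)
    rw [Sylow.coe_subgroup_smul]
    exact Subgroup.smul_mem_pointwise_smul s (MulAut.conj h) _ hR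
  by_cases hh : h • Q = Q
  · exact ⟨h • g • Q, fun e => hg (MulAction.injective h (e.trans hh.symm)),
      key _ (mem_smul_of_commute Q hs hgs)⟩
  · exact ⟨h • Q, hh, key Q hs⟩

end general

variable {F : Type*} [Field F] {p : ℕ} [hp : Fact p.Prime]

local notation "Mp" => Matrix (Fin p) (Fin p) F
local notation "GLp" => Matrix.GeneralLinearGroup (Fin p) F

/-- The monomial matrix with entry `d a` at position `(a, a + j)`. -/
def mono (d : Fin p → F) (j : Fin p) : Mp := fun a b => if b = a + j then d a else 0

theorem mul_mono (A : Mp) (e : Fin p → F) (k a b : Fin p) :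
    (A * mono e k) a b = A a (b - k) * e (b - k) := by
  rw [Matrix.mul_apply, Finset.sum_eq_single (b - k)]
  · simp [mono]
  · intro u _ hu
    rw [mono, if_neg, mul_zero]
    exact fun h => hu (by rw [h, add_sub_cancel_right])
  · simp

theorem mono_mul (d : Fin p → F) (j : Fin p) (A : Mp) (a b : Fin p) :
    (mono d j * A) a b = d a * A (a + j) b := by
  rw [Matrix.mul_apply, Finset.sum_eq_single (a + j)]
  · simp [mono]
  · intro u _ hu
    rw [mono, if_neg hu, zero_mul]
  · simp

theorem mono_mul_mono (d e : Fin p → F) (j k : Fin p) :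
    mono d j * mono e k = mono (fun a => d a * e (a + j)) (j + k) := by
  ext a b
  rw [mono_mul]
  simp only [mono, add_assoc]
  split <;> simp

theorem mono_one : mono (fun _ => (1 : F)) (0 : Fin p) = 1 := by
  ext a b
  simp [mono, Matrix.one_apply, eq_comm]

/-- The monomial unit. -/
def monoU (d : Fin p → rootsOfUnity p F) (j : Fin p) : GLp where
  val := mono (fun a => ((d a : Fˣ) : F)) j
  inv := mono (fun a => (((d (a - j))⁻¹ : rootsOfUnity p F) : Fˣ)) (-j)
  val_inv := by
    rw [mono_mul_mono, add_neg_cancel, ← mono_one]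
    congr 1
    funext a
    simp
  inv_val := by
    rw [mono_mul_mono, neg_add_cancel, ← mono_one]
    congr 1
    funext a
    simp [sub_eq_add_neg]

theorem root_pow (u : rootsOfUnity p F) : ((u : Fˣ) : F) ^ p = 1 := by
  have := (mem_rootsOfUnity p (u : Fˣ)).1 u.2
  rw [← Units.val_pow_eq_pow_val, this, Units.val_one]

theorem monoU_injective : Function.Injective (fun x : (Fin p → rootsOfUnity p F) × Fin p => monoU x.1 x.2) := by
  rintro ⟨d, j⟩ ⟨e, k⟩ h
  have h' : ∀ a b, mono (fun a => ((d a : Fˣ) : F)) j a b = mono (fun a => ((e a : Fˣ) : F)) k a b :=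
    fun a b => Matrix.ext_iff.2 (Units.ext_iff.1 h : _) a b
  have hjk : j = k := by
    have h0 := h' 0 j
    simp only [mono, zero_add, if_true] at h0
    by_contra hne
    rw [if_neg hne] at h0
    exact Units.ne_zero _ h0
  subst hjk
  refine Prod.ext (funext fun a => ?_) rfl
  have h0 := h' a (a + j)
  simp only [mono, if_true] at h0
  exact Subtype.ext (Units.ext h0)

variable (F p) in
/-- The monomial Sylow subgroup. -/
def monoSubgroup : Subgroup GLp where
  carrier := Set.range fun x : (Fin p → rootsOfUnity p F) × Fin p => monoU x.1 x.2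
  one_mem' := ⟨(fun _ => 1, 0), Units.ext (by simp [monoU, mono_one])⟩
  mul_mem' := by
    rintro _ _ ⟨⟨d, j⟩, rfl⟩ ⟨⟨e, k⟩, rfl⟩
    refine ⟨(fun a => d a * e (a + j), j + k), Units.ext ?_⟩
    simp [monoU, mono_mul_mono]
  inv_mem' := by
    rintro _ ⟨⟨d, j⟩, rfl⟩
    refine ⟨(fun a => (d (a - j))⁻¹, -j), Units.ext ?_⟩
    rfl

theorem not_mem_iff {g : GLp} (hg : ∀ (e : Fin p → F) (k : Fin p), (∀ a, e a ^ p = 1) → (g : Mp) ≠ mono e k) :
    g ∉ monoSubgroup F p := by
  rintro ⟨⟨e, k⟩, rfl⟩
  exact hg _ k (fun a => root_pow (e a)) rfl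

/-- To show `g y g⁻¹ ∉ Q` it is enough to show that `g y` is no `y' g`. -/
theorem conj_not_mem {g y : GLp}
    (h : ∀ (e : Fin p → F) (k : Fin p), (∀ a, e a ^ p = 1) → (g : Mp) * (y : Mp) ≠ mono e k * (g : Mp)) :
    g * y * g⁻¹ ∉ monoSubgroup F p := by
  refine not_mem_iff fun e k he hh => h e k he ?_
  rw [← hh, Units.val_mul, Units.val_mul, mul_assoc, Units.inv_mul, mul_one]

variable [Fintype F]

theorem exists_root (h1 : p ∣ Fintype.card F - 1) : ∃ ω : F, IsPrimitiveRoot ω p := by
  classical
  obtain ⟨u, hu⟩ := exists_prime_orderOf_dvd_card (G := Fˣ) p (by rwa [Fintype.card_units])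
  exact ⟨u, IsPrimitiveRoot.coe_units_iff.2 (hu ▸ IsPrimitiveRoot.orderOf u)⟩

theorem card_monoSubgroup (h1 : p ∣ Fintype.card F - 1) : Nat.card (monoSubgroup F p) = p ^ (p + 1) := by
  obtain ⟨ω, hω⟩ := exists_root (F := F) h1
  haveI : NeZero p := ⟨hp.out.ne_zero⟩
  have e := Nat.card_congr (Equiv.ofInjective _ (monoU_injective (F := F) (p := p)))
  show Nat.card (Set.range fun x : (Fin p → rootsOfUnity p F) × Fin p => monoU x.1 x.2) = _
  rw [← e, Nat.card_prod, Nat.card_pi, Finset.prod_const, Finset.card_univ, Fintype.card_fin,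
    show Nat.card (rootsOfUnity p F) = p by
      exact hω.card_rootsOfUnity, Nat.card_fin, pow_succ]

theorem card_gl_factorization (hp2 : p ≠ 2) (h1 : p ∣ Fintype.card F - 1) (h2 : ¬ p ^ 2 ∣ Fintype.card F - 1) :
    (Nat.card GLp).factorization p = p + 1 := by
  set q := Fintype.card F with hq
  have hq1 : 1 < q := Fintype.one_lt_card
  have hpq : ¬ p ∣ q := fun h => hp.out.not_dvd_one (by
    have := Nat.dvd_sub h h1
    rwa [show q - (q - 1) = 1 by omega] at this)
  have hterm : ∀ i : Fin p, (q ^ p - q ^ (i : ℕ)).factorization p = 1 + (p - (i : ℕ)).factorization p := by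
    intro i
    have hi := i.2
    have hsplit : q ^ p - q ^ (i : ℕ) = q ^ (i : ℕ) * (q ^ (p - (i : ℕ)) - 1) := by
      rw [Nat.mul_sub, mul_one, ← pow_add, Nat.add_sub_cancel' hi.le]
    have hpos : 1 < q ^ (p - (i : ℕ)) := Nat.one_lt_pow (by omega) hq1
    rw [hsplit, Nat.factorization_mul (pow_ne_zero _ (by omega)) (by omega), Finsupp.add_apply,
      Nat.factorization_eq_zero_of_not_dvd (fun h => hpq (hp.out.dvd_of_dvd_pow h)), zero_add,
      Nat.factorization_def _ hp.out, Nat.factorization_def _ hp.out]
    have h := padicValNat.pow_sub_pow (p := p) (x := q) (y := 1) (hp.out.odd_of_ne_two hp2) hq1 h1 hpq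
      (n := p - (i : ℕ)) (by omega)
    rw [one_pow] at h
    rw [h]
    congr 1
    rw [← Nat.factorization_def _ hp.out]
    have a1 : 1 ≤ (q - 1).factorization p :=
      (hp.out.pow_dvd_iff_le_factorization (by omega)).1 (by rwa [pow_one])
    have a2 : ¬ 2 ≤ (q - 1).factorization p := fun h =>
      h2 ((hp.out.pow_dvd_iff_le_factorization (by omega)).2 h)
    omega
  rw [Matrix.card_GL_field, ← hq, Nat.factorization_prod_apply, Finset.sum_congr rfl fun i _ => hterm i,
    Finset.sum_add_distrib,
    Finset.sum_eq_single (f := fun i : Fin p => (p - (i : ℕ)).factorization p) (0 : Fin p)]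
  · rw [Fin.val_zero, Nat.sub_zero, hp.out.factorization_self]
    simp
  · intro i _ hi
    refine Nat.factorization_eq_zero_of_not_dvd (fun h => ?_)
    have := i.2
    have hi0 : (i : ℕ) ≠ 0 := fun e => hi (Fin.ext e)
    have := Nat.le_of_dvd (by omega) h
    omega
  · simp
  · intro i _
    have := i.2
    have : q ^ (i : ℕ) < q ^ p := Nat.pow_lt_pow_right hq1 this
    omega

set_option maxHeartbeats 1000000 in
theorem red_gl (hp2 : p ≠ 2) (h1 : p ∣ Fintype.card F - 1) (h2 : ¬ p ^ 2 ∣ Fintype.card F - 1) :
    Red GLp p := by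
  classical
  obtain ⟨ω, hω⟩ := exists_root (F := F) h1
  have hp3 : 3 ≤ p := by have := hp.out.two_le; omega
  haveI : NeZero p := ⟨hp.out.ne_zero⟩
  have hωp : ω ^ p = 1 := hω.pow_eq_one
  have hω1 : ω ≠ 1 := hω.ne_one hp.out.one_lt
  have hω0 : ω ≠ 0 := hω.ne_zero hp.out.ne_zero
  let Q : Sylow p GLp := Sylow.ofCard (monoSubgroup F p)
    (by rw [card_monoSubgroup h1, card_gl_factorization hp2 h1 h2])
  have hQ : ∀ {x : GLp}, x ∈ Q ↔ x ∈ monoSubgroup F p := by
    intro x
    show x ∈ (Q : Subgroup GLp) ↔ _
    simp [Q]
  have hord : ∀ i : Fin p, i ≠ 0 → ∀ n : ℕ, n • i = 0 → p ∣ n := by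
    intro i hi n hn
    have := Fin.val_ne_zero_iff.2 hi
    have h' : ((n • i : Fin p) : ℕ) = 0 := by rw [hn]; rfl
    have hcast : ((n • i : Fin p) : ℕ) = n * (i : ℕ) % p := by
      clear h' hn
      induction n with
      | zero => simp
      | succ n ih => rw [succ_nsmul, Fin.val_add, ih, Nat.mod_add_mod, add_mul, one_mul]
    rw [hcast, ← Nat.dvd_iff_mod_eq_zero] at h'
    rcases hp.out.dvd_mul.1 h' with h | h
    · exact h
    · have := Nat.le_of_dvd (Nat.pos_of_ne_zero (by assumption)) h
      have := i.2
      omega
  have hself : ∀ i : Fin p, i + i = 0 → i = 0 := by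
    intro i hi
    by_contra hne
    have := Nat.le_of_dvd two_pos (hord i hne 2 (by rw [two_nsmul, hi]))
    omega
  -- a diagonal element of `Q`
  let ωu : rootsOfUnity p F := ⟨(Units.mk0 ω hω0), by rw [mem_rootsOfUnity]; ext; simpa using hωp⟩
  let yδ : Fin p → GLp := fun c => monoU (fun a => if a = c then ωu else 1) 0
  have hyQ : ∀ c, yδ c ∈ Q := fun c => hQ.2 ⟨(_, 0), rfl⟩
  have hyv : ∀ c a b : Fin p, ∀ A : Mp, (A * (yδ c : Mp)) a b = A a b * (if b = c then ω else 1) := by
    intro c a b A
    show (A * (mono _ 0 : Mp)) a b = _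
    rw [mul_mono, sub_zero]
    by_cases hbc : b = c <;> simp [ωu, hbc]
  -- permutation matrices commute with `1 + c J`
  obtain ⟨c, hc0, hc⟩ : ∃ c : F, c ≠ 0 ∧ 1 + (p : F) * c ≠ 0 := by
    by_cases h : 1 + (p : F) * 1 = 0
    · refine ⟨ω, hω0, fun h' => hω1 ?_⟩
      have h'' : (p : F) = -1 := by linear_combination h
      rw [h''] at h'
      linear_combination -h'
    · exact ⟨1, one_ne_zero, h⟩
  let J : Mp := fun a b => (if a = b then 1 else 0) + c
  let gJ : GLp :=
    { val := J
      inv := fun a b => (if a = b then 1 else 0) + (-c / (1 + (p : F) * c))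
      val_inv := by
        ext a b
        rw [Matrix.mul_apply, Matrix.one_apply]
        simp only [J, add_mul, mul_add, Finset.sum_add_distrib, ite_mul, one_mul, zero_mul, mul_ite, mul_one,
          mul_zero, Finset.sum_ite_eq, Finset.sum_ite_eq', Finset.mem_univ, if_true, Finset.sum_const,
          Finset.card_univ, Fintype.card_fin, nsmul_eq_mul]
        simp only [div_eq_mul_inv]
        linear_combination (-c) * mul_inv_cancel₀ hc
      inv_val := by
        ext a b
        rw [Matrix.mul_apply, Matrix.one_apply]
        simp only [J, add_mul, mul_add, Finset.sum_add_distrib, ite_mul, one_mul, zero_mul, mul_ite, mul_one,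
          mul_zero, Finset.sum_ite_eq, Finset.sum_ite_eq', Finset.mem_univ, if_true, Finset.sum_const,
          Finset.card_univ, Fintype.card_fin, nsmul_eq_mul]
        simp only [div_eq_mul_inv]
        linear_combination (-c) * mul_inv_cancel₀ hc }
  let perm : Fin p → GLp := fun j => monoU (fun _ => 1) j
  have hpermQ : ∀ j, perm j ∈ Q := fun j => hQ.2 ⟨(_, j), rfl⟩
  have hpermc : ∀ j, gJ * perm j = perm j * gJ := by
    intro j
    refine Units.ext (Matrix.ext fun a b => ?_)
    show (J * (mono _ j : Mp)) a b = ((mono _ j : Mp) * J) a b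
    rw [mul_mono, mono_mul]
    simp only [J, OneMemClass.coe_one, Units.val_one, one_mul, mul_one]
    simp [eq_sub_iff_add_eq]
  have hgJ : gJ • Q ≠ Q := by
    refine smul_ne_of_not_mem Q (hyQ 0) (fun hmem => conj_not_mem ?_ (hQ.1 hmem))
    intro e k he heq
    have h : ∀ a b, J a b * (if b = 0 then ω else 1) = e a * J (a + k) b := fun a b => by
      rw [← hyv, ← mono_mul]
      exact congrFun (congrFun heq a) b
    by_cases hk : k = 0
    · have h20 := h 1 0
      have h21 := h 1 (1 + 1)
      have n10 : (1 : Fin p) ≠ 0 := by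
        intro e'; have := congrArg Fin.val e'; rw [Fin.val_one', Fin.val_zero, Nat.mod_eq_of_lt (by omega)] at this; omega
      have n20 : (1 + 1 : Fin p) ≠ 0 := fun e' => n10 (hself 1 e')
      simp only [J, hk, add_zero, if_neg n10, if_true, zero_add, if_neg n20, mul_one,
        if_neg (show (1 : Fin p) ≠ 1 + 1 from fun e' => n10 (by rwa [left_eq_add] at e'))] at h20 h21
      exact hω1 (mul_left_cancel₀ hc0 (by linear_combination h20 - h21))
    · obtain ⟨a, ha0, hak⟩ : ∃ a : Fin p, a ≠ 0 ∧ a + k ≠ 0 := by
        refine ⟨k, hk, fun e' => hk (hself k e')⟩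
      have hne : a ≠ a + k := fun e' => hk (by rwa [left_eq_add] at e')
      have e1 := h a a
      have e2 := h a (a + k)
      simp only [J, if_neg ha0, if_neg hak, if_neg hne, if_neg hne.symm, if_true, zero_add, mul_one] at e1 e2
      have hsq : (e a - 1) * (e a + 1) = 0 := mul_left_cancel₀ hc0 (by linear_combination -e2 - e a * e1)
      rcases mul_eq_zero.1 hsq with h' | h'
      · exact one_ne_zero (α := F) (by linear_combination e1 + c * h')
      · have hea : e a = -1 := by linear_combination h'
        have hp1 := he a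
        rw [hea, (hp.out.odd_of_ne_two hp2).neg_one_pow] at hp1
        rw [hea] at e1; exact one_ne_zero (α := F) (by linear_combination e1 + c * hp1)
  refine ⟨Q, fun x hx => ?_⟩
  by_cases hxQ : x ∈ Q
  swap
  · obtain ⟨k, hk⟩ := hx
    obtain ⟨P, hP⟩ := (IsPGroup.of_card (p := p) (G := Subgroup.zpowers x) (n := k)
      (by rw [Nat.card_zpowers, hk])).exists_le_sylow
    exact ⟨P, fun h => hxQ (h ▸ hP (Subgroup.mem_zpowers x)), hP (Subgroup.mem_zpowers x)⟩
  obtain ⟨⟨d, j⟩, rfl⟩ := hQ.1 hxQ
  simp only at hxQ ⊢
  set dv : Fin p → F := fun a => ((d a : Fˣ) : F) with hdv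
  have hdp : ∀ a, dv a ^ p = 1 := fun a => root_pow (d a)
  have hd0 : ∀ a, dv a ≠ 0 := fun a => Units.ne_zero _
  by_cases hj : j = 0
  · subst hj
    by_cases hinj : Function.Injective dv
    · -- all eigenvalues occur: conjugate to a permutation matrix
      have hdet : (Matrix.vandermonde dv).det ≠ 0 := Matrix.det_vandermonde_ne_zero_iff.2 hinj
      let h : GLp := Matrix.GeneralLinearGroup.mkOfDetNeZero _ hdet
      have e : monoU d 0 * h = h * perm (-1) := by
        refine Units.ext (Matrix.ext fun a b => ?_)
        show (mono dv 0 * Matrix.vandermonde dv) a b = (Matrix.vandermonde dv * (mono _ (-1) : Mp)) a b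
        rw [mul_mono, mono_mul]
        simp only [add_zero, sub_neg_eq_add, OneMemClass.coe_one, Units.val_one, mul_one, Matrix.vandermonde_apply]
        rw [Fin.val_add, Fin.val_one', Nat.add_mod_mod, ← pow_eq_pow_mod _ (hdp a), pow_succ']
      rw [eq_mul_inv_of_mul_eq e]
      exact exists_ne_of_conj Q (hpermQ _) (hpermc _) hgJ
    · simp only [Function.Injective, not_forall] at hinj
      obtain ⟨a, b, hab, hne⟩ := hinj
      let g : GLp := Matrix.GeneralLinearGroup.mkOfDetNeZero (Matrix.transvection a b (1 : F))
        (by rw [Matrix.det_transvection_of_ne a b hne]; exact one_ne_zero)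
      have hcomm : g * monoU d 0 = monoU d 0 * g := by
        refine Units.ext (Matrix.ext fun u v => ?_)
        show (Matrix.transvection a b (1 : F) * mono dv 0) u v = (mono dv 0 * Matrix.transvection a b (1 : F)) u v
        rw [mul_mono, mono_mul, sub_zero, add_zero]
        simp only [Matrix.transvection, Matrix.add_apply, Matrix.one_apply, Matrix.single_apply]
        by_cases h3 : u = v
        · subst h3; exact mul_comm _ _
        · rw [if_neg h3, zero_add]
          by_cases h4 : a = u ∧ b = v
          · rw [if_pos h4, one_mul, mul_one, ← h4.1, ← h4.2, hab]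
          · rw [if_neg h4, zero_mul, mul_zero]
      refine ⟨g • Q, smul_ne_of_not_mem Q (hyQ a) (fun hmem => conj_not_mem ?_ (hQ.1 hmem)),
        mem_smul_of_commute Q hxQ hcomm⟩
      intro e k he heq
      have h : ∀ u v, Matrix.transvection a b (1 : F) u v * (if v = a then ω else 1) =
          e u * Matrix.transvection a b (1 : F) (u + k) v := fun u v => by
        rw [← hyv, ← mono_mul]
        exact congrFun (congrFun heq u) v
      have e1 := h a a
      have e2 := h a b
      simp only [Matrix.transvection, Matrix.add_apply, Matrix.one_apply, Matrix.single_apply,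
        if_neg hne, if_neg (Ne.symm hne), and_false, if_false, true_and, and_self, if_true, add_zero, one_mul, zero_add,
        mul_one] at e1 e2
      have hk : k = 0 := by
        by_contra hk
        simp [hk, Ne.symm hne, add_eq_left] at e1
        exact hω0 e1
      subst hk
      simp [hne, Ne.symm hne] at e1 e2
      exact hω1 (e1.trans e2.symm)
  · -- the period product
    set P : ℕ → F := fun t => ∏ u ∈ Finset.range t, dv (u • j) with hP
    have hper : ∀ t, P (t + p) = P t * P p := by
      intro t
      have hjp : p • j = 0 := by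
        have := card_nsmul_eq_zero (x := j)
        rwa [Fintype.card_fin] at this
      rw [hP]
      simp only
      rw [add_comm t p, Finset.prod_range_add, mul_comm]
      simp [add_nsmul, hjp]
    have hsurj : ∀ a : Fin p, ∃ t : ℕ, t < p ∧ t • j = a := by
      have : Function.Bijective (fun t : Fin p => (t : ℕ) • j) := by
        rw [← Finite.injective_iff_bijective]
        intro s t hst
        simp only at hst
        rcases le_total (s : ℕ) t with hle | hle
        · have := hord j hj ((t : ℕ) - s) (by rw [← add_right_inj ((s : ℕ) • j), ← add_nsmul, Nat.add_sub_cancel' hle, hst, add_zero])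
          have := Nat.eq_zero_of_dvd_of_lt this (by omega)
          exact Fin.ext (by omega)
        · have := hord j hj ((s : ℕ) - t) (by rw [← add_right_inj ((t : ℕ) • j), ← add_nsmul, Nat.add_sub_cancel' hle, ← hst, add_zero])
          have := Nat.eq_zero_of_dvd_of_lt this (by omega)
          exact Fin.ext (by omega)
      intro a
      obtain ⟨t, ht⟩ := this.2 a
      exact ⟨t, t.2, ht⟩
    choose τ hτ hτj using hsurj
    by_cases hz : P p = 1
    · -- conjugate to a permutation matrix
      have hstep : ∀ a, P (τ (a + j)) = P (τ a) * dv a := by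
        intro a
        have hnext : P (τ a + 1) = P (τ a) * dv a := by
          rw [hP]
          simp only
          rw [Finset.prod_range_succ, hτj]
        rw [← hnext]
        by_cases ht : τ a + 1 < p
        · have hj' : (τ a + 1) • j = τ (a + j) • j := by rw [hτj, succ_nsmul, hτj]
          rcases le_total (τ a + 1) (τ (a + j)) with hle | hle
          · have := hord j hj (τ (a + j) - (τ a + 1)) (by rw [← add_right_inj ((τ a + 1) • j), ← add_nsmul, Nat.add_sub_cancel' hle, ← hj', add_zero])
            have := Nat.eq_zero_of_dvd_of_lt this (by have := hτ (a + j); omega)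
            rw [show τ (a + j) = τ a + 1 by omega]
          · have := hord j hj (τ a + 1 - τ (a + j)) (by rw [← add_right_inj (τ (a + j) • j), ← add_nsmul, Nat.add_sub_cancel' hle, hj', add_zero])
            have := Nat.eq_zero_of_dvd_of_lt this (by omega)
            rw [show τ (a + j) = τ a + 1 by omega]
        · have hte : τ a + 1 = p := by have := hτ a; omega
          have h0 : τ (a + j) • j = 0 := by
            rw [hτj, show a + j = (τ a + 1) • j by rw [succ_nsmul, hτj], hte]
            have := card_nsmul_eq_zero (x := j)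
            rwa [Fintype.card_fin] at this
          have := Nat.eq_zero_of_dvd_of_lt (hord j hj _ h0) (hτ (a + j))
          rw [this, hte, hz]
          simp [hP]
      have hP0 : ∀ t, P t ≠ 0 := fun t => Finset.prod_ne_zero_iff.2 fun u _ => hd0 _
      let h : GLp := Matrix.GeneralLinearGroup.mkOfDetNeZero (Matrix.diagonal fun a => (P (τ a))⁻¹)
        (by rw [Matrix.det_diagonal]; exact Finset.prod_ne_zero_iff.2 fun a _ => inv_ne_zero (hP0 _))
      have e : monoU d j * h = h * perm j := by
        refine Units.ext (Matrix.ext fun a b => ?_)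
        show (mono dv j * Matrix.diagonal fun a => (P (τ a))⁻¹) a b =
          ((Matrix.diagonal fun a => (P (τ a))⁻¹) * (mono _ j : Mp)) a b
        rw [mul_mono, mono_mul, Matrix.diagonal_apply, Matrix.diagonal_apply]
        by_cases hb : a + j = b
        · subst hb
          rw [if_pos rfl, if_pos (by rw [add_sub_cancel_right]), hstep a]
          have := hP0 (τ a)
          have := hd0 a
          simp only [OneMemClass.coe_one, Units.val_one, mul_one]
          field_simp
        · rw [if_neg hb, if_neg (fun e' => hb (eq_sub_iff_add_eq.1 e')), mul_zero, zero_mul]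
      rw [eq_mul_inv_of_mul_eq e]
      exact exists_ne_of_conj Q (hpermQ _) (hpermc _) hgJ
    · -- `1 + x` is invertible and moves a diagonal element out of `Q`
      set g' : Mp := 1 + mono dv j with hg'
      have hne1 : P p ≠ -1 := by
        intro h
        have hpp : P p ^ p = 1 := by
          rw [hP]
          simp only
          rw [← Finset.prod_pow]
          exact Finset.prod_eq_one fun u _ => hdp _
        rw [h, (hp.out.odd_of_ne_two hp2).neg_one_pow] at hpp
        exact hz (h.trans hpp)
      have hdet : g'.det ≠ 0 := by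
        rw [Ne, ← Matrix.exists_mulVec_eq_zero_iff]
        rintro ⟨v, hv, hgv⟩
        have hrec : ∀ a, v a = - (dv a * v (a + j)) := by
          intro a
          have := congrFun hgv a
          rw [hg', Matrix.add_mulVec, Matrix.one_mulVec, Pi.add_apply, Pi.zero_apply] at this
          rw [eq_neg_iff_add_eq_zero, ← this]
          congr 1
          simp [Matrix.mulVec, dotProduct, mono]
        have hall : ∀ t : ℕ, v 0 = (-1) ^ t * P t * v (t • j) := by
          intro t
          induction t with
          | zero => simp [hP]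
          | succ t ih =>
            rw [ih, hrec (t • j), hP]
            simp only
            rw [Finset.prod_range_succ, succ_nsmul, pow_succ]
            ring
        by_cases hv0 : v 0 = 0
        · refine hv (funext fun a => ?_)
          have := hall (τ a)
          rw [hτj, hv0, zero_eq_mul] at this
          exact this.resolve_left (mul_ne_zero (pow_ne_zero _ (neg_ne_zero.2 one_ne_zero))
            (Finset.prod_ne_zero_iff.2 fun u _ => hd0 _))
        · have := hall p
          rw [show p • j = 0 by have := card_nsmul_eq_zero (x := j); rwa [Fintype.card_fin] at this,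
            (hp.out.odd_of_ne_two hp2).neg_one_pow] at this
          exact hne1 (mul_right_cancel₀ hv0 (by linear_combination this))
      let g : GLp := Matrix.GeneralLinearGroup.mkOfDetNeZero g' hdet
      have hcomm : g * monoU d j = monoU d j * g := Units.ext (by
        show g' * mono dv j = mono dv j * g'
        rw [hg', add_mul, mul_add, one_mul, mul_one])
      refine ⟨g • Q, smul_ne_of_not_mem Q (hyQ 0) (fun hmem => conj_not_mem ?_ (hQ.1 hmem)),
        mem_smul_of_commute Q hxQ hcomm⟩
      intro e k he heq
      have h : ∀ u v, g' u v * (if v = 0 then ω else 1) = e u * g' (u + k) v := fun u v => by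
        rw [← hyv, ← mono_mul]
        exact congrFun (congrFun heq u) v
      have hsupp : ∀ u v, g' u v = (if v = u then 1 else 0) + (if v = u + j then dv u else 0) := by
        intro u v
        simp [hg', mono, Matrix.one_apply, eq_comm]
      have e1 := h 0 0
      have e2 := h 0 j
      have hj0 : (0 : Fin p) ≠ j := Ne.symm hj
      simp only [hsupp, zero_add, if_neg hj, if_neg hj0, if_true, add_zero, one_mul, mul_one] at e1 e2
      by_cases hk : k = 0
      · simp only [hk, add_zero, zero_add, if_true, if_neg hj, if_neg hj0, mul_one] at e1 e2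
        refine hω1 ?_
        have : ω * dv 0 = 1 * dv 0 := by rw [e1, one_mul]; exact e2.symm
        exact mul_right_cancel₀ (hd0 0) this
      · rw [if_neg (Ne.symm hk), zero_add] at e1
        have h1k : 0 = k + j := by
          by_contra hne
          rw [if_neg hne, mul_zero] at e1
          exact hω0 e1
        have hjk : j ≠ k := fun e' => hj (hself j (by rw [h1k, e']))
        rw [if_neg hjk, if_neg (fun e' => hk (by rwa [right_eq_add] at e')), add_zero, mul_zero] at e2
        exact hd0 0 e2

end CfsgLib.Involution.GLRedundant
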