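import Mathlib
import Cfsg.Prelude.Def_TwoFusion
import Cfsg.Agent.Lib.Involution.Isolated
import Cfsg.Agent.Lib.Involution.Count

/-!
# The set of odd order elements inverted by an isolated involution
-/

namespace CfsgLib.Involution.IsolatedFactor

open CfsgLib.Involution.Dihedral CfsgLib.Involution.Isolated

variable {G : Type*} [Group G]

/-- The square root of an element of odd order. -/
noncomputable def root (x : G) : G := x ^ ((orderOf x + 1) / 2)

theorem root_mul_self {x : G} (h : Odd (orderOf x)) : root x * root x = x := by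
  rw [root, ← pow_add]
  have h2 : (orderOf x + 1) / 2 + (orderOf x + 1) / 2 = orderOf x + 1 := by
    obtain ⟨m, hm⟩ := h; omega
  rw [h2, pow_succ, pow_orderOf_eq_one, one_mul]

theorem odd_orderOf_root {x : G} (h : Odd (orderOf x)) : Odd (orderOf (root x)) :=
  h.of_dvd_nat (orderOf_pow_dvd _)

theorem eq_root {x y : G} (hy : Odd (orderOf y)) (h : y * y = x) : y = root x := by
  have hx : orderOf x = orderOf y := by
    rw [← h, ← pow_two]
    exact Nat.Coprime.orderOf_pow (Nat.coprime_two_right.2 hy)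
  rw [root, hx, ← h, ← pow_two, ← pow_mul]
  have h2 : 2 * ((orderOf y + 1) / 2) = orderOf y + 1 := by
    obtain ⟨m, hm⟩ := hy; omega
  rw [h2, pow_succ, pow_orderOf_eq_one, one_mul]

theorem sq_inj {x y : G} (hx : Odd (orderOf x)) (hy : Odd (orderOf y)) (h : x * x = y * y) :
    x = y := by
  rw [eq_root hx rfl, h, ← eq_root hy rfl]

theorem map_root {H : Type*} [Group H] (f : G →* H) (hf : Function.Injective f) (x : G) :
    f (root x) = root (f x) := by
  rw [root, root, map_pow, orderOf_injective f hf]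

theorem conj_root (g x : G) : g * root x * g⁻¹ = root (g * x * g⁻¹) :=
  map_root (MulAut.conj g).toMonoidHom (MulAut.conj g).injective x

theorem root_inv (x : G) : root x⁻¹ = (root x)⁻¹ := by
  rw [root, root, orderOf_inv, inv_pow]

theorem isConj_of_inverted {w r : G} (hr : Odd (orderOf r)) (h : w * r * w⁻¹ = r⁻¹) :
    IsConj w (r * w) := by
  refine isConj_iff.2 ⟨root r, ?_⟩
  have h1 : w * root r * w⁻¹ = (root r)⁻¹ := by rw [conj_root, h, root_inv]
  have h2 : w * (root r)⁻¹ = root r * w := by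
    calc w * (root r)⁻¹ = (w * (root r)⁻¹ * w⁻¹) * w := by group
      _ = (w * root r * w⁻¹)⁻¹ * w := by group
      _ = root r * w := by rw [h1, inv_inv]
  rw [mul_assoc, h2, ← mul_assoc, root_mul_self hr]

section Isolated

variable [Finite G]

/-- An element `k` with `k * z` conjugate to the isolated involution `z` has odd order. -/
theorem odd_of_conj_mul {z k : G} (hz : Cfsg.IsIsolatedInvolution z) (h : IsConj z (k * z)) :
    Odd (orderOf k) := by
  have h1 := odd_of_isConj hz h
  have h2 : z * (k * z) = z * k * z⁻¹ := by rw [inv_eq hz.1, mul_assoc]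
  rwa [h2, orderOf_conj] at h1

variable (z : G)

/-- Odd order elements inverted by `z`. -/
def Inverted : Set G := {k | Odd (orderOf k) ∧ z * k * z⁻¹ = k⁻¹}

variable {z}

omit [Finite G] in
theorem isConj_of_mem {k : G} (hk : k ∈ Inverted z) : IsConj z (k * z) :=
  isConj_of_inverted hk.1 hk.2

theorem card_conj_eq (hz : Cfsg.IsIsolatedInvolution z) :
    Nat.card {c : G // IsConj z c} = Nat.card {k : G // k ∈ Inverted z} := by
  have hz2 : z * z = 1 := Dihedral.mul_self hz.1
  refine Nat.card_congr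
    { toFun := fun c => ⟨c.1 * z, odd_of_conj_mul hz (by rw [mul_assoc, hz2, mul_one]; exact c.2),
        ?_⟩
      invFun := fun k => ⟨k.1 * z, isConj_of_mem k.2⟩
      left_inv := fun c => Subtype.ext (by simp [mul_assoc, hz2])
      right_inv := fun k => Subtype.ext (by simp [mul_assoc, hz2]) }
  obtain ⟨g, hg⟩ := isConj_iff.1 c.2
  have hc : c.1 * c.1 = 1 := by
    rw [← hg]
    exact Dihedral.mul_self ((orderOf_conj g z).trans hz.1)
  rw [inv_eq hz.1, mul_inv_rev, inv_eq hz.1, show (c.1)⁻¹ = c.1 from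
    inv_eq_of_mul_eq_one_right hc]
  simp [mul_assoc, hz2]

/-- `|G| = |C(z)| |K|`. -/
theorem card_eq (hz : Cfsg.IsIsolatedInvolution z) :
    Nat.card G = Nat.card (Subgroup.centralizer ({z} : Set G)) *
      Nat.card {k : G // k ∈ Inverted z} := by
  classical
  haveI := Fintype.ofFinite G
  rw [← card_conj_eq hz, ← Subgroup.card_mul_index (Subgroup.centralizer ({z} : Set G))]
  congr 1
  rw [Subgroup.index]
  refine Nat.card_eq_of_bijective
    (fun x => Quotient.liftOn' x (fun g => (⟨g * z * g⁻¹, isConj_iff.2 ⟨g, rfl⟩⟩ :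
      {c : G // IsConj z c})) ?_) ⟨?_, ?_⟩
  · intro a b hab
    rw [QuotientGroup.leftRel_apply, Subgroup.mem_centralizer_singleton_iff] at hab
    apply Subtype.ext
    have : a⁻¹ * b * z = z * (a⁻¹ * b) := hab
    calc a * z * a⁻¹ = a * (z * (a⁻¹ * b)) * b⁻¹ := by group
      _ = b * z * b⁻¹ := by rw [← this]; group
  · rintro ⟨a⟩ ⟨b⟩ h
    have h' : a * z * a⁻¹ = b * z * b⁻¹ := congrArg Subtype.val h
    refine QuotientGroup.eq.2 (Subgroup.mem_centralizer_singleton_iff.2 ?_)
    calc a⁻¹ * b * z = a⁻¹ * (b * z * b⁻¹) * b := by group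
      _ = z * (a⁻¹ * b) := by rw [← h']; group
  · rintro ⟨c, hc⟩
    obtain ⟨g, hg⟩ := isConj_iff.1 hc
    exact ⟨((g : G) : G ⧸ Subgroup.centralizer ({z} : Set G)), Subtype.ext hg⟩

/-- Every element of `K` is uniquely `a * b * a`, with `a` centralised and `b` inverted by `s`. -/
theorem card_factor (hz : Cfsg.IsIsolatedInvolution z) {s : G} (hs : orderOf s = 2)
    (hsz : Commute s z) :
    Nat.card {k : G // k ∈ Inverted z} =
      Nat.card {k : G // k ∈ Inverted z ∧ Commute k (s * z)} *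
        Nat.card {k : G // k ∈ Inverted z ∧ Commute k s} := by
  rw [mul_comm, ← Nat.card_prod]
  symm
  set φ : G →* G := (MulAut.conj s).toMonoidHom with hφ
  set ψ : G →* G := (MulAut.conj z).toMonoidHom with hψ
  have hφz : φ z = z := by
    change s * z * s⁻¹ = z
    rw [hsz.eq, mul_inv_cancel_right]
  have hcomm : ∀ x : G, φ (ψ x) = ψ (φ x) := by
    intro x
    change s * (z * x * z⁻¹) * s⁻¹ = z * (s * x * s⁻¹) * z⁻¹
    calc s * (z * x * z⁻¹) * s⁻¹ = (s * z) * x * (s * z)⁻¹ := by group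
      _ = (z * s) * x * (z * s)⁻¹ := by rw [hsz.eq]
      _ = _ := by group
  have hs1 : ∀ k : G, Commute k s ↔ φ k = k := by
    intro k
    change k * s = s * k ↔ s * k * s⁻¹ = k
    exact ⟨fun h => by rw [← h, mul_inv_cancel_right], fun h => (mul_inv_eq_iff_eq_mul.1 h).symm⟩
  have hs2 : ∀ k : G, k ∈ Inverted z → (Commute k (s * z) ↔ φ k = k⁻¹) := by
    intro k hk
    have e : s * z * k * (s * z)⁻¹ = (φ k)⁻¹ := by
      rw [← map_inv]
      change _ = s * k⁻¹ * s⁻¹
      rw [← hk.2]; group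
    change k * (s * z) = s * z * k ↔ φ k = k⁻¹
    constructor
    · intro h
      rw [← inv_inv (φ k), ← e, ← h, mul_inv_cancel_right]
    · intro h
      rw [h, inv_inv] at e
      exact (mul_inv_eq_iff_eq_mul.1 e).symm
  have hinv : ∀ k : G, k ∈ Inverted z → ψ k = k⁻¹ := fun k hk => hk.2
  have hmem : ∀ k : G, ψ k = k⁻¹ → IsConj z (k * z) → k ∈ Inverted z := fun k h1 h2 =>
    ⟨odd_of_conj_mul hz h2, h1⟩
  have hf : ∀ a b : G, a ∈ Inverted z → b ∈ Inverted z → a * b * a ∈ Inverted z := by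
    intro a b ha hb
    refine hmem _ ?_ ?_
    · rw [map_mul, map_mul, hinv a ha, hinv b hb]; group
    · refine (isConj_of_mem hb).trans (isConj_iff.2 ⟨a, ?_⟩)
      have : a * z = z * a⁻¹ := by
        rw [← ha.2, inv_eq hz.1, ← mul_assoc, ← mul_assoc, Dihedral.mul_self hz.1, one_mul]
      rw [mul_assoc _ a z, this]; group
  refine Nat.card_congr (Equiv.ofBijective
    (fun p : {k : G // k ∈ Inverted z ∧ Commute k s} ×
      {k : G // k ∈ Inverted z ∧ Commute k (s * z)} =>
        (⟨p.1.1 * p.2.1 * p.1.1, hf _ _ p.1.2.1 p.2.2.1⟩ : {k : G // k ∈ Inverted z})) ⟨?_, ?_⟩)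
  · rintro ⟨⟨a, ha, has⟩, ⟨b, hb, hbs⟩⟩ ⟨⟨a', ha', has'⟩, ⟨b', hb', hbs'⟩⟩ h
    have h1 : a * b * a = a' * b' * a' := congrArg Subtype.val h
    have h2 : a * b⁻¹ * a = a' * b'⁻¹ * a' := by
      have := congrArg φ h1
      rwa [map_mul, map_mul, map_mul, map_mul, (hs1 a).1 has, (hs1 a').1 has',
        (hs2 b hb).1 hbs, (hs2 b' hb').1 hbs'] at this
    have h3 : a * b * a⁻¹ = a' * b' * a'⁻¹ := by
      refine sq_inj (by rw [orderOf_conj]; exact hb.1) (by rw [orderOf_conj]; exact hb'.1) ?_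
      calc a * b * a⁻¹ * (a * b * a⁻¹) = (a * b * a) * (a * b⁻¹ * a)⁻¹ := by group
        _ = (a' * b' * a') * (a' * b'⁻¹ * a')⁻¹ := by rw [h1, h2]
        _ = _ := by group
    have h4 : a = a' := by
      refine sq_inj ha.1 ha'.1 ?_
      calc a * a = (a * b * a⁻¹)⁻¹ * (a * b * a) := by group
        _ = (a' * b' * a'⁻¹)⁻¹ * (a' * b' * a') := by rw [h3, h1]
        _ = _ := by group
    subst h4
    simp only [mul_right_inj, mul_left_inj] at h1
    subst h1
    rfl
  · rintro ⟨k, hk⟩
    set k' := φ k with hk'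
    have hk'i : ψ k' = k'⁻¹ := by rw [hk', ← hcomm, hinv k hk, map_inv]
    have hkk : k' ∈ Inverted z := hmem k' hk'i (by
      rw [hk']
      obtain ⟨g, hg⟩ := isConj_iff.1 (isConj_of_mem hk)
      refine isConj_iff.2 ⟨φ g, ?_⟩
      have := congrArg φ hg
      rwa [map_mul, map_mul, map_mul, map_inv, hφz] at this)
    have hz2 : z * z = 1 := Dihedral.mul_self hz.1
    set Q := k * k'⁻¹ with hQ
    have hQodd : Odd (orderOf Q) := by
      obtain ⟨g, hg⟩ := isConj_iff.1 (isConj_of_mem hk)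
      have h1 := odd_of_isConj (conj_isolated hz g) (c := k' * z)
        ((isConj_iff.2 ⟨g⁻¹, by group⟩ : IsConj (g * z * g⁻¹) z).trans (isConj_of_mem hkk))
      have : g * z * g⁻¹ * (k' * z) = Q := by
        rw [hg, hQ, ← hk'i]
        change k * z * (k' * z) = k * (z * k' * z⁻¹)
        rw [inv_eq hz.1]; simp [mul_assoc]
      rwa [this] at h1
    set r := root Q with hr
    have hrodd : Odd (orderOf r) := odd_orderOf_root hQodd
    have hrr : r * r = Q := root_mul_self hQodd
    have hkconj : ∀ g : G, k⁻¹ * g * k = (MulAut.conj k⁻¹).toMonoidHom g := fun g => by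
      simp
    have hφφ : φ k' = k := by
      change s * (s * k * s⁻¹) * s⁻¹ = k
      rw [inv_eq hs]
      simp only [← mul_assoc, Dihedral.mul_self hs, one_mul]
      rw [mul_assoc, Dihedral.mul_self hs, mul_one]
    have hsr : φ r = r⁻¹ := by
      rw [hr, map_root φ (MulAut.conj s).injective, ← root_inv]
      congr 1
      rw [hQ, map_mul, map_inv, mul_inv_rev, inv_inv, hφφ]
    have hzr : ψ r = k⁻¹ * r⁻¹ * k := by
      have h1 := conj_root k⁻¹ Q⁻¹
      rw [inv_inv, root_inv] at h1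
      rw [hr, map_root ψ (MulAut.conj z).injective, h1]
      congr 1
      rw [hQ, map_mul, map_inv, hinv k hk, hk'i]
      group
    set e := r⁻¹ * k with he
    have hse : φ e = e := by
      rw [he, map_mul, map_inv, hsr, inv_inv]
      change r * k' = r⁻¹ * k
      calc r * k' = r⁻¹ * (r * r) * k' := by group
        _ = r⁻¹ * k := by rw [hrr, hQ]; group
    have hze : ψ e = e⁻¹ := by
      rw [he, map_mul, map_inv, hzr, hinv k hk]; group
    have hem : e ∈ Inverted z := by
      refine hmem e hze ((isConj_of_mem hk).trans ?_)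
      rw [he, mul_assoc]
      refine isConj_of_inverted (by rwa [orderOf_inv]) ?_
      calc k * z * r⁻¹ * (k * z)⁻¹ = k * (ψ r)⁻¹ * k⁻¹ := by
            rw [← map_inv]
            change _ = k * (z * r⁻¹ * z⁻¹) * k⁻¹
            group
        _ = r⁻¹⁻¹ := by rw [hzr]; group
    set a := root e with ha
    have haa : a * a = e := root_mul_self hem.1
    have hza : ψ a = a⁻¹ := by
      rw [ha, map_root ψ (MulAut.conj z).injective, hze, root_inv]
    have hsa : φ a = a := by rw [ha, map_root φ (MulAut.conj s).injective, hse]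
    have ham : a ∈ Inverted z := ⟨odd_orderOf_root hem.1, hza⟩
    have haim : a⁻¹ ∈ Inverted z := by
      refine ⟨by rw [orderOf_inv]; exact ham.1, ?_⟩
      have := map_inv ψ a
      rw [hza] at this
      exact this
    have hbm := hf _ _ haim hk
    refine ⟨(⟨a, ham, (hs1 a).2 hsa⟩, ⟨a⁻¹ * k * a⁻¹, hbm, (hs2 _ hbm).2 ?_⟩),
      Subtype.ext (by simp only; group)⟩
    have hk2 : k' = e * k⁻¹ * e := by
      calc k' = Q⁻¹ * k := by rw [hQ]; group
        _ = (r * r)⁻¹ * k := by rw [hrr]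
        _ = e * k⁻¹ * e := by rw [he]; group
    rw [map_mul, map_mul, map_inv, hsa, ← hk', hk2, ← haa]
    group

end Isolated

/-- In an odd order subgroup normalised by the involution `z`, the index of the fixed points is
the number of inverted elements. -/
theorem relIndex_centralizer {z : G} (hz : orderOf z = 2) (P : Subgroup G)
    (hP : ∀ x ∈ P, Odd (orderOf x)) (hzP : z ∈ Subgroup.normalizer (P : Set G)) :
    (P ⊓ Subgroup.centralizer ({z} : Set G)).relIndex P =
      Nat.card {x : G // x ∈ P ∧ z * x * z⁻¹ = x⁻¹} := by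
  have hmem : ∀ x ∈ P, z * x * z⁻¹ ∈ P := fun x hx => (Subgroup.mem_normalizer_iff.1 hzP x).1 hx
  have hzz : ∀ x : G, z * (z * x * z⁻¹) * z⁻¹ = x := by
    intro x
    rw [inv_eq hz, ← mul_assoc, ← mul_assoc, Dihedral.mul_self hz, one_mul, mul_assoc,
      Dihedral.mul_self hz, mul_one]
  have hfix : ∀ x : G, x ∈ Subgroup.centralizer ({z} : Set G) ↔ z * x * z⁻¹ = x := fun x => by
    rw [Subgroup.mem_centralizer_singleton_iff, mul_inv_eq_iff_eq_mul, eq_comm]
  rw [Subgroup.inf_relIndex_left, Subgroup.relIndex, Subgroup.index]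
  set C := Subgroup.centralizer ({z} : Set G) with hC
  refine Nat.card_eq_of_bijective
    (fun q => Quotient.liftOn' q (fun x : P => (⟨(x : G) * (z * x * z⁻¹)⁻¹,
      mul_mem x.2 (inv_mem (hmem x x.2)), ?_⟩ : {x : G // x ∈ P ∧ z * x * z⁻¹ = x⁻¹})) ?_) ⟨?_, ?_⟩
  · conv_rhs => rw [mul_inv_rev, inv_inv]
    rw [← MulAut.conj_apply, map_mul, map_inv, MulAut.conj_apply, MulAut.conj_apply, hzz]
  · intro a b hab
    rw [QuotientGroup.leftRel_apply, Subgroup.mem_subgroupOf, hfix, Subgroup.coe_mul,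
      Subgroup.coe_inv] at hab
    apply Subtype.ext
    have h1 : z * b * z⁻¹ = z * a * z⁻¹ * ((a : G)⁻¹ * b) := by
      rw [show z * (b : G) * z⁻¹ = (z * a * z⁻¹) * (z * ((a : G)⁻¹ * b) * z⁻¹) by group, hab]
    simp only
    rw [h1]; group
  · rintro ⟨a⟩ ⟨b⟩ h
    have h' : (a : G) * (z * a * z⁻¹)⁻¹ = b * (z * b * z⁻¹)⁻¹ := congrArg Subtype.val h
    refine QuotientGroup.eq.2 ?_
    rw [Subgroup.mem_subgroupOf, hfix, Subgroup.coe_mul, Subgroup.coe_inv]
    calc z * ((a : G)⁻¹ * b) * z⁻¹ = (a : G)⁻¹ * ((a : G) * (z * a * z⁻¹)⁻¹) * (z * b * z⁻¹) := by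
          group
      _ = (a : G)⁻¹ * b := by rw [h']; group
  · rintro ⟨w, hw, hwi⟩
    refine ⟨((⟨root w, pow_mem hw _⟩ : P) : P ⧸ C.subgroupOf P), Subtype.ext ?_⟩
    change root w * (z * root w * z⁻¹)⁻¹ = w
    rw [conj_root, hwi, root_inv, inv_inv, root_mul_self (hP w hw)]

end CfsgLib.Involution.IsolatedFactor
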