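import Cfsg.Agent.Lib.Involution.M24SylowModel
import Cfsg.Agent.Lib.SmallGroups.M24Group
import Cfsg.Agent.S2133

/-!
# The Sylow 2-subgroups of `M24` modulo their centres
-/

set_option autoImplicit false

namespace CfsgLib.Involution.M24Sylow

open Subgroup

/-- The matrix of a unitriangular element, coordinates permuted so that the corner is `(0, 1)`. -/
def mat (x : UT) : Matrix (Fin 5) (Fin 5) (ZMod 2) :=
  !![1, x.c, x.a01, x.a02, x.a03; 0, 1, 0, 0, 0; 0, x.a14, 1, x.a12, x.a13; 0, x.a24, 0, 1, x.a23;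
     0, x.a34, 0, 0, 1]

theorem mat_mul (x y : UT) : mat (x * y) = mat x * mat y := by
  ext i j
  fin_cases i <;> fin_cases j <;> simp [mat, UT.mul_def, Matrix.mul_apply, Fin.sum_univ_five] <;> ring

theorem mat_one : mat 1 = 1 := by
  ext i j
  fin_cases i <;> fin_cases j <;> simp [mat, UT.one_def]

theorem det_mat (x : UT) : (mat x).det = 1 := by
  have h : (mat x).det * (mat x⁻¹).det = 1 := by
    rw [← Matrix.det_mul, ← mat_mul, mul_inv_cancel, mat_one, Matrix.det_one]
  revert h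
  generalize (mat x).det = a
  generalize (mat x⁻¹).det = b
  revert a b
  decide

def toSL : UT →* Matrix.SpecialLinearGroup (Fin 5) (ZMod 2) where
  toFun x := ⟨mat x, det_mat x⟩
  map_one' := Subtype.ext mat_one
  map_mul' x y := Subtype.ext (mat_mul x y)

theorem toSL_injective : Function.Injective toSL := by
  intro x y h
  have h' : mat x = mat y := congrArg Subtype.val h
  have e := fun i j => congrFun (congrFun h' i) j
  exact UT.ext (e 0 2) (e 2 3) (e 3 4) (e 4 1) (e 0 3) (e 2 4) (e 3 1) (e 0 4) (e 2 1) (e 0 1)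

/-- The central element. -/
def corner (c : ZMod 2) : UT := ⟨0, 0, 0, 0, 0, 0, 0, 0, 0, c⟩

theorem corner_comm (c : ZMod 2) (x : UT) : corner c * x = x * corner c := by
  ext <;> simp [corner, UT.mul_def, add_comm]

theorem toSL_corner : (toSL (corner 1) : Matrix (Fin 5) (Fin 5) (ZMod 2)) = Matrix.transvection 0 1 1 := by
  show mat (corner 1) = _
  ext i j
  fin_cases i <;> fin_cases j <;> simp [mat, corner, Matrix.transvection, Matrix.single]

/-- A coordinate as a Boolean. -/
def fb (a : ZMod 2) : Bool := decide (a = 1)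

theorem b2_fb : ∀ a : ZMod 2, b2 (fb a) = a := by decide

theorem exists_dec (x : UT) : ∃ n : Fin 512, dec n.val = coords x := by
  refine ⟨⟨nb (fb x.a01) 1 + nb (fb x.a12) 2 + nb (fb x.a23) 4 + nb (fb x.a34) 8 + nb (fb x.a02) 16 +
    nb (fb x.a13) 32 + nb (fb x.a24) 64 + nb (fb x.a03) 128 + nb (fb x.a14) 256, ?_⟩, ?_⟩
  · have : ∀ b k, nb b k ≤ k := fun b k => by cases b <;> simp [nb]
    linarith [this (fb x.a01) 1, this (fb x.a12) 2, this (fb x.a23) 4, this (fb x.a34) 8, this (fb x.a02) 16,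
      this (fb x.a13) 32, this (fb x.a24) 64, this (fb x.a03) 128, this (fb x.a14) 256]
  · have h := bits (fb x.a01) (fb x.a12) (fb x.a23) (fb x.a34) (fb x.a02) (fb x.a13) (fb x.a24) (fb x.a03)
      (fb x.a14)
    simp only [Prod.mk.injEq] at h
    obtain ⟨h0, h1, h2, h3, h4, h5, h6, h7, h8⟩ := h
    simp only [dec, coords, h0, h1, h2, h3, h4, h5, h6, h7, h8, b2_fb]

theorem dec_inj {a b : Fin 512} (h : dec a.val = dec b.val) : a = b := by
  simp only [dec, UT.mk.injEq, and_true] at h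
  obtain ⟨h0, h1, h2, h3, h4, h5, h6, h7, h8⟩ := h
  refine code_ext a b ?_ (b2_inj _ _ h1) (b2_inj _ _ h2) (b2_inj _ _ h3) (b2_inj _ _ h4) (b2_inj _ _ h5)
    (b2_inj _ _ h6) (b2_inj _ _ h7) (b2_inj _ _ h8)
  have := b2_inj _ _ h0
  rcases Nat.mod_two_eq_zero_or_one a.val with ha | ha <;>
    rcases Nat.mod_two_eq_zero_or_one b.val with hb | hb <;>
    simp [bit, Nat.testBit_zero, ha, hb] at this ⊢

theorem eq_coords_mul (x : UT) : x = coords x * corner x.c := by
  ext <;> simp [coords, corner, UT.mul_def]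

theorem centre_dec : ∀ n : Fin 512,
    (∀ k ∈ [1, 2, 4, 8], dec n.val * dec k = dec k * dec n.val) → n = 0 := by
  decide +kernel

theorem mem_center_iff_coords {x : UT} : x ∈ center UT ↔ coords x = 1 := by
  constructor
  · intro hx
    obtain ⟨n, hn⟩ := exists_dec x
    have h0 : n = 0 := centre_dec n fun k _ => by
      rw [hn]
      have e : coords x = x * corner x.c := by
        ext <;> simp [coords, corner, UT.mul_def]
        exact (by decide : ∀ a : ZMod 2, (0 : ZMod 2) = a + a) _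
      rw [e, mul_assoc, corner_comm, ← mul_assoc, ← mul_assoc, mem_center_iff.mp hx (dec k)]
    rw [← hn, h0]
    rfl
  · intro h
    rw [eq_coords_mul x, h, one_mul, mem_center_iff]
    exact fun g => (corner_comm _ g).symm

/-- The model of a Sylow 2-subgroup of `M24` modulo its centre. -/
theorem exists_model (P : Sylow 2 ↥Cfsg.M24) :
    ∃ r : Fin 512 → (↥(P : Subgroup ↥Cfsg.M24) ⧸ center ↥(P : Subgroup ↥Cfsg.M24)),
      Function.Bijective r ∧ ∀ a b : Fin 512, r ⟨mulN a.val b.val, mulN_lt _ _⟩ = r a * r b := by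
  have : Fact (Nat.Prime 2) := ⟨Nat.prime_two⟩
  obtain ⟨z, -, ⟨e⟩⟩ := Cfsg.Agent.S2133.result (toSL (corner 1)) toSL_corner
  let ρ : UT →* centralizer ({toSL (corner 1)} : Set (Matrix.SpecialLinearGroup (Fin 5) (ZMod 2))) :=
    toSL.codRestrict _ fun x => mem_centralizer_singleton_iff.mpr (by rw [← map_mul, ← map_mul, corner_comm])
  let j : UT →* ↥Cfsg.M24 := (centralizer ({z} : Set ↥Cfsg.M24)).subtype.comp (e.symm.toMonoidHom.comp ρ)
  have hj : Function.Injective j := fun x y h =>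
    toSL_injective (congrArg Subtype.val (e.symm.injective (Subtype.ext h)))
  have hUT : Nat.card UT = 1024 := by
    have e2 : Fin 512 × ZMod 2 ≃ UT :=
      Equiv.ofBijective (fun t => dec t.1.val * corner t.2) ⟨by
        rintro ⟨a, c⟩ ⟨b, d⟩ h
        have hc : ∀ (a : Fin 512) (c : ZMod 2), (dec a.val * corner c).c = c ∧ coords (dec a.val * corner c) = dec a.val := by
          intro a c
          constructor <;> simp [coords, dec, corner, UT.mul_def]
        have h1 := congrArg UT.c h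
        have h2 := congrArg coords h
        rw [(hc a c).1, (hc b d).1] at h1
        rw [(hc a c).2, (hc b d).2] at h2
        exact Prod.ext (dec_inj h2) h1, fun x => by
        obtain ⟨n, hn⟩ := exists_dec x
        exact ⟨(n, x.c), by show dec n.val * corner x.c = x; rw [hn]; exact (eq_coords_mul x).symm⟩⟩
    rw [← Nat.card_congr e2, Nat.card_prod, Nat.card_fin, Nat.card_eq_fintype_card, ZMod.card]
  let Q : Sylow 2 ↥Cfsg.M24 := Sylow.ofCard j.range (by
    rw [← Nat.card_congr (MonoidHom.ofInjective hj).toEquiv, hUT,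
      CfsgLib.SmallGroups.M24Group.card_M24,
      show (244823040 : ℕ) = 2 ^ 10 * 239085 by norm_num, Nat.factorization_mul (by norm_num) (by norm_num),
      Finsupp.add_apply, Nat.prime_two.factorization_pow,
      Nat.factorization_eq_zero_of_not_dvd (show ¬ 2 ∣ 239085 by norm_num), Finsupp.single_eq_same]
    norm_num)
  let f : UT ≃* ↥(P : Subgroup ↥Cfsg.M24) := (MonoidHom.ofInjective hj).trans (Q.equiv P)
  let φ : UT →* ↥(P : Subgroup ↥Cfsg.M24) ⧸ center ↥(P : Subgroup ↥Cfsg.M24) :=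
    (QuotientGroup.mk' _).comp f.toMonoidHom
  have hφ : ∀ x, φ x = 1 ↔ coords x = 1 := fun x => by
    rw [← mem_center_iff_coords]
    show QuotientGroup.mk (f x) = (1 : ↥(P : Subgroup ↥Cfsg.M24) ⧸ center ↥(P : Subgroup ↥Cfsg.M24)) ↔ _
    rw [QuotientGroup.eq_one_iff, mem_center_iff, mem_center_iff]
    exact ⟨fun h g => f.injective (by simpa using h (f g)),
      fun h g => by obtain ⟨g, rfl⟩ := f.surjective g; rw [← map_mul, h, map_mul]⟩
  have hco : ∀ x, φ (coords x) = φ x := fun x => by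
    conv_rhs => rw [eq_coords_mul x]
    rw [map_mul, (hφ (corner x.c)).mpr rfl, mul_one]
  refine ⟨fun n => φ (dec n.val), ⟨?_, ?_⟩, fun a b => ?_⟩
  · intro a b h
    have h' : φ (dec a.val) = φ (dec b.val) := h
    have h1 : coords ((dec a.val)⁻¹ * dec b.val) = 1 := (hφ _).mp (by rw [map_mul, map_inv, h', inv_mul_cancel])
    have h2 : dec b.val = dec a.val * corner ((dec a.val)⁻¹ * dec b.val).c := by
      conv_lhs => rw [← mul_inv_cancel_left (dec a.val) (dec b.val)]
      congr 1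
      conv_lhs => rw [eq_coords_mul ((dec a.val)⁻¹ * dec b.val), h1, one_mul]
    have h3 := congrArg coords h2
    have : ∀ (n : ℕ) c, coords (dec n * corner c) = dec n := fun n c => by
      simp [coords, dec, corner, UT.mul_def]
    rw [this, show coords (dec b.val) = dec b.val from rfl] at h3
    exact (dec_inj h3).symm
  · intro y
    obtain ⟨p, rfl⟩ := QuotientGroup.mk'_surjective _ y
    obtain ⟨x, rfl⟩ := f.surjective p
    obtain ⟨n, hn⟩ := exists_dec x
    exact ⟨n, by show φ (dec n.val) = φ x; rw [hn, hco]⟩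
  · show φ (dec (mulN a.val b.val)) = φ (dec a.val) * φ (dec b.val)
    rw [dec_mulN, hco, map_mul]

theorem par_gen : ∀ w : Fin 16, par w 1 = bit w.val 0 ∧ par w 2 = bit w.val 1 ∧ par w 4 = bit w.val 2 ∧
    par w 8 = bit w.val 3 ∧ par w 0 = false := by
  decide +kernel

theorem bits4 : ∀ b : Bool × Bool × Bool × Bool,
    (List.range 4).map (bit (nb b.1 1 + nb b.2.1 2 + nb b.2.2.1 4 + nb b.2.2.2 8)) =
      [b.1, b.2.1, b.2.2.1, b.2.2.2] := by
  decide +kernel

theorem abstract_facts {S : Type*} [Group S] [Finite S] (r : Fin 512 → S) (hr : Function.Bijective r)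
    (hm : ∀ a b : Fin 512, r ⟨mulN a.val b.val, mulN_lt _ _⟩ = r a * r b) :
    (∀ M : Subgroup S, IsCoatom M → Nat.card (center M) ≤ 8) ∧
      (∃ A : Subgroup S, (IsMulCommutative A ∧ ∀ a ∈ A, a ^ 2 = 1) ∧ Nat.card A = 64) ∧
      ∀ A B : Subgroup S, IsMulCommutative A → Nat.card A = 64 → IsMulCommutative B → Nat.card B = 64 →
        A = B := by
  classical
  have hr0 : r 0 = 1 := by
    have h := hm 0 0
    rw [show (⟨mulN (0 : Fin 512).val (0 : Fin 512).val, mulN_lt _ _⟩ : Fin 512) = 0 from rfl] at h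
    exact mul_eq_left.mp h.symm
  have hcm : ∀ a b : Fin 512, r a * r b = r b * r a ↔ cm a.val b.val = true := fun a b => by
    rw [← hm, ← hm, mulN_comm, hr.1.eq_iff, Fin.ext_iff]
  have hE2 := inE_chk.2
  have mem : ∀ x : Fin 512, inE x.val = true → x.val ∈ (List.range 512).filter inE := fun x hx =>
    List.mem_filter.mpr ⟨List.mem_range.mpr x.isLt, hx⟩
  let E : Subgroup S :=
    { carrier := {s | ∃ n : Fin 512, inE n.val = true ∧ r n = s}
      one_mem' := ⟨0, rfl, hr0⟩
      mul_mem' := by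
        rintro _ _ ⟨a, ha, rfl⟩ ⟨b, hb, rfl⟩
        exact ⟨⟨_, mulN_lt a.val b.val⟩, (hE2 _ (mem a ha) _ (mem b hb)).2.2, hm a b⟩
      inv_mem' := by
        rintro _ ⟨a, ha, rfl⟩
        refine ⟨a, ha, (inv_eq_of_mul_eq_one_right ?_).symm⟩
        rw [← hm, ← hr0]
        exact congrArg r (Fin.ext (hE2 _ (mem a ha) _ (mem a ha)).2.1) }
  let idx : Subgroup S → Finset ℕ := fun A => (Finset.range 512).filter fun n => ∃ h : n < 512, r ⟨n, h⟩ ∈ A
  have hidx : ∀ A : Subgroup S, (idx A).card = Nat.card A := by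
    intro A
    have e : {n : Fin 512 // r n ∈ A} ≃ A := (Equiv.ofBijective r hr).subtypeEquiv fun _ => Iff.rfl
    rw [← Nat.card_congr e, Nat.card_eq_fintype_card, Fintype.card_subtype]
    refine (Finset.card_bij (fun n _ => n.val) ?_ ?_ ?_).symm
    · intro n hn
      simp only [Finset.mem_filter, Finset.mem_univ, true_and] at hn
      exact Finset.mem_filter.mpr ⟨Finset.mem_range.mpr n.isLt, n.isLt, hn⟩
    · exact fun a _ b _ h => Fin.ext h
    · intro n hn
      obtain ⟨-, h, hn'⟩ := Finset.mem_filter.mp hn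
      exact ⟨⟨n, h⟩, Finset.mem_filter.mpr ⟨Finset.mem_univ _, hn'⟩, rfl⟩
  have hEmem : ∀ n : Fin 512, r n ∈ E ↔ inE n.val = true := fun n =>
    ⟨fun ⟨m, hm', e⟩ => hr.1 e ▸ hm', fun h => ⟨n, h, rfl⟩⟩
  have hEcard : Nat.card E = 64 := by
    rw [← hidx, ← inE_chk.1, ← List.toFinset_card_of_nodup ((List.nodup_range).filter _)]
    refine congrArg Finset.card (Finset.ext fun n => ?_)
    simp only [idx, Finset.mem_filter, Finset.mem_range, List.mem_toFinset, List.mem_filter, List.mem_range]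
    exact ⟨fun ⟨h, _, h'⟩ => ⟨h, (hEmem ⟨n, h⟩).mp h'⟩, fun ⟨h, h'⟩ => ⟨h, h, (hEmem ⟨n, h⟩).mpr h'⟩⟩
  have hEab : IsMulCommutative E := ⟨⟨by
    rintro ⟨_, a, ha, rfl⟩ ⟨_, b, hb, rfl⟩
    exact Subtype.ext ((hcm a b).mpr (hE2 _ (mem a ha) _ (mem b hb)).1)⟩⟩
  have huniq : ∀ A : Subgroup S, IsMulCommutative A → Nat.card A = 64 → A = E := by
    intro A hA hA64
    by_contra hne
    have hcomm : ∀ a ∈ idx A, ∀ b ∈ idx A, cm a b = true := by
      intro a ha b hb
      obtain ⟨-, h1, h2⟩ := Finset.mem_filter.mp ha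
      obtain ⟨-, h3, h4⟩ := Finset.mem_filter.mp hb
      exact (hcm ⟨a, h1⟩ ⟨b, h3⟩).mp (congrArg Subtype.val (hA.is_comm.comm ⟨_, h2⟩ ⟨_, h4⟩))
    have hsmall : ∀ a ∈ idx A \ idx E, a ∈ ((List.range 512).filter fun a => !inE a && !small a).toFinset := by
      intro a ha
      obtain ⟨haA, haE⟩ := Finset.mem_sdiff.mp ha
      obtain ⟨hr', h1, h2⟩ := Finset.mem_filter.mp haA
      have hnE : inE a = false := by
        by_contra h
        exact haE (Finset.mem_filter.mpr ⟨hr', h1, (hEmem ⟨a, h1⟩).mpr (by simpa using h)⟩)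
      rw [List.mem_toFinset, List.mem_filter, List.mem_range, Bool.and_eq_true, hnE]
      refine ⟨h1, rfl, ?_⟩
      by_contra hs
      have hs' : small a = true := by simpa using hs
      have hsub : idx A ⊆ (cen a).toFinset := fun b hb => by
        rw [List.mem_toFinset, cen, List.mem_filter, List.mem_range]
        exact ⟨Finset.mem_range.mp (Finset.mem_filter.mp hb).1, hcomm a haA b hb⟩
      have hlen : (cen a).toFinset.card = (cen a).length :=
        List.toFinset_card_of_nodup ((List.nodup_range).filter _)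
      simp only [small, Bool.or_eq_true, decide_eq_true_eq, Bool.and_eq_true, List.any_eq_true] at hs'
      rcases hs' with hs' | ⟨h64, x, hx, y, hy, hxy⟩
      · have := Finset.card_le_card hsub
        rw [hlen, hidx, hA64] at this
        omega
      · have heq := Finset.eq_of_subset_of_card_le hsub (by rw [hlen, hidx, hA64, h64])
        rw [hcomm x (heq ▸ List.mem_toFinset.mpr hx) y (heq ▸ List.mem_toFinset.mpr hy)] at hxy
        simp at hxy
    have h1 : (idx A \ idx E).card ≤ 31 := (Finset.card_le_card hsmall).trans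
      ((List.toFinset_card_le _).trans cen_chk)
    have h2 : idx A ∩ idx E = idx (A ⊓ E) := by
      ext n
      simp only [idx, Finset.mem_inter, Finset.mem_filter, Finset.mem_range, Subgroup.mem_inf]
      exact ⟨fun ⟨⟨h, h', ha⟩, ⟨_, _, hb⟩⟩ => ⟨h, h', ha, hb⟩, fun ⟨h, h', ha, hb⟩ => ⟨⟨h, h', ha⟩, h, h', hb⟩⟩
    have h3 : Nat.card (A ⊓ E : Subgroup S) ∣ 64 := hA64 ▸ Subgroup.card_dvd_of_le inf_le_left
    have h4 : Nat.card (A ⊓ E : Subgroup S) ≠ 64 := fun h => hne (by
      have ea := Subgroup.eq_of_le_of_card_ge (inf_le_left : A ⊓ E ≤ A) (by rw [h, hA64])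
      have eb := Subgroup.eq_of_le_of_card_ge (inf_le_right : A ⊓ E ≤ E) (by rw [h, hEcard])
      exact ea.symm.trans eb)
    have h5 : Nat.card (A ⊓ E : Subgroup S) ≤ 32 := by
      obtain ⟨c, hc⟩ := h3
      rcases Nat.lt_or_ge c 2 with hc2 | hc2
      · interval_cases c <;> omega
      · have := Nat.mul_le_mul_left (Nat.card (A ⊓ E : Subgroup S)) hc2
        omega
    have h6 := Finset.card_sdiff_add_card_inter (idx A) (idx E)
    rw [h2, hidx, hidx, hA64] at h6
    omega
  refine ⟨?_, ⟨E, ⟨hEab, ?_⟩, hEcard⟩, fun A B hA hA' hB hB' => (huniq A hA hA').trans (huniq B hB hB').symm⟩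
  swap
  · rintro _ ⟨a, ha, rfl⟩
    rw [pow_two, ← hm, ← hr0]
    exact congrArg r (Fin.ext (hE2 _ (mem a ha) _ (mem a ha)).2.1)
  intro M hM
  have : Fact (Nat.Prime 2) := ⟨Nat.prime_two⟩
  have hS : Nat.card S = 2 ^ 9 := by
    rw [← Nat.card_congr (Equiv.ofBijective r hr), Nat.card_fin]; norm_num
  obtain ⟨k, -, hk⟩ := (Nat.dvd_prime_pow Nat.prime_two).mp (hS ▸ M.card_subgroup_dvd_card)
  have hk9 : k < 9 := by
    by_contra h
    refine hM.1 (Subgroup.eq_top_of_le_card _ ?_)
    rw [hk, hS]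
    exact Nat.pow_le_pow_right (by norm_num) (by omega)
  obtain ⟨K, hK, hMK⟩ := Sylow.exists_subgroup_card_pow_succ (p := 2) (n := k)
    (by rw [hS]; exact pow_dvd_pow 2 hk9) hk
  have hKtop : K = ⊤ := hM.2 K (lt_of_le_of_ne hMK fun e => by
    rw [← e, hk] at hK
    exact absurd (Nat.pow_right_injective le_rfl hK) (by omega))
  have hindex : M.index = 2 := by
    have h := M.card_mul_index
    rw [hKtop, Subgroup.card_top, hS] at hK
    have : k = 8 := by have := Nat.pow_right_injective le_rfl hK; omega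
    rw [hk, hS, this] at h
    norm_num at h
    omega
  let c : ℕ → Bool := fun n => if h : n < 512 then decide (r ⟨n, h⟩ ∉ M) else false
  let w : Fin 16 := ⟨nb (c 1) 1 + nb (c 2) 2 + nb (c 4) 4 + nb (c 8) 8, by
    have : ∀ b k, nb b k ≤ k := fun b k => by cases b <;> simp [nb]
    linarith [this (c 1) 1, this (c 2) 2, this (c 4) 4, this (c 8) 8]⟩
  have hw := bits4 (c 1, c 2, c 4, c 8)
  simp only [List.range, List.range.loop, List.map_cons, List.map_nil, List.cons.injEq, and_true] at hw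
  let Q : ℕ → Prop := fun n => ∃ h : n < 512, (r ⟨n, h⟩ ∈ M ↔ par w n = false)
  have hQmul : ∀ a b, Q a → Q b → Q (mulN a b) := by
    rintro a b ⟨ha, ea⟩ ⟨hb, eb⟩
    refine ⟨mulN_lt _ _, ?_⟩
    rw [show r ⟨mulN a b, mulN_lt _ _⟩ = r ⟨a, ha⟩ * r ⟨b, hb⟩ from hm ⟨a, ha⟩ ⟨b, hb⟩,
      Subgroup.mul_mem_iff_of_index_two hindex, ea, eb, par_mulN]
    cases par w a <;> cases par w b <;> decide
  have hgen : ∀ k, k < 512 → par w k = c k → Q k := fun k h e => ⟨h, by
    rw [e]; simp only [c, dif_pos h, decide_eq_false_iff_not, not_not]⟩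
  obtain ⟨g1, g2, g4, g8, g0⟩ := par_gen w
  have q1 : Q 1 := hgen 1 (by norm_num) (g1.trans hw.1)
  have q2 : Q 2 := hgen 2 (by norm_num) (g2.trans hw.2.1)
  have q4 : Q 4 := hgen 4 (by norm_num) (g4.trans hw.2.2.1)
  have q8 : Q 8 := hgen 8 (by norm_num) (g8.trans hw.2.2.2)
  have q0 : Q 0 := ⟨by norm_num, ⟨fun _ => g0, fun _ => by
    rw [show (⟨0, by norm_num⟩ : Fin 512) = 0 from rfl, hr0]; exact M.one_mem⟩⟩
  obtain ⟨e16, e32, e64, e128, e256⟩ := words_chk
  have q16 : Q 16 := e16 ▸ hQmul _ _ (hQmul _ _ (hQmul _ _ q1 q2) q1) q2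
  have q32 : Q 32 := e32 ▸ hQmul _ _ (hQmul _ _ (hQmul _ _ q2 q4) q2) q4
  have q64 : Q 64 := e64 ▸ hQmul _ _ (hQmul _ _ (hQmul _ _ q4 q8) q4) q8
  have q128 : Q 128 := e128 ▸ hQmul _ _ (hQmul _ _ (hQmul _ _ q16 q4) q16) q4
  have q256 : Q 256 := e256 ▸ hQmul _ _ (hQmul _ _ (hQmul _ _ q32 q8) q32) q8
  have hQ : ∀ n : Fin 512, r n ∈ M ↔ par w n.val = false := by
    intro n
    have h : Q (normalForm n.val) := by
      have key : ∀ b k, Q k → Q (nb b k) := fun b k hk => by cases b <;> simpa [nb] using (by assumption)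
      simp only [normalForm, List.map_cons, List.map_nil, List.foldl_cons, List.foldl_nil]
      refine hQmul _ _ (hQmul _ _ (hQmul _ _ (hQmul _ _ (hQmul _ _ (hQmul _ _ (hQmul _ _ (hQmul _ _
        (hQmul _ _ q0 ?_) ?_) ?_) ?_) ?_) ?_) ?_) ?_) ?_ <;> apply key <;> assumption
    rw [normalForm_chk n] at h
    exact h.2
  have hw0 : w.val ≠ 0 := fun h0 => hM.1 (eq_top_iff.mpr fun s _ => by
    obtain ⟨n, rfl⟩ := hr.2 s
    rw [hQ, show w = 0 from Fin.ext h0]
    simp [par, bit])
  refine le_trans ?_ (centre_chk w hw0)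
  let l := (List.range 512).filter fun x => !par w x
  let l' := l.filter fun x => l.all (cm x)
  have hmem : ∀ x : center M, ((Function.surjInv hr.2 x.1.1).val : ℕ) ∈ l'.toFinset := by
    intro x
    have hx := Function.surjInv_eq hr.2 x.1.1
    generalize Function.surjInv hr.2 x.1.1 = n at hx ⊢
    rw [List.mem_toFinset, List.mem_filter, List.all_eq_true]
    refine ⟨List.mem_filter.mpr ⟨List.mem_range.mpr n.isLt, ?_⟩, fun y hy => ?_⟩
    · rw [(hQ n).mp (hx.symm ▸ x.1.2)]; rfl
    · obtain ⟨hy1, hy2⟩ := List.mem_filter.mp hy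
      have hy' : r ⟨y, List.mem_range.mp hy1⟩ ∈ M := (hQ _).mpr (by simpa using hy2)
      refine (hcm n ⟨y, List.mem_range.mp hy1⟩).mp ?_
      rw [hx]
      exact (congrArg Subtype.val (Subgroup.mem_center_iff.mp x.2 ⟨_, hy'⟩)).symm
  calc Nat.card (center M) ≤ Nat.card l'.toFinset :=
        Nat.card_le_card_of_injective (fun x => (⟨_, hmem x⟩ : l'.toFinset)) fun x y h => by
          have h' : (Function.surjInv hr.2 x.1.1).val = (Function.surjInv hr.2 y.1.1).val := congrArg Subtype.val h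
          exact Subtype.ext (Subtype.ext (Function.injective_surjInv hr.2 (Fin.ext h')))
    _ = l'.toFinset.card := Nat.card_eq_finsetCard _
    _ ≤ l'.length := List.toFinset_card_le _

end CfsgLib.Involution.M24Sylow
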