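import Mathlib

/-!
# The upper unitriangular group of degree 5 over `GF(2)` modulo its centre

Tables on `Fin 512` of the facts used for the Sylow 2-subgroups of `M24`.
-/

set_option autoImplicit false

namespace CfsgLib.Involution.M24Sylow

/-- Unitriangular matrices of degree 5 over `GF(2)`, by entries; the corner is `c`. -/
@[ext] structure UT where
  (a01 a12 a23 a34 a02 a13 a24 a03 a14 c : ZMod 2)
deriving DecidableEq

namespace UT

instance : One UT := ⟨⟨0, 0, 0, 0, 0, 0, 0, 0, 0, 0⟩⟩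

instance : Mul UT := ⟨fun x y => ⟨x.a01 + y.a01, x.a12 + y.a12, x.a23 + y.a23, x.a34 + y.a34,
  x.a02 + y.a02 + x.a01 * y.a12, x.a13 + y.a13 + x.a12 * y.a23, x.a24 + y.a24 + x.a23 * y.a34,
  x.a03 + y.a03 + x.a01 * y.a13 + x.a02 * y.a23, x.a14 + y.a14 + x.a12 * y.a24 + x.a13 * y.a34,
  x.c + y.c + x.a01 * y.a14 + x.a02 * y.a24 + x.a03 * y.a34⟩⟩

instance : Inv UT := ⟨fun x => ⟨x.a01, x.a12, x.a23, x.a34,
  x.a02 + x.a01 * x.a12, x.a13 + x.a12 * x.a23, x.a24 + x.a23 * x.a34,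
  x.a03 + x.a01 * x.a13 + x.a02 * x.a23 + x.a01 * x.a12 * x.a23,
  x.a14 + x.a12 * x.a24 + x.a13 * x.a34 + x.a12 * x.a23 * x.a34,
  x.c + x.a01 * x.a14 + x.a02 * x.a24 + x.a03 * x.a34 + x.a01 * x.a12 * x.a24 + x.a01 * x.a13 * x.a34 +
    x.a02 * x.a23 * x.a34 + x.a01 * x.a12 * x.a23 * x.a34⟩⟩

theorem mul_def (x y : UT) : x * y = ⟨x.a01 + y.a01, x.a12 + y.a12, x.a23 + y.a23, x.a34 + y.a34,
    x.a02 + y.a02 + x.a01 * y.a12, x.a13 + y.a13 + x.a12 * y.a23, x.a24 + y.a24 + x.a23 * y.a34,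
    x.a03 + y.a03 + x.a01 * y.a13 + x.a02 * y.a23, x.a14 + y.a14 + x.a12 * y.a24 + x.a13 * y.a34,
    x.c + y.c + x.a01 * y.a14 + x.a02 * y.a24 + x.a03 * y.a34⟩ := rfl

theorem one_def : (1 : UT) = ⟨0, 0, 0, 0, 0, 0, 0, 0, 0, 0⟩ := rfl

theorem two_eq : (2 : ZMod 2) = 0 := by decide

instance : Group UT where
  mul_assoc x y z := by ext <;> simp only [mul_def] <;> ring
  one_mul x := by ext <;> simp [mul_def, one_def]
  mul_one x := by ext <;> simp [mul_def, one_def]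
  inv_mul_cancel x := by
    have h := two_eq
    ext <;> simp only [mul_def, one_def, Inv.inv] <;>
      first
      | linear_combination x.a01 * h
      | linear_combination x.a12 * h
      | linear_combination x.a23 * h
      | linear_combination x.a34 * h
      | linear_combination (x.a02 + x.a01 * x.a12) * h
      | linear_combination (x.a13 + x.a12 * x.a23) * h
      | linear_combination (x.a24 + x.a23 * x.a34) * h
      | linear_combination (x.a03 + x.a01 * x.a13 + x.a02 * x.a23 + x.a01 * x.a12 * x.a23) * h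
      | linear_combination (x.a14 + x.a12 * x.a24 + x.a13 * x.a34 + x.a12 * x.a23 * x.a34) * h
      | linear_combination (x.c + x.a01 * x.a14 + x.a02 * x.a24 + x.a03 * x.a34 + x.a01 * x.a12 * x.a24 +
          x.a01 * x.a13 * x.a34 + x.a02 * x.a23 * x.a34 + x.a01 * x.a12 * x.a23 * x.a34) * h

end UT

/-- A bit of `GF(2)`. -/
def b2 (b : Bool) : ZMod 2 := bif b then 1 else 0

def bit (n k : ℕ) : Bool := Nat.testBit n k

/-- The representative with corner 0 coded by a number. -/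
def dec (n : ℕ) : UT :=
  ⟨b2 (bit n 0), b2 (bit n 1), b2 (bit n 2), b2 (bit n 3), b2 (bit n 4), b2 (bit n 5), b2 (bit n 6),
    b2 (bit n 7), b2 (bit n 8), 0⟩

def nb (b : Bool) (k : ℕ) : ℕ := bif b then k else 0

/-- The product modulo the centre, on codes. -/
def mulN (x y : ℕ) : ℕ :=
  nb (bit x 0 != bit y 0) 1 + nb (bit x 1 != bit y 1) 2 + nb (bit x 2 != bit y 2) 4 + nb (bit x 3 != bit y 3) 8 +
  nb ((bit x 4 != bit y 4) != (bit x 0 && bit y 1)) 16 + nb ((bit x 5 != bit y 5) != (bit x 1 && bit y 2)) 32 +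
  nb ((bit x 6 != bit y 6) != (bit x 2 && bit y 3)) 64 +
  nb (((bit x 7 != bit y 7) != (bit x 0 && bit y 5)) != (bit x 4 && bit y 2)) 128 +
  nb (((bit x 8 != bit y 8) != (bit x 1 && bit y 6)) != (bit x 5 && bit y 3)) 256

/-- Commuting modulo the centre. -/
def cm (x y : ℕ) : Bool :=
  ((bit x 0 && bit y 1) == (bit y 0 && bit x 1)) && ((bit x 1 && bit y 2) == (bit y 1 && bit x 2)) &&
  ((bit x 2 && bit y 3) == (bit y 2 && bit x 3)) &&
  (((bit x 0 && bit y 5) != (bit x 4 && bit y 2)) == ((bit y 0 && bit x 5) != (bit y 4 && bit x 2))) &&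
  (((bit x 1 && bit y 6) != (bit x 5 && bit y 3)) == ((bit y 1 && bit x 6) != (bit y 5 && bit x 3)))

theorem code_ext : ∀ a b : Fin 512, a.val % 2 = b.val % 2 → bit a 1 = bit b 1 → bit a 2 = bit b 2 →
    bit a 3 = bit b 3 → bit a 4 = bit b 4 → bit a 5 = bit b 5 → bit a 6 = bit b 6 → bit a 7 = bit b 7 →
    bit a 8 = bit b 8 → a = b := by
  intro a b h0 h1 h2 h3 h4 h5 h6 h7 h8
  refine Fin.ext (Nat.eq_of_testBit_eq fun i => ?_)
  rcases lt_or_ge i 9 with hi | hi
  · interval_cases i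
    · simp [Nat.testBit_zero, h0]
    all_goals assumption
  · have hlt : ∀ c : Fin 512, c.val < 2 ^ i := fun c =>
      lt_of_lt_of_le c.isLt (le_trans (by norm_num) (Nat.pow_le_pow_right (by norm_num) hi))
    rw [Nat.testBit_lt_two_pow (hlt a), Nat.testBit_lt_two_pow (hlt b)]

theorem mulN_lt (x y : ℕ) : mulN x y < 512 := by
  unfold mulN
  have : ∀ b k, nb b k ≤ k := fun b k => by cases b <;> simp [nb]
  linarith [this (bit x 0 != bit y 0) 1, this (bit x 1 != bit y 1) 2, this (bit x 2 != bit y 2) 4,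
    this (bit x 3 != bit y 3) 8, this ((bit x 4 != bit y 4) != (bit x 0 && bit y 1)) 16,
    this ((bit x 5 != bit y 5) != (bit x 1 && bit y 2)) 32,
    this ((bit x 6 != bit y 6) != (bit x 2 && bit y 3)) 64,
    this (((bit x 7 != bit y 7) != (bit x 0 && bit y 5)) != (bit x 4 && bit y 2)) 128,
    this (((bit x 8 != bit y 8) != (bit x 1 && bit y 6)) != (bit x 5 && bit y 3)) 256]

theorem bitsL : ∀ (p : Bool × Bool × Bool × Bool) (q : Bool × Bool × Bool × Bool × Bool),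
    (List.range 9).map (bit (nb p.1 1 + nb p.2.1 2 + nb p.2.2.1 4 + nb p.2.2.2 8 + nb q.1 16 + nb q.2.1 32 + nb q.2.2.1 64 + nb q.2.2.2.1 128 + nb q.2.2.2.2 256)) =
      [p.1, p.2.1, p.2.2.1, p.2.2.2, q.1, q.2.1, q.2.2.1, q.2.2.2.1, q.2.2.2.2] := by
  decide +kernel

theorem bits (b0 b1 b2 b3 b4 b5 b6 b7 b8 : Bool) :
    (fun n => (bit n 0, bit n 1, bit n 2, bit n 3, bit n 4, bit n 5, bit n 6, bit n 7, bit n 8))
      (nb b0 1 + nb b1 2 + nb b2 4 + nb b3 8 + nb b4 16 + nb b5 32 + nb b6 64 + nb b7 128 + nb b8 256) =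
      (b0, b1, b2, b3, b4, b5, b6, b7, b8) := by
  have h := bitsL (b0, b1, b2, b3) (b4, b5, b6, b7, b8)
  simp only [List.range, List.range.loop, List.map_cons, List.map_nil, List.cons.injEq, and_true] at h
  simp only [Prod.mk.injEq]
  exact h

theorem bne_swap : ∀ a b : Bool, (a != b) = (b != a) := by decide

theorem b2_hom : ∀ a b : Bool, b2 (a != b) = b2 a + b2 b ∧ b2 (a && b) = b2 a * b2 b := by decide

theorem b2_inj : ∀ a b : Bool, b2 a = b2 b → a = b := by decide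

/-- The nine coordinates off the corner. -/
def coords (x : UT) : UT := { x with c := 0 }

theorem dec_mulN (x y : ℕ) : dec (mulN x y) = coords (dec x * dec y) := by
  simp only [dec, mulN, coords, UT.mul_def]
  have h := fun b0 b1 b2' b3 b4 b5 b6 b7 b8 => bits b0 b1 b2' b3 b4 b5 b6 b7 b8
  simp only [Prod.mk.injEq] at h
  refine UT.ext ?_ ?_ ?_ ?_ ?_ ?_ ?_ ?_ ?_ ?_ <;>
    simp only [(h _ _ _ _ _ _ _ _ _).1, (h _ _ _ _ _ _ _ _ _).2.1, (h _ _ _ _ _ _ _ _ _).2.2.1,
      (h _ _ _ _ _ _ _ _ _).2.2.2.1, (h _ _ _ _ _ _ _ _ _).2.2.2.2.1, (h _ _ _ _ _ _ _ _ _).2.2.2.2.2.1,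
      (h _ _ _ _ _ _ _ _ _).2.2.2.2.2.2.1, (h _ _ _ _ _ _ _ _ _).2.2.2.2.2.2.2.1,
      (h _ _ _ _ _ _ _ _ _).2.2.2.2.2.2.2.2, (b2_hom _ _).1, (b2_hom _ _).2]

theorem mulN_comm (x y : ℕ) : cm x y = true ↔ mulN x y = mulN y x := by
  have key : ∀ a b c d : Bool, ((a != b) != c) = ((b != a) != d) ↔ (c == d) = true := by decide
  have key5 : ∀ a b c d e f : Bool,
      (((a != b) != c) != d) = (((b != a) != e) != f) ↔ ((c != d) == (e != f)) = true := by decide
  have hb := fun b0 b1 b2' b3 b4 b5 b6 b7 b8 => bits b0 b1 b2' b3 b4 b5 b6 b7 b8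
  simp only [cm, Bool.and_eq_true]
  constructor
  · rintro ⟨⟨⟨⟨h4, h5⟩, h6⟩, h7⟩, h8⟩
    simp only [mulN]
    rw [(key _ _ _ _).mpr h4, (key _ _ _ _).mpr h5, (key _ _ _ _).mpr h6, (key5 _ _ _ _ _ _).mpr h7,
      (key5 _ _ _ _ _ _).mpr h8, bne_swap (bit x 0), bne_swap (bit x 1), bne_swap (bit x 2),
      bne_swap (bit x 3)]
  · intro h
    have h' := congrArg (fun n => (bit n 0, bit n 1, bit n 2, bit n 3, bit n 4, bit n 5, bit n 6, bit n 7, bit n 8)) h
    simp only [mulN] at h'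
    simp only [Prod.mk.injEq] at hb
    simp only [(hb _ _ _ _ _ _ _ _ _).2.2.2.2.1, (hb _ _ _ _ _ _ _ _ _).2.2.2.2.2.1,
      (hb _ _ _ _ _ _ _ _ _).2.2.2.2.2.2.1, (hb _ _ _ _ _ _ _ _ _).2.2.2.2.2.2.2.1,
      (hb _ _ _ _ _ _ _ _ _).2.2.2.2.2.2.2.2] at h'
    simp only [Prod.mk.injEq] at h'
    exact ⟨⟨⟨⟨(key _ _ _ _).mp h'.2.2.2.2.1, (key _ _ _ _).mp h'.2.2.2.2.2.1⟩,
      (key _ _ _ _).mp h'.2.2.2.2.2.2.1⟩, (key5 _ _ _ _ _ _).mp h'.2.2.2.2.2.2.2.1⟩,
      (key5 _ _ _ _ _ _).mp h'.2.2.2.2.2.2.2.2⟩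

/-- The elementary abelian subgroup of order 64. -/
def inE (x : ℕ) : Bool := !bit x 1 && !bit x 2 && !bit x 5

/-- The centraliser of an element. -/
def cen (a : ℕ) : List ℕ := (List.range 512).filter (cm a)

/-- Either few commute with `a`, or exactly 64 do and they do not commute with each other. -/
def small (a : ℕ) : Bool :=
  let l := cen a
  decide (l.length < 64) || (decide (l.length = 64) && l.any fun x => l.any fun y => !cm x y)

theorem cen_chk : (((List.range 512).filter fun a => !inE a && !small a).length ≤ 31) := by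
  decide +kernel

theorem inE_chk : ((List.range 512).filter inE).length = 64 ∧
    ∀ x ∈ (List.range 512).filter inE, ∀ y ∈ (List.range 512).filter inE,
      cm x y = true ∧ mulN x x = 0 ∧ inE (mulN x y) = true := by
  decide +kernel

/-- The parity of a functional on the four generators. -/
def par (w : Fin 16) (x : ℕ) : Bool :=
  ((bit w.val 0 && bit x 0) != (bit w.val 1 && bit x 1)) != ((bit w.val 2 && bit x 2) != (bit w.val 3 && bit x 3))

theorem par_mulN (w : Fin 16) (x y : ℕ) : par w (mulN x y) = (par w x != par w y) := by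
  have h := fun b0 b1 b2' b3 b4 b5 b6 b7 b8 => bits b0 b1 b2' b3 b4 b5 b6 b7 b8
  simp only [Prod.mk.injEq] at h
  simp only [par, mulN, (h _ _ _ _ _ _ _ _ _).1, (h _ _ _ _ _ _ _ _ _).2.1, (h _ _ _ _ _ _ _ _ _).2.2.1,
    (h _ _ _ _ _ _ _ _ _).2.2.2.1]
  generalize bit w.val 0 = u0
  generalize bit w.val 1 = u1
  generalize bit w.val 2 = u2
  generalize bit w.val 3 = u3
  generalize bit x 0 = a0
  generalize bit x 1 = a1
  generalize bit x 2 = a2
  generalize bit x 3 = a3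
  generalize bit y 0 = c0
  generalize bit y 1 = c1
  generalize bit y 2 = c2
  generalize bit y 3 = c3
  revert u0 u1 u2 u3 a0 a1 a2 a3 c0 c1 c2 c3
  decide +kernel

theorem centre_chk : ∀ w : Fin 16, w.val ≠ 0 →
    let l := (List.range 512).filter fun x => !par w x
    (l.filter fun x => l.all (cm x)).length ≤ 8 := by
  decide +kernel

/-- The elements of a row order in which the products have no cross terms. -/
def normalForm (x : ℕ) : ℕ :=
  ([3, 6, 2, 8, 5, 1, 7, 4, 0].map fun k => nb (bit x k) (2 ^ k)).foldl mulN 0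

theorem normalForm_chk : ∀ x : Fin 512, normalForm x.val = x.val := by decide +kernel

theorem words_chk : mulN (mulN (mulN 1 2) 1) 2 = 16 ∧ mulN (mulN (mulN 2 4) 2) 4 = 32 ∧
    mulN (mulN (mulN 4 8) 4) 8 = 64 ∧ mulN (mulN (mulN 16 4) 16) 4 = 128 ∧
    mulN (mulN (mulN 32 8) 32) 8 = 256 := by decide +kernel

end CfsgLib.Involution.M24Sylow
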