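import Mathlib
import Cfsg.Agent.Lib.SmallGroups.LocalTools
import Cfsg.Agent.Lib.Fusion.ThompsonTransfer
import Cfsg.Agent.Lib.Fusion.Transfer
import Cfsg.Agent.S0992

/-!
# Groups of order `175560`

A group whose order properly divides `175560 = 2³·3·5·7·11·19` has a normal Sylow `19`-subgroup.
For simple groups this is a search over the possible normalizer data of the Sylow subgroups of prime
order, with a count of the elements of order divisible by a given prime; two orders need a look at
involution centralizers.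
-/

set_option autoImplicit false

namespace CfsgLib.Involution.Order175560

open Subgroup
open scoped commutatorElement
open CfsgLib.SmallGroups.SimpleTools CfsgLib.SmallGroups.LocalTools

/-- Divisors of `175560`. -/
def divs : List ℕ :=
  [1, 2, 4, 8].flatMap fun a => [1, 3].flatMap fun b => [1, 5].flatMap fun c => [1, 7].flatMap fun d =>
    [1, 11].flatMap fun e => [1, 19].map fun f => a * b * c * d * e * f

theorem mem_divs {n : ℕ} (h : n ∣ 175560) : n ∈ divs := by
  obtain ⟨a, b', ha, hb, rfl⟩ := (Nat.dvd_mul.1 (show n ∣ 8 * 21945 by norm_num; exact h))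
  obtain ⟨b, c', hb1, hc, rfl⟩ := (Nat.dvd_mul.1 (show b' ∣ 3 * 7315 by norm_num; exact hb))
  obtain ⟨c, d', hc1, hd, rfl⟩ := (Nat.dvd_mul.1 (show c' ∣ 5 * 1463 by norm_num; exact hc))
  obtain ⟨d, e', hd1, he, rfl⟩ := (Nat.dvd_mul.1 (show d' ∣ 7 * 209 by norm_num; exact hd))
  obtain ⟨e, f, he1, hf, rfl⟩ := (Nat.dvd_mul.1 (show e' ∣ 11 * 19 by norm_num; exact he))
  simp only [divs, List.mem_flatMap, List.mem_map]
  refine ⟨a, ?_, b, ?_, c, ?_, d, ?_, e, ?_, f, ?_, by ring⟩
  · obtain ⟨i, hi, rfl⟩ := (Nat.dvd_prime_pow Nat.prime_two).1 (show a ∣ 2 ^ 3 by norm_num; exact ha)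
    interval_cases i <;> simp
  all_goals
    simp only [List.mem_cons, List.not_mem_nil, or_false]
  · exact (Nat.dvd_prime (by norm_num)).1 hb1
  · exact (Nat.dvd_prime (by norm_num)).1 hc1
  · exact (Nat.dvd_prime (by norm_num)).1 hd1
  · exact (Nat.dvd_prime (by norm_num)).1 he1
  · exact (Nat.dvd_prime (by norm_num)).1 hf

/-- The possible `(k, w)` at the prime `r`: `k` is the order of the `r'`-part of the centralizer of a Sylow
`r`-subgroup, `w` a lower bound for the number of elements of order divisible by `r`. -/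
def opts (o r : ℕ) : List (ℕ × ℕ) :=
  divs.flatMap fun n =>
    (List.range r).filterMap fun e =>
      if o % n == 0 && n % r == 1 && decide (19 ≤ n) && decide (2 ≤ e) && (r - 1) % e == 0 &&
          (o / n) % (e * r) == 0 && (decide (n ≠ r + 1) || (r * (r - 1)) % (2 * (o / n)) == 0) then
        some (o / n / (e * r), n * ((r - 1) * (o / n / (e * r))))
      else none

/-- Compatibility of centralizer orders. -/
def compat (x : ℕ × ℕ × ℕ) (acc : List (ℕ × ℕ × ℕ)) : Bool :=
  acc.all fun y => (x.2.1 % y.1 == 0) == (y.2.1 % x.1 == 0)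

/-- No element has order divisible by two primes of the list. -/
def indep : List (ℕ × ℕ × ℕ) → Bool
  | [] => true
  | x :: l => (l.all fun y => x.2.1 % y.1 != 0) && indep l

/-- The two exceptional situations. -/
def special (o : ℕ) (acc : List (ℕ × ℕ × ℕ)) : Bool :=
  (o == 15960 && acc.any fun x => x.1 == 19 && x.2.1 == 2) ||
  (o == 87780 && (acc.any fun x => x.1 == 19 && x.2.1 % 2 == 0 && x.2.1 % 11 != 0) &&
    (acc.any fun x => x.1 == 11 && x.2.1 % 2 == 0))

/-- The terminal test. -/
def kill (o : ℕ) (acc : List (ℕ × ℕ × ℕ)) : Bool :=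
  special o acc || (acc.sublists.any fun S => indep S && decide (o ≤ (S.map fun x => x.2.2).sum))

/-- The search. -/
def go (o : ℕ) : List ℕ → List (ℕ × ℕ × ℕ) → Bool
  | [], acc => kill o acc
  | r :: rs, acc => (opts o r).all fun p => !compat (r, p) acc || go o rs ((r, p) :: acc)

/-- The orders to exclude, with their odd primes. -/
def cases : List (ℕ × List ℕ) :=
  [(228, [3, 19]), (1140, [3, 5, 19]), (1596, [3, 7, 19]), (2508, [3, 11, 19]), (7980, [3, 5, 7, 19]),
   (12540, [3, 5, 11, 19]), (17556, [3, 7, 11, 19]), (87780, [3, 5, 7, 11, 19]),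
   (152, [19]), (456, [3, 19]), (760, [5, 19]), (1064, [7, 19]), (1672, [11, 19]), (2280, [3, 5, 19]),
   (3192, [3, 7, 19]), (5016, [3, 11, 19]), (5320, [5, 7, 19]), (8360, [5, 11, 19]), (11704, [7, 11, 19]),
   (15960, [3, 5, 7, 19]), (25080, [3, 5, 11, 19]), (35112, [3, 7, 11, 19]), (58520, [5, 7, 11, 19])]

theorem cases_true : (cases.all fun c => go c.1 c.2 []) = true := by decide +kernel

theorem exists_case {o : ℕ} (ho : o ∣ 175560) (hne : o ≠ 175560) (h19 : 19 ∣ o) (h4 : 4 ∣ o)
    (h3 : 8 ∣ o ∨ 3 ∣ o) : ∃ rs, (o, rs) ∈ cases := by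
  have hd := mem_divs ho
  have key : (divs.all fun o => decide (o = 175560 ∨ ¬ 19 ∣ o ∨ ¬ 4 ∣ o ∨ (¬ 8 ∣ o ∧ ¬ 3 ∣ o) ∨
      o ∈ cases.map Prod.fst)) = true := by decide +kernel
  have h := of_decide_eq_true (List.all_eq_true.1 key o hd)
  rcases h with h | h | h | ⟨h, h'⟩ | h
  · exact absurd h hne
  · exact absurd h19 h
  · exact absurd h4 h
  · exact absurd h3 (by tauto)
  · obtain ⟨⟨o', rs⟩, hm, rfl⟩ := List.mem_map.1 h
    exact ⟨rs, hm⟩

theorem case_primes : (cases.all fun c => c.2.all fun r => decide (r ∈ [3, 5, 7, 11, 19] ∧ r ∣ c.1) &&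
    c.2.Nodup) = true := by decide +kernel

section group
variable {G : Type*} [Group G] [Finite G]

theorem sylow_card_of_dvd (hG : Nat.card G ∣ 175560) {r : ℕ} [Fact r.Prime] (hr2 : r ≠ 2) (hr : r ∣ Nat.card G)
    (P : Sylow r G) : Nat.card (P : Subgroup G) = r := by
  have hr' : r.Prime := Fact.out
  obtain ⟨m, hm⟩ := hr
  refine (card_sylow_subgroup (k := 1) (m := m) (by rw [hm, pow_one]) ?_ P).trans (pow_one r)
  rintro ⟨t, rfl⟩
  have h2 : r * r ∣ 175560 := Dvd.dvd.trans ⟨t, by rw [hm, mul_assoc]⟩ hG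
  have hle : r * r ≤ 175560 := Nat.le_of_dvd (by norm_num) h2
  have hr19 : r ≤ 19 := by
    have : r ∣ 8 * (3 * (5 * (7 * (11 * 19)))) := (dvd_mul_right r r).trans h2
    rcases hr'.dvd_mul.1 this with h | h
    · have := Nat.le_of_dvd (by norm_num) h; omega
    rcases hr'.dvd_mul.1 h with h | h
    · have := Nat.le_of_dvd (by norm_num) h; omega
    rcases hr'.dvd_mul.1 h with h | h
    · have := Nat.le_of_dvd (by norm_num) h; omega
    rcases hr'.dvd_mul.1 h with h | h
    · have := Nat.le_of_dvd (by norm_num) h; omega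
    rcases hr'.dvd_mul.1 h with h | h <;> (have := Nat.le_of_dvd (by norm_num) h; omega)
  interval_cases r <;> revert h2 <;> first | decide | (exfalso; exact hr2 rfl) | (exfalso; revert hr'; decide)

theorem card_centralizer_eq {r : ℕ} [Fact r.Prime] (P Q : Sylow r G) :
    Nat.card (centralizer ((Q : Subgroup G) : Set G)) = Nat.card (centralizer ((P : Subgroup G) : Set G)) := by
  obtain ⟨g, rfl⟩ := MulAction.exists_smul_eq G P Q
  have e : centralizer (((g • P : Sylow r G) : Subgroup G) : Set G) =
      (centralizer ((P : Subgroup G) : Set G)).map (MulAut.conj g).toMonoidHom := by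
    ext z
    rw [Sylow.coe_subgroup_smul, Subgroup.mem_map, mem_centralizer_iff]
    constructor
    · intro h
      refine ⟨g⁻¹ * z * g, mem_centralizer_iff.2 fun y hy => ?_, by simp [mul_assoc]⟩
      have h1 := h (g * y * g⁻¹) ⟨y, hy, rfl⟩
      calc y * (g⁻¹ * z * g) = g⁻¹ * ((g * y * g⁻¹) * z) * g := by group
        _ = g⁻¹ * (z * (g * y * g⁻¹)) * g := by rw [h1]
        _ = g⁻¹ * z * g * y := by group
    · rintro ⟨w, hw, rfl⟩ y hy
      obtain ⟨u, hu, rfl⟩ := hy
      show (MulAut.conj g) u * (MulAut.conj g) w = (MulAut.conj g) w * (MulAut.conj g) u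
      rw [← map_mul, ← map_mul, mem_centralizer_iff.1 hw u hu]
  rw [e, Subgroup.card_map_of_injective (MulAut.conj g).injective]

variable (G) in
/-- Commuting elements of the two orders. -/
def Comm (r q : ℕ) : Prop := ∃ x y : G, orderOf x = r ∧ orderOf y = q ∧ Commute x y

variable (G) in
/-- A verified entry `(r, k, w)`. -/
def Valid (x : ℕ × ℕ × ℕ) : Prop :=
  x.1.Prime ∧ (∃ P : Sylow x.1 G, Nat.card (P : Subgroup G) = x.1 ∧
    Nat.card (centralizer ((P : Subgroup G) : Set G)) = x.1 * x.2.1) ∧
    ¬ x.1 ∣ x.2.1 ∧ x.2.2 ≤ Nat.card {g : G // x.1 ∣ orderOf g}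

theorem comm_iff {x : ℕ × ℕ × ℕ} (hx : Valid G x) {q : ℕ} (hq : q.Prime) (hne : q ≠ x.1) :
    Comm G x.1 q ↔ q ∣ x.2.1 := by
  obtain ⟨hr, ⟨P, hP, hC⟩, -, -⟩ := hx
  haveI := Fact.mk hr
  haveI := Fact.mk hq
  constructor
  · rintro ⟨a, b, ha, hb, hab⟩
    obtain ⟨Q, hQ⟩ := (IsPGroup.of_card (p := x.1) (G := zpowers a) (n := 1)
      (by rw [Nat.card_zpowers, ha, pow_one])).exists_le_sylow
    have hQc : Nat.card (Q : Subgroup G) = x.1 := by
      rw [Q.card_eq_multiplicity, ← P.card_eq_multiplicity, hP]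
    have heq : zpowers a = Q := eq_of_le_of_card_ge hQ (by rw [hQc, Nat.card_zpowers, ha])
    have hb' : b ∈ centralizer ((Q : Subgroup G) : Set G) := by
      rw [mem_centralizer_iff]
      intro y hy
      rw [← heq] at hy
      obtain ⟨i, rfl⟩ := hy
      exact (hab.zpow_left i).eq
    have hdiv := Subgroup.orderOf_dvd_natCard _ hb'
    rw [hb, card_centralizer_eq P Q, hC] at hdiv
    exact (hq.dvd_mul.1 hdiv).resolve_left fun h => hne ((Nat.prime_dvd_prime_iff_eq hq hr).1 h)
  · intro h
    obtain ⟨⟨b, hb⟩, hbo⟩ := exists_prime_orderOf_dvd_card' (G := centralizer ((P : Subgroup G) : Set G)) q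
      (hC ▸ dvd_mul_of_dvd_right h _)
    obtain ⟨⟨a, ha⟩, hao⟩ := exists_prime_orderOf_dvd_card' (G := (P : Subgroup G)) x.1 (dvd_of_eq hP.symm)
    rw [Subgroup.orderOf_mk] at hbo hao
    exact ⟨a, b, hao, hbo, mem_centralizer_iff.1 hb a ha⟩

theorem comm_symm {r q : ℕ} (h : Comm G r q) : Comm G q r := by
  obtain ⟨x, y, hx, hy, hxy⟩ := h
  exact ⟨y, x, hy, hx, hxy.symm⟩

theorem compat_of_valid {x : ℕ × ℕ × ℕ} (hx : Valid G x) {acc : List (ℕ × ℕ × ℕ)}
    (hacc : ∀ y ∈ acc, Valid G y) (hne : ∀ y ∈ acc, y.1 ≠ x.1) : compat x acc = true := by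
  rw [compat, List.all_eq_true]
  intro y hy
  have h : y.1 ∣ x.2.1 ↔ x.1 ∣ y.2.1 := by
    rw [← comm_iff hx (hacc y hy).1 (hne y hy), ← comm_iff (hacc y hy) hx.1 (hne y hy).symm]
    exact ⟨comm_symm, comm_symm⟩
  simp only [Nat.dvd_iff_mod_eq_zero] at h
  rw [beq_iff_eq, Bool.eq_iff_iff, beq_iff_eq, beq_iff_eq]
  exact h

theorem indep_disjoint : ∀ (S : List (ℕ × ℕ × ℕ)), indep S = true → (∀ x ∈ S, Valid G x) →
    (S.map Prod.fst).Nodup → ((S.map fun x => x.2.2).sum : ℕ) ≤ Nat.card {g : G // ∃ x ∈ S, x.1 ∣ orderOf g}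
  | [], _, _, _ => by simp
  | x :: l, hind, hval, hnd => by
    classical
    haveI := Fintype.ofFinite G
    simp only [indep, Bool.and_eq_true, List.all_eq_true, bne_iff_ne] at hind
    rw [List.map_cons, List.nodup_cons] at hnd
    have ih := indep_disjoint l hind.2 (fun y hy => hval y (List.mem_cons_of_mem x hy)) hnd.2
    have hx := (hval x (List.mem_cons_self ..))
    rw [List.map_cons, List.sum_cons]
    refine (add_le_add hx.2.2.2 ih).trans ?_
    rw [Nat.card_eq_fintype_card, Nat.card_eq_fintype_card, Nat.card_eq_fintype_card, Fintype.card_subtype,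
      Fintype.card_subtype, Fintype.card_subtype, ← Finset.card_union_of_disjoint]
    · refine Finset.card_le_card fun g hg => ?_
      simp only [Finset.mem_union, Finset.mem_filter, Finset.mem_univ, true_and] at hg ⊢
      rcases hg with h | ⟨y, hy, h⟩
      · exact ⟨x, List.mem_cons_self .., h⟩
      · exact ⟨y, List.mem_cons_of_mem x hy, h⟩
    · rw [Finset.disjoint_left]
      simp only [Finset.mem_filter, Finset.mem_univ, true_and, not_exists, not_and]
      intro g hg y hy hgy
      have hy1 := (hval y (List.mem_cons_of_mem x hy))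
      have hne : y.1 ≠ x.1 := fun e => hnd.1 (e ▸ List.mem_map_of_mem hy)
      refine hind.1 y hy (Nat.mod_eq_zero_of_dvd ((comm_iff hx hy1.1 hne).1 ?_))
      exact ⟨g ^ (orderOf g / x.1), g ^ (orderOf g / y.1), orderOf_pow_orderOf_div (orderOf_pos g).ne' hg,
        orderOf_pow_orderOf_div (orderOf_pos g).ne' hgy, Commute.pow_pow (Commute.refl g) _ _⟩

theorem le_card_singular {r : ℕ} [Fact r.Prime] (hsyl : ∀ P : Sylow r G, Nat.card (P : Subgroup G) = r) (k : ℕ)
    (hC : ∀ P : Sylow r G, Nat.card (centralizer ((P : Subgroup G) : Set G)) = r * k) (hk : ¬ r ∣ k) :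
    Nat.card (Sylow r G) * ((r - 1) * k) ≤ Nat.card {g : G // r ∣ orderOf g} := by
  classical
  haveI := Fintype.ofFinite G
  haveI := Fintype.ofFinite (Sylow r G)
  have hr : r.Prime := Fact.out
  let A : Sylow r G → Finset G := fun P =>
    Finset.univ.filter fun g => g ∈ centralizer ((P : Subgroup G) : Set G) ∧ r ∣ orderOf g
  have hdisj : ∀ P Q : Sylow r G, P ≠ Q → Disjoint (A P) (A Q) := by
    intro P Q hne
    rw [Finset.disjoint_left]
    intro g hg hg'
    simp only [A, Finset.mem_filter, Finset.mem_univ, true_and] at hg hg'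
    set z := g ^ (orderOf g / r)
    have hz : orderOf z = r := orderOf_pow_orderOf_div (orderOf_pos g).ne' hg.2
    -- the subgroup of order `r` of a centralizer is unique
    have key : ∀ R : Sylow r G, g ∈ centralizer ((R : Subgroup G) : Set G) → zpowers z = R := by
      intro R hR
      have hle : zpowers z ≤ normalizer ((R : Subgroup G) : Set G) :=
        zpowers_le.2 (centralizer_le_normalizer _ (pow_mem hR _))
      have hp : IsPGroup r (zpowers z) := IsPGroup.of_card (n := 1) (by rw [Nat.card_zpowers, hz, pow_one])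
      have h := R.is_maximal' (hp.to_sup_of_normal_right' R.isPGroup' hle) le_sup_right
      exact eq_of_le_of_card_ge (le_sup_left.trans h.le) (by rw [hsyl R, Nat.card_zpowers, hz])
    exact hne (Sylow.ext ((key P hg.1).symm.trans (key Q hg'.1)))
  have hA : ∀ P : Sylow r G, (r - 1) * k ≤ (A P).card := by
    intro P
    set C := centralizer ((P : Subgroup G) : Set G)
    haveI hcyc : IsCyclic ↥(P : Subgroup G) := isCyclic_of_prime_card (hsyl P)
    have hPC : (P : Subgroup G) ≤ C := fun a ha => mem_centralizer_iff.mpr fun b hb =>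
      congrArg Subtype.val (hcyc.isMulCommutative.is_comm.comm ⟨b, hb⟩ ⟨a, ha⟩)
    let B : Finset G := Finset.univ.filter fun g => g ∈ C ∧ ¬ r ∣ orderOf g
    have htot : (A P).card + B.card = r * k := by
      rw [← hC P, ← Finset.card_union_of_disjoint, Nat.card_eq_fintype_card, Fintype.card_subtype]
      · congr 1
        ext g
        simp only [A, B, Finset.mem_union, Finset.mem_filter, Finset.mem_univ, true_and]
        tauto
      · rw [Finset.disjoint_left]
        simp only [A, B, Finset.mem_filter, Finset.mem_univ, true_and]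
        tauto
    -- the `r'`-elements inject into `C / P`
    have hB : B.card ≤ k := by
      have hidx : ((P : Subgroup G).subgroupOf C).index = k := by
        have h := ((P : Subgroup G).subgroupOf C).index_mul_card
        rw [Nat.card_congr (subgroupOfEquivOfLe hPC).toEquiv, hsyl P, hC P, mul_comm] at h
        exact Nat.eq_of_mul_eq_mul_left hr.pos h
      rw [← hidx]
      haveI := Fintype.ofFinite (C ⧸ (P : Subgroup G).subgroupOf C)
      show B.card ≤ Nat.card (C ⧸ (P : Subgroup G).subgroupOf C)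
      rw [Nat.card_eq_fintype_card, ← Fintype.card_coe]
      refine Fintype.card_le_of_injective
        (fun g : B => QuotientGroup.mk (⟨g.1, ((Finset.mem_filter.1 g.2).2).1⟩ : C)) ?_
      intro a b hab
      obtain ⟨haC, har⟩ := (Finset.mem_filter.1 a.2).2
      obtain ⟨hbC, hbr⟩ := (Finset.mem_filter.1 b.2).2
      have hu : (a.1)⁻¹ * b.1 ∈ (P : Subgroup G) := by
        have h := QuotientGroup.eq.1 (show QuotientGroup.mk (⟨a.1, haC⟩ : C) = QuotientGroup.mk (⟨b.1, hbC⟩ : C) from hab)
        exact h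
      set u := (a.1)⁻¹ * b.1 with hu'
      have hcomm : Commute a.1 u := (mem_centralizer_iff.1 haC u hu).symm
      have hb' : b.1 = a.1 * u := by rw [hu', mul_inv_cancel_left]
      have h1 : u ^ (orderOf a.1 * orderOf b.1) = 1 := by
        have h2 : b.1 ^ (orderOf a.1 * orderOf b.1) = 1 := by rw [mul_comm, pow_mul, pow_orderOf_eq_one, one_pow]
        rwa [hb', hcomm.mul_pow, pow_mul a.1, pow_orderOf_eq_one, one_pow, one_mul, ← hb'] at h2
      have h3 : orderOf u ∣ r := by
        have := Subgroup.orderOf_dvd_natCard _ hu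
        rwa [hsyl P] at this
      rcases (Nat.dvd_prime hr).1 h3 with h | h
      · refine Subtype.ext ?_
        rw [orderOf_eq_one_iff] at h
        rw [hb', h, mul_one]
      · exfalso
        rcases hr.dvd_mul.1 (h ▸ orderOf_dvd_of_pow_eq_one h1) with h' | h'
        · exact har h'
        · exact hbr h'
    rw [Nat.sub_one_mul]
    omega
  rw [Nat.card_eq_fintype_card (α := Sylow r G), Nat.card_eq_fintype_card, Fintype.card_subtype]
  calc Fintype.card (Sylow r G) * ((r - 1) * k) ≤ ∑ P : Sylow r G, (A P).card := by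
        rw [← Finset.card_univ, ← smul_eq_mul, ← Finset.sum_const]
        exact Finset.sum_le_sum fun P _ => hA P
    _ = (Finset.univ.biUnion A).card := (Finset.card_biUnion fun P _ Q _ h => hdisj P Q h).symm
    _ ≤ _ := Finset.card_le_card fun g hg => by
        simp only [A, Finset.mem_biUnion, Finset.mem_filter, Finset.mem_univ, true_and] at hg ⊢
        obtain ⟨P, -, h⟩ := hg
        exact h

variable [IsSimpleGroup G]

/-- Every prime gives an entry from the list of options. -/
theorem exists_opt (hG : ¬ IsMulCommutative G) (hd : Nat.card G ∣ 175560) (h19 : 19 ∣ Nat.card G) {r : ℕ}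
    (hr' : r.Prime) (hr2 : r ≠ 2) (hr : r ∣ Nat.card G) :
    ∃ p ∈ opts (Nat.card G) r, Valid G (r, p) := by
  haveI := Fact.mk hr'
  obtain ⟨P⟩ : Nonempty (Sylow r G) := inferInstance
  have hP := sylow_card_of_dvd hd hr2 hr P
  obtain ⟨e, k, he1, hed, hN, hC⟩ := exists_e hG P hP
  set n := Nat.card (Sylow r G) with hn
  set o := Nat.card G with ho
  have hmul := card_normalizer_mul P
  rw [hN, ← hn, ← ho] at hmul
  have ho0 : 0 < o := Nat.card_pos
  have hn0 : 0 < n := Nat.pos_of_ne_zero fun h => by rw [h, zero_mul] at hmul; omega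
  have he0 : e ≠ 0 := fun h => by rw [h, zero_mul, mul_zero] at hmul; omega
  have hon : o / n = e * (r * k) := by rw [← hmul, Nat.mul_div_cancel_left _ hn0]
  have hk : o / n / (e * r) = k := by
    rw [hon, ← mul_assoc, Nat.mul_div_cancel_left _ (Nat.mul_pos (Nat.pos_of_ne_zero he0) hr'.pos)]
  have hkr : ¬ r ∣ k := by
    rintro ⟨t, rfl⟩
    have : r ^ 2 ∣ o := ⟨n * (e * t), by rw [← hmul]; ring⟩
    have h2 := (hr'.pow_dvd_iff_le_factorization ho0.ne').1 this
    have h1 := P.card_eq_multiplicity
    rw [hP] at h1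
    have := Nat.pow_le_pow_right hr'.pos h2
    rw [← ho] at h1
    rw [← h1] at this
    nlinarith [hr'.two_le]
  have hnr : n % r = 1 := by
    rw [hn, card_sylow_modEq_one r G, Nat.mod_eq_of_lt hr'.one_lt]
  have hn19 : 19 ≤ n := by
    have hne := normalizer_ne_top hG hr P
    have h := two_mul_card_dvd_factorial hG _ hne
    rw [show (normalizer ((P : Subgroup G) : Set G)).index = n from (P.card_eq_index_normalizer).symm.trans hn.symm] at h
    by_contra hlt
    have : 19 ∣ n.factorial := h19.trans ((dvd_mul_left _ 2).trans h)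
    rw [(by norm_num : Nat.Prime 19).dvd_factorial] at this
    omega
  have her : e < r := by
    have := Nat.le_of_dvd (by have := hr'.two_le; omega) hed
    omega
  refine ⟨(k, n * ((r - 1) * k)), ?_, hr', ⟨P, hP, hC⟩, hkr, ?_⟩
  · simp only [opts, List.mem_flatMap, List.mem_filterMap]
    refine ⟨n, mem_divs (Dvd.dvd.trans ⟨_, hmul.symm⟩ hd), e, List.mem_range.2 her, ?_⟩
    rw [if_pos, hk]
    have h1 : o % n = 0 := Nat.mod_eq_zero_of_dvd ⟨_, hmul.symm⟩
    have h2 : (r - 1) % e = 0 := Nat.mod_eq_zero_of_dvd hed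
    have h3 : o / n % (e * r) = 0 := Nat.mod_eq_zero_of_dvd ⟨k, by rw [hon]; ring⟩
    have h4 : n ≠ r + 1 ∨ r * (r - 1) % (2 * (o / n)) = 0 := by
      by_cases h : n = r + 1
      · refine Or.inr (Nat.mod_eq_zero_of_dvd ?_)
        rw [hon, ← hN]
        exact card_normalizer_of_succ hG hr2 P hP h
      · exact Or.inl h
    simp [h1, h2, h3, hnr, hn19, show 2 ≤ e by omega, h4]
  · refine le_card_singular (sylow_card_of_dvd hd hr2 hr) k (fun Q => ?_) hkr
    rw [card_centralizer_eq P Q, hC]

theorem involution_conj (hG : ¬ IsMulCommutative G) {T : Sylow 2 G} (hT : Nat.card (T : Subgroup G) = 4)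
    {s t : G} (hs : orderOf s = 2) (ht : orderOf t = 2) : IsConj s t := by
  have hno : ¬ ∃ M : Subgroup G, M.Normal ∧ M.index = 2 := by
    rintro ⟨M, hM, hi⟩
    rcases hM.eq_bot_or_eq_top with h | h
    · rw [h, index_bot] at hi
      haveI := isCyclic_of_prime_card hi
      exact hG IsCyclic.isMulCommutative
    · rw [h, index_top] at hi; omega
  have key : ∀ z : G, orderOf z = 2 → ∃ c ∈ (T : Subgroup G), orderOf c = 2 ∧ IsConj z c := by
    intro z hz
    obtain ⟨Q, hQ⟩ := (IsPGroup.of_card (p := 2) (G := zpowers z) (n := 1)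
      (by rw [Nat.card_zpowers, hz, pow_one])).exists_le_sylow
    obtain ⟨g, hg⟩ := MulAction.exists_smul_eq G Q T
    refine ⟨g * z * g⁻¹, ?_, by rw [← MulAut.conj_apply, MulEquiv.orderOf_eq, hz], isConj_iff.2 ⟨g, rfl⟩⟩
    rw [← hg, Sylow.coe_subgroup_smul]
    exact Subgroup.smul_mem_pointwise_smul z (MulAut.conj g) _ (hQ (mem_zpowers z))
  obtain ⟨a, haT, ha, hsa⟩ := key s hs
  obtain ⟨b, hbT, hb, htb⟩ := key t ht
  refine hsa.trans (?_ : IsConj a t)
  refine IsConj.trans ?_ htb.symm
  by_cases hab : a = b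
  · rw [hab]
  have hle : zpowers b ≤ (T : Subgroup G) := zpowers_le.2 hbT
  have hi : (zpowers b).relIndex (T : Subgroup G) = 2 := by
    have h := ((zpowers b).subgroupOf (T : Subgroup G)).index_mul_card
    rw [Nat.card_congr (subgroupOfEquivOfLe hle).toEquiv, Nat.card_zpowers, hb, hT] at h
    show ((zpowers b).subgroupOf (T : Subgroup G)).index = 2
    omega
  have hmem : ∀ c ∈ zpowers b, c = 1 ∨ c = b := by
    intro c hc
    obtain ⟨i, rfl⟩ := mem_zpowers_iff.1 hc
    rw [← zpow_mod_orderOf, hb]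
    rcases Int.emod_two_eq_zero_or_one i with h | h <;> simp [h]
  have hab' : a ∉ zpowers b := fun h => by
    rcases hmem a h with h' | h'
    · rw [h', orderOf_one] at ha; omega
    · exact hab h'
  rcases CfsgLib.Fusion.ThompsonTransfer.thompson_transfer T (zpowers b) hle hi a
    (by rw [← ha, pow_orderOf_eq_one]) haT hab' with ⟨M, hM, hi, -⟩ | ⟨g, hg⟩
  · exact absurd ⟨M, hM, hi⟩ hno
  · rcases hmem _ hg with h | h
    · rw [conj_eq_one_iff] at h
      rw [h, orderOf_one] at ha; omega
    · exact isConj_iff.2 ⟨g, h⟩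

theorem special_false (hG : ¬ IsMulCommutative G)
    (hsub : ∀ H : Subgroup G, H ≠ ⊤ → 19 ∣ Nat.card H → ∀ P : Sylow 19 H, (P : Subgroup H).Normal) {acc : List (ℕ × ℕ × ℕ)}
    (hacc : ∀ y ∈ acc, Valid G y) (h : special (Nat.card G) acc = true) : False := by
  haveI : Fact (Nat.Prime 19) := ⟨by norm_num⟩
  haveI : Fact (Nat.Prime 11) := ⟨by norm_num⟩
  simp only [special, Bool.or_eq_true, Bool.and_eq_true, beq_iff_eq, List.any_eq_true, bne_iff_ne] at h
  rcases h with ⟨ho, x, hx, hx1, hx2⟩ | ⟨⟨ho, x, hx, ⟨hx1, hx2⟩, hx3⟩, y, hy, hy1, hy2⟩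
  · obtain ⟨r, k, w⟩ := x
    simp only at hx1 hx2
    subst hx1 hx2
    obtain ⟨-, ⟨P, hP, hC⟩, -, -⟩ := hacc _ hx
    simp only at hP hC
    set C := centralizer ((P : Subgroup G) : Set G)
    set N := normalizer ((P : Subgroup G) : Set G)
    -- the involution of `C` is central in `N`
    obtain ⟨⟨s, hsC⟩, hs⟩ := exists_prime_orderOf_dvd_card' (G := C) 2 (by rw [hC]; norm_num)
    rw [Subgroup.orderOf_mk] at hs
    have hPC : (P : Subgroup G) ≤ C := by
      haveI hcyc : IsCyclic ↥(P : Subgroup G) := isCyclic_of_prime_card hP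
      exact fun a ha => mem_centralizer_iff.mpr fun b hb =>
        congrArg Subtype.val (hcyc.isMulCommutative.is_comm.comm ⟨b, hb⟩ ⟨a, ha⟩)
    obtain ⟨e, k, -, he, hN, hCk⟩ := exists_e hG P hP
    have hk : k = 2 := Nat.eq_of_mul_eq_mul_left (by norm_num : 0 < 19) (hCk.symm.trans hC)
    subst hk
    haveI : Fact (Nat.Prime 2) := ⟨Nat.prime_two⟩
    obtain ⟨K, hKC, hK, hKN⟩ := exists_complement (q := 2) (j := 1) P hP (by norm_num) (by rw [hC, pow_one])
    -- `C` has a single involution
    have hsK : s ∈ K := by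
      by_contra hsK
      have hle : zpowers s ≤ normalizer (K : Set G) := zpowers_le.2 (hKN (centralizer_le_normalizer _ hsC))
      have hp := (IsPGroup.of_card (p := 2) (G := zpowers s) (n := 1)
        (by rw [Nat.card_zpowers, hs, pow_one])).to_sup_of_normal_right'
        (IsPGroup.of_card (p := 2) (n := 1) hK) hle
      obtain ⟨j, hj⟩ := hp.exists_card_eq
      have hdvd : Nat.card ↥(zpowers s ⊔ K) ∣ 19 * 2 :=
        hC ▸ Subgroup.card_dvd_of_le (sup_le (zpowers_le.2 hsC) hKC)
      rw [hj] at hdvd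
      have hj1 : 2 ^ j ∣ 2 ^ 1 := (Nat.Coprime.dvd_of_dvd_mul_left
        ((show Nat.Coprime 2 19 by norm_num).pow_left j) hdvd)
      have heq := eq_of_le_of_card_ge (le_sup_right : K ≤ zpowers s ⊔ K)
        (by rw [hj, hK]; exact Nat.le_of_dvd (by norm_num) hj1)
      exact hsK (heq ▸ (le_sup_left : zpowers s ≤ _) (mem_zpowers s))
    have hKs : K = zpowers s :=
      (eq_of_le_of_card_ge (zpowers_le.2 hsK) (by rw [hK, Nat.card_zpowers, hs, pow_one])).symm
    have hNs : N ≤ centralizer ({s} : Set G) := by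
      intro g hg
      rw [mem_centralizer_singleton_iff]
      have h1 := (mem_normalizer_iff.1 (hKN hg) s).1 hsK
      rw [hKs] at h1
      obtain ⟨i, hi⟩ := mem_zpowers_iff.1 h1
      rw [← zpow_mod_orderOf, hs] at hi
      rcases Int.emod_two_eq_zero_or_one i with h | h <;> simp only [Nat.cast_ofNat, h] at hi
      · rw [zpow_zero, eq_comm, conj_eq_one_iff] at hi
        rw [hi, orderOf_one] at hs; omega
      · rw [zpow_one, eq_mul_inv_iff_mul_eq] at hi
        exact hi.symm
    set H := centralizer ({s} : Set G)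
    have hPH : (P : Subgroup G) ≤ H := le_normalizer.trans hNs
    have hH : H ≠ ⊤ := fun h => by
      have : s ∈ center G := by
        rw [mem_center_iff]
        intro g
        exact (mem_centralizer_singleton_iff.1 (h ▸ mem_top g : g ∈ H))
      rw [center_eq_bot hG, mem_bot] at this
      rw [this, orderOf_one] at hs; omega
    have hn := hsub H hH (hP ▸ Subgroup.card_dvd_of_le hPH) (P.subtype hPH)
    rw [show ((P.subtype hPH : Sylow 19 H) : Subgroup H) = (P : Subgroup G).subgroupOf H from rfl] at hn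
    have hHN : H = N := le_antisymm ((normal_subgroupOf_iff_le_normalizer hPH).1 hn) hNs
    -- the 2-part of `|H|` is four, so `s` is in no centre of a Sylow subgroup
    have h8 : ¬ 8 ∣ Nat.card H := by
      intro h
      rw [hHN, hN] at h
      have h' := h.trans (Nat.mul_dvd_mul_right he (19 * 2))
      norm_num at h'
    obtain ⟨T0, hT0⟩ := (IsPGroup.of_card (p := 2) (G := zpowers s) (n := 1)
      (by rw [Nat.card_zpowers, hs, pow_one])).exists_le_sylow
    have hTc : Nat.card (T0 : Subgroup G) = 2 ^ 3 :=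
      card_sylow_subgroup (m := 1995) (by rw [ho]; norm_num) (by norm_num) T0
    have hnab : ∀ T : Sylow 2 G, s ∈ T → ¬ ((T : Subgroup G) ≤ centralizer ({s} : Set G)) := by
      intro T _ hle
      have := Subgroup.card_dvd_of_le hle
      rw [card_sylow_subgroup (m := 1995) (k := 3) (by rw [ho]; norm_num) (by norm_num) T] at this
      exact h8 this
    have hsT : s ∈ T0 := hT0 (mem_zpowers s)
    -- an element of order four
    obtain ⟨x, hxT, hx4⟩ : ∃ x ∈ (T0 : Subgroup G), x * x ≠ 1 := by
      by_contra hno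
      push Not at hno
      refine hnab T0 hsT fun z hz => mem_centralizer_singleton_iff.2 ?_
      have h1 := hno _ (mul_mem hz hsT)
      calc z * s = z * ((z * s) * (z * s)) * s := by rw [h1, mul_one]
        _ = (z * z) * (s * z) * (s * s) := by group
        _ = s * z := by rw [hno z hz, hno s hsT, one_mul, mul_one]
    have hxo : orderOf x = 4 := by
      have h : orderOf x ∣ 2 ^ 3 := hTc ▸ Subgroup.orderOf_dvd_natCard _ hxT
      obtain ⟨j, hj, hxj⟩ := (Nat.dvd_prime_pow Nat.prime_two).1 h
      interval_cases j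
      · exact absurd (by rw [orderOf_eq_one_iff.1 (hxj.trans (pow_zero 2)), mul_one]) hx4
      · rw [pow_one] at hxj
        exact absurd (by rw [← sq, ← hxj, pow_orderOf_eq_one]) hx4
      · simpa using hxj
      · exfalso
        refine hnab T0 hsT fun z hz => mem_centralizer_singleton_iff.2 ?_
        have hgen : zpowers x = (T0 : Subgroup G) :=
          eq_of_le_of_card_ge (zpowers_le.2 hxT) (by rw [Nat.card_zpowers, hxj, hTc])
        rw [← hgen] at hz
        obtain ⟨a, rfl⟩ := mem_zpowers_iff.1 hz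
        obtain ⟨b, hb⟩ := mem_zpowers_iff.1 (show s ∈ zpowers x by rw [hgen]; exact hsT)
        rw [← hb, ← zpow_add, ← zpow_add, add_comm]
    have hle : zpowers x ≤ (T0 : Subgroup G) := zpowers_le.2 hxT
    have hi : (zpowers x).relIndex (T0 : Subgroup G) = 2 := by
      have h := ((zpowers x).subgroupOf (T0 : Subgroup G)).index_mul_card
      rw [Nat.card_congr (subgroupOfEquivOfLe hle).toEquiv, Nat.card_zpowers, hxo, hTc] at h
      show ((zpowers x).subgroupOf (T0 : Subgroup G)).index = 2
      omega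
    -- the involution of `zpowers x` is central in `T0`
    have hinv : ∀ z ∈ zpowers x, orderOf z = 2 → z = x ^ 2 := by
      intro z hz hz2
      obtain ⟨i, rfl⟩ := mem_zpowers_iff.1 hz
      rw [← zpow_mod_orderOf, hxo] at hz2 ⊢
      have h1 := Int.emod_nonneg i (by norm_num : (4 : ℤ) ≠ 0)
      have h2 := Int.emod_lt_of_pos i (by norm_num : (0 : ℤ) < 4)
      push_cast at hz2 ⊢
      interval_cases (i % 4)
      · simp at hz2
      · rw [zpow_one, hxo] at hz2; omega
      · exact zpow_natCast x 2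
      · exfalso
        rw [show (3 : ℤ) = 4 - 1 from rfl, _root_.zpow_sub, zpow_one, show x ^ (4 : ℤ) = 1 by
          rw [show (4 : ℤ) = ((4 : ℕ) : ℤ) from rfl, zpow_natCast, ← hxo, pow_orderOf_eq_one], one_mul,
          orderOf_inv, hxo] at hz2
        omega
    have hx2 : orderOf (x ^ 2) = 2 := by
      rw [orderOf_pow_of_dvd (by norm_num) (by rw [hxo]; norm_num), hxo]
    have hcen : (T0 : Subgroup G) ≤ centralizer ({x ^ 2} : Set G) := by
      haveI : ((zpowers x).subgroupOf (T0 : Subgroup G)).Normal := normal_of_index_eq_two hi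
      have hn := (normal_subgroupOf_iff_le_normalizer hle).1 inferInstance
      intro z hz
      rw [mem_centralizer_singleton_iff]
      have h1 := hinv _ ((mem_normalizer_iff.1 (hn hz) (x ^ 2)).1 (pow_mem (mem_zpowers x) 2))
        (by rw [← MulAut.conj_apply, MulEquiv.orderOf_eq, hx2])
      exact mul_inv_eq_iff_eq_mul.1 h1
    have hno : ¬ ∃ M : Subgroup G, M.Normal ∧ M.index = 2 := by
      rintro ⟨M, hM, hi⟩
      rcases hM.eq_bot_or_eq_top with h | h
      · rw [h, index_bot, ho] at hi; omega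
      · rw [h, index_top] at hi; omega
    have hsx : s ∉ zpowers x := fun h => hnab T0 hsT (hinv s h hs ▸ hcen)
    rcases CfsgLib.Fusion.ThompsonTransfer.thompson_transfer T0 (zpowers x) hle hi s
      (by rw [← hs, pow_orderOf_eq_one]) hsT hsx with ⟨M, hM, hi, -⟩ | ⟨g, hg⟩
    · exact hno ⟨M, hM, hi⟩
    · have hgs := hinv _ hg (by rw [← MulAut.conj_apply, MulEquiv.orderOf_eq, hs])
      have hsT' : s ∈ (g⁻¹ • T0 : Sylow 2 G) := by
        show s ∈ ((g⁻¹ • T0 : Sylow 2 G) : Subgroup G)
        rw [Sylow.coe_subgroup_smul]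
        refine ⟨g * s * g⁻¹, hgs ▸ pow_mem hxT 2, ?_⟩
        simp [MulDistribMulAction.toMonoidEnd_apply, mul_assoc]
      refine hnab (g⁻¹ • T0) hsT' ?_
      rw [Sylow.coe_subgroup_smul]
      rintro _ ⟨z, hz, rfl⟩
      rw [mem_centralizer_singleton_iff]
      have h1 := mem_centralizer_singleton_iff.1 (hcen hz)
      rw [← hgs] at h1
      show g⁻¹ * z * g⁻¹⁻¹ * s = s * (g⁻¹ * z * g⁻¹⁻¹)
      calc g⁻¹ * z * g⁻¹⁻¹ * s = g⁻¹ * (z * (g * s * g⁻¹)) * g := by group
        _ = g⁻¹ * ((g * s * g⁻¹) * z) * g := by rw [h1]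
        _ = s * (g⁻¹ * z * g⁻¹⁻¹) := by group
  · obtain ⟨r, k, w⟩ := x
    obtain ⟨r', k', w'⟩ := y
    simp only at hx1 hx2 hx3 hy1 hy2
    subst hx1 hy1
    have h219 := (comm_iff (hacc _ hx) Nat.prime_two (by norm_num)).2 (Nat.dvd_of_mod_eq_zero hx2)
    have h211 := (comm_iff (hacc _ hy) Nat.prime_two (by norm_num)).2 (Nat.dvd_of_mod_eq_zero hy2)
    obtain ⟨a, s, ha, hs, has⟩ := h219
    obtain ⟨b, t, hb, ht, hbt⟩ := h211
    haveI : Fact (Nat.Prime 2) := ⟨Nat.prime_two⟩
    obtain ⟨T⟩ : Nonempty (Sylow 2 G) := inferInstance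
    have hT : Nat.card (T : Subgroup G) = 2 ^ 2 :=
      card_sylow_subgroup (m := 21945) (by rw [ho]; norm_num) (by norm_num) T
    obtain ⟨g, hg⟩ := isConj_iff.1 (involution_conj hG (T := T) (by rw [hT]; norm_num) ht hs)
    set b' := g * b * g⁻¹
    have hb' : orderOf b' = 11 := by
      show orderOf (MulAut.conj g b) = 11
      rw [MulEquiv.orderOf_eq, hb]
    set H := centralizer ({s} : Set G) with hH
    have haH : a ∈ H := mem_centralizer_singleton_iff.2 has.eq
    have hbH : b' ∈ H := mem_centralizer_singleton_iff.2 (by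
      rw [← hg]
      calc g * b * g⁻¹ * (g * t * g⁻¹) = g * (b * t) * g⁻¹ := by group
        _ = g * (t * b) * g⁻¹ := by rw [hbt.eq]
        _ = g * t * g⁻¹ * (g * b * g⁻¹) := by group)
    have hH' : H ≠ ⊤ := fun h => by
      have : s ∈ center G := by
        rw [mem_center_iff]
        intro g
        exact (mem_centralizer_singleton_iff.1 (h ▸ mem_top g : g ∈ H))
      rw [center_eq_bot hG, mem_bot] at this
      rw [this, orderOf_one] at hs; omega
    have haU : orderOf (⟨a, haH⟩ : H) = 19 := by rw [Subgroup.orderOf_mk, ha]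
    have hbU : orderOf (⟨b', hbH⟩ : H) = 11 := by rw [Subgroup.orderOf_mk, hb']
    have h19H : 19 ∣ Nat.card H := haU ▸ _root_.orderOf_dvd_natCard _
    have hd : Nat.card H ∣ 175560 := H.card_subgroup_dvd_card.trans (by rw [ho]; norm_num)
    obtain ⟨PU, hPU⟩ := (IsPGroup.of_card (p := 19) (G := zpowers (⟨a, haH⟩ : H)) (n := 1)
      (by rw [Nat.card_zpowers, haU, pow_one])).exists_le_sylow
    have hPn := hsub H hH' h19H PU
    have hPUc : Nat.card (PU : Subgroup H) = 19 := sylow_card_of_dvd hd (by norm_num) h19H PU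
    -- the element of order `11` centralizes the subgroup of order `19`
    haveI : IsCyclic (PU : Subgroup H) := isCyclic_of_prime_card hPUc
    have hφ : orderOf (MulAut.conjNormal (H := (PU : Subgroup H)) ⟨b', hbH⟩) = 1 := by
      refine Nat.eq_one_of_dvd_coprimes (show Nat.Coprime 18 11 by norm_num)
        ((_root_.orderOf_dvd_natCard _).trans ?_) (hbU ▸ orderOf_map_dvd _ (⟨b', hbH⟩ : H))
      rw [IsCyclic.card_mulAut, hPUc, Nat.totient_prime (by norm_num)]
    rw [orderOf_eq_one_iff] at hφ
    have hab : b' * a * b'⁻¹ = a := by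
      have h := congrArg Subtype.val (DFunLike.congr_fun hφ ⟨⟨a, haH⟩, hPU (mem_zpowers _)⟩)
      rw [MulAut.conjNormal_apply] at h
      exact congrArg Subtype.val h
    refine hx3 (Nat.mod_eq_zero_of_dvd ((comm_iff (hacc _ hx) (by norm_num : Nat.Prime 11) (by norm_num)).1 ?_))
    exact ⟨a, b', ha, hb', (mul_inv_eq_iff_eq_mul.1 hab).symm⟩

theorem go_false (hG : ¬ IsMulCommutative G)
    (hsub : ∀ H : Subgroup G, H ≠ ⊤ → 19 ∣ Nat.card H → ∀ P : Sylow 19 H, (P : Subgroup H).Normal) (hd : Nat.card G ∣ 175560) (h19 : 19 ∣ Nat.card G) :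
    ∀ (rs : List ℕ) (acc : List (ℕ × ℕ × ℕ)), (∀ r ∈ rs, r.Prime ∧ r ≠ 2 ∧ r ∣ Nat.card G) →
      (∀ y ∈ acc, Valid G y) → (rs ++ acc.map Prod.fst).Nodup → go (Nat.card G) rs acc = true → False
  | [], acc, _, hacc, hnd, h => by
    simp only [go, kill, Bool.or_eq_true, List.any_eq_true, Bool.and_eq_true, decide_eq_true_eq] at h
    rcases h with h | ⟨S, hS, hind, hle⟩
    · exact special_false hG hsub hacc h
    · rw [List.mem_sublists] at hS
      have hnd' : (S.map Prod.fst).Nodup := (hS.map Prod.fst).nodup (by simpa using hnd)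
      have h1 := indep_disjoint S hind (fun x hx => hacc x (hS.subset hx)) hnd'
      have h2 : Nat.card {g : G // ∃ x ∈ S, x.1 ∣ orderOf g} < Nat.card G := by
        refine Finite.card_subtype_lt (x := (1 : G)) ?_
        rintro ⟨x, hx, hdvd⟩
        rw [orderOf_one, Nat.dvd_one] at hdvd
        exact (hacc x (hS.subset hx)).1.one_lt.ne' hdvd
      omega
  | r :: rs, acc, hrs, hacc, hnd, h => by
    simp only [go, List.all_eq_true, Bool.or_eq_true, Bool.not_eq_true'] at h
    obtain ⟨hr, hr2, hrd⟩ := hrs r (List.mem_cons_self ..)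
    obtain ⟨p, hp, hv⟩ := exists_opt hG hd h19 hr hr2 hrd
    rw [List.cons_append, List.nodup_cons] at hnd
    have hne : ∀ y ∈ acc, y.1 ≠ (r, p).1 := fun y hy e =>
      hnd.1 (List.mem_append_right rs (List.mem_map.2 ⟨y, hy, e⟩))
    rcases h p hp with h' | h'
    · rw [compat_of_valid hv hacc hne] at h'
      exact Bool.noConfusion h'
    · refine go_false hG hsub hd h19 rs ((r, p) :: acc) (fun x hx => hrs x (List.mem_cons_of_mem r hx)) ?_ ?_ h'
      · intro y hy
        rcases List.mem_cons.1 hy with rfl | hy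
        · exact hv
        · exact hacc y hy
      · rw [List.map_cons]
        exact List.nodup_middle.2 (List.nodup_cons.2 hnd)

theorem false_of_simple (hd : Nat.card G ∣ 175560) (hne : Nat.card G ≠ 175560) (h19 : 19 ∣ Nat.card G)
    (hG : ¬ IsMulCommutative G)
    (hsub : ∀ H : Subgroup G, H ≠ ⊤ → 19 ∣ Nat.card H → ∀ P : Sylow 19 H, (P : Subgroup H).Normal) : False := by
  haveI : Fact (Nat.Prime 2) := ⟨Nat.prime_two⟩
  obtain ⟨T⟩ : Nonempty (Sylow 2 G) := inferInstance
  -- the Sylow subgroups at the smallest prime are not cyclic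
  have h2 : 2 ∣ Nat.card G := by
    by_contra h2
    set q := (Nat.card G).minFac
    have hne1 : Nat.card G ≠ 1 := fun h => by rw [h] at h19; norm_num at h19
    haveI : Fact q.Prime := ⟨Nat.minFac_prime hne1⟩
    have hqd : q ∣ Nat.card G := Nat.minFac_dvd _
    obtain ⟨Q⟩ : Nonempty (Sylow q G) := inferInstance
    have hq2 : q ≠ 2 := fun h => h2 (h ▸ hqd)
    exact CfsgLib.SmallGroups.SimpleOrders.not_isCyclic_of_minFac hG rfl hqd Q
      (isCyclic_of_prime_card (sylow_card_of_dvd hd hq2 hqd Q))
  obtain ⟨j, hj⟩ := T.isPGroup'.exists_card_eq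
  have hmin : (Nat.card G).minFac = 2 := (Nat.minFac_eq_two_iff _).mpr h2
  have hnc := CfsgLib.SmallGroups.SimpleOrders.not_isCyclic_of_minFac hG hmin h2 T
  have hj2 : 2 ≤ j := by
    by_contra h
    interval_cases j
    · rw [pow_zero] at hj
      haveI := (Nat.card_eq_one_iff_unique.mp hj).1
      exact hnc isCyclic_of_subsingleton
    · exact hnc (isCyclic_of_prime_card (by simpa using hj))
  have h4 : 4 ∣ Nat.card G := (pow_dvd_pow 2 hj2).trans (hj ▸ (T : Subgroup G).card_subgroup_dvd_card)
  have h83 : 8 ∣ Nat.card G ∨ 3 ∣ Nat.card G := by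
    by_cases h8 : 8 ∣ Nat.card G
    · exact Or.inl h8
    · right
      have h3 := (Cfsg.Agent.S0992.result hG (even_iff_two_dvd.2 h2) h8 T).2
      rw [← h3]
      exact (Subgroup.index_dvd_card _).trans (Subgroup.card_subgroup_dvd_card _)
  obtain ⟨rs, hrs⟩ := exists_case hd hne h19 h4 h83
  have hgo := List.all_eq_true.1 cases_true _ hrs
  have hpr := List.all_eq_true.1 case_primes _ hrs
  simp only [List.all_eq_true, Bool.and_eq_true, decide_eq_true_eq] at hpr
  refine go_false hG hsub hd h19 rs [] (fun r hr => ?_) (by simp) ?_ hgo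
  · obtain ⟨⟨hm, hdr⟩, -⟩ := hpr r hr
    simp only [List.mem_cons, List.not_mem_nil, or_false] at hm
    rcases hm with rfl | rfl | rfl | rfl | rfl <;> exact ⟨by norm_num, by norm_num, hdr⟩
  · rw [List.map_nil, List.append_nil]
    cases rs with
    | nil => exact List.nodup_nil
    | cons r l => exact (hpr r (List.mem_cons_self ..)).2

end group

section induction

/-- One reduction step. -/
theorem normal_of_normal {G : Type*} [Group G] [Finite G] (hd : Nat.card G ∣ 175560) (N : Subgroup G) [N.Normal]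
    (h1 : N ≠ ⊥) (hN : N ≠ ⊤)
    (ihq : 19 ∣ Nat.card (G ⧸ N) → ∀ P : Sylow 19 (G ⧸ N), (P : Subgroup (G ⧸ N)).Normal)
    (ihs : ∀ H : Subgroup G, H ≠ ⊤ → 19 ∣ Nat.card H → ∀ P : Sylow 19 H, (P : Subgroup H).Normal)
    (h19 : 19 ∣ Nat.card G) (P : Sylow 19 G) : (P : Subgroup G).Normal := by
  haveI : Fact (Nat.Prime 19) := ⟨by norm_num⟩
  have hP : Nat.card (P : Subgroup G) = 19 := by
    obtain ⟨m, hm⟩ := h19
    refine (card_sylow_subgroup (k := 1) (m := m) (by rw [hm, pow_one]) ?_ P).trans (pow_one 19)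
    rintro ⟨t, rfl⟩
    exact absurd (Dvd.dvd.trans ⟨t, by rw [hm, mul_assoc]⟩ hd : 19 * 19 ∣ 175560) (by norm_num)
  -- a proper normal subgroup containing `P` suffices
  have key : ∀ M : Subgroup G, M.Normal → M ≠ ⊤ → (P : Subgroup G) ≤ M → (P : Subgroup G).Normal := by
    intro M hMn hM hPM
    haveI := hMn
    have hn := ihs M hM (hP ▸ Subgroup.card_dvd_of_le hPM) (P.subtype hPM)
    haveI := Sylow.characteristic_of_normal (P.subtype hPM) hn
    have := ConjAct.normal_of_characteristic_of_normal (H := M) (K := ((P.subtype hPM : Sylow 19 M) : Subgroup M))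
    rwa [show ((P.subtype hPM : Sylow 19 M) : Subgroup M) = (P : Subgroup G).subgroupOf M from rfl,
      Subgroup.map_subgroupOf_eq_of_le hPM] at this
  by_cases hN19 : 19 ∣ Nat.card N
  · refine key N inferInstance hN ?_
    obtain ⟨⟨x, hxN⟩, hx⟩ := exists_prime_orderOf_dvd_card' (G := N) 19 hN19
    rw [Subgroup.orderOf_mk] at hx
    obtain ⟨Q, hQ⟩ := (IsPGroup.of_card (p := 19) (G := zpowers x) (n := 1)
      (by rw [Nat.card_zpowers, hx, pow_one])).exists_le_sylow
    have hQN : (Q : Subgroup G) ≤ N := by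
      rw [← eq_of_le_of_card_ge hQ (by rw [Q.card_eq_multiplicity, ← P.card_eq_multiplicity, hP, Nat.card_zpowers, hx])]
      exact zpowers_le.2 hxN
    obtain ⟨g, rfl⟩ := MulAction.exists_smul_eq G Q P
    rw [Sylow.coe_subgroup_smul]
    intro z hz
    obtain ⟨y, hy, rfl⟩ := hz
    exact (inferInstance : N.Normal).conj_mem y (hQN hy) g
  · have hq19' : 19 ∣ Nat.card (G ⧸ N) := by
      rw [Subgroup.card_eq_card_quotient_mul_card_subgroup N] at h19
      exact ((by norm_num : Nat.Prime 19).dvd_mul.1 h19).resolve_right hN19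
    have hfs : Function.Surjective (QuotientGroup.mk' N) := QuotientGroup.mk'_surjective N
    have hbar := ihq hq19' (P.mapSurjective hfs)
    set M := ((P : Subgroup G).map (QuotientGroup.mk' N)).comap (QuotientGroup.mk' N)
    by_cases hM : M = ⊤
    · -- `G = N P`, and `P` centralizes a Sylow subgroup of `N` for every prime
      have hsup : (P : Subgroup G) ⊔ N = ⊤ := by
        rw [← hM]; simp only [M]; rw [Subgroup.comap_map_eq, QuotientGroup.ker_mk']
      have hcent : ∀ q : ℕ, q.Prime → q ≠ 19 →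
          q ^ (Nat.card G).factorization q ∣ Nat.card (centralizer ((P : Subgroup G) : Set G)) := by
        intro q hq hq19
        haveI := Fact.mk hq
        have hidx : Nat.card G = Nat.card N * N.index := (N.card_mul_index).symm
        have hNi : N.index ∣ 19 := by
          rw [← hP, ← N.relIndex_top_right, ← hsup, Subgroup.relIndex_sup_right]
          exact Subgroup.relIndex_dvd_card _ _
        obtain ⟨Q⟩ : Nonempty (Sylow q N) := inferInstance
        set Q' := (Q : Subgroup N).map N.subtype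
        have hQc : Nat.card Q' = q ^ (Nat.card G).factorization q := by
          rw [Subgroup.card_map_of_injective N.subtype_injective, Q.card_eq_multiplicity, hidx,
            Nat.factorization_mul Nat.card_pos.ne' (Nat.pos_iff_ne_zero.1 (Nat.pos_of_dvd_of_pos hNi (by norm_num))),
            Finsupp.add_apply, Nat.factorization_eq_zero_of_not_dvd (n := N.index) (fun h => hq19
              ((Nat.prime_dvd_prime_iff_eq hq (by norm_num)).1 (h.trans hNi))), add_zero]
        have hFr : normalizer (Q' : Set G) ⊔ N = ⊤ := Q.normalizer_sup_eq_top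
        have h19N : 19 ∣ Nat.card (normalizer (Q' : Set G)) := by
          have h1 : 19 ∣ N.index := by
            rw [index_eq_card]; exact hq19'
          refine h1.trans ?_
          rw [← N.relIndex_top_right, ← hFr, Subgroup.relIndex_sup_right]
          exact Subgroup.relIndex_dvd_card _ _
        obtain ⟨⟨x, hxN⟩, hx⟩ := exists_prime_orderOf_dvd_card' (G := normalizer (Q' : Set G)) 19 h19N
        rw [Subgroup.orderOf_mk] at hx
        have hsmall : Nat.card Q' ≤ 11 := by
          have h1 : q ^ (Nat.card G).factorization q ∣ 175560 := (Nat.ordProj_dvd _ q).trans hd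
          rw [hQc]
          generalize (Nat.card G).factorization q = i at h1
          have key : ∀ n ∈ divs, 11 < n → n.minFac ^ (n.factorization n.minFac) ≠ n ∨ n = 19 := by decide +kernel
          by_contra hlt
          have hi : i ≠ 0 := fun h => hlt (by rw [h, pow_zero]; norm_num)
          rcases key _ (mem_divs h1) (Nat.not_le.1 hlt) with h | h
          · rw [Nat.Prime.pow_minFac hq hi, hq.factorization_pow, Finsupp.single_eq_same] at h
            exact h rfl
          · exact hq19 ((Nat.prime_dvd_prime_iff_eq hq (by norm_num)).1 (h ▸ dvd_pow_self q hi))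
        -- the element of order `19` centralizes `Q'`
        let φ := (MulAut.toPerm Q').comp (normalizerMonoidHom Q')
        have hφ : φ ⟨x, hxN⟩ = 1 := by
          rw [← orderOf_eq_one_iff]
          have h1 : orderOf (φ ⟨x, hxN⟩) ∣ 19 := by
            have := orderOf_map_dvd φ ⟨x, hxN⟩
            rwa [Subgroup.orderOf_mk, hx] at this
          refine Nat.eq_one_of_dvd_coprimes ?_ h1 ((_root_.orderOf_dvd_natCard _).trans (dvd_of_eq Nat.card_perm))
          rw [(by norm_num : Nat.Prime 19).coprime_iff_not_dvd, (by norm_num : Nat.Prime 19).dvd_factorial]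
          omega
        have hxQ : Q' ≤ centralizer ((zpowers x : Subgroup G) : Set G) := by
          intro y hy
          rw [mem_centralizer_iff]
          rintro z ⟨i, rfl⟩
          have : x * y * x⁻¹ = y := congrArg Subtype.val (Equiv.ext_iff.1 hφ ⟨y, hy⟩)
          exact ((show Commute x y from mul_inv_eq_iff_eq_mul.1 this).zpow_left i).eq
        obtain ⟨R, hR⟩ := (IsPGroup.of_card (p := 19) (G := zpowers x) (n := 1)
          (by rw [Nat.card_zpowers, hx, pow_one])).exists_le_sylow
        have hRx : zpowers x = R := eq_of_le_of_card_ge hR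
          (by rw [R.card_eq_multiplicity, ← P.card_eq_multiplicity, hP, Nat.card_zpowers, hx])
        rw [← card_centralizer_eq P R, ← hQc, ← hRx]
        exact Subgroup.card_dvd_of_le hxQ
      have hall : centralizer ((P : Subgroup G) : Set G) = ⊤ := by
        refine eq_top_of_card_eq _ (Nat.dvd_antisymm (Subgroup.card_subgroup_dvd_card _) ?_)
        rw [← Nat.factorization_prime_le_iff_dvd Nat.card_pos.ne' Nat.card_pos.ne']
        intro q hq
        rw [← hq.pow_dvd_iff_le_factorization Nat.card_pos.ne']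
        by_cases hq19 : q = 19
        · subst hq19
          haveI hcyc : IsCyclic ↥(P : Subgroup G) := isCyclic_of_prime_card hP
          rw [← P.card_eq_multiplicity]
          exact Subgroup.card_dvd_of_le fun a ha => mem_centralizer_iff.mpr fun b hb =>
            congrArg Subtype.val (hcyc.isMulCommutative.is_comm.comm ⟨b, hb⟩ ⟨a, ha⟩)
        · exact hcent q hq hq19
      refine ⟨fun a ha g => ?_⟩
      have hg : g ∈ centralizer ((P : Subgroup G) : Set G) := hall ▸ mem_top g
      rwa [← mem_centralizer_iff.1 hg a ha, mul_inv_cancel_right]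
    · exact key M (hbar.comap _) hM (Subgroup.le_comap_map _ _)

theorem normal_of_proper : ∀ (o : ℕ) (G : Type*) [Group G] [Finite G], Nat.card G = o → o ∣ 175560 →
    o ≠ 175560 → ∀ P : Sylow 19 G, (P : Subgroup G).Normal := by
  intro o
  induction o using Nat.strong_induction_on with
  | _ o ih =>
    intro G _ _ ho hd hne P
    haveI : Fact (Nat.Prime 19) := ⟨by norm_num⟩
    by_cases h19 : 19 ∣ o
    swap
    · have hbot : (P : Subgroup G) = ⊥ := by
        rw [← card_eq_one, P.card_eq_multiplicity, ho, Nat.factorization_eq_zero_of_not_dvd h19, pow_zero]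
      rw [hbot]
      infer_instance
    subst ho
    haveI : Nontrivial G := Finite.one_lt_card_iff_nontrivial.1
      (lt_of_lt_of_le (by norm_num) (Nat.le_of_dvd Nat.card_pos h19))
    by_cases hs : IsSimpleGroup G
    · by_cases hc : IsMulCommutative G
      · exact ⟨fun a ha g => by rwa [hc.is_comm.comm g a, mul_inv_cancel_right]⟩
      · refine absurd (false_of_simple hd hne h19 hc fun H hH _ => ?_) id
        have hlt : Nat.card H < Nat.card G := by
          refine lt_of_le_of_ne (Nat.le_of_dvd Nat.card_pos H.card_subgroup_dvd_card) fun e => hH ?_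
          exact eq_top_of_card_eq H e
        exact ih _ hlt H rfl (H.card_subgroup_dvd_card.trans hd) (by have := Nat.le_of_dvd (by norm_num) hd; omega)
    · obtain ⟨N, hNn, hN1, hN2⟩ : ∃ N : Subgroup G, N.Normal ∧ N ≠ ⊥ ∧ N ≠ ⊤ := by
        by_contra hno
        push Not at hno
        exact hs ⟨fun H hH => or_iff_not_imp_left.2 (hno H hH)⟩
      haveI := hNn
      refine normal_of_normal hd N hN1 hN2 (fun _ => ?_) (fun H hH _ => ?_) h19 P
      · have hlt : Nat.card (G ⧸ N) < Nat.card G := by
          rw [Subgroup.card_eq_card_quotient_mul_card_subgroup N]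
          exact lt_mul_of_one_lt_right Nat.card_pos ((Subgroup.one_lt_card_iff_ne_bot N).2 hN1)
        have hdq : Nat.card (G ⧸ N) ∣ 175560 := (Subgroup.card_quotient_dvd_card N).trans hd
        exact ih _ hlt (G ⧸ N) rfl hdq (by have := Nat.le_of_dvd (by norm_num) hd; omega)
      · have hlt : Nat.card H < Nat.card G := by
          refine lt_of_le_of_ne (Nat.le_of_dvd Nat.card_pos H.card_subgroup_dvd_card) fun e => hH ?_
          exact eq_top_of_card_eq H e
        exact ih _ hlt H rfl (H.card_subgroup_dvd_card.trans hd) (by have := Nat.le_of_dvd (by norm_num) hd; omega)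

theorem result {G : Type*} [Group G] [Finite G] (hG : Nat.card G = 175560) :
    IsSimpleGroup G ∨ ∀ P : Sylow 19 G, (P : Subgroup G).Normal := by
  by_cases hs : IsSimpleGroup G
  · exact Or.inl hs
  · right
    haveI : Nontrivial G := Finite.one_lt_card_iff_nontrivial.1 (by rw [hG]; norm_num)
    obtain ⟨N, hNn, hN1, hN2⟩ : ∃ N : Subgroup G, N.Normal ∧ N ≠ ⊥ ∧ N ≠ ⊤ := by
      by_contra hno
      push Not at hno
      exact hs ⟨fun H hH => or_iff_not_imp_left.2 (hno H hH)⟩
    haveI := hNn
    intro P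
    refine normal_of_normal (dvd_of_eq hG) N hN1 hN2 (fun _ => ?_) (fun H hH _ => ?_) (by rw [hG]; norm_num) P
    · refine normal_of_proper _ _ rfl (by rw [← hG]; exact Subgroup.card_quotient_dvd_card N) ?_
      intro e
      have h := Subgroup.card_eq_card_quotient_mul_card_subgroup N
      rw [hG, e] at h
      have := (Subgroup.one_lt_card_iff_ne_bot N).2 hN1
      omega
    · refine normal_of_proper _ _ rfl (by rw [← hG]; exact H.card_subgroup_dvd_card) ?_
      intro e
      exact hH (eq_top_of_card_eq H (by rw [e, hG]))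

end induction

end CfsgLib.Involution.Order175560
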