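import Cfsg.Agent.Lib.Coprime.Abelian
import Cfsg.Agent.Lib.Coprime.Action
import Cfsg.Agent.Lib.PGroup.Frattini
import Mathlib

/-!
A group of order 320 whose derived subgroup has order 64 and Klein centre is unique.
-/

set_option autoImplicit false
set_option linter.style.show false
set_option linter.unusedSectionVars false

namespace CfsgLib.Involution.Order320

open Subgroup
open scoped commutatorElement

variable {G : Type*} [Group G]

/-- The conjugates of `x` under the powers of `s`. -/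
def orbitElt (s x : G) (i : ℕ) : G := s ^ i * x * (s ^ i)⁻¹

theorem orbitElt_zero (s x : G) : orbitElt s x 0 = x := by simp [orbitElt]

theorem conj_orbitElt (s x : G) (i j : ℕ) :
    s ^ i * orbitElt s x j * (s ^ i)⁻¹ = orbitElt s x (i + j) := by
  simp [orbitElt, pow_add, mul_assoc]

theorem orbitElt_five {s x : G} (hs : s ^ 5 = 1) : orbitElt s x 5 = x := by simp [orbitElt, hs]

theorem commutator_shift (s x : G) {i j : ℕ} (hc : ⁅orbitElt s x j, x⁆ ∈ center G) :
    ⁅orbitElt s x (i + j), orbitElt s x i⁆ = ⁅orbitElt s x j, x⁆ := by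
  have h : s ^ i * ⁅orbitElt s x j, x⁆ * (s ^ i)⁻¹ =
      ⁅s ^ i * orbitElt s x j * (s ^ i)⁻¹, s ^ i * x * (s ^ i)⁻¹⁆ :=
    map_commutatorElement (MulAut.conj (s ^ i)) _ _
  rw [mem_center_iff.mp hc (s ^ i), mul_inv_cancel_right, conj_orbitElt] at h
  exact h.symm

/-- The normal form data. -/
structure Data (G : Type*) [Group G] where
  x : G
  s : G
  c₁ : G
  c₂ : G
  hs : s ^ 5 = 1
  h₁ : ⁅orbitElt s x 1, x⁆ = c₁
  h₂ : ⁅orbitElt s x 2, x⁆ = c₂
  hc₁ : c₁ ∈ center G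
  hc₂ : c₂ ∈ center G
  hi₁ : c₁ * c₁ = 1
  hi₂ : c₂ * c₂ = 1
  hsq : x * x = c₁ * c₂
  hprod : x * orbitElt s x 1 * orbitElt s x 2 * orbitElt s x 3 * orbitElt s x 4 = 1
  gen : closure ({x, s} : Set G) = ⊤

section Bound

variable {D : Type*} [Group D] [Finite D]

theorem norm_step {K : Subgroup D} {w v : D} (hK : v ∈ normalizer (K : Set D))
    (hw : v * w * v⁻¹ ∈ K ⊔ zpowers w) :
    v ∈ normalizer ((K ⊔ zpowers w : Subgroup D) : Set D) := by
  refine Coprime.mem_normalizer_of_conj_map_le ?_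
  have h : (K ⊔ zpowers w).map (MulAut.conj v).toMonoidHom ≤ K ⊔ zpowers w := by
    rw [Subgroup.map_sup, MonoidHom.map_zpowers]
    refine sup_le ((mem_normalizer_iff_map_conj_eq.mp hK).le.trans le_sup_left) (zpowers_le.mpr ?_)
    exact hw
  exact fun y hy => h ⟨y, hy, rfl⟩

theorem card_step {K : Subgroup D} {v : D} {n : ℕ} [NeZero n] (hv : v ∈ normalizer (K : Set D))
    (hpow : v ^ n ∈ K) : Nat.card ↥(K ⊔ zpowers v) ≤ Nat.card K * n := by
  have hn : zpowers v ≤ normalizer (K : Set D) := zpowers_le.mpr hv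
  have h : Nat.card (K × Fin n) = Nat.card K * n := by
    rw [Nat.card_prod, Nat.card_eq_fintype_card (α := Fin n), Fintype.card_fin]
  rw [← h]
  refine Nat.card_le_card_of_surjective (fun y : K × Fin n =>
    (⟨(y.1 : D) * v ^ (y.2 : ℕ), mul_mem (mem_sup_left y.1.2)
      (mem_sup_right (pow_mem (mem_zpowers v) _))⟩ : ↥(K ⊔ zpowers v))) fun g => ?_
  have hg := g.2
  rw [← SetLike.mem_coe, coe_mul_of_right_le_normalizer_left _ _ hn] at hg
  obtain ⟨k, hk, _, ⟨i, rfl⟩, hki⟩ := hg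
  have hi : (i % n).toNat < n := by
    have h1 := Int.emod_lt_of_pos i (b := (n : ℤ)) (by exact_mod_cast NeZero.pos n)
    have h2 := Int.emod_nonneg i (b := (n : ℤ)) (by exact_mod_cast NeZero.ne n)
    omega
  refine ⟨(⟨k * (v ^ n) ^ (i / n), K.mul_mem hk (K.zpow_mem hpow _)⟩, ⟨(i % n).toNat, hi⟩),
    Subtype.ext ?_⟩
  rw [← hki]
  show k * (v ^ n) ^ (i / n) * v ^ (i % n).toNat = k * v ^ i
  rw [mul_assoc, ← zpow_natCast, ← zpow_natCast, ← zpow_mul, ← zpow_add,
    Int.toNat_of_nonneg (Int.emod_nonneg i (by exact_mod_cast NeZero.ne n)), Int.mul_ediv_add_emod]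

theorem card_le (d : Data D) : Nat.card D ≤ 320 := by
  set v := orbitElt d.s d.x with hv
  have hcn : ∀ c ∈ center D, ∀ y : D, ∀ K : Subgroup D, c ∈ K → y * c * y⁻¹ ∈ K :=
    fun c hc y K hK => by rwa [mem_center_iff.mp hc y, mul_inv_cancel_right]
  set K₁ : Subgroup D := ⊥ ⊔ zpowers d.c₁ with hK₁
  set C : Subgroup D := K₁ ⊔ zpowers d.c₂ with hC
  have hnbot : ∀ y : D, y ∈ normalizer ((⊥ : Subgroup D) : Set D) := fun y => by
    rw [normalizer_eq_top]; exact mem_top _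
  have hnK₁ : ∀ y : D, y ∈ normalizer (K₁ : Set D) := fun y =>
    norm_step (hnbot y) (hcn _ d.hc₁ y _ (mem_sup_right (mem_zpowers _)))
  have hnC : ∀ y : D, y ∈ normalizer (C : Set D) := fun y =>
    norm_step (hnK₁ y) (hcn _ d.hc₂ y _ (mem_sup_right (mem_zpowers _)))
  have hc₁C : d.c₁ ∈ C := mem_sup_left (mem_sup_right (mem_zpowers _))
  have hc₂C : d.c₂ ∈ C := mem_sup_right (mem_zpowers _)
  have hcardC : Nat.card C ≤ 4 := by
    have h1 := card_step (K := (⊥ : Subgroup D)) (n := 2) (hnbot d.c₁) (by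
      rw [pow_two, d.hi₁]; exact one_mem _)
    have h2 := card_step (n := 2) (hnK₁ d.c₂) (by rw [pow_two, d.hi₂]; exact one_mem _)
    rw [card_bot] at h1
    rw [← hC] at h2
    rw [← hK₁] at h1
    omega
  have hv0 : v 0 = d.x := orbitElt_zero _ _
  have hv5 : v 5 = d.x := orbitElt_five d.hs
  have hd : ∀ j, j = 1 ∨ j = 2 ∨ j = 3 → ⁅v j, d.x⁆ ∈ C ∧ ⁅v j, d.x⁆ ∈ center D := by
    rintro j (rfl | rfl | rfl)
    · rw [hv, d.h₁]; exact ⟨hc₁C, d.hc₁⟩
    · rw [hv, d.h₂]; exact ⟨hc₂C, d.hc₂⟩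
    · have h := commutator_shift d.s d.x (i := 3) (j := 2) (by rw [d.h₂]; exact d.hc₂)
      rw [← hv, show 3 + 2 = 5 from rfl, hv5, hv, d.h₂, ← hv] at h
      rw [show ⁅v 3, d.x⁆ = d.c₂⁻¹ by rw [← h, commutatorElement_inv]]
      exact ⟨inv_mem hc₂C, inv_mem d.hc₂⟩
  have hcomm : ∀ i j, i ≤ 4 → j ≤ 4 → j < i → i - j ≤ 3 → ⁅v i, v j⁆ ∈ C := by
    intro i j _ _ hji h3
    have hd' := hd (i - j) (by omega)
    have h := commutator_shift d.s d.x (i := j) (j := i - j) hd'.2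
    rw [← hv, Nat.add_sub_cancel' hji.le] at h
    rw [h]
    exact hd'.1
  have hmove : ∀ i j, i ≤ 3 → j < i → ∀ K : Subgroup D, C ≤ K →
      v i * v j * (v i)⁻¹ ∈ K ⊔ zpowers (v j) := by
    intro i j hi hji K hK
    rw [show v i * v j * (v i)⁻¹ = ⁅v i, v j⁆ * v j by rw [commutatorElement_def]; group]
    exact mul_mem (mem_sup_left (hK (hcomm i j (by omega) (by omega) hji (by omega))))
      (mem_sup_right (mem_zpowers _))
  set A₀ := C ⊔ zpowers (v 0) with hA₀
  set A₁ := A₀ ⊔ zpowers (v 1) with hA₁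
  set A₂ := A₁ ⊔ zpowers (v 2) with hA₂
  set A₃ := A₂ ⊔ zpowers (v 3) with hA₃
  have hC₁ : C ≤ A₀ := le_sup_left
  have hC₂ : C ≤ A₁ := hC₁.trans le_sup_left
  have hC₃ : C ≤ A₂ := hC₂.trans le_sup_left
  have hC₄ : C ≤ A₃ := hC₃.trans le_sup_left
  have hsq : ∀ i, v i ^ 2 ∈ C := fun i => by
    have hq : d.x * d.x ∈ center D := by rw [d.hsq]; exact mul_mem d.hc₁ d.hc₂
    rw [hv, orbitElt, pow_two,
      show d.s ^ i * d.x * (d.s ^ i)⁻¹ * (d.s ^ i * d.x * (d.s ^ i)⁻¹) =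
        d.s ^ i * (d.x * d.x) * (d.s ^ i)⁻¹ by group,
      mem_center_iff.mp hq, mul_inv_cancel_right, d.hsq]
    exact mul_mem hc₁C hc₂C
  have hn1 : v 1 ∈ normalizer (A₀ : Set D) := norm_step (hnC _) (hmove 1 0 (by omega) (by omega) C le_rfl)
  have hn2 : v 2 ∈ normalizer (A₁ : Set D) :=
    norm_step (norm_step (hnC _) (hmove 2 0 (by omega) (by omega) C le_rfl))
      (hmove 2 1 (by omega) (by omega) A₀ hC₁)
  have hn3 : v 3 ∈ normalizer (A₂ : Set D) :=
    norm_step (norm_step (norm_step (hnC _) (hmove 3 0 le_rfl (by omega) C le_rfl))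
      (hmove 3 1 le_rfl (by omega) A₀ hC₁)) (hmove 3 2 le_rfl (by omega) A₁ hC₂)
  have b0 := card_step (n := 2) (hnC (v 0)) (hsq 0)
  have b1 := card_step (n := 2) hn1 (hC₁ (hsq 1))
  have b2 := card_step (n := 2) hn2 (hC₂ (hsq 2))
  have b3 := card_step (n := 2) hn3 (hC₃ (hsq 3))
  rw [← hA₀] at b0
  rw [← hA₁] at b1
  rw [← hA₂] at b2
  rw [← hA₃] at b3
  have hmem : ∀ i, i ≤ 3 → v i ∈ A₃ := by
    intro i hi
    interval_cases i
    · exact mem_sup_left (mem_sup_left (mem_sup_left (mem_sup_right (mem_zpowers _))))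
    · exact mem_sup_left (mem_sup_left (mem_sup_right (mem_zpowers _)))
    · exact mem_sup_left (mem_sup_right (mem_zpowers _))
    · exact mem_sup_right (mem_zpowers _)
  have h4 : v 4 ∈ A₃ := by
    have h := d.hprod
    rw [← hv, ← hv0, mul_eq_one_iff_inv_eq] at h
    rw [← h]
    exact inv_mem (mul_mem (mul_mem (mul_mem (hmem 0 (by omega)) (hmem 1 (by omega)))
      (hmem 2 (by omega))) (hmem 3 le_rfl))
  have hS : d.s ∈ normalizer (A₃ : Set D) := by
    have hstep : ∀ i, d.s * v i * d.s⁻¹ = v (1 + i) := fun i => by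
      have := conj_orbitElt d.s d.x 1 i
      rwa [pow_one] at this
    refine Coprime.mem_normalizer_of_conj_map_le ?_
    have h : A₃.map (MulAut.conj d.s).toMonoidHom ≤ A₃ := by
      rw [hA₃, hA₂, hA₁, hA₀, Subgroup.map_sup, Subgroup.map_sup, Subgroup.map_sup, Subgroup.map_sup]
      simp only [MonoidHom.map_zpowers]
      rw [← hA₀, ← hA₁, ← hA₂, ← hA₃]
      refine sup_le (sup_le (sup_le (sup_le ((mem_normalizer_iff_map_conj_eq.mp (hnC _)).le.trans hC₄) ?_) ?_) ?_) ?_ <;>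
        refine zpowers_le.mpr ?_ <;> show d.s * _ * d.s⁻¹ ∈ A₃ <;> rw [hstep]
      · exact hmem 1 (by omega)
      · exact hmem 2 (by omega)
      · exact hmem 3 le_rfl
      · exact h4
    exact fun y hy => h ⟨y, hy, rfl⟩
  have b4 := card_step (n := 5) hS (by rw [d.hs]; exact one_mem _)
  have htop : A₃ ⊔ zpowers d.s = ⊤ := by
    rw [eq_top_iff, ← d.gen, closure_le]
    rintro y (rfl | rfl)
    · exact mem_sup_left (hv0 ▸ hmem 0 (by omega))
    · exact mem_sup_right (mem_zpowers _)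
  rw [htop, Subgroup.card_top] at b4
  omega

end Bound

theorem map_orbitElt {H : Type*} [Group H] (f : G →* H) (s x : G) (i : ℕ) :
    f (orbitElt s x i) = orbitElt (f s) (f x) i := by
  simp [orbitElt, map_pow]

/-- Two groups of order 320 with data are isomorphic. -/
theorem nonempty_mulEquiv {H : Type*} [Group H] [Finite G] [Finite H] (dG : Data G) (dH : Data H)
    (hG : Nat.card G = 320) (hH : Nat.card H = 320) : Nonempty (G ≃* H) := by
  set X : G × H := (dG.x, dH.x) with hX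
  set S : G × H := (dG.s, dH.s) with hS
  set D : Subgroup (G × H) := closure {X, S} with hD
  have hXD : X ∈ D := subset_closure (Or.inl rfl)
  have hSD : S ∈ D := subset_closure (Or.inr rfl)
  have horb : ∀ i, orbitElt (⟨S, hSD⟩ : D) ⟨X, hXD⟩ i =
      (⟨(orbitElt dG.s dG.x i, orbitElt dH.s dH.x i), by
        have h1 : orbitElt S X i = (orbitElt dG.s dG.x i, orbitElt dH.s dH.x i) := rfl
        rw [← h1]
        exact mul_mem (mul_mem (pow_mem hSD i) hXD) (inv_mem (pow_mem hSD i))⟩ : D) := fun i => by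
    apply Subtype.ext
    rw [← D.subtype_apply, map_orbitElt]
    rfl
  have hmemC : ∀ a : G, ∀ b : H, a ∈ center G → b ∈ center H → ∀ h : (a, b) ∈ D,
      (⟨(a, b), h⟩ : D) ∈ center D := fun a b ha hb h => mem_center_iff.mpr fun y => by
    apply Subtype.ext
    exact Prod.ext (mem_center_iff.mp ha _) (mem_center_iff.mp hb _)
  have hcm : ∀ i, (⁅orbitElt dG.s dG.x i, dG.x⁆, ⁅orbitElt dH.s dH.x i, dH.x⁆) ∈ D := fun i =>
    (⁅orbitElt (⟨S, hSD⟩ : D) ⟨X, hXD⟩ i, (⟨X, hXD⟩ : D)⁆).2 |> fun h => by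
      rw [horb] at h; exact h
  let d : Data D :=
    { x := ⟨X, hXD⟩
      s := ⟨S, hSD⟩
      c₁ := ⟨(dG.c₁, dH.c₁), by rw [← dG.h₁, ← dH.h₁]; exact hcm 1⟩
      c₂ := ⟨(dG.c₂, dH.c₂), by rw [← dG.h₂, ← dH.h₂]; exact hcm 2⟩
      hs := Subtype.ext (Prod.ext dG.hs dH.hs)
      h₁ := by rw [horb]; exact Subtype.ext (Prod.ext dG.h₁ dH.h₁)
      h₂ := by rw [horb]; exact Subtype.ext (Prod.ext dG.h₂ dH.h₂)
      hc₁ := hmemC _ _ dG.hc₁ dH.hc₁ _
      hc₂ := hmemC _ _ dG.hc₂ dH.hc₂ _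
      hi₁ := Subtype.ext (Prod.ext dG.hi₁ dH.hi₁)
      hi₂ := Subtype.ext (Prod.ext dG.hi₂ dH.hi₂)
      hsq := Subtype.ext (Prod.ext dG.hsq dH.hsq)
      hprod := by simp only [horb]; exact Subtype.ext (Prod.ext dG.hprod dH.hprod)
      gen := by
        rw [← closure_closure_coe_preimage (k := ({X, S} : Set (G × H)))]
        congr 1
        ext y
        simp [Subtype.ext_iff] }
  have hcard := card_le d
  let f : D →* G := (MonoidHom.fst G H).comp D.subtype
  let g : D →* H := (MonoidHom.snd G H).comp D.subtype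
  have hf : Function.Surjective f := by
    rw [← MonoidHom.range_eq_top, eq_top_iff, ← dG.gen, closure_le]
    rintro y (rfl | rfl)
    exacts [⟨⟨X, hXD⟩, rfl⟩, ⟨⟨S, hSD⟩, rfl⟩]
  have hg : Function.Surjective g := by
    rw [← MonoidHom.range_eq_top, eq_top_iff, ← dH.gen, closure_le]
    rintro y (rfl | rfl)
    exacts [⟨⟨X, hXD⟩, rfl⟩, ⟨⟨S, hSD⟩, rfl⟩]
  have hfb : Function.Bijective f := (Nat.bijective_iff_surjective_and_card f).mpr
    ⟨hf, le_antisymm (hG ▸ hcard) (Nat.card_le_card_of_surjective f hf)⟩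
  have hgb : Function.Bijective g := (Nat.bijective_iff_surjective_and_card g).mpr
    ⟨hg, le_antisymm (hH ▸ hcard) (Nat.card_le_card_of_surjective g hg)⟩
  exact ⟨(MulEquiv.ofBijective f hfb).symm.trans (MulEquiv.ofBijective g hgb)⟩

section Derive

theorem modEq_of_eq {a b : ℕ} (h : a = b) : a ≡ b [MOD 5] := h ▸ Nat.ModEq.refl a

/-- Fixed points. -/
theorem card_modEq {Q : Type*} [Group Q] [Finite Q] {t : Q} (ht : t ^ 5 = 1) {U : Subgroup Q}
    (hU : t ∈ normalizer (U : Set Q)) :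
    Nat.card U ≡ Nat.card {u : U // t * (u : Q) * t⁻¹ = u} [MOD 5] := by
  haveI : Fact (Nat.Prime 5) := ⟨by norm_num⟩
  let φ := Coprime.conjHom (zpowers_le.mpr hU : zpowers t ≤ normalizer (U : Set Q))
  letI : MulAction (zpowers t) U := MulAction.compHom U φ
  have h5 : IsPGroup 5 (zpowers t) := by
    rintro ⟨_, i, rfl⟩
    refine ⟨1, Subtype.ext ?_⟩
    show (t ^ i) ^ (5 ^ 1) = 1
    rw [pow_one, ← zpow_natCast, ← zpow_mul, mul_comm, zpow_mul, zpow_natCast, ht, one_zpow]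
  refine (h5.card_modEq_card_fixedPoints U).trans (modEq_of_eq (Nat.card_congr
    (Equiv.subtypeEquivRight fun u => ⟨fun h => ?_, fun h a => ?_⟩)))
  · exact congrArg Subtype.val (h ⟨t, mem_zpowers t⟩)
  · obtain ⟨a, i, rfl⟩ := a
    apply Subtype.ext
    show t ^ i * (u : Q) * (t ^ i)⁻¹ = u
    rw [(Commute.zpow_left (mul_inv_eq_iff_eq_mul.mp h) i).eq, mul_inv_cancel_right]

theorem exists_data [Finite G] (hG : Nat.card G = 320) (hD : Nat.card (commutator G) = 64)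
    (hZ : IsKleinFour (center (commutator G))) : Nonempty (Data G) := by
  haveI : Fact (Nat.Prime 2) := ⟨Nat.prime_two⟩
  haveI : Fact (Nat.Prime 5) := ⟨by norm_num⟩
  set P := commutator G with hP
  have hP2 : IsPGroup 2 P := IsPGroup.of_card (n := 6) (by rw [hD]; norm_num)
  obtain ⟨s, hs⟩ := exists_prime_orderOf_dvd_card' (G := G) 5 (by rw [hG]; norm_num)
  have hs5 : s ^ 5 = 1 := hs ▸ pow_orderOf_eq_one s
  haveI hPn : P.Normal := inferInstanceAs (commutator G).Normal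
  have hsup : P ⊔ zpowers s = ⊤ := by
    refine eq_top_of_card_eq _ (Nat.dvd_antisymm (card_subgroup_dvd_card _) ?_)
    rw [hG, show (320 : ℕ) = 64 * 5 from rfl]
    refine Nat.Coprime.mul_dvd_of_dvd_of_dvd (by norm_num) (hD ▸ card_dvd_of_le le_sup_left) ?_
    rw [← hs, ← Nat.card_zpowers]
    exact card_dvd_of_le le_sup_right
  set Φ : Subgroup G := (frattini P).map P.subtype with hΦ
  haveI hΦn : Φ.Normal := ConjAct.normal_of_characteristic_of_normal
  set π := QuotientGroup.mk' Φ with hπ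
  set P' := P.map π with hP'
  set t := π s with ht
  have ht5 : t ^ 5 = 1 := by rw [ht, ← map_pow, hs5, map_one]
  haveI hP'n : P'.Normal := hPn.map π (QuotientGroup.mk'_surjective _)
  have hker : ∀ a : G, π a = 1 ↔ a ∈ Φ := fun a => QuotientGroup.eq_one_iff a
  have hcommΦ : ∀ a ∈ P, ∀ b ∈ P, ⁅a, b⁆ ∈ Φ := fun a ha b hb =>
    ⟨_, PGroup.Frattini.commutatorElement_mem_frattini hP2 ⟨a, ha⟩ ⟨b, hb⟩, rfl⟩
  have hsqΦ : ∀ a ∈ P, a ^ 2 ∈ Φ := fun a ha =>
    ⟨_, PGroup.Frattini.pow_mem_frattini hP2 ⟨a, ha⟩, rfl⟩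
  haveI hP'c : IsMulCommutative P' := ⟨⟨by
    rintro ⟨_, a, ha, rfl⟩ ⟨_, b, hb, rfl⟩
    apply Subtype.ext
    show π a * π b = π b * π a
    rw [← commutatorElement_eq_one_iff_mul_comm, ← map_commutatorElement]
    exact (hker _).mpr (hcommΦ a ha b hb)⟩⟩
  have hS' : zpowers t ≤ normalizer (P' : Set _) := by rw [normalizer_eq_top]; exact le_top
  have hsup' : P' ⊔ zpowers t = ⊤ := by
    rw [hP', ht, ← MonoidHom.map_zpowers, ← Subgroup.map_sup, hsup, ← MonoidHom.range_eq_map,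
      QuotientGroup.range_mk']
  set Q := ⁅P', zpowers t⁆ with hQ
  have hQP : Q ≤ P' := commutator_le_left _ _
  haveI hQn : Q.Normal := by
    refine normalizer_eq_top_iff.mp (top_le_iff.mp (hsup' ▸ sup_le (fun a ha => ?_) ?_))
    · refine centralizer_le_normalizer _ (mem_centralizer_iff.mpr fun q hq => ?_)
      exact congrArg Subtype.val (mul_comm' (⟨q, hQP hq⟩ : P') ⟨a, ha⟩)
    · exact normalizer_commutator_ge_right _ _
  have hPQ : P' ≤ Q := by
    rw [hP', hP, _root_.commutator_def, map_commutator, ← MonoidHom.range_eq_map, QuotientGroup.range_mk',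
      ← QuotientGroup.ker_mk' Q, ← Subgroup.map_eq_bot_iff, map_commutator,
      commutator_eq_bot_iff_le_centralizer]
    rw [← hsup', Subgroup.map_sup]
    set ρ := QuotientGroup.mk' Q
    have hPP : P'.map ρ ≤ centralizer (P'.map ρ : Set _) := by
      rintro _ ⟨a, ha, rfl⟩
      refine mem_centralizer_iff.mpr ?_
      rintro _ ⟨b, hb, rfl⟩
      rw [← map_mul, ← map_mul, show b * a = a * b from congrArg Subtype.val (mul_comm' (⟨b, hb⟩ : P') ⟨a, ha⟩)]
    have hPT : P'.map ρ ≤ centralizer ((zpowers t).map ρ : Set _) := by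
      rw [← commutator_eq_bot_iff_le_centralizer, ← map_commutator, Subgroup.map_eq_bot_iff,
        QuotientGroup.ker_mk']
    have hTT : (zpowers t).map ρ ≤ centralizer ((zpowers t).map ρ : Set _) := by
      rw [MonoidHom.map_zpowers]
      exact Subgroup.le_centralizer _
    rw [le_centralizer_iff]
    refine sup_le ?_ ?_ <;> rw [le_centralizer_iff] <;> refine sup_le ?_ ?_
    exacts [hPP, le_centralizer_iff.mp hPT, hPT, hTT]
  have hcop : (Nat.card (zpowers t)).Coprime (Nat.card P') := by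
    refine Nat.Coprime.coprime_dvd_right (card_map_dvd P π) ?_
    rw [hD, Nat.card_zpowers]
    exact (show Nat.Coprime 5 64 by norm_num).coprime_dvd_left (orderOf_dvd_of_pow_eq_one ht5)
  have hfpf : ∀ u ∈ P', t * u * t⁻¹ = u → u = 1 := by
    intro u hu h
    have hcu : u ∈ centralizer ((zpowers t : Subgroup _) : Set (G ⧸ Φ)) := by
      rw [zpowers_eq_closure, centralizer_closure, mem_centralizer_singleton_iff]
      exact (mul_inv_eq_iff_eq_mul.mp h).symm
    exact mem_bot.mp (Coprime.centralizer_inf_commutator_eq_bot hS' hcop ▸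
      mem_inf.mpr ⟨⟨hu, hcu⟩, hPQ hu⟩)
  have hinv : ∀ U : Subgroup (G ⧸ Φ), U ≤ P' → t ∈ normalizer (U : Set _) →
      Nat.card U ≡ 1 [MOD 5] := by
    intro U hU htU
    refine (card_modEq ht5 htU).trans (modEq_of_eq ?_)
    rw [Nat.card_eq_one_iff_unique]
    exact ⟨⟨fun a b => Subtype.ext (Subtype.ext ((hfpf _ (hU a.1.2) a.2).trans
      (hfpf _ (hU b.1.2) b.2).symm))⟩, ⟨⟨1, by simp⟩⟩⟩
  have hpow2 : ∀ U : Subgroup (G ⧸ Φ), U ≤ P' → t ∈ normalizer (U : Set _) → U ≠ ⊥ →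
      Nat.card U = 16 := by
    intro U hU htU hne
    obtain ⟨e, he, hcard⟩ := (Nat.dvd_prime_pow Nat.prime_two (m := 6)).mp
      (((card_dvd_of_le hU).trans (card_map_dvd P π)).trans (dvd_of_eq (by rw [hD]; norm_num)))
    have h := hinv U hU htU
    rw [hcard] at h ⊢
    have h0 : e ≠ 0 := fun h0 => hne (Subgroup.card_eq_one.mp (by rw [hcard, h0, pow_zero]))
    unfold Nat.ModEq at h
    interval_cases e <;> simp_all
  have hΦP : Φ ≤ P := map_subtype_le _
  have hP'ne : P' ≠ ⊥ := by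
    intro h
    rw [hP', Subgroup.map_eq_bot_iff, QuotientGroup.ker_mk'] at h
    have htop : frattini P = ⊤ := by
      rw [eq_top_iff]
      intro a _
      obtain ⟨b, hb, hba⟩ := h a.2
      exact (P.subtype_injective hba) ▸ hb
    haveI : Nontrivial P := Finite.one_lt_card_iff_nontrivial.mp (by rw [hD]; norm_num)
    obtain ⟨M, hM, -⟩ := (eq_top_or_exists_le_coatom (⊥ : Subgroup P)).resolve_left bot_ne_top
    exact hM.1 (eq_top_iff.mpr (htop ▸ frattini_le_coatom hM))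
  have hP'card : Nat.card P' = 16 := hpow2 P' le_rfl (hS' (mem_zpowers t)) hP'ne
  have hΦcard : Nat.card Φ = 4 := by
    have h := card_eq_card_quotient_mul_card_subgroup (Φ.subgroupOf P)
    rw [Nat.card_congr (subgroupOfEquivOfLe hΦP).toEquiv, hD] at h
    have h2 : Nat.card (P ⧸ Φ.subgroupOf P) = Nat.card P' := by
      rw [hP', ← index_eq_card, ← relIndex]
      have h3 := Subgroup.relIndex_ker P π
      rwa [hπ, QuotientGroup.ker_mk'] at h3
    rw [h2, hP'card] at h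
    omega
  set Z : Subgroup G := (center P).map P.subtype with hZdef
  haveI : Z.Normal := ConjAct.normal_of_characteristic_of_normal
  have hZcard : Nat.card Z = 4 := by
    rw [hZdef, card_map_of_injective P.subtype_injective]; exact hZ.card_four
  have hsZ : ∀ z ∈ Z, s * z * s⁻¹ = z := by
    have h := card_modEq hs5 (U := Z) (by rw [normalizer_eq_top]; exact mem_top s)
    have hle : Nat.card {u : Z // s * (u : G) * s⁻¹ = u} ≤ 4 :=
      hZcard ▸ Nat.card_le_card_of_injective _ Subtype.val_injective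
    rw [hZcard] at h
    unfold Nat.ModEq at h
    have heq : Nat.card {u : Z // s * (u : G) * s⁻¹ = u} = Nat.card Z := by omega
    have hsurj := ((Nat.bijective_iff_injective_and_card _).mpr
      ⟨Subtype.val_injective (p := fun u : Z => s * (u : G) * s⁻¹ = u), heq⟩).2
    intro z hz
    obtain ⟨u, hu⟩ := hsurj ⟨z, hz⟩
    have := u.2
    rwa [hu] at this
  have hZΦ : Z = Φ := by
    refine eq_of_le_of_card_ge (fun z hz => (hker z).mp ?_) (by rw [hZcard, hΦcard])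
    refine hfpf _ ⟨z, map_subtype_le _ hz, rfl⟩ ?_
    rw [ht, ← map_inv, ← map_mul, ← map_mul, hsZ z hz]
  have hΦc : ∀ z ∈ Φ, z ∈ center G := by
    intro z hz
    rw [← hZΦ] at hz
    have hle : P ⊔ zpowers s ≤ centralizer {z} := by
      refine sup_le (fun a ha => ?_) (zpowers_le.mpr ?_) <;> rw [mem_centralizer_singleton_iff]
      · obtain ⟨w, hw, rfl⟩ := hz
        exact (congrArg Subtype.val (mem_center_iff.mp hw ⟨a, ha⟩) :)
      · exact mul_inv_eq_iff_eq_mul.mp (hsZ z hz)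
    rw [hsup] at hle
    exact mem_center_iff.mpr fun g => mem_centralizer_singleton_iff.mp (hle (mem_top g))
  have hz2 : ∀ z ∈ Φ, z * z = 1 := by
    intro z hz
    rw [← hZΦ] at hz
    obtain ⟨w, hw, rfl⟩ := hz
    haveI := hZ
    exact congrArg (fun u : center P => ((u : P) : G)) (IsKleinFour.mul_self ⟨w, hw⟩)
  obtain ⟨x₀, hx₀P, hx₀⟩ : ∃ x ∈ P, x ∉ Φ := by
    by_contra hne
    push Not at hne
    have := card_le_of_le (show P ≤ Φ from hne)
    omega
  have hvP : ∀ (x : G), x ∈ P → ∀ i, orbitElt s x i ∈ P := fun x hx i => hPn.conj_mem x hx _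
  have hc : ∀ a ∈ P, ∀ b ∈ P, π a * π b = π b * π a := fun a ha b hb =>
    congrArg Subtype.val (mul_comm' (⟨π a, a, ha, rfl⟩ : P') ⟨π b, b, hb, rfl⟩)
  set pr := x₀ * orbitElt s x₀ 1 * orbitElt s x₀ 2 * orbitElt s x₀ 3 * orbitElt s x₀ 4 with hpr
  have hprP : pr ∈ P :=
    mul_mem (mul_mem (mul_mem (mul_mem hx₀P (hvP _ hx₀P 1)) (hvP _ hx₀P 2)) (hvP _ hx₀P 3))
      (hvP _ hx₀P 4)
  have hpr' : pr ∈ Φ := by
    rw [← hker]
    refine hfpf _ ⟨pr, hprP, rfl⟩ ?_
    have hsh : s * pr * s⁻¹ = orbitElt s x₀ 1 * orbitElt s x₀ 2 * orbitElt s x₀ 3 *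
        orbitElt s x₀ 4 * x₀ := by
      have st : ∀ i, s * orbitElt s x₀ i * s⁻¹ = orbitElt s x₀ (1 + i) := fun i => by
        have := conj_orbitElt s x₀ 1 i
        rwa [pow_one] at this
      calc s * pr * s⁻¹ = s * orbitElt s x₀ 0 * s⁻¹ * (s * orbitElt s x₀ 1 * s⁻¹) *
            (s * orbitElt s x₀ 2 * s⁻¹) * (s * orbitElt s x₀ 3 * s⁻¹) *
            (s * orbitElt s x₀ 4 * s⁻¹) := by rw [hpr, orbitElt_zero]; group
        _ = _ := by
          rw [st, st, st, st, st, show 1 + 4 = 5 from rfl, orbitElt_five hs5]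
    rw [ht, ← map_inv, ← map_mul, ← map_mul, hsh, map_mul, hc _ (mul_mem (mul_mem (mul_mem
      (hvP _ hx₀P 1) (hvP _ hx₀P 2)) (hvP _ hx₀P 3)) (hvP _ hx₀P 4)) _ hx₀P, hpr]
    simp only [map_mul, mul_assoc]
  set x := x₀ * pr with hx
  have hprC := hΦc pr hpr'
  have hxP : x ∈ P := mul_mem hx₀P hprP
  have hxv : ∀ i, orbitElt s x i = orbitElt s x₀ i * pr := fun i => by
    rw [orbitElt, orbitElt, hx, ← mul_assoc,
      mul_assoc (s ^ i * x₀), ← mem_center_iff.mp hprC (s ^ i)⁻¹, ← mul_assoc]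
  have hprod : x * orbitElt s x 1 * orbitElt s x 2 * orbitElt s x 3 * orbitElt s x 4 = 1 := by
    have hcomm : ∀ g : G, pr * g = g * pr := fun g => (mem_center_iff.mp hprC g).symm
    have hh : ∀ g h : G, g * pr * h = g * h * pr := fun g h => by rw [mul_assoc, hcomm, mul_assoc]
    rw [hxv 1, hxv 2, hxv 3, hxv 4, hx]
    simp only [← mul_assoc, hh]
    rw [← hpr]
    rw [show pr * pr * pr * pr * pr * pr = (pr * pr) * (pr * pr) * (pr * pr) by group,
      hz2 pr hpr']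
    simp
  have hcm : ∀ a ∈ P, ∀ b ∈ P, ⁅a, b⁆ ∈ center G ∧ ⁅a, b⁆ * ⁅a, b⁆ = 1 := fun a ha b hb =>
    ⟨hΦc _ (hcommΦ a ha b hb), hz2 _ (hcommΦ a ha b hb)⟩
  set c₁ := ⁅orbitElt s x 1, x⁆ with hc₁
  set c₂ := ⁅orbitElt s x 2, x⁆ with hc₂
  have hx2 : x * x ∈ Φ := by rw [← pow_two]; exact hsqΦ x hxP
  have hsq : x * x = c₁ * c₂ := by
    set v := orbitElt s x with hv
    have hv0 : v 0 = x := orbitElt_zero _ _
    have hvi : ∀ i, v i * v i = x * x := fun i => by
      rw [hv, orbitElt, show s ^ i * x * (s ^ i)⁻¹ * (s ^ i * x * (s ^ i)⁻¹) =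
        s ^ i * (x * x) * (s ^ i)⁻¹ by group, mem_center_iff.mp (hΦc _ hx2), mul_inv_cancel_right]
    have hmul : ∀ a ∈ P, ∀ b ∈ P, (a * b) * (a * b) = a * a * (b * b) * ⁅b, a⁆ := fun a ha b hb => by
      have e : b * a = a * b * ⁅b, a⁆ := by
        rw [mem_center_iff.mp (hcm b hb a ha).1, commutatorElement_def]; group
      calc a * b * (a * b) = a * (b * a) * b := by group
        _ = a * (a * b * ⁅b, a⁆) * b := by rw [e]
        _ = a * a * b * (⁅b, a⁆ * b) := by group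
        _ = a * a * b * (b * ⁅b, a⁆) := by rw [mem_center_iff.mp (hcm b hb a ha).1 b]
        _ = _ := by group
    have hlin : ∀ a ∈ P, ∀ b ∈ P, ∀ e ∈ P, ⁅e, a * b⁆ = ⁅e, a⁆ * ⁅e, b⁆ := fun a ha b hb e he => by
      rw [show ⁅e, a * b⁆ = ⁅e, a⁆ * (a * ⁅e, b⁆ * a⁻¹) by simp [commutatorElement_def, mul_assoc],
        mem_center_iff.mp (hcm e he b hb).1, mul_inv_cancel_right]
    have hsh : ∀ i j, ⁅v (i + j), v i⁆ = ⁅v j, x⁆ := fun i j =>
      commutator_shift s x (hcm _ (hvP x hxP j) _ hxP).1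
    have h3 : ⁅v 3, x⁆ = c₂ := by
      have h := hsh 3 2
      rw [show 3 + 2 = 5 from rfl, hv, orbitElt_five hs5, ← hv] at h
      rw [← commutatorElement_inv, h, ← hc₂, inv_eq_iff_mul_eq_one]
      exact (hcm _ (hvP x hxP 2) _ hxP).2
    have hp := fun i => hvP x hxP i
    rw [← hv] at hp
    set q := x * x with hq
    have hq2 : q * q = 1 := hz2 _ hx2
    have e2 : x * v 1 * (x * v 1) = c₁ := by
      rw [hmul x hxP _ (hp 1), hvi, ← hq, hq2, one_mul]
    have e3 : x * v 1 * v 2 * (x * v 1 * v 2) = c₁ * q * (c₂ * c₁) := by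
      rw [hmul _ (mul_mem hxP (hp 1)) _ (hp 2), e2, hvi, hlin _ hxP _ (hp 1) _ (hp 2),
        show 2 = 1 + 1 from rfl, hsh 1 1]
    have e3' : x * v 1 * v 2 * (x * v 1 * v 2) = q * c₂ := by
      rw [e3, ← mem_center_iff.mp (hcm _ (hp 2) _ hxP).1 c₁, mem_center_iff.mp (hΦc _ hx2) c₁,
        show q * c₁ * (c₁ * c₂) = q * (c₁ * c₁) * c₂ by group, (hcm _ (hp 1) _ hxP).2, mul_one]
    have e4 : x * v 1 * v 2 * v 3 * (x * v 1 * v 2 * v 3) = c₁ * c₂ := by
      have key : q * c₂ * q = c₂ := by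
        rw [mul_assoc, mem_center_iff.mp (hΦc _ hx2) c₂, ← mul_assoc, hq2, one_mul]
      rw [hmul _ (mul_mem (mul_mem hxP (hp 1)) (hp 2)) _ (hp 3), e3', hvi,
        hlin _ (mul_mem hxP (hp 1)) _ (hp 2) _ (hp 3), hlin _ hxP _ (hp 1) _ (hp 3), h3,
        show ⁅v 3, v 1⁆ = c₂ from hsh 1 2, show ⁅v 3, v 2⁆ = c₁ from hsh 2 1,
        key, show c₂ * (c₂ * c₂ * c₁) = (c₂ * c₂) * (c₂ * c₁) by group,
        (hcm _ (hp 2) _ hxP).2, one_mul, mem_center_iff.mp (hcm _ (hp 2) _ hxP).1 c₁]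
    have h4 : v 4 = (x * v 1 * v 2 * v 3)⁻¹ := eq_inv_of_mul_eq_one_right hprod
    rw [← hvi 4, h4, ← mul_inv_rev, e4, mul_inv_rev, inv_eq_of_mul_eq_one_left (hcm _ (hp 2) _ hxP).2,
      inv_eq_of_mul_eq_one_left (hcm _ (hp 1) _ hxP).2]
    exact mem_center_iff.mp (hcm _ (hp 1) _ hxP).1 _
  have hgen : closure ({x, s} : Set G) = ⊤ := by
    set M := closure ({x, s} : Set G) with hM
    have hxM : x ∈ M := subset_closure (Or.inl rfl)
    have hsM : s ∈ M := subset_closure (Or.inr rfl)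
    -- the image of `M` covers the group modulo the centre
    have hU : M.map π ⊓ P' = P' := by
      refine eq_of_le_of_card_ge inf_le_right ?_
      rw [hP'card, hpow2 _ inf_le_right (inf_normalizer_le_normalizer_inf
        ⟨Subgroup.le_normalizer (show t ∈ M.map π from ⟨s, hsM, rfl⟩), hS' (mem_zpowers t)⟩) fun h => hx₀ ?_]
      have hx' : π x = 1 := mem_bot.mp (h ▸ (show π x ∈ M.map π ⊓ P' from
        mem_inf.mpr ⟨⟨x, hxM, rfl⟩, x, hxP, rfl⟩))
      rw [hker, hx] at hx'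
      simpa using mul_mem hx' (inv_mem hpr')
    have hall : ∀ g : G, ∃ m ∈ M, ∃ z ∈ center G, g = m * z := by
      intro g
      have hg : π g ∈ M.map π := by
        have hle : P' ⊔ zpowers t ≤ M.map π :=
          sup_le (inf_eq_right.mp hU) (zpowers_le.mpr ⟨s, hsM, rfl⟩)
        exact hle (hsup' ▸ mem_top _)
      obtain ⟨m, hm, hmg⟩ := hg
      exact ⟨m, hm, m⁻¹ * g, hΦc _ ((hker _).mp (by rw [map_mul, map_inv, hmg, inv_mul_cancel])),
        (mul_inv_cancel_left m g).symm⟩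
    have hPM : P ≤ M := by
      rw [hP, _root_.commutator_def, commutator_le]
      intro a _ b _
      obtain ⟨m, hm, z, hz, rfl⟩ := hall a
      obtain ⟨n, hn, w, hw, rfl⟩ := hall b
      have : ⁅m * z, n * w⁆ = ⁅m, n⁆ := by
        rw [commutatorElement_def, commutatorElement_def, mul_inv_rev, mul_inv_rev,
          show m * z * (n * w) * (z⁻¹ * m⁻¹) * (w⁻¹ * n⁻¹) = m * (z * (n * w)) * z⁻¹ * m⁻¹ * (w⁻¹ * n⁻¹) by
            group, ← mem_center_iff.mp hz (n * w),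
          show m * (n * w * z) * z⁻¹ * m⁻¹ * (w⁻¹ * n⁻¹) = m * n * (w * m⁻¹) * w⁻¹ * n⁻¹ by group,
          ← mem_center_iff.mp hw m⁻¹]
        group
      rw [this, commutatorElement_def]
      exact mul_mem (mul_mem (mul_mem hm hn) (inv_mem hm)) (inv_mem hn)
    exact top_le_iff.mp (hsup ▸ sup_le hPM (zpowers_le.mpr hsM))
  exact ⟨⟨x, s, c₁, c₂, hs5, rfl, rfl, (hcm _ (hvP x hxP 1) _ hxP).1, (hcm _ (hvP x hxP 2) _ hxP).1,
    (hcm _ (hvP x hxP 1) _ hxP).2, (hcm _ (hvP x hxP 2) _ hxP).2, hsq, hprod, hgen⟩⟩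

end Derive

/-- Uniqueness. -/
theorem unique {H : Type*} [Group H] [Finite G] [Finite H] (hG : Nat.card G = 320)
    (hGD : Nat.card (commutator G) = 64) (hGZ : IsKleinFour (center (commutator G)))
    (hH : Nat.card H = 320) (hHD : Nat.card (commutator H) = 64)
    (hHZ : IsKleinFour (center (commutator H))) : Nonempty (G ≃* H) :=
  let ⟨a⟩ := exists_data hG hGD hGZ
  let ⟨b⟩ := exists_data hH hHD hHZ
  nonempty_mulEquiv a b hG hH

end CfsgLib.Involution.Order320
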