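import Cfsg.Agent.Lib.LocalEvenB.FourFixedModels
import Cfsg.Agent.Lib.Involution.PSL3Four

/-!
# The elementary abelian subgroups of order 16 of `PSL(3,4)` and their normalisers
-/

set_option autoImplicit false

namespace CfsgLib.Involution.PSL3FourE16

open Matrix CfsgLib.Involution
open scoped MatrixGroups

variable {F : Type*} [Field F] [Fintype F]

-- notation for the group and the projection
local notation "L3" => Matrix.ProjectiveSpecialLinearGroup (Fin 3) F
local notation "π" => QuotientGroup.mk' (Subgroup.center (Matrix.SpecialLinearGroup (Fin 3) F))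
local notation "uni" => @CfsgLib.LocalEvenB.FourFixed.uni F _

/-- A subgroup with a faithful transitive `SL(2,4)` inside its normaliser filling it up. -/
def Good (A : Subgroup L3) : Prop :=
  ∃ j : SL(2, F) →* L3, (∀ s, ∀ a ∈ A, j s * a * (j s)⁻¹ ∈ A) ∧
    (∀ a ∈ A, ∀ b ∈ A, a ≠ 1 → b ≠ 1 → ∃ s, j s * a * (j s)⁻¹ = b) ∧
    (∀ s, (∀ a ∈ A, j s * a = a * j s) → s = 1) ∧
    (∀ g, (∀ a ∈ A, g * a * g⁻¹ ∈ A) → ∃ a ∈ A, ∃ s, g = a * j s)

omit [Fintype F] in
theorem Good.map (ψ : L3 ≃* L3) {A : Subgroup L3} (h : Good A) : Good (A.map ψ.toMonoidHom) := by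
  obtain ⟨j, h1, h2, h3, h4⟩ := h
  refine ⟨ψ.toMonoidHom.comp j, ?_, ?_, ?_, ?_⟩
  · rintro s _ ⟨a, ha, rfl⟩
    exact ⟨_, h1 s a ha, by simp⟩
  · rintro _ ⟨a, ha, rfl⟩ _ ⟨b, hb, rfl⟩ na nb
    obtain ⟨s, hs⟩ := h2 a ha b hb (fun e => na (by simp [e])) (fun e => nb (by simp [e]))
    exact ⟨s, by simp [← hs]⟩
  · intro s hs
    refine h3 s fun a ha => ψ.injective ?_
    simpa using hs _ ⟨a, ha, rfl⟩
  · intro g hg
    obtain ⟨a, ha, s, hs⟩ := h4 (ψ.symm g) fun a ha => by
      obtain ⟨b, hb, e⟩ := hg _ ⟨a, ha, rfl⟩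
      rwa [show ψ.symm g * a * (ψ.symm g)⁻¹ = b from ψ.injective (by simpa using e.symm)]
    exact ⟨ψ a, ⟨a, ha, rfl⟩, s, by simpa using (ψ.symm_apply_eq.mp hs)⟩

omit [Fintype F] in
theorem uni_mul (a b c a' b' c' : F) : uni a b c * uni a' b' c' = uni (a + a') (b + b') (c + c' + a * b') :=
  CfsgLib.LocalEvenB.FourFixed.uni_mul a b c a' b' c'

omit [Fintype F] in
theorem pi_uni_inj {a b c a' b' c' : F} (h : π (uni a b c) = π (uni a' b' c')) :
    a = a' ∧ b = b' ∧ c = c' := by
  rw [QuotientGroup.mk'_eq_mk'] at h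
  obtain ⟨z, hz, e⟩ := h
  obtain ⟨r, -, hr⟩ := Matrix.SpecialLinearGroup.mem_center_iff.mp hz
  have key : ∀ i j, ((uni a b c : SL(3, F)) : Matrix (Fin 3) (Fin 3) F) i j * r =
      ((uni a' b' c' : SL(3, F)) : Matrix (Fin 3) (Fin 3) F) i j := fun i j => by
    rw [← e]
    show _ = ((uni a b c : SL(3, F)).1 * z.1) i j
    rw [← hr]
    simp [Matrix.scalar_apply]
  have r1 : r = 1 := by simpa [LocalEvenB.FourFixed.uni] using key 0 0
  subst r1
  exact ⟨by simpa [LocalEvenB.FourFixed.uni] using key 0 1,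
    by simpa [LocalEvenB.FourFixed.uni] using key 1 2,
    by simpa [LocalEvenB.FourFixed.uni] using key 0 2⟩

/-- The standard Sylow 2-subgroup. -/
def upper (hF : Fintype.card F = 4) : Subgroup L3 where
  carrier := {x | ∃ a b c, x = π (uni a b c)}
  one_mem' := ⟨0, 0, 0, by rw [LocalEvenB.FourFixed.uni_zero, map_one]⟩
  mul_mem' := by
    rintro _ _ ⟨a, b, c, rfl⟩ ⟨a', b', c', rfl⟩
    exact ⟨_, _, _, by rw [← map_mul, uni_mul]⟩
  inv_mem' := by
    rintro _ ⟨a, b, c, rfl⟩
    refine ⟨-a, -b, a * b - c, ?_⟩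
    refine inv_eq_of_mul_eq_one_right ?_
    rw [← map_mul, uni_mul, ← map_one π, ← LocalEvenB.FourFixed.uni_zero (F := F)]
    congr 2 <;> ring

/-- The translations with a common axis. -/
def stdA : Subgroup L3 where
  carrier := {x | ∃ b c, x = π (uni 0 b c)}
  one_mem' := ⟨0, 0, by rw [LocalEvenB.FourFixed.uni_zero, map_one]⟩
  mul_mem' := by
    rintro _ _ ⟨b, c, rfl⟩ ⟨b', c', rfl⟩
    exact ⟨b + b', c + c', by rw [← map_mul, uni_mul]; simp⟩
  inv_mem' := by
    rintro _ ⟨b, c, rfl⟩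
    refine ⟨-b, -c, inv_eq_of_mul_eq_one_right ?_⟩
    rw [← map_mul, uni_mul, ← map_one π, ← LocalEvenB.FourFixed.uni_zero (F := F)]
    congr 2 <;> ring

/-- The translations with a common centre. -/
def stdB : Subgroup L3 where
  carrier := {x | ∃ a c, x = π (uni a 0 c)}
  one_mem' := ⟨0, 0, by rw [LocalEvenB.FourFixed.uni_zero, map_one]⟩
  mul_mem' := by
    rintro _ _ ⟨b, c, rfl⟩ ⟨b', c', rfl⟩
    exact ⟨b + b', c + c', by rw [← map_mul, uni_mul]; simp⟩
  inv_mem' := by
    rintro _ ⟨b, c, rfl⟩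
    refine ⟨-b, -c, inv_eq_of_mul_eq_one_right ?_⟩
    rw [← map_mul, uni_mul, ← map_one π, ← LocalEvenB.FourFixed.uni_zero (F := F)]
    congr 2 <;> ring

/-- The block embedding. -/
def blk : SL(2, F) →* SL(3, F) where
  toFun M := ⟨!![M.1 0 0, M.1 0 1, 0; M.1 1 0, M.1 1 1, 0; 0, 0, 1], by
    have := M.2
    rw [Matrix.det_fin_two] at this
    simp [Matrix.det_fin_three, this]⟩
  map_one' := by
    apply Subtype.ext
    ext i j
    fin_cases i <;> fin_cases j <;> simp [Matrix.SpecialLinearGroup.coe_one]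
  map_mul' M N := Subtype.ext (by
    show _ = (_ : Matrix (Fin 3) (Fin 3) F) * _
    ext i j
    have e : ∀ i j, (M * N).1 i j = M.1 i 0 * N.1 0 j + M.1 i 1 * N.1 1 j := fun i j => by
      show (M.1 * N.1) i j = _
      simp [Matrix.mul_apply, Fin.sum_univ_two]
    fin_cases i <;> fin_cases j <;> simp [Matrix.mul_apply, Fin.sum_univ_three, e])

omit [Fintype F] in
theorem blk_coe (M : SL(2, F)) :
    (blk M : Matrix (Fin 3) (Fin 3) F) = !![M.1 0 0, M.1 0 1, 0; M.1 1 0, M.1 1 1, 0; 0, 0, 1] := rfl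

omit [Fintype F] in
theorem blk_conj (M : SL(2, F)) (b c : F) :
    blk M * uni 0 b c * (blk M)⁻¹ = uni 0 (M.1 1 0 * c + M.1 1 1 * b) (M.1 0 0 * c + M.1 0 1 * b) := by
  rw [mul_inv_eq_iff_eq_mul]
  refine Matrix.SpecialLinearGroup.ext _ _ fun i j => ?_
  rw [Matrix.SpecialLinearGroup.coe_mul, Matrix.SpecialLinearGroup.coe_mul]
  fin_cases i <;> fin_cases j <;>
    simp [blk_coe, LocalEvenB.FourFixed.uni, Matrix.mul_apply, Fin.sum_univ_three]

omit [Fintype F] in
theorem exists_column (h2 : (2 : F) = 0) {x y : F} (h : x ≠ 0 ∨ y ≠ 0) :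
    ∃ M : SL(2, F), M.1 0 0 = x ∧ M.1 1 0 = y := by
  by_cases hx : x = 0
  · have hy := h.resolve_left (not_not_intro hx)
    refine ⟨⟨!![0, y⁻¹; y, 0], ?_⟩, by simp [hx]⟩
    rw [Matrix.det_fin_two]
    simp [inv_mul_cancel₀ hy]
    linear_combination -(h2)
  · exact ⟨⟨!![x, 0; y, x⁻¹], by rw [Matrix.det_fin_two]; simp [mul_inv_cancel₀ hx]⟩, by simp⟩

variable (hF : Fintype.card F = 4)
include hF

theorem uni_conj_lift {x : SL(3, F)} {b c b' c' : F} (h : π x * π (uni 0 b c) * (π x)⁻¹ = π (uni 0 b' c')) :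
    x * uni 0 b c = uni 0 b' c' * x := by
  rw [← map_inv, ← map_mul, ← map_mul, QuotientGroup.mk'_eq_mk'] at h
  obtain ⟨z, hz, e⟩ := h
  have hzc := fun g => Subgroup.mem_center_iff.mp hz g
  have hsq : ∀ b c : F, uni 0 b c * uni 0 b c = 1 := fun b c => by
    rw [uni_mul, ← LocalEvenB.FourFixed.uni_zero (F := F)]
    have h2 := PSL3Four.two_eq_zero hF
    congr 1
    · linear_combination (0 : F) * h2
    · linear_combination b * h2
    · linear_combination c * h2
  have hz2 : z * z = 1 := by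
    have h1 : (x * uni 0 b c * x⁻¹) * z * ((x * uni 0 b c * x⁻¹) * z) = 1 := by rw [e, hsq]
    have hc : Commute z (x * uni 0 b c * x⁻¹) := (hzc _).symm
    have h3 : (x * uni 0 b c * x⁻¹) * (x * uni 0 b c * x⁻¹) = 1 := by
      rw [show x * uni 0 b c * x⁻¹ * (x * uni 0 b c * x⁻¹) = x * (uni 0 b c * uni 0 b c) * x⁻¹ by group,
        hsq, mul_one, mul_inv_cancel]
    rw [show (x * uni 0 b c * x⁻¹) * z * ((x * uni 0 b c * x⁻¹) * z) =
      (x * uni 0 b c * x⁻¹) * (z * (x * uni 0 b c * x⁻¹)) * z by group, hc.eq, ← mul_assoc _ (x * _ * _), h3,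
      one_mul] at h1
    exact h1
  have hz3 : z ^ 3 = 1 := by
    obtain ⟨r, hr0, hr⟩ := PSL3Four.exists_eq_smul hF hz
    refine Matrix.SpecialLinearGroup.ext _ _ fun i j => ?_
    rw [Matrix.SpecialLinearGroup.coe_pow, hr, smul_pow, one_pow, PSL3Four.cube hF hr0, one_smul, Matrix.SpecialLinearGroup.coe_one]
  have hz1 : z = 1 := by
    rw [pow_succ, pow_two, hz2, one_mul] at hz3
    exact hz3
  rw [hz1, mul_one] at e
  exact mul_inv_eq_iff_eq_mul.mp e

theorem good_stdA : Good (stdA (F := F)) := by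
  have h2 := PSL3Four.two_eq_zero hF
  refine ⟨(π).comp blk, ?_, ?_, ?_, ?_⟩
  · rintro s _ ⟨b, c, rfl⟩
    refine ⟨s.1 1 0 * c + s.1 1 1 * b, s.1 0 0 * c + s.1 0 1 * b, ?_⟩
    rw [MonoidHom.comp_apply, ← map_inv, ← map_mul, ← map_mul, blk_conj]
  · rintro _ ⟨b, c, rfl⟩ _ ⟨b', c', rfl⟩ h h'
    have nz : ∀ b c : F, π (uni 0 b c) ≠ 1 → c ≠ 0 ∨ b ≠ 0 := fun b c hne => by
      by_contra hh
      push Not at hh
      rw [hh.1, hh.2, LocalEvenB.FourFixed.uni_zero, map_one] at hne
      exact hne rfl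
    obtain ⟨M, hM0, hM1⟩ := exists_column h2 (nz b c h)
    obtain ⟨N, hN0, hN1⟩ := exists_column h2 (nz b' c' h')
    refine ⟨N * M⁻¹, ?_⟩
    have e1 : blk M * uni 0 0 1 * (blk M)⁻¹ = uni 0 b c := by simp [blk_conj, hM0, hM1]
    have e2 : blk N * uni 0 0 1 * (blk N)⁻¹ = uni 0 b' c' := by simp [blk_conj, hN0, hN1]
    rw [MonoidHom.comp_apply, ← map_inv, ← map_mul, ← map_mul, ← e1, ← e2]
    apply congrArg π
    rw [map_mul, map_inv]
    group
  · intro s hs
    have key : ∀ b c : F, (s.1 1 0 * c + s.1 1 1 * b = b) ∧ (s.1 0 0 * c + s.1 0 1 * b = c) := by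
      intro b c
      have h := hs _ ⟨b, c, rfl⟩
      rw [MonoidHom.comp_apply, ← mul_inv_eq_iff_eq_mul, ← map_inv, ← map_mul, ← map_mul, blk_conj] at h
      exact ⟨(pi_uni_inj h).2.1, (pi_uni_inj h).2.2⟩
    refine Matrix.SpecialLinearGroup.ext _ _ fun i j => ?_
    obtain ⟨a1, a2⟩ := key 0 1
    obtain ⟨a3, a4⟩ := key 1 0
    fin_cases i <;> fin_cases j <;> simp_all
  · intro g hg
    obtain ⟨x, rfl⟩ := QuotientGroup.mk'_surjective _ g
    obtain ⟨b', c', h⟩ := hg _ ⟨0, 1, rfl⟩
    have e := congrArg Subtype.val (uni_conj_lift hF h)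
    change x.1 * (uni 0 0 1 : SL(3, F)).1 = (uni 0 b' c' : SL(3, F)).1 * x.1 at e
    have hne : c' ≠ 0 ∨ b' ≠ 0 := by
      by_contra hh
      push Not at hh
      rw [hh.1, hh.2, LocalEvenB.FourFixed.uni_zero, map_one, mul_inv_eq_one] at h
      have := pi_uni_inj (mul_eq_left.mp h |>.trans (by rw [LocalEvenB.FourFixed.uni_zero, map_one]))
      exact one_ne_zero this.2.2
    have e00 : x.1 2 0 = 0 := by
      have a := congrFun (congrFun e 0) 0
      have b := congrFun (congrFun e 1) 0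
      simp [LocalEvenB.FourFixed.uni, Matrix.mul_apply, Fin.sum_univ_three] at a b
      rcases hne with hc | hb
      · exact a.resolve_left hc
      · exact b.resolve_left hb
    have e01 : x.1 2 1 = 0 := by
      have a := congrFun (congrFun e 0) 1
      have b := congrFun (congrFun e 1) 1
      simp [LocalEvenB.FourFixed.uni, Matrix.mul_apply, Fin.sum_univ_three] at a b
      rcases hne with hc | hb
      · exact a.resolve_left hc
      · exact b.resolve_left hb
    have hdet := x.2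
    rw [Matrix.det_fin_three, e00, e01] at hdet
    have h22 : x.1 2 2 ≠ 0 := by
      intro h0; rw [h0] at hdet; simp at hdet
    set l := (x.1 2 2)⁻¹ with hl
    have hl0 : l ≠ 0 := inv_ne_zero h22
    have hl3 := PSL3Four.cube hF hl0
    let z : SL(3, F) := PSL3Four.smulSL l hl3
    have hz : z ∈ Subgroup.center SL(3, F) := PSL3Four.mem_center_smul hF hl0
    let M : SL(2, F) := ⟨!![l * x.1 0 0, l * x.1 0 1; l * x.1 1 0, l * x.1 1 1], by
      rw [Matrix.det_fin_two]
      simp only [Matrix.of_apply, Matrix.cons_val', Matrix.cons_val_zero, Matrix.cons_val_one,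
        Matrix.cons_val_fin_one]
      have hd : x.1 2 2 * (x.1 0 0 * x.1 1 1 - x.1 0 1 * x.1 1 0) = 1 := by linear_combination hdet
      have hd' : x.1 0 0 * x.1 1 1 - x.1 0 1 * x.1 1 0 = l := by
        rw [hl]; exact (inv_eq_of_mul_eq_one_right hd).symm
      linear_combination (l * l) * hd' + hl3⟩
    refine ⟨π (uni 0 (l * x.1 1 2) (l * x.1 0 2)), ⟨_, _, rfl⟩, M, ?_⟩
    rw [MonoidHom.comp_apply, ← map_mul]
    have hzx : π (z * x) = π x := by
      rw [map_mul, show π z = 1 from (QuotientGroup.eq_one_iff z).mpr hz, one_mul]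
    rw [← hzx]
    congr 1
    have hb : ((blk M : SL(3, F)) : Matrix (Fin 3) (Fin 3) F) =
        !![l * x.1 0 0, l * x.1 0 1, 0; l * x.1 1 0, l * x.1 1 1, 0; 0, 0, 1] := rfl
    refine Matrix.SpecialLinearGroup.ext _ _ fun i j => ?_
    rw [Matrix.SpecialLinearGroup.coe_mul, Matrix.SpecialLinearGroup.coe_mul]
    fin_cases i <;> fin_cases j <;>
      simp [z, hb, PSL3Four.coe_smulSL, LocalEvenB.FourFixed.uni, Matrix.mul_apply,
        Fin.sum_univ_three, e00, e01, hl, h22]

/-- The antidiagonal matrix. -/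
def antiDiag : SL(3, F) :=
  ⟨!![0, 0, 1; 0, 1, 0; 1, 0, 0], by
    have h2 := PSL3Four.two_eq_zero hF
    simp [Matrix.det_fin_three]
    linear_combination -(h2)⟩

theorem antiDiag_sq : antiDiag hF * antiDiag hF = 1 := by
  refine Matrix.SpecialLinearGroup.ext _ _ fun i j => ?_
  rw [Matrix.SpecialLinearGroup.coe_mul]
  fin_cases i <;> fin_cases j <;> simp [antiDiag, Matrix.mul_apply, Fin.sum_univ_three]

/-- The graph automorphism. -/
def graph : SL(3, F) ≃* SL(3, F) :=
  let f : SL(3, F) →* SL(3, F) :=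
    { toFun := fun x => antiDiag hF * (x⁻¹).transpose * (antiDiag hF)⁻¹
      map_one' := by
        rw [inv_one, show Matrix.SpecialLinearGroup.transpose (1 : SL(3, F)) = 1 from
          Subtype.ext Matrix.transpose_one, mul_one, mul_inv_cancel]
      map_mul' := fun x y => by
        rw [show ((x * y)⁻¹).transpose = (x⁻¹).transpose * (y⁻¹).transpose from
          Subtype.ext (by simp [_root_.mul_inv_rev, Matrix.SpecialLinearGroup.coe_mul, Matrix.transpose_mul])]
        group }
  MonoidHom.toMulEquiv f f (by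
      ext1 x
      have h1 : (antiDiag hF).transpose = antiDiag hF := Matrix.SpecialLinearGroup.ext _ _ fun i j => by
        fin_cases i <;> fin_cases j <;> simp [antiDiag, Matrix.SpecialLinearGroup.transpose]
      have hJ := inv_eq_of_mul_eq_one_right (antiDiag_sq hF)
      have ht : ∀ a b : SL(3, F), (a * b).transpose = b.transpose * a.transpose := fun a b =>
        Subtype.ext (Matrix.transpose_mul _ _)
      have hi : ∀ a : SL(3, F), (a⁻¹).transpose = (a.transpose)⁻¹ := fun a =>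
        eq_inv_of_mul_eq_one_left (by rw [← ht, mul_inv_cancel]; exact Subtype.ext Matrix.transpose_one)
      simp only [f, MonoidHom.comp_apply, MonoidHom.coe_mk, OneHom.coe_mk, MonoidHom.id_apply, hJ]
      rw [hi x, _root_.mul_inv_rev, _root_.mul_inv_rev, inv_inv, ht, ht, hJ, h1,
        show x.transpose.transpose = x from Subtype.ext (Matrix.transpose_transpose _)]
      simp only [← mul_assoc, antiDiag_sq hF, one_mul]
      rw [mul_assoc, antiDiag_sq hF, mul_one])
    (by
      ext1 x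
      have h1 : (antiDiag hF).transpose = antiDiag hF := Matrix.SpecialLinearGroup.ext _ _ fun i j => by
        fin_cases i <;> fin_cases j <;> simp [antiDiag, Matrix.SpecialLinearGroup.transpose]
      have hJ := inv_eq_of_mul_eq_one_right (antiDiag_sq hF)
      have ht : ∀ a b : SL(3, F), (a * b).transpose = b.transpose * a.transpose := fun a b =>
        Subtype.ext (Matrix.transpose_mul _ _)
      have hi : ∀ a : SL(3, F), (a⁻¹).transpose = (a.transpose)⁻¹ := fun a =>
        eq_inv_of_mul_eq_one_left (by rw [← ht, mul_inv_cancel]; exact Subtype.ext Matrix.transpose_one)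
      simp only [f, MonoidHom.comp_apply, MonoidHom.coe_mk, OneHom.coe_mk, MonoidHom.id_apply, hJ]
      rw [hi x, _root_.mul_inv_rev, _root_.mul_inv_rev, inv_inv, ht, ht, hJ, h1,
        show x.transpose.transpose = x from Subtype.ext (Matrix.transpose_transpose _)]
      simp only [← mul_assoc, antiDiag_sq hF, one_mul]
      rw [mul_assoc, antiDiag_sq hF, mul_one])

theorem graph_uni (a b c : F) : graph hF (uni a b c) = uni (-b) (-a) (a * b - c) := by
  have hinv : (uni a b c)⁻¹ = uni (-a) (-b) (a * b - c) := inv_eq_of_mul_eq_one_right (by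
    rw [uni_mul, ← LocalEvenB.FourFixed.uni_zero (F := F)]; congr 1 <;> ring)
  show antiDiag hF * ((uni a b c)⁻¹).transpose * (antiDiag hF)⁻¹ = _
  rw [hinv, inv_eq_of_mul_eq_one_right (antiDiag_sq hF)]
  refine Matrix.SpecialLinearGroup.ext _ _ fun i j => ?_
  rw [Matrix.SpecialLinearGroup.coe_mul, Matrix.SpecialLinearGroup.coe_mul]
  fin_cases i <;> fin_cases j <;>
    simp [antiDiag, Matrix.SpecialLinearGroup.transpose, LocalEvenB.FourFixed.uni, Matrix.mul_apply,
      Matrix.vecMul, dotProduct, Fin.sum_univ_three]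

theorem good_stdB : Good (stdB (F := F)) := by
  have hc : (Subgroup.center SL(3, F)).map (graph hF).toMonoidHom = Subgroup.center SL(3, F) := by
    ext z
    constructor
    · rintro ⟨w, hw, rfl⟩
      rw [Subgroup.mem_center_iff]
      intro g
      obtain ⟨g, rfl⟩ := (graph hF).surjective g
      simpa using congrArg (graph hF) (Subgroup.mem_center_iff.mp hw g)
    · intro hz
      refine ⟨(graph hF).symm z, Subgroup.mem_center_iff.mpr fun g => (graph hF).injective ?_,
        (graph hF).apply_symm_apply z⟩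
      simpa using Subgroup.mem_center_iff.mp hz (graph hF g)
  let ψ : L3 ≃* L3 := QuotientGroup.congr _ _ (graph hF) hc
  have e : (stdA (F := F)).map ψ.toMonoidHom = stdB (F := F) := by
    ext x
    constructor
    · rintro ⟨_, ⟨b, c, rfl⟩, rfl⟩
      refine ⟨-b, -c, ?_⟩
      show π (graph hF (uni 0 b c)) = _
      rw [graph_uni]; simp
    · rintro ⟨a, c, rfl⟩
      refine ⟨_, ⟨-a, -c, rfl⟩, ?_⟩
      show π (graph hF (uni 0 (-a) (-c))) = _
      rw [graph_uni]; simp
  exact e ▸ (good_stdA hF).map ψ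

theorem card_upper : Nat.card (upper hF : Subgroup L3) = 64 := by
  rw [← Nat.card_congr (Equiv.ofBijective
    (fun t : F × F × F => (⟨π (uni t.1 t.2.1 t.2.2), _, _, _, rfl⟩ : (upper hF : Subgroup L3)))
    ⟨fun s t h => by
      obtain ⟨e1, e2, e3⟩ := pi_uni_inj (congrArg Subtype.val h)
      exact Prod.ext e1 (Prod.ext e2 e3),
    fun ⟨x, a, b, c, hx⟩ => ⟨(a, b, c), Subtype.ext hx.symm⟩⟩)]
  simp [Nat.card_prod, Nat.card_eq_fintype_card, hF]

theorem card_std : Nat.card (stdA (F := F)) = 16 ∧ Nat.card (stdB (F := F)) = 16 := by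
  constructor
  · rw [← Nat.card_congr (Equiv.ofBijective
      (fun t : F × F => (⟨π (uni 0 t.1 t.2), _, _, rfl⟩ : (stdA (F := F))))
      ⟨fun s t h => by
        obtain ⟨-, e2, e3⟩ := pi_uni_inj (congrArg Subtype.val h)
        exact Prod.ext e2 e3,
      fun ⟨x, b, c, hx⟩ => ⟨(b, c), Subtype.ext hx.symm⟩⟩)]
    simp [Nat.card_prod, Nat.card_eq_fintype_card, hF]
  · rw [← Nat.card_congr (Equiv.ofBijective
      (fun t : F × F => (⟨π (uni t.1 0 t.2), _, _, rfl⟩ : (stdB (F := F))))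
      ⟨fun s t h => by
        obtain ⟨e1, -, e3⟩ := pi_uni_inj (congrArg Subtype.val h)
        exact Prod.ext e1 e3,
      fun ⟨x, b, c, hx⟩ => ⟨(b, c), Subtype.ext hx.symm⟩⟩)]
    simp [Nat.card_prod, Nat.card_eq_fintype_card, hF]

theorem card_psl : Nat.card L3 = 2 ^ 6 * 315 := by
  have h := CfsgLib.Classical.card_psl_mul (F := F) rfl 3 (by norm_num)
  have hsl := CfsgLib.Classical.card_sl_mul (F := F) rfl 3 (by norm_num)
  rw [hF, show Nat.gcd 3 (4 - 1) = 3 from rfl] at h
  simp only [hF, Fin.prod_univ_three, Fin.val_zero, Fin.val_one, Fin.val_two] at hsl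
  norm_num1 at hsl ⊢
  omega

/-- Every elementary abelian subgroup of order 16 is conjugate to a standard one. -/
theorem good_of_card {A : Subgroup L3} (hab : ∀ a ∈ A, ∀ b ∈ A, a * b = b * a) (hexp : ∀ a ∈ A, a ^ 2 = 1)
    (hA : Nat.card A = 16) : Good A := by
  classical
  have : Fact (Nat.Prime 2) := ⟨Nat.prime_two⟩
  let P : Sylow 2 L3 := Sylow.ofCard (upper hF) (by
    rw [card_upper hF, card_psl hF, Nat.factorization_mul (by norm_num) (by norm_num), Finsupp.add_apply,
      Nat.prime_two.factorization_pow, Nat.factorization_eq_zero_of_not_dvd (show ¬ 2 ∣ 315 by norm_num),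
      Finsupp.single_eq_same]
    norm_num)
  obtain ⟨Q, hQ⟩ := (IsPGroup.of_card (show Nat.card A = 2 ^ 4 by rw [hA]; norm_num)).exists_le_sylow
  obtain ⟨g, hg⟩ := MulAction.exists_smul_eq L3 P Q
  let ψ : L3 ≃* L3 := MulAut.conj g
  let A' : Subgroup L3 := A.map ψ.symm.toMonoidHom
  have hle : ∀ x ∈ A', ∃ a b c, x = π (uni a b c) := by
    rintro _ ⟨a, ha, rfl⟩
    have := hQ ha
    rw [← hg, Sylow.coe_subgroup_smul, Subgroup.mem_pointwise_smul_iff_inv_smul_mem] at this
    exact this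
  have hA' : Nat.card A' = 16 := by
    rw [← hA]; exact (Nat.card_congr (A.equivMapOfInjective _ ψ.symm.injective).toEquiv).symm
  have key : ∀ a b c a' b' c', π (uni a b c) ∈ A' → π (uni a' b' c') ∈ A' → a * b = 0 ∧ a * b' = a' * b := by
    intro a b c a' b' c' h h'
    obtain ⟨u, hu, eu⟩ := h
    obtain ⟨v, hv, ev⟩ := h'
    have e1 : π (uni a b c) * π (uni a' b' c') = π (uni a' b' c') * π (uni a b c) := by
      rw [← eu, ← ev, ← map_mul, ← map_mul, hab u hu v hv]
    have e2 : π (uni a b c) * π (uni a b c) = π (uni 0 0 0) := by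
      rw [← eu, ← map_mul, ← pow_two, hexp u hu, map_one, LocalEvenB.FourFixed.uni_zero, map_one]
    rw [← map_mul, ← map_mul, uni_mul, uni_mul] at e1
    rw [← map_mul, uni_mul] at e2
    have h2 := PSL3Four.two_eq_zero hF
    exact ⟨by linear_combination (pi_uni_inj e2).2.2 - c * h2, by linear_combination (pi_uni_inj e1).2.2⟩
  have hcases : A' = stdA (F := F) ∨ A' = stdB (F := F) := by
    by_cases hall : ∀ x ∈ A', x ∈ stdA (F := F)
    · exact Or.inl (Subgroup.eq_of_le_of_card_ge hall (by rw [(card_std hF).1, hA']))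
    · push Not at hall
      obtain ⟨x, hx, hnx⟩ := hall
      obtain ⟨a, b, c, rfl⟩ := hle x hx
      have ha : a ≠ 0 := fun e => hnx ⟨b, c, by rw [e]⟩
      have hb : b = 0 := (mul_eq_zero.mp (key _ _ _ _ _ _ hx hx).1).resolve_left ha
      refine Or.inr (Subgroup.eq_of_le_of_card_ge (fun y hy => ?_) (by rw [(card_std hF).2, hA']))
      obtain ⟨a', b', c', rfl⟩ := hle y hy
      have h := (key _ _ _ _ _ _ hx hy).2
      rw [hb, mul_zero] at h
      exact ⟨a', c', by rw [(mul_eq_zero.mp h).resolve_left ha]⟩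
  have hgood : Good A' := by
    rcases hcases with h | h
    · rw [h]; exact good_stdA hF
    · rw [h]; exact good_stdB hF
  have := hgood.map ψ
  rwa [Subgroup.map_map, show ψ.toMonoidHom.comp ψ.symm.toMonoidHom = MonoidHom.id _ from
    MonoidHom.ext ψ.apply_symm_apply, Subgroup.map_id] at this

omit hF in
/-- An element conjugating a finite subgroup into itself normalises it. -/
theorem mem_normalizer_of_conj {G : Type*} [Group G] [Finite G] {H : Subgroup G} {n : G}
    (h : ∀ x ∈ H, n * x * n⁻¹ ∈ H) : n ∈ Subgroup.normalizer (H : Set G) := by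
  have heq : H.map (MulAut.conj n).toMonoidHom = H :=
    Subgroup.eq_of_le_of_card_ge (by rintro _ ⟨x, hx, rfl⟩; exact h x hx)
      (Nat.card_congr (H.equivMapOfInjective _ (MulEquiv.injective _)).toEquiv).le
  rw [Subgroup.mem_normalizer_iff]
  refine fun y => ⟨h y, fun hy => ?_⟩
  rw [← heq] at hy
  obtain ⟨z, hz, e⟩ := hy
  have : z = y := by simpa using e
  exact this ▸ hz

/-- `SL(2,4)` has no element of order 4. -/
theorem orderOf_ne_four_two (y : SL(2, F)) : orderOf y ≠ 4 := by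
  intro h
  have h2 := PSL3Four.two_eq_zero hF
  have h4 : (y.1 * y.1) * (y.1 * y.1) = 1 := by
    have := congrArg Subtype.val (pow_orderOf_eq_one y)
    rw [h] at this
    simpa [pow_succ, mul_assoc] using this
  have hd := y.2
  rw [Matrix.det_fin_two] at hd
  have e00 := congrFun (congrFun h4 0) 0
  simp [Matrix.mul_apply, Fin.sum_univ_two] at e00
  have ht : y.1 0 0 + y.1 1 1 = 0 := by
    have : (y.1 0 0 + y.1 1 1) ^ 4 = 0 := by
      have e11 := congrFun (congrFun h4 1) 1
      simp [Matrix.mul_apply, Fin.sum_univ_two] at e11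
      linear_combination e00 + e11 + (4 * (y.1 0 0 + y.1 1 1) ^ 2 - 2 * (y.1 0 0 * y.1 1 1 - y.1 0 1 * y.1 1 0 + 1)) * hd +
        (2 * (y.1 0 0 + y.1 1 1) ^ 2) * h2
    exact pow_eq_zero_iff (n := 4) (by norm_num) |>.mp this
  have hsq : y * y = 1 := by
    refine Matrix.SpecialLinearGroup.ext _ _ fun i j => ?_
    show (y.1 * y.1) i j = (1 : Matrix (Fin 2) (Fin 2) F) i j
    fin_cases i <;> fin_cases j <;> simp [Matrix.mul_apply, Fin.sum_univ_two]
    · linear_combination y.1 0 0 * ht - hd - h2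
    · linear_combination y.1 0 1 * ht
    · linear_combination y.1 1 0 * ht
    · linear_combination y.1 1 1 * ht - hd - h2
  have := orderOf_dvd_of_pow_eq_one (x := y) (n := 2) (by rw [pow_two]; exact hsq)
  rw [h] at this
  norm_num at this

end CfsgLib.Involution.PSL3FourE16
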