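import Cfsg.Prelude.Def_HallClasses
import Mathlib
import Cfsg.Agent.Lib.Coprime.SchurZassenhaus
import Cfsg.Agent.S3820

/-!
# Overgroups of Sylow subgroups: pronormality in an extension
-/

set_option autoImplicit false

open Pointwise

namespace CfsgLib.Involution.Pronormal

open CfsgLib.Coprime

/-- Every subgroup containing a Sylow `p`-subgroup is pronormal. -/
abbrev OverSylow (G : Type*) [Group G] (p : ℕ) : Prop :=
  ∀ K : Subgroup G, (∃ P : Sylow p G, (P : Subgroup G) ≤ K) → Cfsg.IsPronormal K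

variable {G : Type*} [Group G]

/-- `K` is conjugate to `K ^ g` inside the subgroup they generate. -/
abbrev ConjIn (K : Subgroup G) (g : G) : Prop :=
  ∃ w ∈ K ⊔ K.map (MulAut.conj g).toMonoidHom,
    K.map (MulAut.conj g).toMonoidHom = K.map (MulAut.conj w).toMonoidHom

theorem conj_map_one (K : Subgroup G) : K.map (MulAut.conj (1 : G)).toMonoidHom = K :=
  conj_map_eq_self_of_mem_normalizer (one_mem _)

theorem conjIn_of_mem_normalizer {K : Subgroup G} {g : G} (h : g ∈ Subgroup.normalizer (K : Set G)) :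
    ConjIn K g :=
  ⟨1, one_mem _, by rw [conj_map_eq_self_of_mem_normalizer h, conj_map_one]⟩

/-- Reduction: `x` in the join moves `K ^ g` to `K ^ (x⁻¹ g)`. -/
theorem conjIn_of_step {K : Subgroup G} {g x : G} (hx : x ∈ K ⊔ K.map (MulAut.conj g).toMonoidHom)
    (h : ConjIn K (x⁻¹ * g)) : ConjIn K g := by
  obtain ⟨w, hw, he⟩ := h
  have hle : K.map (MulAut.conj (x⁻¹ * g)).toMonoidHom ≤ K ⊔ K.map (MulAut.conj g).toMonoidHom := by
    rw [← conj_map_map]
    exact conj_map_le_iff.2 fun z hz =>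
      mul_mem (mul_mem (inv_mem hx) (Subgroup.mem_sup_right hz)) (inv_mem (inv_mem hx))
  refine ⟨x * w, mul_mem hx (sup_le le_sup_left hle hw), ?_⟩
  rw [← conj_map_map, ← he, conj_map_map, mul_inv_cancel_left]

theorem isPronormal_map {H : Type*} [Group H] {f : G →* H} (hf : Function.Surjective f) {K : Subgroup G}
    (h : Cfsg.IsPronormal K) : Cfsg.IsPronormal (K.map f) := by
  have hc : ∀ g : G, (K.map f).map (MulAut.conj (f g)).toMonoidHom = (K.map (MulAut.conj g).toMonoidHom).map f := by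
    intro g
    rw [Subgroup.map_map, Subgroup.map_map]
    congr 1
    ext z
    simp
  intro g'
  obtain ⟨g, rfl⟩ := hf g'
  obtain ⟨x, hx, he⟩ := h g
  exact ⟨f x, by rw [hc, ← Subgroup.map_sup]; exact ⟨x, hx, rfl⟩, by rw [hc, hc, he]⟩

theorem isPronormal_subgroupOf {K N : Subgroup G} (hKN : K ≤ N) (h : Cfsg.IsPronormal K) :
    Cfsg.IsPronormal (K.subgroupOf N) := by
  have hmap : ∀ a : N, ((K.subgroupOf N).map (MulAut.conj a).toMonoidHom).map N.subtype
      = K.map (MulAut.conj (a : G)).toMonoidHom := fun a => by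
    ext z
    constructor
    · rintro ⟨_, ⟨y, hy, rfl⟩, rfl⟩
      exact ⟨y, hy, rfl⟩
    · rintro ⟨y, hy, rfl⟩
      exact ⟨MulAut.conj a ⟨y, hKN hy⟩, ⟨_, hy, rfl⟩, rfl⟩
  intro a
  obtain ⟨x, hx, he⟩ := h (a : G)
  have hsup : (K.subgroupOf N ⊔ (K.subgroupOf N).map (MulAut.conj a).toMonoidHom).map N.subtype
      = K ⊔ K.map (MulAut.conj (a : G)).toMonoidHom := by
    rw [Subgroup.map_sup, hmap, Subgroup.map_subgroupOf_eq_of_le hKN]
  rw [← hsup] at hx
  obtain ⟨x', hx', rfl⟩ := hx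
  exact ⟨x', hx', Subgroup.map_injective N.subtype_injective (by rw [hmap, hmap, he]; rfl)⟩

theorem isPronormal_conj {K : Subgroup G} (h : Cfsg.IsPronormal K) (g : G) :
    Cfsg.IsPronormal (K.map (MulAut.conj g).toMonoidHom) :=
  isPronormal_map (MulAut.conj g).surjective h

theorem sylow_isPronormal [Finite G] {p : ℕ} [Fact p.Prime] (P : Sylow p G) :
    Cfsg.IsPronormal (P : Subgroup G) := by
  intro g
  set J := (P : Subgroup G) ⊔ (P : Subgroup G).map (MulAut.conj g).toMonoidHom with hJ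
  have hP : (P : Subgroup G) ≤ J := le_sup_left
  have hg : ((g • P : Sylow p G) : Subgroup G) = (P : Subgroup G).map (MulAut.conj g).toMonoidHom := rfl
  have hQ : ((g • P : Sylow p G) : Subgroup G) ≤ J := hg ▸ le_sup_right
  obtain ⟨y, hy⟩ := MulAction.exists_smul_eq J (P.subtype hP) ((g • P).subtype hQ)
  refine ⟨y, y.2, ?_⟩
  rw [Sylow.smul_subtype hP] at hy
  have := congrArg (fun R : Sylow p G => (R : Subgroup G)) (Sylow.subtype_injective hy)
  rw [← hg, ← this]
  rfl

variable [Finite G] {p : ℕ} [hp : Fact p.Prime] {A : Subgroup G} [A.Normal] {T : Subgroup G}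

/-- A Sylow subgroup over `T` meets `A` in `T`. -/
theorem sylow_inf_eq (hT : ∃ P : Sylow p ↥A, (P : Subgroup ↥A).map A.subtype = T) (S : Sylow p G)
    (hTS : T ≤ (S : Subgroup G)) : (S : Subgroup G) ⊓ A = T := by
  obtain ⟨P, rfl⟩ := hT
  have hp1 : IsPGroup p (((S : Subgroup G) ⊓ A).subgroupOf A) :=
    (S.isPGroup'.to_le inf_le_left).of_equiv (Subgroup.subgroupOfEquivOfLe inf_le_right).symm
  have hle : (P : Subgroup A) ≤ ((S : Subgroup G) ⊓ A).subgroupOf A := fun x hx =>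
    ⟨hTS ⟨x, hx, rfl⟩, x.2⟩
  have := congrArg (Subgroup.map A.subtype) (P.is_maximal' hp1 hle)
  rwa [Subgroup.map_subgroupOf_eq_of_le inf_le_right] at this

/-- The image of an overgroup in `N_G(T) / T` is a Sylow overgroup. -/
theorem pronormal_inter (hT : ∃ P : Sylow p ↥A, (P : Subgroup ↥A).map A.subtype = T)
    [(T.subgroupOf (Subgroup.normalizer (T : Set G))).Normal]
    (hN : OverSylow (↥(Subgroup.normalizer (T : Set G)) ⧸ T.subgroupOf (Subgroup.normalizer (T : Set G))) p)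
    (S : Sylow p G) (hTS : T ≤ (S : Subgroup G)) (K : Subgroup G) (hSK : (S : Subgroup G) ≤ K) {n : G}
    (hn : n ∈ Subgroup.normalizer (T : Set G)) : ConjIn (K ⊓ Subgroup.normalizer (T : Set G)) n := by
  set N := Subgroup.normalizer (T : Set G) with hNdef
  have hSN : (S : Subgroup G) ≤ N := by
    intro s hs
    rw [hNdef, ← sylow_inf_eq hT S hTS]
    exact mem_normalizer_of_conj_map_le fun y hy =>
      ⟨Subgroup.mul_mem _ (Subgroup.mul_mem _ hs hy.1) (Subgroup.inv_mem _ hs), Subgroup.Normal.conj_mem inferInstance y hy.2 s⟩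
  set KN := (K ⊓ N).subgroupOf N with hKN
  set f := QuotientGroup.mk' (T.subgroupOf N)
  have hfs : Function.Surjective f := QuotientGroup.mk'_surjective _
  have hTK : T.subgroupOf N ≤ KN := fun x hx => ⟨hSK (hTS hx), x.2⟩
  have hpr : Cfsg.IsPronormal (KN.map f) := by
    refine hN _ ⟨(S.subtype hSN).mapSurjective hfs, Subgroup.map_mono ?_⟩
    intro x hx
    exact ⟨hSK hx, x.2⟩
  obtain ⟨w', hw', he⟩ := hpr (f ⟨n, hn⟩)
  have hc : ∀ g : N, (KN.map f).map (MulAut.conj (f g)).toMonoidHom = (KN.map (MulAut.conj g).toMonoidHom).map f := by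
    intro g
    rw [Subgroup.map_map, Subgroup.map_map]
    congr 1
  rw [hc, ← Subgroup.map_sup] at hw'
  obtain ⟨w, hw, rfl⟩ := hw'
  rw [hc, hc] at he
  have hback : ∀ g : N, ((KN.map (MulAut.conj g).toMonoidHom).map f).comap f
      = KN.map (MulAut.conj g).toMonoidHom := fun g => by
    refine Subgroup.comap_map_eq_self ?_
    rw [QuotientGroup.ker_mk']
    intro x hx
    refine ⟨g⁻¹ * x * g, hTK ?_, by simp [mul_assoc]⟩
    have := Subgroup.Normal.conj_mem inferInstance x hx g⁻¹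
    rwa [inv_inv] at this
  have he' : KN.map (MulAut.conj ⟨n, hn⟩).toMonoidHom = KN.map (MulAut.conj w).toMonoidHom := by
    rw [← hback, he, hback]
  have hmap : ∀ a : N, (KN.map (MulAut.conj a).toMonoidHom).map N.subtype
      = (K ⊓ N).map (MulAut.conj (a : G)).toMonoidHom := fun a => by
    ext z
    constructor
    · rintro ⟨_, ⟨y, hy, rfl⟩, rfl⟩
      exact ⟨y, hy, rfl⟩
    · rintro ⟨y, hy, rfl⟩
      exact ⟨MulAut.conj a ⟨y, hy.2⟩, ⟨_, hy, rfl⟩, rfl⟩
  refine ⟨w, ?_, ?_⟩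
  · have : (w : G) ∈ (KN ⊔ KN.map (MulAut.conj ⟨n, hn⟩).toMonoidHom).map N.subtype := ⟨w, hw, rfl⟩
    rwa [Subgroup.map_sup, hmap, Subgroup.map_subgroupOf_eq_of_le inf_le_right] at this
  · rw [show n = ((⟨n, hn⟩ : N) : G) from rfl, ← hmap, he', hmap]

theorem pronormal_of (hA : OverSylow ↥A p) (hQ : OverSylow (G ⧸ A) p)
    (hT : ∃ P : Sylow p ↥A, (P : Subgroup ↥A).map A.subtype = T)
    [(T.subgroupOf (Subgroup.normalizer (T : Set G))).Normal]
    (hN : OverSylow (↥(Subgroup.normalizer (T : Set G)) ⧸ T.subgroupOf (Subgroup.normalizer (T : Set G))) p)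
    (S : Sylow p G) (hTS : T ≤ (S : Subgroup G)) (K : Subgroup G) (hSK : (S : Subgroup G) ≤ K)
    (hii : (Subgroup.normalizer (K : Set G)).map (QuotientGroup.mk' A)
      = Subgroup.normalizer ((K.map (QuotientGroup.mk' A) : Subgroup (G ⧸ A)) : Set (G ⧸ A))) :
    Cfsg.IsPronormal K := by
  set f := QuotientGroup.mk' A
  have hfs : Function.Surjective f := QuotientGroup.mk'_surjective _
  have hc : ∀ g : G, (K.map f).map (MulAut.conj (f g)).toMonoidHom = (K.map (MulAut.conj g).toMonoidHom).map f := by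
    intro g
    rw [Subgroup.map_map, Subgroup.map_map]
    congr 1
  have hTA : T ≤ A := by
    obtain ⟨P, rfl⟩ := hT
    exact Subgroup.map_subtype_le _
  -- Frattini: the elements of `N_A(T)` suffice
  have key : ∀ n ∈ A, n ∈ Subgroup.normalizer (T : Set G) → n ∈ Subgroup.normalizer ((K ⊓ A : Subgroup G) : Set G) →
      ConjIn K n := by
    intro n _ hnT hnL
    obtain ⟨w, hw, he⟩ := pronormal_inter hT hN S hTS K hSK hnT
    set L := K ⊓ A with hL
    set KT := K ⊓ Subgroup.normalizer (T : Set G) with hKT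
    have hKL : K ≤ Subgroup.normalizer (L : Set G) := fun k hk => mem_normalizer_of_conj_map_le fun y hy =>
      ⟨Subgroup.mul_mem _ (Subgroup.mul_mem _ hk hy.1) (Subgroup.inv_mem _ hk), Subgroup.Normal.conj_mem inferInstance y hy.2 k⟩
    have hTL : T ≤ L := le_inf (hTS.trans hSK) hTA
    have hK : K = L ⊔ KT := by
      refine le_antisymm (fun k hk => ?_) (sup_le inf_le_left inf_le_left)
      obtain ⟨P, hP⟩ := hT
      have hPL : (P : Subgroup A) ≤ K.subgroupOf A := fun x hx => hSK (hTS (hP ▸ ⟨x, hx, rfl⟩))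
      let P1 : Sylow p (K.subgroupOf A) := P.subtype hPL
      let φ : (K.subgroupOf A) ≃* L :=
        { toFun := fun x => ⟨(x.1 : G), x.2, x.1.2⟩
          invFun := fun x => ⟨⟨x.1, x.2.2⟩, x.2.1⟩
          left_inv := fun x => rfl
          right_inv := fun x => rfl
          map_mul' := fun x y => rfl }
      let P2 : Sylow p L := P1.mapSurjective (f := φ.toMonoidHom) φ.surjective
      have hP2 : (P2 : Subgroup L).map L.subtype = T := by
        rw [← hP]
        ext z
        constructor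
        · rintro ⟨_, ⟨y, hy, rfl⟩, rfl⟩
          exact ⟨y.1, hy, rfl⟩
        · rintro ⟨y, hy, rfl⟩
          exact ⟨φ ⟨y, hPL hy⟩, ⟨⟨y, hPL hy⟩, hy, rfl⟩, rfl⟩
      haveI : (L.subgroupOf K).Normal := (Subgroup.normal_subgroupOf_iff_le_normalizer inf_le_left).2 hKL
      -- the Frattini argument inside `K`
      let ψ : L →* L.subgroupOf K := (Subgroup.subgroupOfEquivOfLe (inf_le_left : L ≤ K)).symm.toMonoidHom
      let P3 : Sylow p (L.subgroupOf K) := P2.mapSurjective (f := ψ) (MulEquiv.surjective _)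
      have htop := P3.normalizer_sup_eq_top
      obtain ⟨a, ha, b, hb, hab⟩ := Subgroup.mem_sup_of_normal_right.1 (htop ▸ Subgroup.mem_top (⟨k, hk⟩ : K))
      have hT3 : ((P3 : Subgroup (L.subgroupOf K)).map (L.subgroupOf K).subtype).map K.subtype = T := by
        rw [← hP2]
        ext z
        constructor
        · rintro ⟨_, ⟨_, ⟨y, hy, rfl⟩, rfl⟩, rfl⟩
          exact ⟨y, hy, rfl⟩
        · rintro ⟨y, hy, rfl⟩
          exact ⟨_, ⟨ψ y, ⟨y, hy, rfl⟩, rfl⟩, rfl⟩
      have haT : (a : G) ∈ Subgroup.normalizer (T : Set G) := by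
        rw [← hT3]
        refine mem_normalizer_of_conj_map_le fun y hy => ?_
        obtain ⟨z, hz, rfl⟩ := hy
        exact ⟨a * z * a⁻¹, (Subgroup.mem_normalizer_iff.1 ha z).1 hz, rfl⟩
      have hkk : (a : G) * (b : G) = k := congrArg Subtype.val hab
      rw [← hkk]
      exact mul_mem (Subgroup.mem_sup_right ⟨a.2, haT⟩) (Subgroup.mem_sup_left hb)
    have hgen : ∀ g : G, g ∈ Subgroup.normalizer (L : Set G) →
        K.map (MulAut.conj g).toMonoidHom = L ⊔ KT.map (MulAut.conj g).toMonoidHom := fun g hg => by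
      conv_lhs => rw [hK]
      rw [Subgroup.map_sup, conj_map_eq_self_of_mem_normalizer hg]
    have hwL : w ∈ Subgroup.normalizer (L : Set G) := by
      refine sup_le (le_trans inf_le_left hKL) (conj_map_le_iff.2 fun y hy => ?_) hw
      exact mul_mem (mul_mem hnL (hKL hy.1)) (inv_mem hnL)
    refine ⟨w, sup_le_sup inf_le_left (Subgroup.map_mono inf_le_left) hw, ?_⟩
    rw [hgen n hnL, he, hgen w hwL]
  have hAcase : ∀ a ∈ A, ConjIn K a := by
    intro a ha
    set L := K ⊓ A with hL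
    obtain ⟨P, hP⟩ := id hT
    have hPL : (P : Subgroup A) ≤ L.subgroupOf A := fun x hx => ⟨hSK (hTS (hP ▸ ⟨x, hx, rfl⟩)), x.2⟩
    obtain ⟨x, hx, hxe⟩ := hA _ ⟨P, hPL⟩ ⟨a, ha⟩
    have hxJ : (x : G) ∈ K ⊔ K.map (MulAut.conj a).toMonoidHom := by
      refine sup_le (a := L.subgroupOf A) (c := (K ⊔ K.map (MulAut.conj a).toMonoidHom).subgroupOf A) ?_ ?_ hx
      · exact fun y hy => Subgroup.mem_sup_left hy.1
      · rintro _ ⟨y, hy, rfl⟩
        exact Subgroup.mem_sup_right ⟨y, hy.1, rfl⟩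
    refine conjIn_of_step hxJ ?_
    have hnA : (x : G)⁻¹ * a ∈ A := mul_mem (inv_mem x.2) ha
    have hnL : (⟨(x : G)⁻¹ * a, hnA⟩ : A) ∈ Subgroup.normalizer (L.subgroupOf A : Set A) := by
      refine mem_normalizer_of_conj_map_le (conj_map_le_iff.1 (le_of_eq ?_))
      rw [show (⟨(x : G)⁻¹ * a, hnA⟩ : A) = x⁻¹ * ⟨a, ha⟩ from rfl, ← conj_map_map, hxe, conj_map_map,
        inv_mul_cancel, conj_map_one]
    haveI : ((L.subgroupOf A).subgroupOf (Subgroup.normalizer (L.subgroupOf A : Set A))).Normal :=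
      Subgroup.normal_in_normalizer
    set M := Subgroup.normalizer (L.subgroupOf A : Set A) with hM
    have hLM : L.subgroupOf A ≤ M := Subgroup.le_normalizer
    let P3 : Sylow p ((L.subgroupOf A).subgroupOf M) :=
      (P.subtype hPL).mapSurjective (f := (Subgroup.subgroupOfEquivOfLe hLM).symm.toMonoidHom)
        (MulEquiv.surjective _)
    obtain ⟨u, hu, v, hv, huv⟩ := Subgroup.mem_sup_of_normal_right.1
      (P3.normalizer_sup_eq_top ▸ Subgroup.mem_top (⟨_, hnL⟩ : M))
    have hT3 : (((P3 : Subgroup _).map ((L.subgroupOf A).subgroupOf M).subtype).map M.subtype).map A.subtype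
        = T := by
      rw [← hP]
      ext z
      constructor
      · rintro ⟨_, ⟨_, ⟨_, ⟨y, hy, rfl⟩, rfl⟩, rfl⟩, rfl⟩
        exact ⟨y.1, hy, rfl⟩
      · rintro ⟨y, hy, rfl⟩
        exact ⟨_, ⟨_, ⟨_, ⟨⟨y, hPL hy⟩, hy, rfl⟩, rfl⟩, rfl⟩, rfl⟩
    have huT : ((u : A) : G) ∈ Subgroup.normalizer (T : Set G) := by
      rw [← hT3]
      refine mem_normalizer_of_conj_map_le fun y hy => ?_
      obtain ⟨_, ⟨z, hz, rfl⟩, rfl⟩ := hy
      exact ⟨_, ⟨u * z * u⁻¹, (Subgroup.mem_normalizer_iff.1 hu z).1 hz, rfl⟩, rfl⟩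
    have huL : ((u : A) : G) ∈ Subgroup.normalizer (L : Set G) := by
      refine mem_normalizer_of_conj_map_le fun y hy => ?_
      exact (Subgroup.mem_normalizer_iff.1 u.2 ⟨y, hy.2⟩).1 hy
    obtain ⟨w, hw, he⟩ := key _ (u : A).2 huT huL
    have huv' : ((u : A) : G) * ((v : A) : G) = (x : G)⁻¹ * a := congrArg (fun z : M => ((z : A) : G)) huv
    have heq : K.map (MulAut.conj ((x : G)⁻¹ * a)).toMonoidHom = K.map (MulAut.conj ((u : A) : G)).toMonoidHom := by
      rw [← huv', ← conj_map_map,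
        conj_map_eq_self_of_mem_normalizer (H := K) (g := ((v : A) : G)) (Subgroup.le_normalizer hv.1)]
    exact ⟨w, by rw [heq]; exact hw, by rw [heq, he]⟩
  intro g
  obtain ⟨x', hx', he⟩ := hQ _ ⟨S.mapSurjective hfs, Subgroup.map_mono hSK⟩ (f g)
  rw [hc, ← Subgroup.map_sup] at hx'
  obtain ⟨x, hx, rfl⟩ := hx'
  refine conjIn_of_step hx ?_
  have hn : f (x⁻¹ * g) ∈ Subgroup.normalizer ((K.map f : Subgroup (G ⧸ A)) : Set (G ⧸ A)) := by
    refine mem_normalizer_of_conj_map_le (conj_map_le_iff.1 (le_of_eq ?_))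
    rw [map_mul, map_inv, ← conj_map_map, he, conj_map_map, inv_mul_cancel, conj_map_one]
  rw [← hii] at hn
  obtain ⟨n, hn, hfn⟩ := hn
  have ha : x⁻¹ * g * n⁻¹ ∈ A := by
    rw [← QuotientGroup.eq_one_iff]
    show f (x⁻¹ * g * n⁻¹) = 1
    rw [map_mul, map_inv, ← hfn, mul_inv_cancel]
  have heq : K.map (MulAut.conj (x⁻¹ * g)).toMonoidHom = K.map (MulAut.conj (x⁻¹ * g * n⁻¹)).toMonoidHom := by
    conv_rhs => rw [← conj_map_eq_self_of_mem_normalizer hn, conj_map_map, inv_mul_cancel_right]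
  obtain ⟨w, hw, he'⟩ := hAcase _ ha
  exact ⟨w, by rw [heq]; exact hw, by rw [heq, he']⟩

theorem overSylow_iff (hA : OverSylow ↥A p) (hQ : OverSylow (G ⧸ A) p)
    (hT : ∃ P : Sylow p ↥A, (P : Subgroup ↥A).map A.subtype = T)
    [(T.subgroupOf (Subgroup.normalizer (T : Set G))).Normal] :
    OverSylow G p ↔
      (OverSylow (↥(Subgroup.normalizer (T : Set G)) ⧸ T.subgroupOf (Subgroup.normalizer (T : Set G))) p ∧
        ∀ K : Subgroup G, (∃ P : Sylow p G, (P : Subgroup G) ≤ K) →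
          (Subgroup.normalizer (K : Set G)).map (QuotientGroup.mk' A) =
            Subgroup.normalizer ((K.map (QuotientGroup.mk' A) : Subgroup (G ⧸ A)) : Set (G ⧸ A))) := by
  obtain ⟨P, hP⟩ := id hT
  have hTp : IsPGroup p T := hP ▸ P.isPGroup'.map A.subtype
  obtain ⟨S, hTS⟩ := hTp.exists_le_sylow
  set N := Subgroup.normalizer (T : Set G) with hNdef
  set f := QuotientGroup.mk' A
  constructor
  · intro hG
    refine ⟨fun K' hK' => ?_, fun K hK => le_antisymm ?_ ?_⟩
    · set fN := QuotientGroup.mk' (T.subgroupOf N)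
      have hfs : Function.Surjective fN := QuotientGroup.mk'_surjective _
      obtain ⟨P', hP'⟩ := hK'
      have hSN : (S : Subgroup G) ≤ N := by
        intro s hs
        rw [hNdef, ← sylow_inf_eq hT S hTS]
        exact mem_normalizer_of_conj_map_le fun y hy =>
          ⟨Subgroup.mul_mem _ (Subgroup.mul_mem _ hs hy.1) (Subgroup.inv_mem _ hs), Subgroup.Normal.conj_mem inferInstance y hy.2 s⟩
      obtain ⟨R, rfl⟩ := Sylow.mapSurjective_surjective hfs p P'
      -- `R` is a Sylow subgroup of `G`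
      obtain ⟨z, hz⟩ := MulAction.exists_smul_eq N (S.subtype hSN) R
      have hR : ((z : G) • S : Sylow p G) ≤ (K'.comap fN).map N.subtype := by
        rw [Sylow.smul_subtype hSN] at hz
        intro y hy
        have hyN : y ∈ N := by
          obtain ⟨s, hs, rfl⟩ := hy
          exact mul_mem (mul_mem z.2 (hSN hs)) (inv_mem z.2)
        exact ⟨⟨y, hyN⟩, hP' ⟨⟨y, hyN⟩, hz ▸ hy, rfl⟩, rfl⟩
      have h := isPronormal_map hfs (isPronormal_subgroupOf (Subgroup.map_subtype_le _) (hG _ ⟨_, hR⟩))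
      rwa [show ((K'.comap fN).map N.subtype).subgroupOf N = K'.comap fN from
          Subgroup.comap_map_eq_self_of_injective N.subtype_injective _,
        Subgroup.map_comap_eq_self_of_surjective hfs] at h
    · rintro _ ⟨n, hn, rfl⟩
      refine mem_normalizer_of_conj_map_le fun y hy => ?_
      obtain ⟨z, hz, rfl⟩ := hy
      exact ⟨n * z * n⁻¹, (Subgroup.mem_normalizer_iff.1 hn z).1 hz, by simp⟩
    · intro g' hg'
      obtain ⟨g, rfl⟩ := QuotientGroup.mk'_surjective A g'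
      obtain ⟨x, hx, he⟩ := hG K hK g
      have hle : K ⊔ K.map (MulAut.conj g).toMonoidHom ≤ (K.map f).comap f := by
        refine sup_le (Subgroup.le_comap_map f K) (conj_map_le_iff.2 fun y hy => ?_)
        show f (g * y * g⁻¹) ∈ K.map f
        rw [map_mul, map_mul, map_inv]
        exact (Subgroup.mem_normalizer_iff.1 hg' (f y)).1 ⟨y, hy, rfl⟩
      obtain ⟨k, hk, hfk⟩ := hle hx
      have hn : x⁻¹ * g ∈ Subgroup.normalizer (K : Set G) := by
        refine mem_normalizer_of_conj_map_le (conj_map_le_iff.1 (le_of_eq ?_))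
        rw [← conj_map_map, he, conj_map_map, inv_mul_cancel, conj_map_one]
      refine ⟨k * (x⁻¹ * g), mul_mem (Subgroup.le_normalizer hk) hn, ?_⟩
      rw [map_mul, hfk, ← map_mul, mul_inv_cancel_left]
  · rintro ⟨hN, hii⟩ K ⟨S0, hS0⟩
    -- move `S0 ⊓ A` to `T`
    obtain ⟨a, ha⟩ := MulAction.exists_smul_eq G S0 S
    have hK' : (S : Subgroup G) ≤ K.map (MulAut.conj a).toMonoidHom := by
      rw [← ha]
      exact Subgroup.map_mono hS0
    have h := isPronormal_conj (pronormal_of hA hQ hT hN S hTS _ hK' (hii _ ⟨S, hK'⟩)) a⁻¹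
    rwa [conj_map_map, inv_mul_cancel, conj_map_one] at h

theorem overSylow_iff_of_selfNormalizing (hA : OverSylow ↥A p)
    (hQ : ∀ P : Sylow p (G ⧸ A), Subgroup.normalizer ((P : Subgroup (G ⧸ A)) : Set (G ⧸ A)) = P)
    (hT : ∃ P : Sylow p ↥A, (P : Subgroup ↥A).map A.subtype = T)
    [(T.subgroupOf (Subgroup.normalizer (T : Set G))).Normal] :
    OverSylow G p ↔
      OverSylow (↥(Subgroup.normalizer (T : Set G)) ⧸ T.subgroupOf (Subgroup.normalizer (T : Set G))) p := by
  have hQ' : OverSylow (G ⧸ A) p := fun K ⟨P, hPK⟩ =>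
    (Cfsg.Agent.S3820.result _ K hPK (sylow_isPronormal P)).2 fun g hg =>
      conjIn_of_mem_normalizer (Subgroup.le_normalizer (hPK (by rw [hQ P] at hg; exact hg)))
  rw [overSylow_iff hA hQ' hT]
  refine and_iff_left ?_
  intro K ⟨P, hPK⟩
  refine le_antisymm ?_ ?_
  · rintro _ ⟨n, hn, rfl⟩
    refine mem_normalizer_of_conj_map_le fun y hy => ?_
    obtain ⟨z, hz, rfl⟩ := hy
    exact ⟨n * z * n⁻¹, (Subgroup.mem_normalizer_iff.1 hn z).1 hz, by simp⟩
  · intro g hg
    -- overgroups of a self-normalizing Sylow subgroup are self-normalizing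
    set f := QuotientGroup.mk' A
    set Kb := K.map f
    set R : Sylow p (G ⧸ A) := P.mapSurjective (QuotientGroup.mk'_surjective A)
    have hRK : (R : Subgroup (G ⧸ A)) ≤ Kb := Subgroup.map_mono hPK
    have hgR : ((g • R : Sylow p (G ⧸ A)) : Subgroup (G ⧸ A)) ≤ Kb := by
      rintro _ ⟨y, hy, rfl⟩
      exact (Subgroup.mem_normalizer_iff.1 hg y).1 (hRK hy)
    obtain ⟨y, hy⟩ := MulAction.exists_smul_eq Kb (R.subtype hRK) ((g • R).subtype hgR)
    rw [Sylow.smul_subtype hRK] at hy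
    have h' : ((y : G ⧸ A)⁻¹ * g) • R = R := by
      rw [mul_smul, ← Sylow.subtype_injective hy]
      exact inv_smul_smul (y : G ⧸ A) R
    replace h' : ((y : G ⧸ A)⁻¹ * g) ∈ (R : Subgroup (G ⧸ A)) :=
      (SetLike.ext_iff.1 (hQ R) _).1 (Sylow.smul_eq_iff_mem_normalizer.1 h')
    have hgK : g ∈ Kb := by
      have := mul_mem y.2 (hRK h')
      rwa [mul_inv_cancel_left] at this
    obtain ⟨z, hz, rfl⟩ := hgK
    exact ⟨z, Subgroup.le_normalizer hz, rfl⟩

end CfsgLib.Involution.Pronormal
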