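import Cfsg.Agent.Lib.Involution.QuasiDihedral
import Cfsg.Agent.Lib.Involution.SylowFusionTools
import Cfsg.Agent.Lib.Involution.KleinAutomizer

/-!
# Fusion in groups with a quasi-dihedral Sylow 2-subgroup
-/

set_option autoImplicit false

namespace CfsgLib.Involution.QDFusion

open CfsgLib.Involution.QuasiDihedral CfsgLib.Involution.SylowFusionTools

universe u

variable {G : Type u} [Group G] [Finite G] {S : Sylow 2 G} {x y : (S : Subgroup G)} {K : ℕ}
  (h : QDGen x y K)

/-- The central involution, in `G`. -/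
def cz (x : (S : Subgroup G)) (K : ℕ) : G := ((x ^ (4 * (K : ℤ)) : (S : Subgroup G)) : G)

/-- The rotation of order four, in `G`. -/
def ri (x : (S : Subgroup G)) (K : ℕ) : G := ((x ^ (2 * (K : ℤ)) : (S : Subgroup G)) : G)

/-- The reflection `x ^ i * y`, in `G`. -/
def rf (x y : (S : Subgroup G)) (i : ℤ) : G := ((x ^ i * y : (S : Subgroup G)) : G)

/-- Involutions are fused. -/
def FusedTwo (x y : (S : Subgroup G)) (K : ℕ) : Prop := IsConj (rf x y 0) (cz x K)

/-- Elements of order four are fused. -/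
def FusedFour (x y : (S : Subgroup G)) (K : ℕ) : Prop := IsConj (rf x y 1) (ri x K)

include h

omit [Finite G] in
theorem rf_conj {i i' : ℤ} (hii : (2 : ℤ) ∣ i' - i) : ∃ s ∈ S, s * rf x y i * s⁻¹ = rf x y i' := by
  obtain ⟨j, hj⟩ := exists_conj_shift h hii
  exact ⟨((x ^ j : (S : Subgroup G)) : G), (x ^ j).2, congrArg Subtype.val hj⟩

omit [Finite G] in
theorem rf_isConj {i i' : ℤ} (hii : (2 : ℤ) ∣ i' - i) : IsConj (rf x y i) (rf x y i') := by
  obtain ⟨s, -, hs⟩ := rf_conj h hii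
  exact isConj_iff.2 ⟨s, hs⟩

omit [Finite G] in
theorem ri_conj_inv : (y : G) * ri x K * (y : G)⁻¹ = (ri x K)⁻¹ := by
  rw [ri, ← Subgroup.coe_inv, ← Subgroup.coe_inv, ← Subgroup.coe_mul, ← Subgroup.coe_mul, conj_zpow h]
  congr 1
  rw [← zpow_neg, zpow_eq_iff h]
  exact ⟨(K : ℤ), by ring⟩

omit [Finite G] in
theorem cz_comm {s : G} (hs : s ∈ S) : Commute s (cz x K) :=
  congrArg Subtype.val (Subgroup.mem_center_iff.1 (z_mem_center h) ⟨s, hs⟩)

omit [Finite G] in
theorem cz_orderOf : orderOf (cz x K) = 2 := by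
  rw [cz, Subgroup.orderOf_coe]; exact orderOf_z h

omit [Finite G] in
theorem ri_orderOf : orderOf (ri x K) = 4 := by
  rw [ri, Subgroup.orderOf_coe]; exact orderOf_two_K h

omit [Finite G] in
theorem rf_orderOf_even (m : ℤ) : orderOf (rf x y (2 * m)) = 2 := by
  rw [rf, Subgroup.orderOf_coe]; exact (orderOf_two_iff h _).2 (Or.inr ⟨m, rfl⟩)

omit [Finite G] in
theorem rf_orderOf_odd (m : ℤ) : orderOf (rf x y (2 * m + 1)) = 4 := by
  rw [rf, Subgroup.orderOf_coe]; exact (orderOf_four_iff h _).2 (Or.inr (Or.inr ⟨m, rfl⟩))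

omit [Finite G] in
theorem two_cases {w : G} (hw : w ∈ S) (h2 : orderOf w = 2) :
    w = cz x K ∨ ∃ m : ℤ, w = rf x y (2 * m) := by
  rcases (orderOf_two_iff h ⟨w, hw⟩).1 (by rw [← Subgroup.orderOf_coe]; exact h2) with e | ⟨m, e⟩
  · exact Or.inl (congrArg Subtype.val e)
  · exact Or.inr ⟨m, congrArg Subtype.val e⟩

omit [Finite G] in
theorem four_cases {w : G} (hw : w ∈ S) (h4 : orderOf w = 4) :
    w = ri x K ∨ w = (ri x K)⁻¹ ∨ ∃ m : ℤ, w = rf x y (2 * m + 1) := by
  rcases (orderOf_four_iff h ⟨w, hw⟩).1 (by rw [← Subgroup.orderOf_coe]; exact h4) with e | e | ⟨m, e⟩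
  · exact Or.inl (congrArg Subtype.val e)
  · refine Or.inr (Or.inl ?_)
    have := congrArg Subtype.val e
    rw [zpow_neg] at this
    exact this
  · exact Or.inr (Or.inr ⟨m, congrArg Subtype.val e⟩)

omit [Finite G] in
theorem high_cases {w : G} (hw : w ∈ S) (h2 : orderOf w ≠ 2) (h4 : orderOf w ≠ 4) :
    ∃ i : ℤ, w = ((x ^ i : (S : Subgroup G)) : G) := by
  rcases normal_form h ⟨w, hw⟩ with ⟨i, e⟩ | ⟨i, e⟩
  · exact ⟨i, congrArg Subtype.val e⟩
  · exfalso
    obtain ⟨m, hm | hm⟩ := Int.even_or_odd' i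
    · exact h2 (by rw [show w = rf x y (2 * m) from (congrArg Subtype.val e).trans (by rw [hm]; rfl)]
                   exact rf_orderOf_even h m)
    · exact h4 (by rw [show w = rf x y (2 * m + 1) from (congrArg Subtype.val e).trans (by rw [hm]; rfl)]
                   exact rf_orderOf_odd h m)

theorem involution_classes {w : G} (hw : orderOf w = 2) :
    IsConj (cz x K) w ∨ IsConj (rf x y 0) w := by
  obtain ⟨g, hg⟩ := Basic.exists_conj_mem S hw
  have hb : IsConj (g * w * g⁻¹) w := isConj_iff.2 ⟨g⁻¹, by group⟩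
  rcases two_cases h hg ((Dihedral.orderOf_conj g w).trans hw) with e | ⟨m, e⟩
  · exact Or.inl (e ▸ hb)
  · exact Or.inr ((rf_isConj h (by simp)).trans (e ▸ hb))

theorem four_classes {w : G} (hw : orderOf w = 4) :
    IsConj (ri x K) w ∨ IsConj (rf x y 1) w := by
  haveI : Fact (Nat.Prime 2) := ⟨Nat.prime_two⟩
  obtain ⟨g, hg⟩ := Basic.exists_conj_le S (Basic.isPGroup_zpowers (p := 2) (x := w) (k := 2)
    (by rw [hw]; norm_num))
  have hgS := hg w (Subgroup.mem_zpowers w)
  have hb : IsConj (g * w * g⁻¹) w := isConj_iff.2 ⟨g⁻¹, by group⟩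
  rcases four_cases h hgS ((Dihedral.orderOf_conj g w).trans hw) with e | e | ⟨m, e⟩
  · exact Or.inl (e ▸ hb)
  · exact Or.inl ((isConj_iff.2 ⟨(y : G), ri_conj_inv h⟩).trans (e ▸ hb))
  · exact Or.inr ((rf_isConj h (by simp)).trans (e ▸ hb))

/-! ### The fours group -/

omit [Finite G] in
theorem four_group_structure {T : Subgroup G} (hT : IsKleinFour T) (hTS : T ≤ S) :
    cz x K ∈ T ∧ ∃ m : ℤ, rf x y (2 * m) ∈ T ∧ ∀ g ∈ T, g = 1 ∨ g = cz x K ∨ g = rf x y (2 * m) ∨
      g = cz x K * rf x y (2 * m) := by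
  haveI := hT
  have hT' : IsKleinFour (T.subgroupOf (S : Subgroup G)) := by
    set e := Subgroup.subgroupOfEquivOfLe hTS
    exact ⟨by rw [Nat.card_congr e.toEquiv, IsKleinFour.card_four],
      by rw [Monoid.exponent_eq_of_mulEquiv e, IsKleinFour.exponent_two]⟩
  obtain ⟨hz, m, ht, hall⟩ := four_structure h hT'
  refine ⟨hz, m, ht, fun g hg => ?_⟩
  rcases hall ⟨g, hTS hg⟩ hg with e | e | e | e
  · exact Or.inl (congrArg Subtype.val e)
  · exact Or.inr (Or.inl (congrArg Subtype.val e))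
  · exact Or.inr (Or.inr (Or.inl (congrArg Subtype.val e)))
  · exact Or.inr (Or.inr (Or.inr (congrArg Subtype.val e)))

omit [Finite G] in
theorem ri_rf (i : ℤ) : ri x K * rf x y i * (ri x K)⁻¹ = cz x K * rf x y i := by
  rw [ri, cz, rf, ← Subgroup.coe_mul, ← Subgroup.coe_inv, ← Subgroup.coe_mul, ← Subgroup.coe_mul]
  congr 1
  rw [conj_shift h, ← mul_assoc (x ^ (4 * (K : ℤ))), ← zpow_add, mul_left_inj, zpow_eq_iff h]
  exact ⟨-(K : ℤ), by ring⟩

omit [Finite G] in
theorem ri_cz : ri x K * cz x K * (ri x K)⁻¹ = cz x K := by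
  rw [(cz_comm h (x ^ (2 * (K : ℤ))).2 : Commute (ri x K) (cz x K)).eq, mul_inv_cancel_right]

theorem fours_even {T : Subgroup G} (hT : IsKleinFour T) (hTS : T ≤ S) :
    ri x K ∈ Subgroup.normalizer (T : Set G) ∧ ri x K ∉ Subgroup.centralizer (T : Set G) ∧
      2 ∣ (Subgroup.centralizer (T : Set G)).relIndex (Subgroup.normalizer (T : Set G)) := by
  obtain ⟨hz, m, ht, hall⟩ := four_group_structure h hT hTS
  have hzz : cz x K * cz x K = 1 := TwoGroupLifts.mul_self_of_isKleinFour hT hz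
  have h1 : ri x K ∈ Subgroup.normalizer (T : Set G) := by
    refine TwoGroupLifts.mem_normalizer_of_conj_mem fun g hg => ?_
    rcases hall g hg with rfl | rfl | rfl | rfl
    · simp
    · rw [ri_cz h]; exact hz
    · rw [ri_rf h]; exact mul_mem hz ht
    · rw [← conj_mul, ri_cz h, ri_rf h, ← mul_assoc, hzz, one_mul]; exact ht
  have h2 : ri x K ∉ Subgroup.centralizer (T : Set G) := by
    intro hc
    have := ri_rf h (2 * m)
    rw [← Subgroup.mem_centralizer_iff.1 hc _ ht, mul_inv_cancel_right, right_eq_mul] at this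
    have h3 := cz_orderOf h
    rw [this, orderOf_one] at h3
    omega
  refine ⟨h1, h2, KleinAutomizer.two_dvd_relIndex h1 h2 ?_⟩
  rw [ri, ← Subgroup.coe_mul, ← zpow_add, show 2 * (K : ℤ) + 2 * (K : ℤ) = 4 * K by ring]
  rw [Subgroup.mem_centralizer_iff]
  exact fun u hu => (cz_comm h (hTS hu)).eq

theorem fours_index {T : Subgroup G} (hT : IsKleinFour T) (hTS : T ≤ S) :
    ((Subgroup.centralizer (T : Set G)).relIndex (Subgroup.normalizer (T : Set G)) = 2 ∨
      (Subgroup.centralizer (T : Set G)).relIndex (Subgroup.normalizer (T : Set G)) = 6) ∧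
    ((Subgroup.centralizer (T : Set G)).relIndex (Subgroup.normalizer (T : Set G)) = 6 ↔
      FusedTwo x y K) := by
  obtain ⟨hn, hnC, h2⟩ := fours_even h hT hTS
  have h6 := KleinAutomizer.relIndex_dvd_six hT
  set r := (Subgroup.centralizer (T : Set G)).relIndex (Subgroup.normalizer (T : Set G)) with hr
  have hcases : r = 2 ∨ r = 6 := by
    have : r ≤ 6 := Nat.le_of_dvd (by norm_num) h6
    interval_cases r <;> omega
  refine ⟨hcases, ?_⟩
  obtain ⟨hz, m, ht, hall⟩ := four_group_structure h hT hTS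
  constructor
  · intro he
    obtain ⟨n, hnN, hnz⟩ : ∃ n ∈ Subgroup.normalizer (T : Set G), n * cz x K * n⁻¹ ≠ cz x K := by
      by_contra hno
      push Not at hno
      have := KleinAutomizer.relIndex_le_two hT hz (Dihedral.ne_one (cz_orderOf h)) hno
      rw [← hr, he] at this
      omega
    have hto : IsConj (cz x K) (rf x y (2 * m)) := by
      rcases hall _ ((Subgroup.mem_normalizer_iff.1 hnN _).1 hz) with e | e | e | e
      · exact absurd (conj_eq_one_iff.1 e) (Dihedral.ne_one (cz_orderOf h))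
      · exact absurd e hnz
      · exact isConj_iff.2 ⟨n, e⟩
      · exact (isConj_iff.2 ⟨n, e⟩ : IsConj _ (cz x K * rf x y (2 * m))).trans
          (isConj_iff.2 ⟨ri x K, ri_rf h _⟩ : IsConj (rf x y (2 * m)) _).symm
    exact (rf_isConj h (by simp)).trans hto.symm
  · intro hF
    refine hcases.resolve_left fun he => ?_
    obtain ⟨g, hg⟩ := isConj_iff.1 ((rf_isConj h (by simp) : IsConj (rf x y (2 * m)) _).trans hF)
    haveI : Fact (Nat.Prime 2) := ⟨Nat.prime_two⟩
    haveI := hT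
    set C := Subgroup.centralizer ({cz x K} : Set G)
    have hP : T.map (MulAut.conj g).toMonoidHom ≤ C := by
      rintro _ ⟨u, hu, rfl⟩
      rw [Subgroup.mem_centralizer_singleton_iff]
      change g * u * g⁻¹ * cz x K = cz x K * (g * u * g⁻¹)
      rw [← hg, conj_mul, conj_mul, TwoGroupLifts.commute_of_isKleinFour hT hu ht]
    have hT2 : IsPGroup 2 T := IsPGroup.of_card (n := 2) (by rw [IsKleinFour.card_four]; norm_num)
    obtain ⟨l, hl, hlS⟩ := exists_centralizing_conj_into S (K := C)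
      (fun s hs => Subgroup.mem_centralizer_singleton_iff.2 (cz_comm h hs).eq) (hT2.map _) hP
    set f := (MulAut.conj (l * g)).toMonoidHom
    have hT'S : T.map f ≤ S := by
      rintro _ ⟨u, hu, rfl⟩
      have := hlS (g * u * g⁻¹) ⟨u, hu, rfl⟩
      have e : f u = l * (g * u * g⁻¹) * l⁻¹ := by simp [f, mul_assoc]
      rw [e]; exact this
    have hT'k : IsKleinFour (T.map f : Subgroup G) := by
      set e := T.equivMapOfInjective f (MulAut.conj (l * g)).injective
      exact ⟨by rw [← Nat.card_congr e.toEquiv, IsKleinFour.card_four],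
        by rw [← Monoid.exponent_eq_of_mulEquiv e, IsKleinFour.exponent_two]⟩
    obtain ⟨hz', m', ht', hall'⟩ := four_group_structure h hT'k hT'S
    obtain ⟨s, hs, hst⟩ := rf_conj h (show (2 : ℤ) ∣ 2 * m - 2 * m' by omega)
    set n := s * (l * g) with hn'
    have hsz : s * cz x K * s⁻¹ = cz x K := by rw [(cz_comm h hs).eq, mul_inv_cancel_right]
    have hnt : n * rf x y (2 * m) * n⁻¹ = cz x K := by
      calc n * rf x y (2 * m) * n⁻¹ = s * (l * (g * rf x y (2 * m) * g⁻¹) * l⁻¹) * s⁻¹ := by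
            rw [hn']; group
        _ = cz x K := by rw [hg, Subgroup.mem_centralizer_singleton_iff.1 hl, mul_inv_cancel_right, hsz]
    have hnN : n ∈ Subgroup.normalizer (T : Set G) := by
      refine TwoGroupLifts.mem_normalizer_of_conj_mem fun u hu => ?_
      have h1 := hall' (f u) ⟨u, hu, rfl⟩
      have h2 : n * u * n⁻¹ = s * f u * s⁻¹ := by
        rw [hn']; simp [f, mul_assoc]
      rw [h2]
      rcases h1 with e | e | e | e <;> rw [e]
      · simp
      · rw [hsz]; exact hz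
      · rw [hst]; exact ht
      · rw [← conj_mul, hsz, hst]; exact mul_mem hz ht
    have hnz : n * cz x K * n⁻¹ ≠ cz x K := by
      intro e
      have h1 := conj_inj (e.trans hnt.symm)
      have h2 : ((x ^ (4 * (K : ℤ)) : (S : Subgroup G))) = x ^ (2 * m) * y := Subtype.ext h1
      exact xy_ne_zpow h _ _ h2.symm
    apply hnz
    set N := Subgroup.normalizer (T : Set G)
    set CT := (Subgroup.centralizer (T : Set G)).subgroupOf N
    have hidx : CT.index = 2 := he
    by_cases hc : (⟨n, hnN⟩ : N) ∈ CT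
    · have h4 : cz x K * n = n * cz x K := Subgroup.mem_centralizer_iff.1 hc _ hz
      rw [← h4, mul_inv_cancel_right]
    · have h3 : (⟨ri x K, hn⟩ : N) * ⟨n, hnN⟩ ∈ CT :=
        (Subgroup.mul_mem_iff_of_index_two hidx).2 (iff_of_false hnC hc)
      have h4 := Subgroup.mem_centralizer_iff.1 h3 _ hz
      change cz x K * (ri x K * n) = ri x K * n * cz x K at h4
      calc n * cz x K * n⁻¹ = (ri x K)⁻¹ * (ri x K * n * cz x K) * n⁻¹ := by group
        _ = (ri x K)⁻¹ * (cz x K * ri x K) := by rw [← h4]; simp only [mul_assoc, mul_inv_cancel, mul_one]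
        _ = cz x K := by
          rw [← (cz_comm h (x ^ (2 * (K : ℤ))).2 : Commute (ri x K) (cz x K)).eq, inv_mul_cancel_left]

/-- If involutions are fused they all lie in the 2-residual. -/
theorem involutions_mem_pResidual {T : Subgroup G} (hT : IsKleinFour T) (hTS : T ≤ S)
    (hF : FusedTwo x y K) {w : G} (hw : orderOf w = 2) : w ∈ Cfsg.pResidual 2 G := by
  set N := Subgroup.normalizer (T : Set G)
  have hCn : ((Subgroup.centralizer (T : Set G)).subgroupOf N).Normal := by
    refine (Subgroup.normal_subgroupOf_iff_le_normalizer (Subgroup.centralizer_le_normalizer _)).2 ?_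
    intro n hn
    refine TwoGroupLifts.mem_normalizer_of_conj_mem fun c hc => ?_
    rw [Subgroup.mem_centralizer_iff] at hc ⊢
    intro u hu
    have hu' : n⁻¹ * u * n ∈ T := by
      simpa using (Subgroup.mem_normalizer_iff.1 (inv_mem hn) u).1 hu
    calc u * (n * c * n⁻¹) = n * ((n⁻¹ * u * n) * c) * n⁻¹ := by group
      _ = n * c * n⁻¹ * u := by rw [hc _ hu']; group
  obtain ⟨b, hb, hbo, hbC⟩ := exists_odd_of_three_dvd hCn
    (by rw [((fours_index h hT hTS).2).2 hF]; norm_num)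
  obtain ⟨u, hu, hub⟩ : ∃ u ∈ T, u * b * u⁻¹ * b⁻¹ ≠ 1 := by
    by_contra hno
    push Not at hno
    refine hbC (Subgroup.mem_centralizer_iff.2 fun u hu => ?_)
    exact mul_inv_eq_iff_eq_mul.1 (mul_inv_eq_one.1 (hno u hu))
  have hc : u * b * u⁻¹ * b⁻¹ ∈ T := by
    rw [show u * b * u⁻¹ * b⁻¹ = u * (b * u⁻¹ * b⁻¹) by group]
    exact mul_mem hu ((Subgroup.mem_normalizer_iff.1 hb _).1 (inv_mem hu))
  set c := u * b * u⁻¹ * b⁻¹
  have hc2 : orderOf c = 2 :=
    Dihedral.orderOf_eq_two (TwoGroupLifts.mul_self_of_isKleinFour hT hc) hub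
  have hall : IsConj c w := by
    have key : ∀ v : G, orderOf v = 2 → IsConj (cz x K) v := fun v hv =>
      (involution_classes h hv).elim id fun hh => hF.symm.trans hh
    exact (key c hc2).symm.trans (key w hw)
  obtain ⟨g, rfl⟩ := isConj_iff.1 hall
  exact CfsgLib.Fusion.Basic.pResidual_normal.conj_mem c (commutator_mem_pResidual hbo u) g

/-! ### The quaternion group of order eight -/

omit [Finite G] in
theorem ri_sq : ri x K * ri x K = cz x K := by
  rw [ri, cz, ← Subgroup.coe_mul, ← zpow_add]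
  congr 2; ring

omit [Finite G] in
theorem rf_sq (m : ℤ) : rf x y (2 * m + 1) * rf x y (2 * m + 1) = cz x K := by
  rw [rf, cz, ← Subgroup.coe_mul, xy_sq h]
  congr 1
  rw [zpow_eq_iff h]
  exact ⟨m, by ring⟩

omit [Finite G] in
theorem ri_mul_rf (m : ℤ) : ri x K * rf x y (2 * m + 1) = rf x y (2 * (m + K) + 1) := by
  rw [ri, rf, rf, ← Subgroup.coe_mul, ← mul_assoc, ← zpow_add]
  congr 3; ring

omit [Finite G] in
theorem rf_ri (m : ℤ) : rf x y m * ri x K * (rf x y m)⁻¹ = (ri x K)⁻¹ := by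
  rw [ri, rf, ← Subgroup.coe_inv, ← Subgroup.coe_inv, ← Subgroup.coe_mul, ← Subgroup.coe_mul]
  congr 1
  rw [mul_inv_eq_iff_eq_mul, xy_mul_x h, ← zpow_neg, ← mul_assoc (x ^ (-(2 * (K : ℤ)))),
    ← zpow_add, mul_left_inj,
    zpow_eq_iff h]
  exact ⟨(K : ℤ), by ring⟩

omit [Finite G] in
theorem rf_not_mem (m : ℤ) : rf x y m ∉ Subgroup.zpowers (ri x K) := by
  intro hm
  obtain ⟨n, hn⟩ := Subgroup.mem_zpowers_iff.1 hm
  rw [ri, ← SubgroupClass.coe_zpow, ← zpow_mul] at hn
  exact xy_ne_zpow h m _ (Subtype.ext hn).symm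

/-- The three cyclic subgroups of order four of `Q`. -/
theorem quat_group_structure {Q : Subgroup G} (eQ : Q ≃* QuaternionGroup 2) (hQS : Q ≤ S) :
    ri x K ∈ Q ∧ ∃ m : ℤ, rf x y (2 * m + 1) ∈ Q ∧ ∀ g ∈ Q, g ∈ Subgroup.zpowers (ri x K) ∨
      g ∈ Subgroup.zpowers (rf x y (2 * m + 1)) ∨
      g ∈ Subgroup.zpowers (ri x K * rf x y (2 * m + 1)) := by
  obtain ⟨hi, m, hj, hall⟩ := quat_structure h
    ((Subgroup.subgroupOfEquivOfLe hQS).trans eQ : Q.subgroupOf (S : Subgroup G) ≃* _)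
  have hJ : rf x y (2 * m + 1) ∈ Q := hj
  refine ⟨hi, m, hJ, fun g hg => ?_⟩
  obtain ⟨q, hq | hq⟩ := hall ⟨g, hQS hg⟩ hg
  · refine Or.inl ⟨q, ?_⟩
    have := congrArg Subtype.val hq
    simp only at this ⊢
    rw [this, ri, ← SubgroupClass.coe_zpow, ← zpow_mul]
  · have hq' : g = ri x K ^ q * rf x y (2 * m + 1) := by
      have := congrArg Subtype.val hq
      simp only at this
      rw [this, ri, rf, ← SubgroupClass.coe_zpow, ← Subgroup.coe_mul, ← mul_assoc, ← zpow_mul,
        ← zpow_add]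
    obtain ⟨r, rfl | rfl⟩ := Int.even_or_odd' q
    · refine Or.inr (Or.inl ?_)
      rw [hq', zpow_mul, zpow_two, ri_sq h, ← rf_sq h m]
      exact Subgroup.mul_mem _ (Subgroup.zpow_mem _ (Subgroup.mul_mem _ (Subgroup.mem_zpowers _)
        (Subgroup.mem_zpowers _)) r) (Subgroup.mem_zpowers _)
    · refine Or.inr (Or.inr ?_)
      rw [hq', zpow_add, zpow_one, zpow_mul, zpow_two, ri_sq h, mul_assoc, ri_mul_rf h,
        ← rf_sq h (m + K)]
      exact Subgroup.mul_mem _ (Subgroup.zpow_mem _ (Subgroup.mul_mem _ (Subgroup.mem_zpowers _)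
        (Subgroup.mem_zpowers _)) r) (Subgroup.mem_zpowers _)

theorem quat_small {Q : Subgroup G} (eQ : Q ≃* QuaternionGroup 2) (hQS : Q ≤ S) {g : G}
    (hg : g ∈ Q) (h4 : orderOf g ≠ 4) : g = 1 ∨ g = cz x K := by
  obtain ⟨-, m, -, hall⟩ := quat_group_structure h eQ hQS
  have key : ∀ a : G, orderOf a = 4 → a * a = cz x K → g ∈ Subgroup.zpowers a →
      g = 1 ∨ g = cz x K := by
    intro a ha hsq hga
    obtain ⟨n, hn⟩ := Subgroup.mem_zpowers_iff.1 hga
    have hd : orderOf g ∣ 4 := by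
      refine orderOf_dvd_of_pow_eq_one ?_
      rw [← hn, ← zpow_natCast, ← zpow_mul, mul_comm, zpow_mul, zpow_natCast, ← ha,
        pow_orderOf_eq_one, one_zpow]
    have hle := Nat.le_of_dvd (by norm_num) hd
    by_cases h1 : g = 1
    · exact Or.inl h1
    have hne1 : orderOf g ≠ 1 := by rwa [Ne, orderOf_eq_one_iff]
    have hne3 : orderOf g ≠ 3 := fun e => by rw [e] at hd; norm_num at hd
    have hpos := orderOf_pos g
    have h2 : orderOf g = 2 := by omega
    have heq := zpowers_eq_of_cyclic hga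
      (hsq ▸ mul_mem (Subgroup.mem_zpowers a) (Subgroup.mem_zpowers a) : cz x K ∈ Subgroup.zpowers a)
      (h2.trans (cz_orderOf h).symm)
    obtain ⟨l, hl⟩ := Subgroup.mem_zpowers_iff.1 (heq ▸ Subgroup.mem_zpowers g)
    rcases Int.even_or_odd' l with ⟨r, rfl | rfl⟩
    · exact absurd (by rw [← hl, zpow_mul, zpow_two, Dihedral.mul_self (cz_orderOf h), one_zpow]) h1
    · exact Or.inr (by rw [← hl, zpow_add_one, zpow_mul, zpow_two,
        Dihedral.mul_self (cz_orderOf h), one_zpow, one_mul])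
  rcases hall g hg with e | e | e
  · exact key _ (ri_orderOf h) (ri_sq h) e
  · exact key _ (rf_orderOf_odd h m) (rf_sq h m) e
  · rw [ri_mul_rf h] at e
    exact key _ (rf_orderOf_odd h _) (rf_sq h _) e

/-- The action on the three cyclic subgroups of order four. -/
theorem exists_quat_hom {Q : Subgroup G} (eQ : Q ≃* QuaternionGroup 2) (hQS : Q ≤ S) :
    ∃ m : ℤ, rf x y (2 * m + 1) ∈ Q ∧ (∀ g ∈ Q, g ∈ Subgroup.zpowers (ri x K) ∨
      g ∈ Subgroup.zpowers (rf x y (2 * m + 1)) ∨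
      g ∈ Subgroup.zpowers (ri x K * rf x y (2 * m + 1))) ∧
    ∃ (Ω : Type u) (f : Subgroup.normalizer (Q : Set G) →* Equiv.Perm Ω) (π : Ω → Subgroup G),
      Nat.card Ω = 3 ∧ Function.Injective π ∧ (∀ n ω, π (f n ω) = (π ω).map (MulAut.conj (n : G)).toMonoidHom) ∧
      f.ker = (Q ⊔ Subgroup.centralizer (Q : Set G)).subgroupOf (Subgroup.normalizer (Q : Set G)) ∧
      (∃ ω, π ω = Subgroup.zpowers (ri x K)) ∧ (∃ ω, π ω = Subgroup.zpowers (rf x y (2 * m + 1))) ∧
      (∀ ω, ∃ a ∈ Q, orderOf a = 4 ∧ π ω = Subgroup.zpowers a) := by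
  obtain ⟨hI, m, hJ, hall⟩ := quat_group_structure h eQ hQS
  refine ⟨m, hJ, hall, ?_⟩
  set I := ri x K with hIdef
  set J := rf x y (2 * m + 1) with hJdef
  have oI : orderOf I = 4 := ri_orderOf h
  have oJ : orderOf J = 4 := rf_orderOf_odd h m
  have oK : orderOf (I * J) = 4 := by rw [hIdef, hJdef, ri_mul_rf h]; exact rf_orderOf_odd h _
  set N := Subgroup.normalizer (Q : Set G) with hN
  have himg : ∀ n ∈ N, ∀ a ∈ Q, orderOf a = 4 →
      Subgroup.zpowers (n * a * n⁻¹) = Subgroup.zpowers I ∨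
      Subgroup.zpowers (n * a * n⁻¹) = Subgroup.zpowers J ∨
      Subgroup.zpowers (n * a * n⁻¹) = Subgroup.zpowers (I * J) := by
    intro n hn a ha ha4
    have ho : orderOf (n * a * n⁻¹) = 4 := (Dihedral.orderOf_conj n a).trans ha4
    rcases hall _ ((Subgroup.mem_normalizer_iff.1 hn a).1 ha) with e | e | e
    · exact Or.inl (zpowers_eq_of_mem (ho.trans oI.symm) e)
    · exact Or.inr (Or.inl (zpowers_eq_of_mem (ho.trans oJ.symm) e))
    · exact Or.inr (Or.inr (zpowers_eq_of_mem (ho.trans oK.symm) e))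
  let Ω := {P : Subgroup G // P = Subgroup.zpowers I ∨ P = Subgroup.zpowers J ∨
    P = Subgroup.zpowers (I * J)}
  have hmap : ∀ (n : G) (a : G), (Subgroup.zpowers a).map (MulAut.conj n).toMonoidHom =
      Subgroup.zpowers (n * a * n⁻¹) := fun n a => by
    rw [MonoidHom.map_zpowers]; rfl
  have hΩ : ∀ n ∈ N, ∀ P : Ω, P.1.map (MulAut.conj n).toMonoidHom = Subgroup.zpowers I ∨
      P.1.map (MulAut.conj n).toMonoidHom = Subgroup.zpowers J ∨
      P.1.map (MulAut.conj n).toMonoidHom = Subgroup.zpowers (I * J) := by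
    rintro n hn ⟨P, rfl | rfl | rfl⟩ <;> rw [hmap]
    exacts [himg n hn I hI oI, himg n hn J hJ oJ, himg n hn _ (mul_mem hI hJ) oK]
  have hcomp : ∀ (a b : G) (P : Subgroup G), (P.map (MulAut.conj b).toMonoidHom).map
      (MulAut.conj a).toMonoidHom = P.map (MulAut.conj (a * b)).toMonoidHom := fun a b P => by
    rw [Subgroup.map_map]; congr 1; ext g; simp [mul_assoc]
  have hone : ∀ P : Subgroup G, P.map (MulAut.conj (1 : G)).toMonoidHom = P := fun P => by
    conv_rhs => rw [← Subgroup.map_id P]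
    congr 1; ext g; simp
  let f : N →* Equiv.Perm Ω :=
    { toFun := fun n =>
        { toFun := fun P => ⟨_, hΩ n n.2 P⟩
          invFun := fun P => ⟨_, hΩ (n : G)⁻¹ (inv_mem n.2) P⟩
          left_inv := fun P => Subtype.ext (by simp only; rw [hcomp, inv_mul_cancel, hone])
          right_inv := fun P => Subtype.ext (by simp only; rw [hcomp, mul_inv_cancel, hone]) }
      map_one' := Equiv.ext fun P => Subtype.ext (hone P.1)
      map_mul' := fun a b => Equiv.ext fun P => Subtype.ext (hcomp a b P.1).symm }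
  have hnIJ : J ∉ Subgroup.zpowers I := rf_not_mem h _
  have hnIK : I * J ∉ Subgroup.zpowers I := by rw [hIdef, hJdef, ri_mul_rf h]; exact rf_not_mem h _
  have hnJK : I * J ∉ Subgroup.zpowers J := fun he => by
    have h2 : I ∈ Subgroup.zpowers J := by
      have := mul_mem he (inv_mem (Subgroup.mem_zpowers J))
      rwa [mul_inv_cancel_right] at this
    exact hnIJ (zpowers_eq_of_mem (oI.trans oJ.symm) h2 ▸ Subgroup.mem_zpowers J)
  have hcard : Nat.card Ω = 3 := by
    rw [← Nat.card_fin 3]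
    refine (Nat.card_eq_of_bijective (fun i : Fin 3 => (![(⟨_, Or.inl rfl⟩ : Ω),
      ⟨_, Or.inr (Or.inl rfl)⟩, ⟨_, Or.inr (Or.inr rfl)⟩] i)) ⟨?_, ?_⟩).symm
    · intro i j hij
      have h01 : Subgroup.zpowers I ≠ Subgroup.zpowers J := fun e => hnIJ (e ▸ Subgroup.mem_zpowers J)
      have h02 : Subgroup.zpowers I ≠ Subgroup.zpowers (I * J) := fun e =>
        hnIK (e ▸ Subgroup.mem_zpowers (I * J))
      have h12 : Subgroup.zpowers J ≠ Subgroup.zpowers (I * J) := fun e =>
        hnJK (e ▸ Subgroup.mem_zpowers (I * J))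
      have hv := congrArg Subtype.val hij
      fin_cases i <;> fin_cases j <;>
        first
          | rfl
          | exact absurd hv h01
          | exact absurd hv.symm h01
          | exact absurd hv h02
          | exact absurd hv.symm h02
          | exact absurd hv h12
          | exact absurd hv.symm h12
    · rintro ⟨P, hP | hP | hP⟩
      · exact ⟨0, Subtype.ext hP.symm⟩
      · exact ⟨1, Subtype.ext hP.symm⟩
      · exact ⟨2, Subtype.ext hP.symm⟩
  refine ⟨Ω, f, Subtype.val, hcard, Subtype.val_injective, fun n ω => rfl, ?_,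
    ⟨⟨_, Or.inl rfl⟩, rfl⟩, ⟨⟨_, Or.inr (Or.inl rfl)⟩, rfl⟩, ?_⟩
  swap
  · rintro ⟨P, hP | hP | hP⟩
    exacts [⟨I, hI, oI, hP⟩, ⟨J, hJ, oJ, hP⟩, ⟨_, mul_mem hI hJ, oK, hP⟩]
  -- inner relations
  have hJIJ : J * I * J⁻¹ = I⁻¹ := rf_ri h _
  have hIJI : I * J * I⁻¹ = J⁻¹ := by
    rw [hIdef, hJdef, ri_rf h, ← rf_sq h m]
    have h4 : rf x y (2 * m + 1) ^ 4 = 1 := rf_orderOf_odd h m ▸ pow_orderOf_eq_one _
    rw [eq_inv_iff_mul_eq_one]
    calc _ = rf x y (2 * m + 1) ^ 4 := by simp only [pow_succ, pow_zero, one_mul, mul_assoc]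
      _ = 1 := h4
  ext n
  rw [Subgroup.mem_subgroupOf, MonoidHom.mem_ker]
  constructor
  · intro hn
    have hfix : ∀ P : Ω, P.1.map (MulAut.conj (n : G)).toMonoidHom = P.1 := fun P =>
      congrArg Subtype.val (Equiv.congr_fun hn P)
    have hfI : (n : G) * I * (n : G)⁻¹ = I ∨ (n : G) * I * (n : G)⁻¹ = I⁻¹ := by
      refine eq_or_eq_inv_of_four oI ((Dihedral.orderOf_conj _ _).trans oI) ?_
      have := hfix ⟨_, Or.inl rfl⟩
      rw [hmap] at this
      simp only at this
      exact this ▸ Subgroup.mem_zpowers _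
    have hfJ : (n : G) * J * (n : G)⁻¹ = J ∨ (n : G) * J * (n : G)⁻¹ = J⁻¹ := by
      refine eq_or_eq_inv_of_four oJ ((Dihedral.orderOf_conj _ _).trans oJ) ?_
      have := hfix ⟨_, Or.inr (Or.inl rfl)⟩
      rw [hmap] at this
      simp only at this
      exact this ▸ Subgroup.mem_zpowers _
    obtain ⟨q, hq, hqI, hqJ⟩ : ∃ q ∈ Q, q * I * q⁻¹ = (n : G) * I * (n : G)⁻¹ ∧
        q * J * q⁻¹ = (n : G) * J * (n : G)⁻¹ := by
      rcases hfI with e1 | e1 <;> rcases hfJ with e2 | e2 <;> rw [e1, e2]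
      · exact ⟨1, one_mem _, by simp, by simp⟩
      · exact ⟨I, hI, by group, hIJI⟩
      · exact ⟨J, hJ, hJIJ, by group⟩
      · refine ⟨I * J, mul_mem hI hJ, ?_, ?_⟩
        · calc I * J * I * (I * J)⁻¹ = I * (J * I * J⁻¹) * I⁻¹ := by group
            _ = I⁻¹ := by rw [hJIJ]; group
        · calc I * J * J * (I * J)⁻¹ = I * J * I⁻¹ := by group
            _ = J⁻¹ := hIJI
    have hc : q⁻¹ * (n : G) ∈ Subgroup.centralizer (Q : Set G) := by
      have hIc : Commute (q⁻¹ * (n : G)) I := by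
        refine mul_inv_eq_iff_eq_mul.1 ?_
        calc q⁻¹ * (n : G) * I * (q⁻¹ * (n : G))⁻¹ = q⁻¹ * ((n : G) * I * (n : G)⁻¹) * q := by group
          _ = I := by rw [← hqI]; group
      have hJc : Commute (q⁻¹ * (n : G)) J := by
        refine mul_inv_eq_iff_eq_mul.1 ?_
        calc q⁻¹ * (n : G) * J * (q⁻¹ * (n : G))⁻¹ = q⁻¹ * ((n : G) * J * (n : G)⁻¹) * q := by group
          _ = J := by rw [← hqJ]; group
      rw [Subgroup.mem_centralizer_iff]
      intro u hu
      rcases hall u hu with e | e | e <;> obtain ⟨l, rfl⟩ := Subgroup.mem_zpowers_iff.1 e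
      · exact ((hIc.zpow_right l).eq).symm
      · exact ((hJc.zpow_right l).eq).symm
      · exact (((hIc.mul_right hJc).zpow_right l).eq).symm
    rw [← mul_inv_cancel_left q (n : G)]
    exact Subgroup.mul_mem_sup hq hc
  · intro hn
    have hIn : I ∈ N := Subgroup.le_normalizer hI
    have hJn : J ∈ N := Subgroup.le_normalizer hJ
    have hker : Q ⊔ Subgroup.centralizer (Q : Set G) ≤ (f.ker.map N.subtype) := by
      refine sup_le (fun u hu => ?_) (fun c hc => ?_)
      · have hgI : (⟨I, hIn⟩ : N) ∈ f.ker := by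
          refine Equiv.ext fun ⟨P, hP⟩ => Subtype.ext ?_
          change P.map (MulAut.conj I).toMonoidHom = P
          rcases hP with rfl | rfl | rfl <;> rw [hmap]
          · rw [mul_inv_cancel_right]
          · rw [hIJI, Subgroup.zpowers_inv]
          · rw [show I * (I * J) * I⁻¹ = I * (I * J * I⁻¹) by group, hIJI]
            have : I * J⁻¹ = (I * J)⁻¹ := by
              rw [eq_inv_iff_mul_eq_one]
              calc I * J⁻¹ * (I * J) = I * (I * J * I⁻¹) * (I * J) := by rw [hIJI]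
                _ = (I * I) * (J * J) := by group
                _ = 1 := by
                  rw [hIdef, hJdef, ri_sq h, rf_sq h, Dihedral.mul_self (cz_orderOf h)]
            rw [this, Subgroup.zpowers_inv]
        have hgJ : (⟨J, hJn⟩ : N) ∈ f.ker := by
          refine Equiv.ext fun ⟨P, hP⟩ => Subtype.ext ?_
          change P.map (MulAut.conj J).toMonoidHom = P
          rcases hP with rfl | rfl | rfl <;> rw [hmap]
          · rw [hJIJ, Subgroup.zpowers_inv]
          · rw [mul_inv_cancel_right]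
          · rw [show J * (I * J) * J⁻¹ = J * I by group]
            have : J * I = (I * J)⁻¹ := by
              rw [eq_inv_iff_mul_eq_one]
              calc J * I * (I * J) = J * (I * I) * J := by group
                _ = 1 := by
                  rw [hIdef, hJdef, ri_sq h, ← rf_sq h m]
                  have h4 : rf x y (2 * m + 1) ^ 4 = 1 := rf_orderOf_odd h m ▸ pow_orderOf_eq_one _
                  rw [← h4]; simp only [pow_succ, pow_zero, one_mul, mul_assoc]
            rw [this, Subgroup.zpowers_inv]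
        have hI' : I ∈ f.ker.map N.subtype := ⟨_, hgI, rfl⟩
        have hJ' : J ∈ f.ker.map N.subtype := ⟨_, hgJ, rfl⟩
        rcases hall u hu with e | e | e <;> obtain ⟨l, rfl⟩ := Subgroup.mem_zpowers_iff.1 e
        exacts [zpow_mem hI' l, zpow_mem hJ' l, zpow_mem (mul_mem hI' hJ') l]
      · refine ⟨⟨c, Subgroup.centralizer_le_normalizer _ hc⟩, Equiv.ext fun ⟨P, hP⟩ =>
          Subtype.ext ?_, rfl⟩
        change P.map (MulAut.conj c).toMonoidHom = P
        have hfix : ∀ u ∈ Q, c * u * c⁻¹ = u := fun u hu => by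
          rw [← Subgroup.mem_centralizer_iff.1 hc u hu, mul_inv_cancel_right]
        rcases hP with rfl | rfl | rfl <;> rw [hmap]
        exacts [by rw [hfix I hI], by rw [hfix J hJ], by rw [hfix _ (mul_mem hI hJ)]]
    obtain ⟨n', hn', he⟩ := hker hn
    exact (Subtype.ext he : n' = n) ▸ hn'

theorem quat_index {Q : Subgroup G} (eQ : Q ≃* QuaternionGroup 2) (hQS : Q ≤ S) :
    (((Q ⊔ Subgroup.centralizer (Q : Set G)).relIndex (Subgroup.normalizer (Q : Set G)) = 2 ∨
      (Q ⊔ Subgroup.centralizer (Q : Set G)).relIndex (Subgroup.normalizer (Q : Set G)) = 6) ∧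
    ((Q ⊔ Subgroup.centralizer (Q : Set G)).relIndex (Subgroup.normalizer (Q : Set G)) = 6 ↔
      FusedFour x y K)) ∧
    (FusedFour x y K → ∃ b ∈ Subgroup.normalizer (Q : Set G), Odd (orderOf b) ∧
      ∃ u ∈ Q, orderOf u = 4 ∧ b * u * b⁻¹ ∉ Subgroup.zpowers u) := by
  classical
  haveI : Fact (Nat.Prime 2) := ⟨Nat.prime_two⟩
  set N := Subgroup.normalizer (Q : Set G) with hN
  obtain ⟨m, hJ, hall, Ω, f, π, hΩ, hπ, hf, hker, ⟨ωI, hωI⟩, ⟨ωJ, hωJ⟩, hgen⟩ :=
    exists_quat_hom h eQ hQS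
  obtain ⟨hI, -⟩ := quat_group_structure h eQ hQS
  set M := Q ⊔ Subgroup.centralizer (Q : Set G)
  haveI : Finite Ω := Nat.finite_of_card_ne_zero (by omega)
  haveI : Fintype Ω := Fintype.ofFinite Ω
  have hr : M.relIndex N = Nat.card f.range := by
    rw [Subgroup.relIndex, ← hker, Subgroup.index_ker]
  have hperm : Nat.card (Equiv.Perm Ω) = 6 := by rw [Nat.card_perm, hΩ]; decide
  have hdvd : Nat.card f.range ∣ 6 := hperm ▸ Subgroup.card_subgroup_dvd_card _
  have hne : ωI ≠ ωJ := fun e => by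
    have h1 : Subgroup.zpowers (ri x K) = Subgroup.zpowers (rf x y (2 * m + 1)) := by
      rw [← hωI, ← hωJ, e]
    exact rf_not_mem h (2 * m + 1) (h1.symm ▸ Subgroup.mem_zpowers _)
  have hmapz : ∀ (n a : G), (Subgroup.zpowers a).map (MulAut.conj n).toMonoidHom =
      Subgroup.zpowers (n * a * n⁻¹) := fun n a => by rw [MonoidHom.map_zpowers]; rfl
  -- conjugating the generators into `Q` conjugates `Q` into `Q`
  have hgenQ : ∀ (n : G) (m' : ℤ) (u : G),
      (u ∈ Subgroup.zpowers (ri x K) ∨ u ∈ Subgroup.zpowers (rf x y (2 * m' + 1)) ∨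
        u ∈ Subgroup.zpowers (ri x K * rf x y (2 * m' + 1))) →
      n * ri x K * n⁻¹ ∈ Q → n * rf x y (2 * m' + 1) * n⁻¹ ∈ Q → n * u * n⁻¹ ∈ Q := by
    intro n m' u hu h1 h2
    rcases hu with e | e | e <;> obtain ⟨l, rfl⟩ := Subgroup.mem_zpowers_iff.1 e <;>
      rw [← _root_.conj_zpow]
    exacts [zpow_mem h1 l, zpow_mem h2 l, zpow_mem (by rw [← conj_mul]; exact mul_mem h1 h2) l]
  have hsri : ∀ s ∈ S, s * ri x K * s⁻¹ ∈ Subgroup.zpowers (ri x K) := by
    intro s hs
    rcases normal_form h ⟨s, hs⟩ with ⟨i, e⟩ | ⟨i, e⟩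
    · rw [show s = ((x ^ i : (S : Subgroup G)) : G) from congrArg Subtype.val e, ri,
        ← Subgroup.coe_inv, ← Subgroup.coe_mul, ← Subgroup.coe_mul,
        (Commute.zpow_zpow_self x i _).eq, mul_inv_cancel_right]
      exact Subgroup.mem_zpowers _
    · rw [show s = rf x y i from congrArg Subtype.val e, rf_ri h]
      exact inv_mem (Subgroup.mem_zpowers _)
  have hSn : (S : Subgroup G) ≤
      Subgroup.normalizer ((Subgroup.zpowers (ri x K) : Subgroup G) : Set G) := by
    intro s hs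
    refine TwoGroupLifts.mem_normalizer_of_conj_mem fun v hv => ?_
    obtain ⟨l, rfl⟩ := Subgroup.mem_zpowers_iff.1 hv
    rw [← _root_.conj_zpow]
    exact zpow_mem (hsri s hs) l
  -- an element of the Sylow subgroup inducing a transposition
  obtain ⟨s, hs, hsJ⟩ := rf_conj h (show (2 : ℤ) ∣ 2 * (m + K) + 1 - (2 * m + 1) by omega)
  have hsN : s ∈ N := TwoGroupLifts.mem_normalizer_of_conj_mem fun u hu =>
    hgenQ s m u (hall u hu) ((Subgroup.zpowers_le.2 hI) (hsri s hs))
      (by rw [hsJ, ← ri_mul_rf h]; exact mul_mem hI hJ)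
  have hfsI : f ⟨s, hsN⟩ ωI = ωI := by
    refine hπ ?_
    rw [hf, hωI, hmapz]
    exact zpowers_eq_of_mem ((Dihedral.orderOf_conj _ _)) (hsri s hs)
  have hfsJ : f ⟨s, hsN⟩ ωJ ≠ ωJ := fun e => by
    have h1 := hf ⟨s, hsN⟩ ωJ
    rw [e, hωJ, hmapz, hsJ, ← ri_mul_rf h] at h1
    have h2 : ri x K * rf x y (2 * m + 1) * (rf x y (2 * m + 1))⁻¹ ∈
        Subgroup.zpowers (rf x y (2 * m + 1)) :=
      mul_mem (h1.symm ▸ Subgroup.mem_zpowers _) (inv_mem (Subgroup.mem_zpowers _))
    rw [mul_inv_cancel_right] at h2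
    exact rf_not_mem h (2 * m + 1) ((zpowers_eq_of_mem ((ri_orderOf h).trans (rf_orderOf_odd h m).symm) h2)
      ▸ Subgroup.mem_zpowers _)
  have hfs2 : orderOf (f ⟨s, hsN⟩) = 2 := by
    refine orderOf_eq_prime ?_ fun e => hfsJ (by rw [e]; rfl)
    set p := f ⟨s, hsN⟩
    have hsurj : ∀ ω, ω = ωI ∨ ω = ωJ ∨ ω = p ωJ := by
      intro ω
      by_contra hno
      push Not at hno
      have hI' : p ωJ ≠ ωI := fun e => hne (p.injective (hfsI.trans e.symm))
      have hc : ({ωI, ωJ, p ωJ, ω} : Finset Ω).card = 4 := by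
        rw [Finset.card_insert_of_notMem, Finset.card_insert_of_notMem, Finset.card_pair]
        · exact hno.2.2.symm
        · simp [Ne.symm hfsJ, hno.2.1.symm]
        · simp [hne, hI'.symm, hno.1.symm]
      have hle := Finset.card_le_univ ({ωI, ωJ, p ωJ, ω} : Finset Ω)
      rw [hc, ← Nat.card_eq_fintype_card, hΩ] at hle
      omega
    have hpp : p (p ωJ) = ωJ := by
      rcases hsurj (p (p ωJ)) with e | e | e
      · exact absurd (p.injective (e.trans hfsI.symm)) (fun e' => hne (p.injective (hfsI.trans e'.symm)))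
      · exact e
      · exact absurd (p.injective e) hfsJ
    rw [pow_two]
    refine Equiv.ext fun ω => ?_
    rw [Equiv.Perm.mul_apply, Equiv.Perm.one_apply]
    rcases hsurj ω with rfl | rfl | rfl
    · rw [hfsI, hfsI]
    · exact hpp
    · rw [hpp]
  have heven : 2 ∣ Nat.card f.range := by
    rw [← hfs2]
    exact Subgroup.orderOf_dvd_natCard _ ⟨_, rfl⟩
  have hcases : Nat.card f.range = 2 ∨ Nat.card f.range = 6 := by
    have := Nat.le_of_dvd (by norm_num) hdvd
    interval_cases Nat.card f.range <;> omega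
  have htop : Nat.card f.range = 6 → ∀ p : Equiv.Perm Ω, ∃ n, f n = p := fun he p => by
    have h1 : f.range = ⊤ := Subgroup.eq_top_of_card_eq _ (he.trans hperm.symm)
    exact MonoidHom.mem_range.1 (h1 ▸ Subgroup.mem_top p)
  have hsix : M.relIndex N = 6 ↔ FusedFour x y K := by
    rw [hr]
    constructor
    · intro he
      obtain ⟨n, hn⟩ := htop he (Equiv.swap ωI ωJ)
      have h1 := hf n ωI
      rw [hn, Equiv.swap_apply_left, hωJ, hωI, hmapz] at h1
      have h2 : IsConj (ri x K) (rf x y (2 * m + 1)) := by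
        rcases eq_or_eq_inv_of_four (rf_orderOf_odd h m) ((Dihedral.orderOf_conj _ _).trans (ri_orderOf h))
          (h1.symm ▸ Subgroup.mem_zpowers _) with e | e
        · exact isConj_iff.2 ⟨(n : G), e⟩
        · refine (isConj_iff.2 ⟨(n : G), e⟩ : IsConj _ ((rf x y (2 * m + 1))⁻¹)).trans
            (isConj_iff.2 ⟨ri x K, ?_⟩)
          have h4 : rf x y (2 * m + 1) ^ 4 = 1 := rf_orderOf_odd h m ▸ pow_orderOf_eq_one _
          calc ri x K * (rf x y (2 * m + 1))⁻¹ * (ri x K)⁻¹
              = (ri x K * rf x y (2 * m + 1) * (ri x K)⁻¹)⁻¹ := by group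
            _ = (cz x K * rf x y (2 * m + 1))⁻¹ := by rw [ri_rf h]
            _ = (rf x y (2 * m + 1) ^ 3)⁻¹ := by rw [← rf_sq h m]; group
            _ = rf x y (2 * m + 1) ^ 4 * (rf x y (2 * m + 1) ^ 3)⁻¹ := by rw [h4, one_mul]
            _ = rf x y (2 * m + 1) := by group
      exact (rf_isConj h (by omega)).trans h2.symm
    · intro hF
      refine hcases.resolve_left fun he => ?_
      obtain ⟨g, hg⟩ := isConj_iff.1
        ((rf_isConj h (by omega) : IsConj (rf x y (2 * m + 1)) _).trans hF)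
      set C := Subgroup.normalizer ((Subgroup.zpowers (ri x K) : Subgroup G) : Set G)
      have hQJ : Q ≤ Subgroup.normalizer ((Subgroup.zpowers (rf x y (2 * m + 1)) : Subgroup G) : Set G) := by
        intro u hu
        have hIn : ri x K ∈ Subgroup.normalizer
            ((Subgroup.zpowers (rf x y (2 * m + 1)) : Subgroup G) : Set G) := by
          refine TwoGroupLifts.mem_normalizer_of_conj_mem fun v hv => ?_
          obtain ⟨l, rfl⟩ := Subgroup.mem_zpowers_iff.1 hv
          rw [← _root_.conj_zpow, ri_rf h, ← rf_sq h m]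
          exact zpow_mem (mul_mem (mul_mem (Subgroup.mem_zpowers _) (Subgroup.mem_zpowers _))
            (Subgroup.mem_zpowers _)) l
        have hJn : rf x y (2 * m + 1) ∈ Subgroup.normalizer
            ((Subgroup.zpowers (rf x y (2 * m + 1)) : Subgroup G) : Set G) :=
          Subgroup.le_normalizer (Subgroup.mem_zpowers _)
        rcases hall u hu with e | e | e <;> obtain ⟨l, rfl⟩ := Subgroup.mem_zpowers_iff.1 e
        exacts [zpow_mem hIn l, zpow_mem hJn l, zpow_mem (mul_mem hIn hJn) l]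
      have hP : Q.map (MulAut.conj g).toMonoidHom ≤ C := by
        rintro _ ⟨u, hu, rfl⟩
        have h1 := Subgroup.le_normalizer_map (MulAut.conj g).toMonoidHom ⟨u, hQJ hu, rfl⟩
        rwa [hmapz, hg] at h1
      have hQ2 : IsPGroup 2 Q := IsPGroup.of_card (n := 3) (by
        rw [Nat.card_congr eQ.toEquiv, Nat.card_eq_fintype_card, QuaternionGroup.card]; norm_num)
      obtain ⟨l, hl, hlS⟩ := exists_centralizing_conj_into S hSn (hQ2.map _) hP
      set φ := (MulAut.conj (l * g)).toMonoidHom with hφ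
      have hQ'S : Q.map φ ≤ S := by
        rintro _ ⟨u, hu, rfl⟩
        have e : φ u = l * (g * u * g⁻¹) * l⁻¹ := by simp [φ, mul_assoc]
        rw [e]; exact hlS (g * u * g⁻¹) ⟨u, hu, rfl⟩
      obtain ⟨-, m', -, hall'⟩ := quat_group_structure h
        ((Q.equivMapOfInjective φ (MulAut.conj (l * g)).injective).symm.trans eQ) hQ'S
      obtain ⟨t, ht, htJ⟩ := rf_conj h (show (2 : ℤ) ∣ 2 * m + 1 - (2 * m' + 1) by omega)
      set n := t * (l * g) with hn
      have hnN : n ∈ N := by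
        refine TwoGroupLifts.mem_normalizer_of_conj_mem fun u hu => ?_
        have e : n * u * n⁻¹ = t * φ u * t⁻¹ := by rw [hn]; simp [φ, mul_assoc]
        rw [e]
        exact hgenQ t m' _ (hall' _ ⟨u, hu, rfl⟩) ((Subgroup.zpowers_le.2 hI) (hsri t ht))
          (by rw [htJ]; exact hJ)
      have hnJ : f ⟨n, hnN⟩ ωJ = ωI := by
        refine hπ ?_
        rw [hf, hωI, hωJ, hmapz]
        have e : n * rf x y (2 * m + 1) * n⁻¹ = t * (l * ri x K * l⁻¹) * t⁻¹ := by
          rw [hn, ← hg]; group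
        simp only
        rw [e]
        refine zpowers_eq_of_mem ((Dihedral.orderOf_conj _ _).trans (Dihedral.orderOf_conj _ _)) ?_
        have h1 := (Subgroup.mem_normalizer_iff.1 hl _).1 (Subgroup.mem_zpowers (ri x K))
        exact (Subgroup.mem_normalizer_iff.1 (hSn ht) _).1 h1
      have hr2 : Fintype.card f.range = 2 := by rw [← Nat.card_eq_fintype_card, he]
      have h3 : ({⟨1, one_mem _⟩, ⟨f ⟨s, hsN⟩, _, rfl⟩, ⟨f ⟨n, hnN⟩, _, rfl⟩} : Finset f.range).card
          ≤ 2 := hr2 ▸ Finset.card_le_univ _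
      have ha : f ⟨s, hsN⟩ ≠ 1 := fun e => hfsJ (by rw [e]; rfl)
      have hb : f ⟨n, hnN⟩ ≠ 1 := fun e => hne (by rw [← hnJ, e]; rfl)
      have hc : f ⟨s, hsN⟩ ≠ f ⟨n, hnN⟩ := fun e => hne (by
        have h1 : f ⟨n, hnN⟩ ωI = f ⟨n, hnN⟩ ωJ := by rw [hnJ, ← e, hfsI]
        exact (f ⟨n, hnN⟩).injective h1)
      rw [Finset.card_eq_three.2 ⟨_, _, _, fun e => ha (congrArg Subtype.val e).symm,
        fun e => hb (congrArg Subtype.val e).symm, fun e => hc (congrArg Subtype.val e), rfl⟩] at h3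
      omega
  refine ⟨⟨by rw [hr]; exact hcases, hsix⟩, fun hF => ?_⟩
  obtain ⟨b, hb, hbo, hbM⟩ := exists_odd_of_three_dvd (C := M) (N := N) (hker ▸ MonoidHom.normal_ker f)
    (by rw [hsix.2 hF]; norm_num)
  refine ⟨b, hb, hbo, ?_⟩
  have h1 : f ⟨b, hb⟩ ≠ 1 := fun e => hbM (by
    have : (⟨b, hb⟩ : N) ∈ f.ker := e
    rwa [hker] at this)
  obtain ⟨ω, hω⟩ : ∃ ω, f ⟨b, hb⟩ ω ≠ ω := by
    by_contra hno
    push Not at hno
    exact h1 (Equiv.ext hno)
  obtain ⟨a, ha, ha4, hωa⟩ := hgen ω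
  refine ⟨a, ha, ha4, fun hm => hω (hπ ?_)⟩
  rw [hf, hωa, hmapz]
  exact zpowers_eq_of_mem (Dihedral.orderOf_conj _ _) hm

/-- If elements of order four are fused they all lie in the 2-residual. -/
theorem fours_mem_pResidual {Q : Subgroup G} (eQ : Q ≃* QuaternionGroup 2) (hQS : Q ≤ S)
    (hF : FusedFour x y K) {w : G} (hw : orderOf w = 4) : w ∈ Cfsg.pResidual 2 G := by
  obtain ⟨b, hb, hbo, u, hu, hu4, hbu⟩ := (quat_index h eQ hQS).2 hF
  set v := b * u⁻¹ * b⁻¹ with hv
  have hvQ : v ∈ Q := (Subgroup.mem_normalizer_iff.1 hb _).1 (inv_mem hu)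
  set c := u * b * u⁻¹ * b⁻¹ with hc
  have hcv : c = u * v := by rw [hc, hv]; group
  have hv' : v ∉ Subgroup.zpowers u := fun hm => hbu (by
    have := inv_mem hm
    rwa [hv, show (b * u⁻¹ * b⁻¹)⁻¹ = b * u * b⁻¹ by group] at this)
  have hc4 : orderOf c = 4 := by
    by_contra hne
    have husq : cz x K = u * u := by
      have h2 : orderOf (u * u) ≠ 4 := by
        intro e
        have h3 : (u * u) ^ 2 = 1 := by
          have h4 := pow_orderOf_eq_one u
          rw [hu4] at h4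
          rw [← pow_two, ← pow_mul]; norm_num [h4]
        have := Nat.le_of_dvd two_pos (orderOf_dvd_of_pow_eq_one h3)
        omega
      rcases quat_small h eQ hQS (mul_mem hu hu) h2 with e | e
      · have h3 := Nat.le_of_dvd two_pos (orderOf_dvd_of_pow_eq_one (by rwa [pow_two] : u ^ 2 = 1))
        omega
      · exact e.symm
    rcases quat_small h eQ hQS (hcv ▸ mul_mem hu hvQ) hne with e | e
    · rw [hcv] at e
      exact hv' (eq_inv_of_mul_eq_one_right e ▸ inv_mem (Subgroup.mem_zpowers u))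
    · rw [hcv, husq, mul_right_inj] at e
      exact hv' (e ▸ Subgroup.mem_zpowers u)
  have key : ∀ t : G, orderOf t = 4 → IsConj (ri x K) t := fun t ht =>
    (four_classes h ht).elim id fun hh => hF.symm.trans hh
  obtain ⟨g, rfl⟩ := isConj_iff.1 ((key c hc4).symm.trans (key w hw))
  exact CfsgLib.Fusion.Basic.pResidual_normal.conj_mem c (commutator_mem_pResidual hbo u) g

end CfsgLib.Involution.QDFusion
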