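import Cfsg.Agent.Lib.Involution.SylowFusionTools

/-!
# The automizer of a quaternion subgroup of order eight
-/

set_option autoImplicit false

namespace CfsgLib.Involution.QuatAutomizer

open CfsgLib.Involution.SylowFusionTools

universe u

variable {G : Type u} [Group G] [Finite G]

/-- A quaternion subgroup of order eight with a chosen pair of generators. -/
structure Frame (Q : Subgroup G) (c I J : G) : Prop where
  memI : I ∈ Q
  memJ : J ∈ Q
  sqI : I * I = c
  sqJ : J * J = c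
  ordc : orderOf c = 2
  conj : J * I * J⁻¹ = I⁻¹
  notMem : J ∉ Subgroup.zpowers I
  all : ∀ g ∈ Q, g ∈ Subgroup.zpowers I ∨ g ∈ Subgroup.zpowers J ∨ g ∈ Subgroup.zpowers (I * J)

variable {Q : Subgroup G} {c I J : G} (F : Frame Q c I J)

include F

omit [Finite G] in
theorem orderOf_of_sq {a : G} (ha : a * a = c) : orderOf a = 4 := by
  have h1 : c ≠ 1 := fun e => by have := F.ordc; rw [e, orderOf_one] at this; omega
  have h2 : c * c = 1 := by rw [← pow_two, ← F.ordc, pow_orderOf_eq_one]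
  have h3 : a ^ 2 ^ (1 + 1) = 1 := by
    rw [show (2 : ℕ) ^ (1 + 1) = 2 * 2 from rfl, pow_mul, pow_two a, ha, pow_two, h2]
  have h4 : ¬ a ^ 2 ^ 1 = 1 := by rw [pow_one, pow_two, ha]; exact h1
  haveI : Fact (Nat.Prime 2) := ⟨Nat.prime_two⟩
  exact orderOf_eq_prime_pow h4 h3

omit [Finite G] in
theorem four_eq {a : G} (ha : a * a = c) : a ^ 4 = 1 := orderOf_of_sq F ha ▸ pow_orderOf_eq_one a

omit [Finite G] in
theorem inner : I * J * I⁻¹ = J⁻¹ := by
  calc I * J * I⁻¹ = I * (J * I * J⁻¹)⁻¹ * J := by group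
    _ = I * I * J := by rw [F.conj, inv_inv]
    _ = J * J * J := by rw [F.sqI, F.sqJ]
    _ = J⁻¹ := eq_inv_of_mul_eq_one_left
      (by have := four_eq F F.sqJ; simpa only [pow_succ, pow_zero, one_mul] using this)

omit [Finite G] in
theorem sqK : (I * J) * (I * J) = c := by
  calc (I * J) * (I * J) = I * (J * I * J⁻¹) * (J * J) := by group
    _ = c := by rw [F.conj, mul_inv_cancel, one_mul, F.sqJ]

theorem zpowers_cases {a : G} (ha : a ∈ Q) (h4 : orderOf a = 4) :
    Subgroup.zpowers a = Subgroup.zpowers I ∨ Subgroup.zpowers a = Subgroup.zpowers J ∨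
      Subgroup.zpowers a = Subgroup.zpowers (I * J) := by
  rcases F.all a ha with e | e | e
  · exact Or.inl (zpowers_eq_of_mem (h4.trans (orderOf_of_sq F F.sqI).symm) e)
  · exact Or.inr (Or.inl (zpowers_eq_of_mem (h4.trans (orderOf_of_sq F F.sqJ).symm) e))
  · exact Or.inr (Or.inr (zpowers_eq_of_mem (h4.trans (orderOf_of_sq F (sqK F)).symm) e))

theorem pairwise : Subgroup.zpowers I ≠ Subgroup.zpowers J ∧
    Subgroup.zpowers I ≠ Subgroup.zpowers (I * J) ∧
      Subgroup.zpowers J ≠ Subgroup.zpowers (I * J) := by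
  have hJK : Subgroup.zpowers J ≠ Subgroup.zpowers (I * J) := fun e => by
    have h1 : I * J * J⁻¹ ∈ Subgroup.zpowers J :=
      mul_mem (e ▸ Subgroup.mem_zpowers _) (inv_mem (Subgroup.mem_zpowers _))
    rw [mul_inv_cancel_right] at h1
    exact F.notMem (zpowers_eq_of_mem
      ((orderOf_of_sq F F.sqI).trans (orderOf_of_sq F F.sqJ).symm) h1 ▸ Subgroup.mem_zpowers J)
  refine ⟨fun e => F.notMem (e ▸ Subgroup.mem_zpowers J), fun e => F.notMem ?_, hJK⟩
  exact (Subgroup.mul_mem_cancel_left _ (Subgroup.mem_zpowers I)).1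
    (e ▸ Subgroup.mem_zpowers (I * J))

/-- The action on the three cyclic subgroups of order four. -/
theorem exists_hom :
    ∃ (Ω : Type u) (f : Subgroup.normalizer (Q : Set G) →* Equiv.Perm Ω) (π : Ω → Subgroup G),
      Nat.card Ω = 3 ∧ Function.Injective π ∧
      (∀ n ω, π (f n ω) = (π ω).map (MulAut.conj (n : G)).toMonoidHom) ∧
      f.ker = (Q ⊔ Subgroup.centralizer (Q : Set G)).subgroupOf (Subgroup.normalizer (Q : Set G)) ∧
      (∃ ω, π ω = Subgroup.zpowers I) ∧ (∃ ω, π ω = Subgroup.zpowers J) ∧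
      (∃ ω, π ω = Subgroup.zpowers (I * J)) := by
  have oI := orderOf_of_sq F F.sqI
  have oJ := orderOf_of_sq F F.sqJ
  have oK := orderOf_of_sq F (sqK F)
  have hI := F.memI
  have hJ := F.memJ
  set N := Subgroup.normalizer (Q : Set G) with hN
  let Ω := {P : Subgroup G // P = Subgroup.zpowers I ∨ P = Subgroup.zpowers J ∨
    P = Subgroup.zpowers (I * J)}
  have hmap : ∀ (n : G) (a : G), (Subgroup.zpowers a).map (MulAut.conj n).toMonoidHom =
      Subgroup.zpowers (n * a * n⁻¹) := fun n a => by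
    rw [MonoidHom.map_zpowers]; rfl
  have hΩ : ∀ n ∈ N, ∀ P : Ω, P.1.map (MulAut.conj n).toMonoidHom = Subgroup.zpowers I ∨
      P.1.map (MulAut.conj n).toMonoidHom = Subgroup.zpowers J ∨
      P.1.map (MulAut.conj n).toMonoidHom = Subgroup.zpowers (I * J) := by
    intro n hn P
    obtain ⟨a, ha, ha4, hP⟩ : ∃ a ∈ Q, orderOf a = 4 ∧ P.1 = Subgroup.zpowers a := by
      rcases P.2 with e | e | e
      exacts [⟨I, hI, oI, e⟩, ⟨J, hJ, oJ, e⟩, ⟨_, mul_mem hI hJ, oK, e⟩]
    rw [hP, hmap]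
    exact zpowers_cases F ((Subgroup.mem_normalizer_iff.1 hn a).1 ha)
      ((Dihedral.orderOf_conj n a).trans ha4)
  have hcomp : ∀ (a b : G) (P : Subgroup G), (P.map (MulAut.conj b).toMonoidHom).map
      (MulAut.conj a).toMonoidHom = P.map (MulAut.conj (a * b)).toMonoidHom := fun a b P => by
    rw [Subgroup.map_map]; congr 1; ext g; simp [mul_assoc]
  have hone : ∀ P : Subgroup G, P.map (MulAut.conj (1 : G)).toMonoidHom = P := fun P => by
    conv_rhs => rw [← Subgroup.map_id P]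
    congr 1; ext g; simp
  let f : N →* Equiv.Perm Ω :=
    { toFun := fun n =>
        { toFun := fun P => ⟨_, hΩ n n.2 P⟩
          invFun := fun P => ⟨_, hΩ (n : G)⁻¹ (inv_mem n.2) P⟩
          left_inv := fun P => Subtype.ext (by simp only; rw [hcomp, inv_mul_cancel, hone])
          right_inv := fun P => Subtype.ext (by simp only; rw [hcomp, mul_inv_cancel, hone]) }
      map_one' := Equiv.ext fun P => Subtype.ext (hone P.1)
      map_mul' := fun a b => Equiv.ext fun P => Subtype.ext (hcomp a b P.1).symm }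
  obtain ⟨h01, h02, h12⟩ := pairwise F
  have hcard : Nat.card Ω = 3 := by
    rw [← Nat.card_fin 3]
    refine (Nat.card_eq_of_bijective (fun i : Fin 3 => (![(⟨_, Or.inl rfl⟩ : Ω),
      ⟨_, Or.inr (Or.inl rfl)⟩, ⟨_, Or.inr (Or.inr rfl)⟩] i)) ⟨?_, ?_⟩).symm
    · intro i j hij
      have hv := congrArg Subtype.val hij
      fin_cases i <;> fin_cases j <;>
        first
          | rfl
          | exact absurd hv h01
          | exact absurd hv.symm h01
          | exact absurd hv h02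
          | exact absurd hv.symm h02
          | exact absurd hv h12
          | exact absurd hv.symm h12
    · rintro ⟨P, hP | hP | hP⟩
      · exact ⟨0, Subtype.ext hP.symm⟩
      · exact ⟨1, Subtype.ext hP.symm⟩
      · exact ⟨2, Subtype.ext hP.symm⟩
  refine ⟨Ω, f, Subtype.val, hcard, Subtype.val_injective, fun n ω => rfl, ?_,
    ⟨⟨_, Or.inl rfl⟩, rfl⟩, ⟨⟨_, Or.inr (Or.inl rfl)⟩, rfl⟩, ⟨⟨_, Or.inr (Or.inr rfl)⟩, rfl⟩⟩
  have hJIJ : J * I * J⁻¹ = I⁻¹ := F.conj
  have hIJI : I * J * I⁻¹ = J⁻¹ := inner F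
  ext n
  rw [Subgroup.mem_subgroupOf, MonoidHom.mem_ker]
  constructor
  · intro hn
    have hfix : ∀ P : Ω, P.1.map (MulAut.conj (n : G)).toMonoidHom = P.1 := fun P =>
      congrArg Subtype.val (Equiv.congr_fun hn P)
    have hfI : (n : G) * I * (n : G)⁻¹ = I ∨ (n : G) * I * (n : G)⁻¹ = I⁻¹ := by
      refine eq_or_eq_inv_of_four oI ((Dihedral.orderOf_conj _ _).trans oI) ?_
      have := hfix ⟨_, Or.inl rfl⟩
      rw [hmap] at this
      simp only at this
      exact this ▸ Subgroup.mem_zpowers _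
    have hfJ : (n : G) * J * (n : G)⁻¹ = J ∨ (n : G) * J * (n : G)⁻¹ = J⁻¹ := by
      refine eq_or_eq_inv_of_four oJ ((Dihedral.orderOf_conj _ _).trans oJ) ?_
      have := hfix ⟨_, Or.inr (Or.inl rfl)⟩
      rw [hmap] at this
      simp only at this
      exact this ▸ Subgroup.mem_zpowers _
    obtain ⟨q, hq, hqI, hqJ⟩ : ∃ q ∈ Q, q * I * q⁻¹ = (n : G) * I * (n : G)⁻¹ ∧
        q * J * q⁻¹ = (n : G) * J * (n : G)⁻¹ := by
      rcases hfI with e1 | e1 <;> rcases hfJ with e2 | e2 <;> rw [e1, e2]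
      · exact ⟨1, one_mem _, by simp, by simp⟩
      · exact ⟨I, hI, by group, hIJI⟩
      · exact ⟨J, hJ, hJIJ, by group⟩
      · refine ⟨I * J, mul_mem hI hJ, ?_, ?_⟩
        · calc I * J * I * (I * J)⁻¹ = I * (J * I * J⁻¹) * I⁻¹ := by group
            _ = I⁻¹ := by rw [hJIJ]; group
        · calc I * J * J * (I * J)⁻¹ = I * J * I⁻¹ := by group
            _ = J⁻¹ := hIJI
    have hc : q⁻¹ * (n : G) ∈ Subgroup.centralizer (Q : Set G) := by
      have hIc : Commute (q⁻¹ * (n : G)) I := by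
        refine mul_inv_eq_iff_eq_mul.1 ?_
        calc q⁻¹ * (n : G) * I * (q⁻¹ * (n : G))⁻¹ = q⁻¹ * ((n : G) * I * (n : G)⁻¹) * q := by group
          _ = I := by rw [← hqI]; group
      have hJc : Commute (q⁻¹ * (n : G)) J := by
        refine mul_inv_eq_iff_eq_mul.1 ?_
        calc q⁻¹ * (n : G) * J * (q⁻¹ * (n : G))⁻¹ = q⁻¹ * ((n : G) * J * (n : G)⁻¹) * q := by group
          _ = J := by rw [← hqJ]; group
      rw [Subgroup.mem_centralizer_iff]
      intro u hu
      rcases F.all u hu with e | e | e <;> obtain ⟨l, rfl⟩ := Subgroup.mem_zpowers_iff.1 e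
      · exact ((hIc.zpow_right l).eq).symm
      · exact ((hJc.zpow_right l).eq).symm
      · exact (((hIc.mul_right hJc).zpow_right l).eq).symm
    rw [← mul_inv_cancel_left q (n : G)]
    exact Subgroup.mul_mem_sup hq hc
  · intro hn
    have hIn : I ∈ N := Subgroup.le_normalizer hI
    have hJn : J ∈ N := Subgroup.le_normalizer hJ
    have hker : Q ⊔ Subgroup.centralizer (Q : Set G) ≤ (f.ker.map N.subtype) := by
      refine sup_le (fun u hu => ?_) (fun c hc => ?_)
      · have hgI : (⟨I, hIn⟩ : N) ∈ f.ker := by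
          refine Equiv.ext fun ⟨P, hP⟩ => Subtype.ext ?_
          change P.map (MulAut.conj I).toMonoidHom = P
          rcases hP with rfl | rfl | rfl <;> rw [hmap]
          · rw [mul_inv_cancel_right]
          · rw [hIJI, Subgroup.zpowers_inv]
          · rw [show I * (I * J) * I⁻¹ = I * (I * J * I⁻¹) by group, hIJI]
            have : I * J⁻¹ = (I * J)⁻¹ := by
              rw [eq_inv_iff_mul_eq_one]
              calc I * J⁻¹ * (I * J) = I * (I * J * I⁻¹) * (I * J) := by rw [hIJI]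
                _ = (I * I) * (J * J) := by group
                _ = 1 := by rw [F.sqI, F.sqJ, Dihedral.mul_self F.ordc]
            rw [this, Subgroup.zpowers_inv]
        have hgJ : (⟨J, hJn⟩ : N) ∈ f.ker := by
          refine Equiv.ext fun ⟨P, hP⟩ => Subtype.ext ?_
          change P.map (MulAut.conj J).toMonoidHom = P
          rcases hP with rfl | rfl | rfl <;> rw [hmap]
          · rw [hJIJ, Subgroup.zpowers_inv]
          · rw [mul_inv_cancel_right]
          · rw [show J * (I * J) * J⁻¹ = J * I by group]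
            have : J * I = (I * J)⁻¹ := by
              rw [eq_inv_iff_mul_eq_one]
              calc J * I * (I * J) = J * (I * I) * J := by group
                _ = J ^ 4 := by
                  rw [F.sqI, ← F.sqJ]; simp only [pow_succ, pow_zero, one_mul, mul_assoc]
                _ = 1 := four_eq F F.sqJ
            rw [this, Subgroup.zpowers_inv]
        have hI' : I ∈ f.ker.map N.subtype := ⟨_, hgI, rfl⟩
        have hJ' : J ∈ f.ker.map N.subtype := ⟨_, hgJ, rfl⟩
        rcases F.all u hu with e | e | e <;> obtain ⟨l, rfl⟩ := Subgroup.mem_zpowers_iff.1 e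
        exacts [zpow_mem hI' l, zpow_mem hJ' l, zpow_mem (mul_mem hI' hJ') l]
      · refine ⟨⟨c, Subgroup.centralizer_le_normalizer _ hc⟩, Equiv.ext fun ⟨P, hP⟩ =>
          Subtype.ext ?_, rfl⟩
        change P.map (MulAut.conj c).toMonoidHom = P
        have hfix : ∀ u ∈ Q, c * u * c⁻¹ = u := fun u hu => by
          rw [← Subgroup.mem_centralizer_iff.1 hc u hu, mul_inv_cancel_right]
        rcases hP with rfl | rfl | rfl <;> rw [hmap]
        exacts [by rw [hfix I hI], by rw [hfix J hJ], by rw [hfix _ (mul_mem hI hJ)]]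
    obtain ⟨n', hn', he⟩ := hker hn
    exact (Subtype.ext he : n' = n) ▸ hn'

/-- The index of the inner part in a subgroup of the normaliser that contains a transposition. -/
theorem index_cases {A : Subgroup G} (hA : A ≤ Subgroup.normalizer (Q : Set G)) {s : G}
    (hs : s ∈ A) (hsI : s * I * s⁻¹ ∈ Subgroup.zpowers I)
    (hsJ : s * J * s⁻¹ ∈ Subgroup.zpowers (I * J)) :
    ((Q ⊔ Subgroup.centralizer (Q : Set G)).relIndex A = 2 ∨
      (Q ⊔ Subgroup.centralizer (Q : Set G)).relIndex A = 6) ∧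
    ((Q ⊔ Subgroup.centralizer (Q : Set G)).relIndex A = 6 ↔
      ∃ n ∈ A, n * J * n⁻¹ ∈ Subgroup.zpowers I) ∧
    ((Q ⊔ Subgroup.centralizer (Q : Set G)).relIndex A = 6 →
      ∃ b ∈ A, Odd (orderOf b) ∧ b * I * b⁻¹ ∉ Subgroup.zpowers I) := by
  classical
  haveI : Fact (Nat.Prime 2) := ⟨Nat.prime_two⟩
  obtain ⟨Ω, f, π, hΩ, hπ, hf, hker, ⟨ωI, hωI⟩, ⟨ωJ, hωJ⟩, ⟨ωK, hωK⟩⟩ := exists_hom F
  haveI : Finite Ω := Nat.finite_of_card_ne_zero (by omega)
  haveI : Fintype Ω := Fintype.ofFinite Ω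
  set φ : A →* Equiv.Perm Ω := f.comp (Subgroup.inclusion hA) with hφ
  set M := Q ⊔ Subgroup.centralizer (Q : Set G) with hM
  have hkerφ : φ.ker = M.subgroupOf A := by
    rw [hφ, ← MonoidHom.comap_ker, hker]; rfl
  have hr : M.relIndex A = Nat.card φ.range := by
    rw [Subgroup.relIndex, ← hkerφ, Subgroup.index_ker]
  have hperm : Nat.card (Equiv.Perm Ω) = 6 := by rw [Nat.card_perm, hΩ]; decide
  have hdvd : Nat.card φ.range ∣ 6 := hperm ▸ Subgroup.card_subgroup_dvd_card _
  have o4 : ∀ {a : G}, a * a = c → ∀ n : G, orderOf (n * a * n⁻¹) = 4 := fun ha n =>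
    (Dihedral.orderOf_conj n _).trans (orderOf_of_sq F ha)
  have hmapz : ∀ (n : A) (a : G) (ω ω' : Ω), π ω = Subgroup.zpowers a →
      (φ n ω = ω' ↔ Subgroup.zpowers ((n : G) * a * (n : G)⁻¹) = π ω') := by
    intro n a ω ω' hω
    rw [← hπ.eq_iff, hφ, MonoidHom.comp_apply, hf, hω, MonoidHom.map_zpowers]
    rfl
  obtain ⟨hIJ', hIK', hJK'⟩ := pairwise F
  have hne : ωI ≠ ωJ := fun e => hIJ' (by rw [← hωI, ← hωJ, e])
  have hneK : ωK ≠ ωI := fun e => hIK' (by rw [← hωI, ← hωK, e])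
  have hneKJ : ωK ≠ ωJ := fun e => hJK' (by rw [← hωJ, ← hωK, e])
  have hsurj : ∀ ω, ω = ωI ∨ ω = ωJ ∨ ω = ωK := by
    intro ω
    by_contra hno
    push Not at hno
    have hc : ({ωI, ωJ, ωK, ω} : Finset Ω).card = 4 := by
      rw [Finset.card_insert_of_notMem, Finset.card_insert_of_notMem, Finset.card_pair]
      · exact hno.2.2.symm
      · simp [hneKJ.symm, hno.2.1.symm]
      · simp [hne, hneK.symm, hno.1.symm]
    have hle := Finset.card_le_univ ({ωI, ωJ, ωK, ω} : Finset Ω)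
    rw [hc, ← Nat.card_eq_fintype_card, hΩ] at hle
    omega
  set p := φ ⟨s, hs⟩ with hp
  have hpI : p ωI = ωI := (hmapz _ I _ _ hωI).2
    (hωI ▸ zpowers_eq_of_mem ((o4 F.sqI s).trans (orderOf_of_sq F F.sqI).symm) hsI)
  have hpJ : p ωJ = ωK := (hmapz _ J _ _ hωJ).2
    (hωK ▸ zpowers_eq_of_mem ((o4 F.sqJ s).trans (orderOf_of_sq F (sqK F)).symm) hsJ)
  have hpK : p ωK = ωJ := by
    rcases hsurj (p ωK) with e | e | e
    · exact absurd (p.injective (e.trans hpI.symm)) hneK
    · exact e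
    · exact absurd (p.injective (e.trans hpJ.symm)) hneKJ
  have hp1 : p ≠ 1 := fun e => hneKJ (by rw [← hpJ, e]; rfl)
  have hp2 : orderOf p = 2 := by
    refine orderOf_eq_prime ?_ hp1
    rw [pow_two]
    refine Equiv.ext fun ω => ?_
    rw [Equiv.Perm.mul_apply, Equiv.Perm.one_apply]
    rcases hsurj ω with rfl | rfl | rfl
    · rw [hpI, hpI]
    · rw [hpJ, hpK]
    · rw [hpK, hpJ]
  have heven : 2 ∣ Nat.card φ.range := by
    rw [← hp2]; exact Subgroup.orderOf_dvd_natCard _ ⟨_, rfl⟩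
  have hcases : Nat.card φ.range = 2 ∨ Nat.card φ.range = 6 := by
    have := Nat.le_of_dvd (by norm_num) hdvd
    interval_cases Nat.card φ.range <;> omega
  have hsix : M.relIndex A = 6 ↔ ∃ n ∈ A, n * J * n⁻¹ ∈ Subgroup.zpowers I := by
    rw [hr]
    constructor
    · intro he
      have h1 : φ.range = ⊤ := Subgroup.eq_top_of_card_eq _ (he.trans hperm.symm)
      obtain ⟨n, hn⟩ := MonoidHom.mem_range.1 (h1 ▸ Subgroup.mem_top (Equiv.swap ωI ωJ))
      refine ⟨n, n.2, ?_⟩
      have h2 := (hmapz n J ωJ ωI hωJ).1 (by rw [hn, Equiv.swap_apply_right])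
      rw [hωI] at h2
      exact h2 ▸ Subgroup.mem_zpowers _
    · rintro ⟨n, hn, hnJ⟩
      refine hcases.resolve_left fun he => ?_
      have hnJ' : φ ⟨n, hn⟩ ωJ = ωI := (hmapz _ J _ _ hωJ).2
        (hωI ▸ zpowers_eq_of_mem ((o4 F.sqJ n).trans (orderOf_of_sq F F.sqI).symm) hnJ)
      have hb : φ ⟨n, hn⟩ ≠ 1 := fun e => hne (by rw [← hnJ', e]; rfl)
      have hc : p ≠ φ ⟨n, hn⟩ := fun e => hneK (by rw [← hpJ, e, hnJ'])
      have hr2 : Fintype.card φ.range = 2 := by rw [← Nat.card_eq_fintype_card, he]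
      have h3 : ({⟨1, one_mem _⟩, ⟨p, _, rfl⟩, ⟨φ ⟨n, hn⟩, _, rfl⟩} : Finset φ.range).card ≤ 2 :=
        hr2 ▸ Finset.card_le_univ _
      rw [Finset.card_eq_three.2 ⟨_, _, _, fun e => hp1 (congrArg Subtype.val e).symm,
        fun e => hb (congrArg Subtype.val e).symm, fun e => hc (congrArg Subtype.val e), rfl⟩] at h3
      omega
  refine ⟨by rw [hr]; exact hcases, hsix, fun h6 => ?_⟩
  obtain ⟨b, hb, hbo, hbM⟩ := exists_odd_of_three_dvd (C := M) (N := A)
    (hkerφ ▸ MonoidHom.normal_ker φ) (by rw [h6]; norm_num)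
  refine ⟨b, hb, hbo, fun hbI => hbM ?_⟩
  set q := φ ⟨b, hb⟩ with hq
  have hqI : q ωI = ωI := (hmapz _ I _ _ hωI).2
    (hωI ▸ zpowers_eq_of_mem ((o4 F.sqI b).trans (orderOf_of_sq F F.sqI).symm) hbI)
  have hq2 : q * q = 1 := by
    have hor : q ωJ = ωJ ∨ q ωJ = ωK := by
      rcases hsurj (q ωJ) with e | e | e
      · exact absurd (q.injective (e.trans hqI.symm)).symm hne
      · exact Or.inl e
      · exact Or.inr e
    have hqK : q ωK = ωJ ∨ q ωK = ωK := by
      rcases hsurj (q ωK) with e | e | e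
      · exact absurd (q.injective (e.trans hqI.symm)) hneK
      · exact Or.inl e
      · exact Or.inr e
    refine Equiv.ext fun ω => ?_
    rw [Equiv.Perm.mul_apply, Equiv.Perm.one_apply]
    rcases hsurj ω with rfl | rfl | rfl
    · rw [hqI, hqI]
    · rcases hor with e | e <;> rcases hqK with e' | e'
      · exact absurd (q.injective (e.trans e'.symm)).symm hneKJ
      · rw [e, e]
      · rw [e, e']
      · exact absurd (q.injective (e.trans e'.symm)).symm hneKJ
    · rcases hor with e | e <;> rcases hqK with e' | e'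
      · exact absurd (q.injective (e.trans e'.symm)).symm hneKJ
      · rw [e', e']
      · rw [e', e]
      · exact absurd (q.injective (e.trans e'.symm)).symm hneKJ
  have hq1 : q = 1 := by
    rw [← orderOf_eq_one_iff, ← Nat.dvd_one]
    have h1 : orderOf q ∣ orderOf b := by
      rw [hq]; exact (orderOf_map_dvd φ _).trans (by rw [Subgroup.orderOf_mk])
    have h2 : orderOf q ∣ 2 := orderOf_dvd_of_pow_eq_one (by rw [pow_two]; exact hq2)
    have hgcd := Nat.dvd_gcd h1 h2
    rwa [(Nat.coprime_two_right.2 hbo).gcd_eq_one] at hgcd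
  have : (⟨b, hb⟩ : A) ∈ φ.ker := hq1
  rwa [hkerφ] at this

end CfsgLib.Involution.QuatAutomizer
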