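import Cfsg.Agent.Lib.Involution.SU3Frames

/-!
# Counting involutions of `SU_3(q)` and the commuting graph on them, `q` odd
-/

set_option autoImplicit false
set_option linter.unusedSectionVars false

open Matrix CfsgLib.Classical

namespace CfsgLib.Involution.SU3

variable {F : Type*} [Field F] [Fintype F] {σ : F →+* F} {q : ℕ}

local notation "B" => stdHerm σ 3

local notation "U" => {v : Fin 3 → F // stdHerm σ 3 v v = 1}

theorem ne_zero_of_unit (v : U) : v.1 ≠ 0 := fun e => by simpa [e] using v.2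

theorem count_rel (hq : Odd q) (hF : Fintype.card F = q ^ 2) (hσ : ∀ x, σ x = x ^ q) (hc : IsConjugation σ)
    (R : ↥(Cfsg.SU 3 F q) → Prop) :
    Nat.card {v : U // R (inv' hσ hc v)} =
      (q + 1) * Nat.card {x : ↥(Cfsg.SU 3 F q) // x ≠ 1 ∧ x * x = 1 ∧ R x} := by
  classical
  have h2 := two_ne_zero_of_odd hq hF
  rw [mul_comm, ← (frob_cards hF hσ hc).2, ← Nat.card_prod]
  choose rep hrep using fun x : {x : ↥(Cfsg.SU 3 F q) // x ≠ 1 ∧ x * x = 1 ∧ R x} =>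
    exists_eq_inv' h2 hσ hc x.2.1 x.2.2.1
  have hnorm : ∀ c : (normHom σ).ker, σ ((c : Fˣ) : F) * ((c : Fˣ) : F) = 1 := fun c => by
    rw [mul_comm]; exact congrArg Units.val (MonoidHom.mem_ker.1 c.2)
  let f : {x : ↥(Cfsg.SU 3 F q) // x ≠ 1 ∧ x * x = 1 ∧ R x} × (normHom σ).ker →
      {v : U // R (inv' hσ hc v)} := fun p =>
    ⟨⟨((p.2 : Fˣ) : F) • (rep p.1).1, by
      rw [B_smul_left, B_smul_right, (rep p.1).2, mul_one]; exact hnorm p.2⟩, by
      rw [(inv'_eq_iff h2 hσ hc (rep p.1) _).2 ⟨((p.2 : Fˣ) : F), hnorm p.2, rfl⟩ |>.symm, ← hrep p.1]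
      exact p.1.2.2.2⟩
  refine (Nat.card_congr (Equiv.ofBijective f ⟨?_, ?_⟩)).symm
  · rintro ⟨x, c⟩ ⟨y, d⟩ e
    have e' : ((c : Fˣ) : F) • (rep x).1 = ((d : Fˣ) : F) • (rep y).1 :=
      congrArg (fun v => v.1.1) e
    have hxy : x = y := by
      refine Subtype.ext ?_
      rw [hrep x, hrep y, inv'_eq_iff h2 hσ hc]
      refine ⟨(((d⁻¹ * c : (normHom σ).ker) : Fˣ) : F), hnorm _, ?_⟩
      rw [Subgroup.coe_mul, Units.val_mul, mul_smul, e', ← mul_smul]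
      simp
    subst hxy
    have hcd : ((c : Fˣ) : F) = ((d : Fˣ) : F) := smul_left_injective F (ne_zero_of_unit (rep x)) e'
    rw [Subtype.ext (Units.ext hcd)]
  · rintro ⟨v, hv⟩
    let x : {x : ↥(Cfsg.SU 3 F q) // x ≠ 1 ∧ x * x = 1 ∧ R x} :=
      ⟨inv' hσ hc v, inv'_ne_one h2 hσ hc v, inv'_sq hσ hc v, hv⟩
    obtain ⟨c, hcc, e⟩ := (inv'_eq_iff h2 hσ hc (rep x) v).1 (hrep x).symm
    have hc0 : c ≠ 0 := fun h => by simp [h] at hcc
    exact ⟨⟨x, ⟨Units.mk0 c hc0, MonoidHom.mem_ker.2 (Units.ext (by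
      rw [CfsgLib.Classical.normHom_apply]; exact (mul_comm _ _).trans hcc))⟩⟩, Subtype.ext (Subtype.ext e.symm)⟩

theorem sq_sub_one (hq2 : 2 ≤ q) : ((q ^ 2 - 1 : ℕ) : ℤ) = (q : ℤ) ^ 2 - 1 := by
  have : 1 ≤ q ^ 2 := Nat.one_le_pow _ _ (by omega)
  push_cast [Nat.cast_sub this]
  ring

/-- All involutions. -/
theorem card_involution (hq : Odd q) (hF : Fintype.card F = q ^ 2) :
    Nat.card {x : ↥(Cfsg.SU 3 F q) // x ≠ 1 ∧ x * x = 1} = q ^ 2 * (q ^ 2 - q + 1) := by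
  obtain ⟨σ, hσ, hc⟩ := exists_frob hF
  have h := count_rel hq hF hσ hc (fun _ => True)
  rw [Nat.card_congr (Equiv.subtypeUnivEquiv fun _ => trivial)] at h
  rw [show Nat.card {x : ↥(Cfsg.SU 3 F q) // x ≠ 1 ∧ x * x = 1} =
    Nat.card {x : ↥(Cfsg.SU 3 F q) // x ≠ 1 ∧ x * x = 1 ∧ True} from
      Nat.card_congr (Equiv.subtypeEquivRight fun x => by simp)]
  refine Nat.eq_of_mul_eq_mul_left (show 0 < q + 1 by omega) (h.symm.trans ?_)
  rw [show Nat.card {v : Fin 3 → F // stdHerm σ 3 v v = 1} = lengthCount σ (2 + 1) 1 from rfl,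
    lengthCount_one hF hσ hc, if_pos even_two]
  obtain ⟨r, rfl⟩ : ∃ r, q = r + 1 := ⟨q - 1, by have := two_le_of_card_sq hF; omega⟩
  rw [show (r + 1) ^ 2 - (r + 1) = (r + 1) * r by ring_nf; omega]
  ring

/-- Units in the plane orthogonal to a unit vector, and its isotropic vectors. -/
theorem card_perp_length (hc : IsConjugation σ) {v : Fin 3 → F} (hv : B v v = 1) (a : F) :
    Nat.card {z : Fin 3 → F // B v z = 0 ∧ B z z = a} = lengthCount σ 2 a := by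
  have hH := stdHerm_isHermitian hc 3
  have hnd := hH.nondegOn_span_singleton (x := v) (by rw [hv]; exact one_ne_zero)
  have hp := hnd.finrank_perp
  rw [finrank_span_singleton (fun e => by simp [e] at hv), Module.finrank_fin_fun] at hp
  have h := card_length_eq (hH.restrict (perp B (Submodule.span F {v})))
    (restrictForm_separatingRight (nondegOn_perp (stdHerm_sepRight 3) hnd)) a
  rw [show Module.finrank F (perp B (Submodule.span F {v})) = 2 by omega] at h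
  rw [← h]
  exact Nat.card_congr
    { toFun := fun z => ⟨⟨z.1, mem_perp_span.2 fun w hw => by rw [Set.mem_singleton_iff.1 hw]; exact z.2.1⟩, z.2.2⟩
      invFun := fun z => ⟨z.1.1, mem_perp_span.1 z.1.2 v rfl, z.2⟩
      left_inv := fun z => rfl
      right_inv := fun z => rfl }

theorem lengthCount_two_one (hF : Fintype.card F = q ^ 2) (hσ : ∀ x, σ x = x ^ q) (hc : IsConjugation σ) :
    lengthCount σ 2 1 = q * (q ^ 2 - 1) := by
  rw [show (2 : ℕ) = 1 + 1 from rfl, lengthCount_one hF hσ hc, if_neg (by decide)]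
  simp

theorem lengthCount_two_zero (hF : Fintype.card F = q ^ 2) (hσ : ∀ x, σ x = x ^ q) (hc : IsConjugation σ) :
    lengthCount σ 2 0 = (q + 1) * (q ^ 2 - 1) + 1 := by
  have hq := two_le_of_card_sq hF
  have h := (lengthCount_closed hF hσ hc 2).2
  refine Int.natCast_inj.1 (mul_left_cancel₀ (show (q : ℤ) ≠ 0 by omega) (h.trans ?_))
  push_cast [sq_sub_one hq]
  ring

/-- A unit vector orthogonal to the two given ones exists unless their line is tangent. -/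
theorem common_perp_iff (hc : IsConjugation σ) (v w : U) (hvw : ¬ ∃ c : F, w.1 = c • v.1) :
    (∃ u : U, B v.1 u.1 = 0 ∧ B w.1 u.1 = 0) ↔ σ (B v.1 w.1) * B v.1 w.1 ≠ 1 := by
  constructor
  · rintro ⟨u, h1, h2⟩ hN
    refine hvw ⟨B v.1 w.1, sub_eq_zero.1 (eq_zero_of_perp hc v.2 u.2 h1 ?_ ?_ ?_)⟩
    · rw [map_sub, B_smul_right, v.2, mul_one, sub_self]
    · rw [map_sub, B_smul_right, B_swap_zero hc h2, B_swap_zero hc h1, mul_zero, sub_zero]
    · simp only [map_sub, LinearMap.sub_apply, B_smul_left, B_smul_right, v.2, w.2,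
        B_swap hc v.1 w.1]
      linear_combination -hN
  · intro hN
    have h1 : B (cr σ v.1 w.1) (cr σ v.1 w.1) = 1 - σ (B v.1 w.1) * B v.1 w.1 := by
      rw [B_cr_self hc, v.2, w.2, B_swap hc v.1 w.1]; ring
    have h0 : B (cr σ v.1 w.1) (cr σ v.1 w.1) ≠ 0 := by rw [h1]; exact sub_ne_zero.2 (Ne.symm hN)
    obtain ⟨k, hk⟩ := (stdHerm_isHermitian hc 3).exists_scaled h0 (map_one σ)
    exact ⟨⟨k • cr σ v.1 w.1, hk⟩, by rw [B_smul_right, B_left_cr, mul_zero],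
      by rw [B_smul_right, B_right_cr, mul_zero]⟩

theorem card_commuting (hq : Odd q) (hF : Fintype.card F = q ^ 2) (t : ↥(Cfsg.SU 3 F q)) (ht : t ≠ 1)
    (ht2 : t * t = 1) :
    Nat.card {x : ↥(Cfsg.SU 3 F q) // x ≠ 1 ∧ x * x = 1 ∧ x ≠ t ∧ Commute t x} = q * (q - 1) := by
  obtain ⟨σ, hσ, hc⟩ := exists_frob hF
  have h2 := two_ne_zero_of_odd hq hF
  obtain ⟨v, rfl⟩ := exists_eq_inv' h2 hσ hc ht ht2
  have h := count_rel hq hF hσ hc (fun x => x ≠ inv' hσ hc v ∧ Commute (inv' hσ hc v) x)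
  refine Nat.eq_of_mul_eq_mul_left (show 0 < q + 1 by omega) (h.symm.trans ?_)
  rw [Nat.card_congr ((Equiv.subtypeEquivRight (q := fun w => stdHerm σ 3 v.1 w.1 = 0) fun w => ?_).trans
    ((Equiv.subtypeSubtypeEquivSubtypeInter _ (fun z => stdHerm σ 3 v.1 z = 0)).trans
      (Equiv.subtypeEquivRight (q := fun z => stdHerm σ 3 v.1 z = 0 ∧ stdHerm σ 3 z z = 1) fun z => and_comm))),
    card_perp_length hc v.2, lengthCount_two_one hF hσ hc]
  · obtain ⟨r, rfl⟩ : ∃ r, q = r + 1 := ⟨q - 1, by have := two_le_of_card_sq hF; omega⟩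
    rw [show (r + 1) ^ 2 - 1 = r * (r + 2) by ring_nf; omega, Nat.add_sub_cancel]
    ring
  · constructor
    · rintro ⟨hne, hcomm⟩
      exact ((commute_inv'_iff h2 hσ hc v w).1 hcomm).resolve_left (Ne.symm hne)
    · intro h0
      refine ⟨fun e => ?_, (commute_inv'_iff h2 hσ hc v w).2 (Or.inr h0)⟩
      obtain ⟨c, hcc, e'⟩ := (inv'_eq_iff h2 hσ hc w v).1 e
      have h5 := v.2
      rw [e', B_smul_left, B_smul_right, w.2] at h5
      rw [e', B_smul_left, w.2, mul_one] at h0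
      rw [h0, zero_mul] at h5
      exact zero_ne_one h5

/-- Not commuting and without a common neighbour: the line is tangent. -/
theorem no_common_iff (hq : Odd q) (hF : Fintype.card F = q ^ 2) (hσ : ∀ x, σ x = x ^ q) (hc : IsConjugation σ)
    (v w : U) :
    (¬ Commute (inv' hσ hc v) (inv' hσ hc w) ∧ ∀ y : ↥(Cfsg.SU 3 F q), y ≠ 1 → y * y = 1 →
      ¬ (Commute (inv' hσ hc v) y ∧ Commute y (inv' hσ hc w))) ↔
    (σ (B v.1 w.1) * B v.1 w.1 = 1 ∧ ¬ ∃ c : F, w.1 = c • v.1) := by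
  have h2 := two_ne_zero_of_odd hq hF
  have hdep : (∃ c : F, w.1 = c • v.1) → inv' hσ hc v = inv' hσ hc w := by
    rintro ⟨c, e⟩
    refine (inv'_eq_iff h2 hσ hc v w).2 ⟨c, ?_, e⟩
    have h5 := w.2
    rwa [e, B_smul_left, B_smul_right, v.2, mul_one] at h5
  constructor
  · rintro ⟨hnc, hno⟩
    have hind : ¬ ∃ c : F, w.1 = c • v.1 := fun h => hnc (by rw [hdep h])
    refine ⟨?_, hind⟩
    by_contra hN
    obtain ⟨u, hu1, hu2⟩ := (common_perp_iff hc v w hind).2 hN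
    exact hno _ (inv'_ne_one h2 hσ hc u) (inv'_sq hσ hc u) ⟨(commute_inv'_iff h2 hσ hc v u).2 (Or.inr hu1),
      (commute_inv'_iff h2 hσ hc u w).2 (Or.inr (B_swap_zero hc hu2))⟩
  · rintro ⟨hN, hind⟩
    have hneq : inv' hσ hc v ≠ inv' hσ hc w := fun e => by
      obtain ⟨c, -, e'⟩ := (inv'_eq_iff h2 hσ hc v w).1 e
      exact hind ⟨c, e'⟩
    have hnc : ¬ Commute (inv' hσ hc v) (inv' hσ hc w) := fun h => by
      rw [((commute_inv'_iff h2 hσ hc v w).1 h).resolve_left hneq, mul_zero] at hN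
      exact zero_ne_one hN
    refine ⟨hnc, fun y hy hy2 hyy => ?_⟩
    obtain ⟨u, rfl⟩ := exists_eq_inv' h2 hσ hc hy hy2
    rcases (commute_inv'_iff h2 hσ hc v u).1 hyy.1 with e | h1
    · exact hnc (by rw [e]; exact hyy.2)
    rcases (commute_inv'_iff h2 hσ hc u w).1 hyy.2 with e | h3
    · exact hnc (by rw [← e]; exact hyy.1)
    exact ((common_perp_iff hc v w hind).1 ⟨u, h1, B_swap_zero hc h3⟩) hN

theorem card_no_common (hq : Odd q) (hF : Fintype.card F = q ^ 2) (t : ↥(Cfsg.SU 3 F q)) (ht : t ≠ 1)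
    (ht2 : t * t = 1) :
    Nat.card {x : ↥(Cfsg.SU 3 F q) // x ≠ 1 ∧ x * x = 1 ∧ ¬ Commute t x ∧
        ∀ y : ↥(Cfsg.SU 3 F q), y ≠ 1 → y * y = 1 → ¬ (Commute t y ∧ Commute y x)} = (q + 1) * (q ^ 2 - 1) := by
  classical
  obtain ⟨σ, hσ, hc⟩ := exists_frob hF
  have h2 := two_ne_zero_of_odd hq hF
  obtain ⟨v, rfl⟩ := exists_eq_inv' h2 hσ hc ht ht2
  have h := count_rel hq hF hσ hc (fun x => ¬ Commute (inv' hσ hc v) x ∧
    ∀ y : ↥(Cfsg.SU 3 F q), y ≠ 1 → y * y = 1 → ¬ (Commute (inv' hσ hc v) y ∧ Commute y x))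
  refine Nat.eq_of_mul_eq_mul_left (show 0 < q + 1 by omega) (h.symm.trans ?_)
  rw [Nat.card_congr (Equiv.subtypeEquivRight fun w => no_common_iff hq hF hσ hc v w)]
  have hperp : ∀ w : Fin 3 → F, stdHerm σ 3 v.1 (w - stdHerm σ 3 v.1 w • v.1) = 0 := fun w => by
    rw [map_sub, B_smul_right, v.2, mul_one, sub_self]
  have e : {w : {w : Fin 3 → F // stdHerm σ 3 w w = 1} //
        σ (stdHerm σ 3 v.1 w.1) * stdHerm σ 3 v.1 w.1 = 1 ∧ ¬ ∃ c : F, w.1 = c • v.1} ≃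
      {a : F // σ a * a = 1} ×
        {z : {z : Fin 3 → F // stdHerm σ 3 v.1 z = 0 ∧ stdHerm σ 3 z z = 0} //
          z ≠ ⟨0, by simp, by simp⟩} :=
    { toFun := fun w => (⟨stdHerm σ 3 v.1 w.1.1, w.2.1⟩,
        ⟨⟨w.1.1 - stdHerm σ 3 v.1 w.1.1 • v.1, hperp _, by
          simp only [map_sub, LinearMap.sub_apply, B_smul_left, B_smul_right, v.2, w.1.2,
            B_swap hc v.1 w.1.1]
          linear_combination -w.2.1⟩, fun e => w.2.2 ⟨_, sub_eq_zero.1 (congrArg Subtype.val e)⟩⟩)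
      invFun := fun p => ⟨⟨p.1.1 • v.1 + p.2.1.1, by
          simp only [map_add, LinearMap.add_apply, B_smul_left, B_smul_right, v.2, p.2.1.2.1, p.2.1.2.2,
            B_swap_zero hc p.2.1.2.1]
          linear_combination p.1.2⟩, by
          have e1 : stdHerm σ 3 v.1 (p.1.1 • v.1 + p.2.1.1) = p.1.1 := by
            simp only [map_add, B_smul_right, v.2, p.2.1.2.1]; ring
          refine ⟨by rw [e1]; exact p.1.2, ?_⟩
          rintro ⟨c, hc'⟩
          have e2 := congrArg (stdHerm σ 3 v.1) hc'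
          rw [e1, B_smul_right, v.2, mul_one] at e2
          exact p.2.2 (Subtype.ext (by rw [← e2] at hc'; simpa using hc'))⟩
      left_inv := fun w => by
        refine Subtype.ext (Subtype.ext ?_)
        simp
      right_inv := fun p => by
        have e1 : stdHerm σ 3 v.1 (p.1.1 • v.1 + p.2.1.1) = p.1.1 := by
          simp only [map_add, B_smul_right, v.2, p.2.1.2.1]; ring
        refine Prod.ext (Subtype.ext e1) (Subtype.ext (Subtype.ext ?_))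
        simp only [e1, add_sub_cancel_left] }
  rw [Nat.card_congr e, Nat.card_prod]
  have hN : Nat.card {a : F // σ a * a = 1} = q + 1 := by
    rw [Nat.card_eq_fintype_card, Fintype.card_subtype, card_norm_one hc, (frob_cards hF hσ hc).2]
  have hz : ∀ (α : Type _) [Finite α] (a : α), Nat.card {x : α // x ≠ a} = Nat.card α - 1 := by
    intro α _ a
    have := Fintype.ofFinite α
    simp [Nat.card_eq_fintype_card, Fintype.card_subtype_compl]
  rw [hN, hz, card_perp_length hc v.2, lengthCount_two_zero hF hσ hc, Nat.add_sub_cancel]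

theorem card_middle (hq : Odd q) (hF : Fintype.card F = q ^ 2) (t : ↥(Cfsg.SU 3 F q)) (ht : t ≠ 1)
    (ht2 : t * t = 1) :
    Nat.card {x : ↥(Cfsg.SU 3 F q) // x ≠ 1 ∧ x * x = 1 ∧ ¬ Commute t x ∧
        ∃ y : ↥(Cfsg.SU 3 F q), y ≠ 1 ∧ y * y = 1 ∧ Commute t y ∧ Commute y x} =
      q * (q - 2) * (q ^ 2 - 1) := by
  classical
  have : Fintype ↥(Cfsg.SU 3 F q) := Fintype.ofFinite _
  have hA := card_commuting hq hF t ht ht2
  have hC := card_no_common hq hF t ht ht2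
  have hT := card_involution hq hF
  simp only [Nat.card_eq_fintype_card, Fintype.card_subtype] at hA hC hT ⊢
  set I := Finset.univ.filter (fun x : ↥(Cfsg.SU 3 F q) => x ≠ 1 ∧ x * x = 1) with hI
  have h1 := Finset.card_filter_add_card_filter_not (s := I) (fun x => Commute t x)
  have h3 := Finset.card_filter_add_card_filter_not (s := I.filter fun x => ¬ Commute t x)
    (fun x => ∃ y : ↥(Cfsg.SU 3 F q), y ≠ 1 ∧ y * y = 1 ∧ Commute t y ∧ Commute y x)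
  have hAt : (I.filter fun x => Commute t x) =
      insert t (Finset.univ.filter fun x : ↥(Cfsg.SU 3 F q) => x ≠ 1 ∧ x * x = 1 ∧ x ≠ t ∧ Commute t x) := by
    ext x
    simp only [hI, Finset.mem_filter, Finset.mem_univ, true_and, Finset.mem_insert]
    constructor
    · rintro ⟨⟨a, b⟩, c⟩
      by_cases hxt : x = t
      · exact Or.inl hxt
      · exact Or.inr ⟨a, b, hxt, c⟩
    · rintro (rfl | ⟨a, b, -, c⟩)
      · exact ⟨⟨ht, ht2⟩, Commute.refl _⟩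
      · exact ⟨⟨a, b⟩, c⟩
  rw [hAt, Finset.card_insert_of_notMem (by simp), hA] at h1
  have hmid : ((I.filter fun x => ¬ Commute t x).filter fun x =>
      ∃ y : ↥(Cfsg.SU 3 F q), y ≠ 1 ∧ y * y = 1 ∧ Commute t y ∧ Commute y x) =
    Finset.univ.filter fun x : ↥(Cfsg.SU 3 F q) => x ≠ 1 ∧ x * x = 1 ∧ ¬ Commute t x ∧
        ∃ y : ↥(Cfsg.SU 3 F q), y ≠ 1 ∧ y * y = 1 ∧ Commute t y ∧ Commute y x := by
    ext x; simp [hI, and_assoc]
  have hno : ((I.filter fun x => ¬ Commute t x).filter fun x =>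
      ¬ ∃ y : ↥(Cfsg.SU 3 F q), y ≠ 1 ∧ y * y = 1 ∧ Commute t y ∧ Commute y x) =
    Finset.univ.filter fun x : ↥(Cfsg.SU 3 F q) => x ≠ 1 ∧ x * x = 1 ∧ ¬ Commute t x ∧
        ∀ y : ↥(Cfsg.SU 3 F q), y ≠ 1 → y * y = 1 → ¬ (Commute t y ∧ Commute y x) := by
    ext x
    simp only [hI, Finset.mem_filter, Finset.mem_univ, true_and, not_exists, not_and, and_assoc]
  rw [hmid, hno, hC] at h3
  rw [hT] at h1
  have hq3 : 3 ≤ q := by
    have := two_le_of_card_sq hF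
    rw [Nat.odd_iff] at hq
    omega
  obtain ⟨r, rfl⟩ : ∃ r, q = r + 3 := ⟨q - 3, by omega⟩
  rw [show (r + 3) ^ 2 - (r + 3) + 1 = r ^ 2 + 5 * r + 7 by ring_nf; omega,
    show r + 3 - 1 = r + 2 by omega] at h1
  rw [show (r + 3) ^ 2 - 1 = r ^ 2 + 6 * r + 8 by ring_nf; omega] at h3 ⊢
  rw [show r + 3 - 2 = r + 1 by omega]
  nlinarith

/-- The commuting graph has diameter at most three. -/
theorem exists_path (hq : Odd q) (hF : Fintype.card F = q ^ 2) (t x : ↥(Cfsg.SU 3 F q)) (ht : t ≠ 1)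
    (ht2 : t * t = 1) (hx : x ≠ 1) (hx2 : x * x = 1) :
    ∃ y z : ↥(Cfsg.SU 3 F q), y ≠ 1 ∧ y * y = 1 ∧ z ≠ 1 ∧ z * z = 1 ∧
        Commute t y ∧ Commute y z ∧ Commute z x := by
  by_cases h1 : Commute t x
  · exact ⟨t, t, ht, ht2, ht, ht2, Commute.refl _, Commute.refl _, h1⟩
  by_cases h3 : ∃ y : ↥(Cfsg.SU 3 F q), y ≠ 1 ∧ y * y = 1 ∧ Commute t y ∧ Commute y x
  · obtain ⟨y, hy, hy2, hty, hyx⟩ := h3
    exact ⟨y, y, hy, hy2, hy, hy2, hty, Commute.refl _, hyx⟩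
  push Not at h3
  obtain ⟨σ, hσ, hc⟩ := exists_frob hF
  have h2 := two_ne_zero_of_odd hq hF
  obtain ⟨v, rfl⟩ := exists_eq_inv' h2 hσ hc ht ht2
  obtain ⟨w, rfl⟩ := exists_eq_inv' h2 hσ hc hx hx2
  obtain ⟨hN, hind⟩ := (no_common_iff hq hF hσ hc v w).1 ⟨h1, fun y hy hy2 h => h3 y hy hy2 h.1 h.2⟩
  obtain ⟨p, hp, hvp⟩ := exists_perp_unit hc v.2
  have hw1 := w.2
  have hexp := expand hc v.2 hp hvp w.1
  rw [hexp] at hw1
  simp only [map_add, LinearMap.add_apply, B_smul_left, B_smul_right, v.2, hp, hvp, cr_unit hc v.2 hp hvp,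
    B_swap_zero hc hvp, B_left_cr, B_right_cr, B_swap_zero hc (B_left_cr (σ := σ) v.1 p),
    B_swap_zero hc (B_right_cr (σ := σ) v.1 p)] at hw1
  obtain ⟨y, hy1, hy2⟩ : ∃ y : {v : Fin 3 → F // stdHerm σ 3 v v = 1}, stdHerm σ 3 v.1 y.1 = 0 ∧
      σ (stdHerm σ 3 y.1 w.1) * stdHerm σ 3 y.1 w.1 ≠ 1 := by
    by_cases hα : σ (stdHerm σ 3 p w.1) * stdHerm σ 3 p w.1 = 1
    · refine ⟨⟨cr σ v.1 p, cr_unit hc v.2 hp hvp⟩, B_left_cr v.1 p, fun hβ => h2 ?_⟩
      linear_combination hw1 - hN - hα - hβ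
    · exact ⟨⟨p, hp⟩, hvp, hα⟩
  have hyw : ∃ z : {v : Fin 3 → F // stdHerm σ 3 v v = 1}, stdHerm σ 3 y.1 z.1 = 0 ∧
      stdHerm σ 3 w.1 z.1 = 0 := by
    refine (common_perp_iff hc y w ?_).2 hy2
    rintro ⟨c, e⟩
    rw [e, B_smul_right, hy1, mul_zero, mul_zero] at hN
    exact zero_ne_one hN
  obtain ⟨z, hz1, hz2⟩ := hyw
  exact ⟨inv' hσ hc y, inv' hσ hc z, inv'_ne_one h2 hσ hc y, inv'_sq hσ hc y, inv'_ne_one h2 hσ hc z,
    inv'_sq hσ hc z, (commute_inv'_iff h2 hσ hc v y).2 (Or.inr hy1),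
    (commute_inv'_iff h2 hσ hc y z).2 (Or.inr hz1),
    (commute_inv'_iff h2 hσ hc z w).2 (Or.inr (B_swap_zero hc hz2))⟩

/-- All involutions are conjugate. -/
theorem exists_conj (hq : Odd q) (hF : Fintype.card F = q ^ 2) (t x : ↥(Cfsg.SU 3 F q)) (ht : t ≠ 1)
    (ht2 : t * t = 1) (hx : x ≠ 1) (hx2 : x * x = 1) : ∃ g : ↥(Cfsg.SU 3 F q), g * t * g⁻¹ = x := by
  obtain ⟨σ, hσ, hc⟩ := exists_frob hF
  have h2 := two_ne_zero_of_odd hq hF
  obtain ⟨v, rfl⟩ := exists_eq_inv' h2 hσ hc ht ht2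
  obtain ⟨w, rfl⟩ := exists_eq_inv' h2 hσ hc hx hx2
  let e0 : Fin 3 → F := Pi.single 0 1
  have frame : ∀ u : {v : Fin 3 → F // stdHerm σ 3 v v = 1},
      ∃ g : ↥(Cfsg.SU 3 F q), mat g *ᵥ e0 = u.1 := by
    intro u
    obtain ⟨p, hp, hup⟩ := exists_perp_unit hc u.2
    let Q : Matrix (Fin 3) (Fin 3) F := Matrix.of fun i j => (![u.1, p, cr σ u.1 p] j) i
    have hQ : ∀ a : Fin 3 → F, Q *ᵥ a = a 0 • u.1 + a 1 • p + a 2 • cr σ u.1 p := fun a => by
      funext i; simp [Q, mulVec, dotProduct, Fin.sum_univ_three]; ring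
    have hd : Q.det = 1 := by
      rw [← cr_unit hc u.2 hp hup, det_fin_three]
      simp [Q, cr, stdHerm_apply, Fin.sum_univ_three, hc.invol]
      ring
    refine ⟨mkSU hσ Q hd fun a b => ?_, ?_⟩
    · rw [hQ, hQ]
      simp only [map_add, LinearMap.add_apply, B_smul_left, B_smul_right, u.2, hp, hup, cr_unit hc u.2 hp hup,
        B_swap_zero hc hup, B_left_cr, B_right_cr, B_swap_zero hc (B_left_cr (σ := σ) u.1 p),
        B_swap_zero hc (B_right_cr (σ := σ) u.1 p)]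
      simp [stdHerm_apply, Fin.sum_univ_three]
      ring
    · rw [mat_mkSU, hQ]
      simp [e0]
  obtain ⟨g, hg⟩ := frame v
  obtain ⟨k, hk⟩ := frame w
  refine ⟨k * g⁻¹, ?_⟩
  have hh : mat (k * g⁻¹) *ᵥ v.1 = w.1 := by
    rw [← hg, mulVec_mulVec, ← mat_mul, mul_assoc, inv_mul_cancel, mul_one, hk]
  rw [mul_inv_eq_iff_eq_mul]
  refine ext_mulVec fun a => ?_
  rw [mat_mul _ (inv' hσ hc v), mat_mul (inv' hσ hc w), ← mulVec_mulVec, ← mulVec_mulVec, inv'_apply,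
    inv'_apply, mulVec_sub, mulVec_smul, hh]
  congr 3
  rw [← hh, mat_preserves hσ]

theorem card_centraliser (hq : Odd q) (hF : Fintype.card F = q ^ 2) (t : ↥(Cfsg.SU 3 F q)) (ht : t ≠ 1)
    (ht2 : t * t = 1) :
    Nat.card ↥(Subgroup.centralizer ({t} : Set ↥(Cfsg.SU 3 F q))) = q * (q + 1) * (q ^ 2 - 1) := by
  have horb : MulAction.orbit (ConjAct ↥(Cfsg.SU 3 F q)) t = {x | x ≠ 1 ∧ x * x = 1} := by
    ext x
    rw [ConjAct.mem_orbit_conjAct, isConj_iff]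
    constructor
    · rintro ⟨c, hc'⟩
      have hx : x = c⁻¹ * t * c := by rw [← hc']; group
      subst hx
      refine ⟨fun e => ht ?_, ?_⟩
      · calc t = c * (c⁻¹ * t * c) * c⁻¹ := by group
          _ = 1 := by rw [e]; group
      · calc c⁻¹ * t * c * (c⁻¹ * t * c) = c⁻¹ * (t * t) * c := by group
          _ = 1 := by rw [ht2]; group
    · rintro ⟨hx, hx2⟩
      exact exists_conj hq hF x t hx hx2 ht ht2
  have h := (MulAction.stabilizer (ConjAct ↥(Cfsg.SU 3 F q)) t).card_mul_index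
  rw [MulAction.index_stabilizer, horb] at h
  have hcz : Nat.card ↥(MulAction.stabilizer (ConjAct ↥(Cfsg.SU 3 F q)) t) =
      Nat.card ↥(Subgroup.centralizer ({t} : Set ↥(Cfsg.SU 3 F q))) := by
    refine Nat.card_congr (ConjAct.ofConjAct.toEquiv.subtypeEquiv fun c => ?_)
    rw [MulAction.mem_stabilizer_iff, ConjAct.smul_def, mul_inv_eq_iff_eq_mul, Subgroup.mem_centralizer_iff]
    simp [eq_comm]
  rw [hcz, show Set.ncard {x : ↥(Cfsg.SU 3 F q) | x ≠ 1 ∧ x * x = 1} = q ^ 2 * (q ^ 2 - q + 1) from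
    (Nat.card_coe_set_eq _).symm.trans (card_involution hq hF)] at h
  have hcard := card_SU_mul hF (show 1 ≤ 3 by norm_num) (n := 3)
  rw [card_GU hF] at hcard
  simp only [Finset.prod_range_succ, Finset.prod_range_zero, one_mul] at hcard
  rw [show Nat.card (ConjAct ↥(Cfsg.SU 3 F q)) = Nat.card ↥(Cfsg.SU 3 F q) from
    Nat.card_congr ConjAct.ofConjAct.toEquiv] at h
  rw [← h] at hcard
  have hq2 := two_le_of_card_sq hF
  obtain ⟨r, rfl⟩ : ∃ r, q = r + 1 := ⟨q - 1, by omega⟩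
  rw [show (r + 1) ^ 2 - (r + 1) + 1 = r ^ 2 + r + 1 by ring_nf; omega] at hcard
  rw [show (r + 1) ^ 2 - 1 = r ^ 2 + 2 * r by ring_nf; omega]
  norm_num at hcard
  rw [show (r + 1) ^ 2 - 1 = r ^ 2 + 2 * r by ring_nf; omega] at hcard
  refine Nat.eq_of_mul_eq_mul_left (show 0 < (r + 2) * ((r + 1) ^ 2 * (r ^ 2 + r + 1)) by positivity) ?_
  linear_combination hcard

theorem card_third (hq : Odd q) (hF : Fintype.card F = q ^ 2) (t x : ↥(Cfsg.SU 3 F q)) (ht : t ≠ 1)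
    (ht2 : t * t = 1) (hx : x ≠ 1) (hx2 : x * x = 1) (hxt : x ≠ t) (htx : Commute t x) :
    Nat.card {y : ↥(Cfsg.SU 3 F q) // y ≠ 1 ∧ y * y = 1 ∧ y ≠ t ∧ y ≠ x ∧ Commute t y ∧ Commute x y} = 1 := by
  obtain ⟨σ, hσ, hc⟩ := exists_frob hF
  have h2 := two_ne_zero_of_odd hq hF
  obtain ⟨v, rfl⟩ := exists_eq_inv' h2 hσ hc ht ht2
  obtain ⟨w, rfl⟩ := exists_eq_inv' h2 hσ hc hx hx2
  have hvw := ((commute_inv'_iff h2 hσ hc v w).1 htx).resolve_left (Ne.symm hxt)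
  let u : {v : Fin 3 → F // stdHerm σ 3 v v = 1} := ⟨cr σ v.1 w.1, cr_unit hc v.2 w.2 hvw⟩
  have hne : ∀ a b : {v : Fin 3 → F // stdHerm σ 3 v v = 1}, stdHerm σ 3 a.1 b.1 = 0 →
      inv' hσ hc b ≠ inv' hσ hc a := by
    intro a b h0 e
    obtain ⟨c, hcc, e'⟩ := (inv'_eq_iff h2 hσ hc b a).1 e
    rw [e', B_smul_left, b.2, mul_one] at h0
    rw [h0, zero_mul] at hcc
    exact zero_ne_one hcc
  rw [Nat.card_eq_one_iff_unique]
  refine ⟨⟨?_⟩, ⟨⟨inv' hσ hc u, inv'_ne_one h2 hσ hc u, inv'_sq hσ hc u, hne v u (B_left_cr _ _),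
    hne w u (B_right_cr _ _), (commute_inv'_iff h2 hσ hc v u).2 (Or.inr (B_left_cr _ _)),
    (commute_inv'_iff h2 hσ hc w u).2 (Or.inr (B_right_cr _ _))⟩⟩⟩
  suffices H : ∀ y : {y : ↥(Cfsg.SU 3 F q) // y ≠ 1 ∧ y * y = 1 ∧ y ≠ inv' hσ hc v ∧ y ≠ inv' hσ hc w ∧
      Commute (inv' hσ hc v) y ∧ Commute (inv' hσ hc w) y}, y.1 = inv' hσ hc u from
    fun a b => Subtype.ext ((H a).trans (H b).symm)
  rintro ⟨y, hy, hy2, hyv, hyw, hcv, hcw⟩
  obtain ⟨z, rfl⟩ := exists_eq_inv' h2 hσ hc hy hy2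
  have a1 := ((commute_inv'_iff h2 hσ hc v z).1 hcv).resolve_left (Ne.symm hyv)
  have a2 := ((commute_inv'_iff h2 hσ hc w z).1 hcw).resolve_left (Ne.symm hyw)
  have e := expand hc v.2 w.2 hvw z.1
  rw [a1, a2, zero_smul, zero_smul, zero_add, zero_add] at e
  refine ((inv'_eq_iff h2 hσ hc u z).2 ⟨stdHerm σ 3 u.1 z.1, ?_, e⟩).symm
  have h5 := z.2
  rw [e, B_smul_left, B_smul_right, u.2, mul_one] at h5
  exact h5

end CfsgLib.Involution.SU3
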