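import Cfsg.Prelude.Def_LieClassical
import Cfsg.Agent.Lib.Classical.HermMatrix

/-!
# Involutions of `SU_3(q)`, `q` odd, as non-isotropic points of the Hermitian plane
-/

set_option autoImplicit false
set_option linter.unusedSectionVars false

open Matrix CfsgLib.Classical

namespace CfsgLib.Involution.SU3

variable {F : Type*} [Field F] {σ : F →+* F}

local notation "B" => stdHerm σ 3

/-- The vector orthogonal to `v` and `w`. -/
def cr (σ : F →+* F) (v w : Fin 3 → F) : Fin 3 → F :=
  ![σ (v 1 * w 2 - v 2 * w 1), σ (v 2 * w 0 - v 0 * w 2), σ (v 0 * w 1 - v 1 * w 0)]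

theorem B_left_cr (v w : Fin 3 → F) : B v (cr σ v w) = 0 := by
  simp [stdHerm_apply, Fin.sum_univ_three, cr]
  ring

theorem B_right_cr (v w : Fin 3 → F) : B w (cr σ v w) = 0 := by
  simp [stdHerm_apply, Fin.sum_univ_three, cr]
  ring

theorem B_swap (hc : IsConjugation σ) (v w : Fin 3 → F) : B w v = σ (B v w) :=
  ((stdHerm_isHermitian hc 3).symm v w).symm

theorem B_swap_zero (hc : IsConjugation σ) {v w : Fin 3 → F} (h : B v w = 0) : B w v = 0 := by
  rw [B_swap hc, h, map_zero]

theorem B_cr_self (hc : IsConjugation σ) (v w : Fin 3 → F) :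
    B (cr σ v w) (cr σ v w) = B v v * B w w - B v w * B w v := by
  simp [stdHerm_apply, Fin.sum_univ_three, cr, hc.invol]
  ring

theorem B_smul_right (c : F) (v w : Fin 3 → F) : B v (c • w) = c * B v w := by simp

theorem B_smul_left (c : F) (v w : Fin 3 → F) : B (c • v) w = σ c * B v w := by
  simp [map_smulₛₗ]

theorem cr_unit (hc : IsConjugation σ) {v w : Fin 3 → F} (hv : B v v = 1) (hw : B w w = 1)
    (hvw : B v w = 0) : B (cr σ v w) (cr σ v w) = 1 := by
  rw [B_cr_self hc, hv, hw, hvw]; ring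

/-- Orthonormal expansion. -/
theorem expand (hc : IsConjugation σ) {v w : Fin 3 → F} (hv : B v v = 1) (hw : B w w = 1)
    (hvw : B v w = 0) (y : Fin 3 → F) :
    y = B v y • v + B w y • w + B (cr σ v w) y • cr σ v w := by
  let e : Fin 3 → Fin 3 → F := ![v, w, cr σ v w]
  let Q : Matrix (Fin 3) (Fin 3) F := Matrix.of fun i j => σ (e i j)
  let R : Matrix (Fin 3) (Fin 3) F := Matrix.of fun i j => e j i
  have hQR : Q * R = 1 := by
    have key : ∀ i j, B (e i) (e j) = if i = j then 1 else 0 := by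
      intro i j
      fin_cases i <;> fin_cases j <;>
        simp [e, hv, hw, hvw, B_swap_zero hc hvw, B_left_cr, B_right_cr, cr_unit hc hv hw hvw,
          B_swap_zero hc (B_left_cr (σ := σ) v w), B_swap_zero hc (B_right_cr (σ := σ) v w)]
    ext i j
    rw [Matrix.one_apply, ← key i j, Matrix.mul_apply, stdHerm_apply]
    rfl
  have h2 : R *ᵥ (Q *ᵥ y) = y := by
    rw [mulVec_mulVec, mul_eq_one_comm.1 hQR, one_mulVec]
  conv_lhs => rw [← h2]
  funext i
  simp [R, Q, e, mulVec, dotProduct, Fin.sum_univ_three, stdHerm_apply]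
  ring

theorem eq_zero_of_perp (hc : IsConjugation σ) {v x z : Fin 3 → F} (hv : B v v = 1) (hx : B x x = 1)
    (hvx : B v x = 0) (hvz : B v z = 0) (hxz : B x z = 0) (hzz : B z z = 0) : z = 0 := by
  have h1 : z = B (cr σ v x) z • cr σ v x := by
    have := expand hc hv hx hvx z
    rwa [hvz, hxz, zero_smul, zero_smul, zero_add, zero_add] at this
  have h2 := hzz
  rw [h1, B_smul_left, B_smul_right, cr_unit hc hv hx hvx, mul_one, mul_eq_zero] at h2
  rcases h2 with h2 | h2
  · rw [h1, show B (cr σ v x) z = 0 from by rw [← hc.invol (B (cr σ v x) z), h2, map_zero], zero_smul]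
  · rw [h1, h2, zero_smul]

/-- A non-isotropic vector orthogonal to a unit vector. -/
theorem exists_perp_unit [Finite F] (hc : IsConjugation σ) {v : Fin 3 → F} (hv : B v v = 1) :
    ∃ p, B p p = 1 ∧ B v p = 0 := by
  have hH := stdHerm_isHermitian hc 3
  have hnd := hH.nondegOn_span_singleton (x := v) (by rw [hv]; exact one_ne_zero)
  have hp := hnd.finrank_perp
  rw [finrank_span_singleton (fun e => by simp [e] at hv), Module.finrank_fin_fun] at hp
  have : Nontrivial (perp B (Submodule.span F {v})) :=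
    Module.nontrivial_of_finrank_pos (R := F) (by omega)
  obtain ⟨p, hp1⟩ := (hH.restrict (perp B (Submodule.span F {v}))).exists_unit
    (restrictForm_separatingRight (nondegOn_perp (stdHerm_sepRight 3) hnd))
  exact ⟨p.1, hp1, mem_perp_span.1 p.2 v rfl⟩

section Group

variable {q : ℕ}

/-- The matrix of an element of `SU`. -/
abbrev mat (x : ↥(Cfsg.SU 3 F q)) : Matrix (Fin 3) (Fin 3) F := (x : SpecialLinearGroup (Fin 3) F)

theorem mat_injective : Function.Injective (mat (F := F) (q := q)) := fun _ _ h =>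
  Subtype.ext (Subtype.ext h)

theorem mat_preserves (hσ : ∀ x, σ x = x ^ q) (g : ↥(Cfsg.SU 3 F q)) (x y : Fin 3 → F) :
    B (mat g *ᵥ x) (mat g *ᵥ y) = B x y := by
  rw [← hermForm_eq_stdHerm hσ, ← hermForm_eq_stdHerm hσ]
  exact g.2 y x

/-- An element of `SU` from its matrix. -/
def mkSU (hσ : ∀ x, σ x = x ^ q) (M : Matrix (Fin 3) (Fin 3) F) (hd : M.det = 1)
    (hM : ∀ x y, B (M *ᵥ x) (M *ᵥ y) = B x y) : ↥(Cfsg.SU 3 F q) :=
  ⟨⟨M, hd⟩, fun u v => by
    rw [hermForm_eq_stdHerm hσ, hermForm_eq_stdHerm hσ]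
    exact hM v u⟩

theorem mat_mkSU (hσ : ∀ x, σ x = x ^ q) (M : Matrix (Fin 3) (Fin 3) F) (hd : M.det = 1)
    (hM : ∀ x y, B (M *ᵥ x) (M *ᵥ y) = B x y) : mat (mkSU hσ M hd hM) = M := rfl

theorem mat_mul (x y : ↥(Cfsg.SU 3 F q)) : mat (x * y) = mat x * mat y := rfl

theorem ext_mulVec {g h : ↥(Cfsg.SU 3 F q)} (e : ∀ x, mat g *ᵥ x = mat h *ᵥ x) : g = h :=
  mat_injective (Matrix.ext_of_mulVec_single fun i => e _)

/-- The matrix of the involution fixing `v` and negating its orthogonal plane. -/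
def reflMat (σ : F →+* F) (v : Fin 3 → F) : Matrix (Fin 3) (Fin 3) F :=
  (2 : F) • vecMulVec v (σ ∘ v) - 1

theorem reflMat_mulVec (v x : Fin 3 → F) : reflMat σ v *ᵥ x = (2 * B v x) • v - x := by
  funext i
  fin_cases i <;>
    simp [reflMat, mulVec, dotProduct, Fin.sum_univ_three, vecMulVec_apply, stdHerm_apply, Matrix.one_apply] <;>
    ring

theorem reflMat_det {v : Fin 3 → F} (hv : B v v = 1) : (reflMat σ v).det = 1 := by
  rw [det_fin_three]
  simp [stdHerm_apply, Fin.sum_univ_three] at hv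
  simp [reflMat, vecMulVec_apply, Matrix.one_apply]
  linear_combination (2 : F) * hv

theorem reflMat_preserves (hc : IsConjugation σ) {v : Fin 3 → F} (hv : B v v = 1) (x y : Fin 3 → F) :
    B (reflMat σ v *ᵥ x) (reflMat σ v *ᵥ y) = B x y := by
  rw [reflMat_mulVec, reflMat_mulVec]
  simp only [map_sub, LinearMap.sub_apply, B_smul_left, B_smul_right, hv, map_mul, map_ofNat]
  rw [← B_swap hc v x]
  ring

/-- The involution attached to a unit vector. -/
def inv' (hσ : ∀ x, σ x = x ^ q) (hc : IsConjugation σ) (v : {v : Fin 3 → F // B v v = 1}) :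
    ↥(Cfsg.SU 3 F q) :=
  mkSU hσ (reflMat σ v.1) (reflMat_det v.2) (reflMat_preserves hc v.2)

theorem inv'_apply (hσ : ∀ x, σ x = x ^ q) (hc : IsConjugation σ) (v : {v : Fin 3 → F // B v v = 1})
    (x : Fin 3 → F) : mat (inv' hσ hc v) *ᵥ x = (2 * B v.1 x) • v.1 - x :=
  reflMat_mulVec _ _

theorem inv'_sq (hσ : ∀ x, σ x = x ^ q) (hc : IsConjugation σ) (v : {v : Fin 3 → F // B v v = 1}) :
    inv' hσ hc v * inv' hσ hc v = 1 := by
  refine ext_mulVec fun x => ?_
  rw [mat_mul, ← mulVec_mulVec, inv'_apply, inv'_apply]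
  rw [show mat (1 : ↥(Cfsg.SU 3 F q)) = 1 from rfl, one_mulVec]
  simp only [map_sub, B_smul_right, v.2]
  module

theorem inv'_fix (hσ : ∀ x, σ x = x ^ q) (hc : IsConjugation σ) (v : {v : Fin 3 → F // B v v = 1}) :
    mat (inv' hσ hc v) *ᵥ v.1 = v.1 := by
  rw [inv'_apply, v.2]
  module

theorem inv'_ne_one [Finite F] (h2 : (2 : F) ≠ 0) (hσ : ∀ x, σ x = x ^ q) (hc : IsConjugation σ)
    (v : {v : Fin 3 → F // B v v = 1}) : inv' hσ hc v ≠ 1 := by
  intro e
  obtain ⟨p, hp, hvp⟩ := exists_perp_unit hc v.2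
  have := inv'_apply hσ hc v p
  rw [e, show mat (1 : ↥(Cfsg.SU 3 F q)) = 1 from rfl, one_mulVec, hvp] at this
  have h3 := congrArg (B p) this
  simp only [map_sub, B_smul_right, hp, mul_zero, zero_mul, zero_sub] at h3
  exact h2 (by linear_combination h3)

theorem two_ne_zero_of_odd [Fintype F] (hq : Odd q) (hF : Fintype.card F = q ^ 2) : (2 : F) ≠ 0 := by
  refine Ring.two_ne_zero fun h => ?_
  have h1 := (FiniteField.even_card_iff_char_two (F := F)).1 h
  rw [hF] at h1
  have := (hq.pow (n := 2))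
  rw [Nat.odd_iff] at this
  omega

theorem two_mul_injective (h2 : (2 : F) ≠ 0) {a b : F} (h : 2 * a = 2 * b) : a = b :=
  mul_left_cancel₀ h2 h

/-- A `3 × 3` unimodular involution other than `1` has trace `-1`. -/
theorem trace_eq_neg_one {M : Matrix (Fin 3) (Fin 3) F} (hd : M.det = 1) (hM : M * M = 1) (hne : M ≠ 1)
    (h2 : (2 : F) ≠ 0) : M.trace = -1 := by
  have hadj : M.adjugate = M := by
    calc M.adjugate = (M * M) * M.adjugate := by rw [hM, one_mul]
      _ = M * (M * M.adjugate) := by rw [Matrix.mul_assoc]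
      _ = M := by rw [mul_adjugate, hd, one_smul, mul_one]
  have key : M * M - M.trace • M + M.adjugate.trace • (1 : Matrix (Fin 3) (Fin 3) F) = M.adjugate := by
    ext i j
    fin_cases i <;> fin_cases j <;>
      simp [adjugate_fin_three, trace_fin_three, Matrix.mul_apply, Fin.sum_univ_three, Matrix.one_apply] <;>
      ring
  rw [hM, hadj] at key
  by_contra h
  refine hne ?_
  have h1 : (1 + M.trace) • (1 - M) = 0 := by
    rw [show (1 + M.trace) • (1 - M) = (1 - M.trace • M + M.trace • (1 : Matrix (Fin 3) (Fin 3) F)) - M by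
      module, key, sub_self]
  rcases smul_eq_zero.1 h1 with h1 | h1
  · exact absurd (by linear_combination h1) h
  · exact (sub_eq_zero.1 h1).symm

/-- Every involution is `inv' v` for a unit vector `v`. -/
theorem exists_eq_inv' [Finite F] (h2 : (2 : F) ≠ 0) (hσ : ∀ x, σ x = x ^ q) (hc : IsConjugation σ)
    {g : ↥(Cfsg.SU 3 F q)} (hg : g ≠ 1) (hg2 : g * g = 1) :
    ∃ v, g = inv' hσ hc v := by
  set M := mat g with hMdef
  have hM : M * M = 1 := by rw [hMdef, ← mat_mul, hg2]; rfl
  have htr : M.trace = -1 :=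
    trace_eq_neg_one (g : SpecialLinearGroup (Fin 3) F).2 hM (fun e => hg (mat_injective e)) h2
  let P : (Fin 3 → F) →ₗ[F] (Fin 3 → F) := (2⁻¹ : F) • (1 + Matrix.toLin' M)
  have hP : ∀ y, P y = (2⁻¹ : F) • (y + M *ᵥ y) := fun y => by simp [P]
  have hMP : ∀ y, M *ᵥ P y = P y := fun y => by
    rw [hP, mulVec_smul, mulVec_add, mulVec_mulVec, hM, one_mulVec, add_comm]
  have hPfix : ∀ a, M *ᵥ a = a → P a = a := fun a ha => by
    rw [hP, ha, ← two_smul F a, smul_smul, inv_mul_cancel₀ h2, one_smul]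
  have hproj : LinearMap.IsProj (LinearMap.range P) P :=
    ⟨fun y => LinearMap.mem_range_self P y, fun a ha => by
      obtain ⟨y, rfl⟩ := LinearMap.mem_range.1 ha
      exact hPfix _ (hMP y)⟩
  have h1 : Module.finrank F (LinearMap.range P) = 1 := by
    have htrP : LinearMap.trace F (Fin 3 → F) P = 1 := by
      simp only [P, map_smul, map_add, LinearMap.trace_one, Module.finrank_fin_fun, Matrix.trace_toLin'_eq,
        htr, smul_eq_mul]
      field_simp
      push_cast
      ring
    have hle := Submodule.finrank_le (LinearMap.range P)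
    rw [Module.finrank_fin_fun] at hle
    have h := hproj.trace
    rw [htrP] at h
    set r := Module.finrank F (LinearMap.range P)
    interval_cases r
    · simp at h
    · rfl
    · exact absurd (by push_cast at h; linear_combination -h) (one_ne_zero (α := F))
    · exact absurd (by push_cast at h; linear_combination -h) h2
  obtain ⟨⟨a, ha⟩, ha0, hspan⟩ := finrank_eq_one_iff'.1 h1
  have hMa : M *ᵥ a = a := by
    obtain ⟨y, rfl⟩ := LinearMap.mem_range.1 ha
    exact hMP y
  have hBP : ∀ y, B a (P y) = B a y := fun y => by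
    have : B a (M *ᵥ y) = B a y := by
      have := mat_preserves hσ g a y
      rwa [← hMdef, hMa] at this
    rw [hP, B_smul_right, map_add, this, ← two_mul, ← mul_assoc, inv_mul_cancel₀ h2, one_mul]
  have hPc : ∀ y, ∃ c : F, c • a = P y := fun y => by
    obtain ⟨c, hc'⟩ := hspan ⟨P y, LinearMap.mem_range_self P y⟩
    exact ⟨c, congrArg Subtype.val hc'⟩
  have haa : B a a ≠ 0 := by
    intro h0
    refine ha0 (Subtype.ext ?_)
    refine stdHerm_sepLeft 3 (RingHom.injective σ) a fun y => ?_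
    obtain ⟨c, hc'⟩ := hPc y
    rw [← hBP, ← hc', B_smul_right, h0, mul_zero]
  obtain ⟨k, hk⟩ := (stdHerm_isHermitian hc 3).exists_scaled haa (map_one σ)
  refine ⟨⟨k • a, hk⟩, ext_mulVec fun y => ?_⟩
  rw [inv'_apply, ← hMdef]
  have hMy : M *ᵥ y = (2 : F) • P y - y := by
    rw [hP, smul_smul, mul_inv_cancel₀ h2, one_smul, add_sub_cancel_left]
  obtain ⟨c, hc'⟩ := hPc y
  have hcv : B (k • a) y • (k • a) = P y := by
    rw [smul_smul, B_smul_left, ← hBP, ← hc', B_smul_right]
    congr 1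
    rw [B_smul_left, B_smul_right] at hk
    linear_combination c * hk
  rw [hMy, mul_smul, hcv]

theorem inv'_eq_iff (h2 : (2 : F) ≠ 0) (hσ : ∀ x, σ x = x ^ q) (hc : IsConjugation σ)
    (v w : {v : Fin 3 → F // B v v = 1}) :
    inv' hσ hc v = inv' hσ hc w ↔ ∃ c : F, σ c * c = 1 ∧ w.1 = c • v.1 := by
  constructor
  · intro e
    have h1 := inv'_fix hσ hc w
    rw [← e, inv'_apply] at h1
    have h3 : w.1 = B v.1 w.1 • v.1 := by
      funext i
      have := congrFun h1 i
      simp only [Pi.sub_apply, Pi.smul_apply, smul_eq_mul] at this ⊢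
      exact two_mul_injective h2 (by linear_combination -this)
    refine ⟨B v.1 w.1, ?_, h3⟩
    have h4 := w.2
    rw [h3, B_smul_left, B_smul_right, v.2, mul_one] at h4
    exact h4
  · rintro ⟨c, hcc, e⟩
    refine ext_mulVec fun x => ?_
    rw [inv'_apply, inv'_apply, e, B_smul_left, smul_smul]
    congr 2
    linear_combination -(2 * B v.1 x) * hcc

theorem commute_inv'_iff (h2 : (2 : F) ≠ 0) (hσ : ∀ x, σ x = x ^ q) (hc : IsConjugation σ)
    (v w : {v : Fin 3 → F // B v v = 1}) :
    Commute (inv' hσ hc v) (inv' hσ hc w) ↔ inv' hσ hc v = inv' hσ hc w ∨ B v.1 w.1 = 0 := by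
  constructor
  · intro h
    by_cases h0 : B v.1 w.1 = 0
    · exact Or.inr h0
    refine Or.inl ?_
    have h1 := congrArg (fun g => mat g *ᵥ w.1) h.eq
    simp only [mat_mul, ← mulVec_mulVec, inv'_fix] at h1
    rw [inv'_apply hσ hc w, inv'_apply hσ hc v] at h1
    set a := B v.1 w.1
    have h3 : (4 * a) • v.1 = (4 * a * σ a) • w.1 := by
      simp only [map_sub, B_smul_right, w.2, ← show σ a = B w.1 v.1 from (B_swap hc _ _).symm] at h1
      funext i
      have := congrFun h1 i
      simp only [Pi.sub_apply, Pi.smul_apply, smul_eq_mul] at this ⊢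
      linear_combination this
    have h4 : (4 : F) * a ≠ 0 := mul_ne_zero (by
      rw [show (4 : F) = 2 * 2 by norm_num]; exact mul_ne_zero h2 h2) h0
    have h5 : v.1 = σ a • w.1 := by
      rw [mul_smul (4 * a) (σ a)] at h3
      exact (smul_right_injective _ h4) h3
    refine ((inv'_eq_iff h2 hσ hc w v).2 ⟨σ a, ?_, h5⟩).symm
    have h6 := v.2
    rw [h5, B_smul_left, B_smul_right, w.2, mul_one] at h6
    exact h6
  · rintro (h | h)
    · rw [h]
    · refine ext_mulVec fun x => ?_
      simp only [mat_mul, ← mulVec_mulVec, inv'_apply, map_sub, B_smul_right, h, B_swap_zero hc h]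
      module

end Group

end CfsgLib.Involution.SU3
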