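import Cfsg.Agent.Lib.Classical.HermMatrix
import Cfsg.Agent.Lib.KnownC.GUConj
import Cfsg.Agent.Lib.KnownC.RegNilp

/-!
# Regular unipotent classes of `SU_n`

They form one class of `GU_n`, whose centralisers have exactly the `n`-th powers as determinants.
-/

set_option autoImplicit false
set_option linter.unusedSectionVars false

open Module Matrix CfsgLib.Classical CfsgLib.KnownC.GUConj

namespace CfsgLib.Involution.SURegularUnipotent

variable {K : Type*} [Field K] {n q : ℕ}

/-- Regular unipotent matrices. -/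
def RU (M : Matrix (Fin n) (Fin n) K) : Prop := (M - 1) ^ n = 0 ∧ (M - 1).rank = n - 1

/-- The matrix `1 + N`, `N` a single nilpotent Jordan block. -/
def shift (n : ℕ) (K : Type*) [Field K] : Matrix (Fin n) (Fin n) K :=
  Matrix.of fun i j => if (i : ℕ) + 1 = j then 1 else 0

theorem shift_pow (k : ℕ) : ∀ i j : Fin n, (shift n K ^ k) i j = if (i : ℕ) + k = j then 1 else 0 := by
  induction k with
  | zero => intro i j; simp [Matrix.one_apply, Fin.ext_iff]
  | succ k ih =>
    intro i j
    rw [pow_succ, mul_apply]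
    simp only [ih]
    simp only [shift, Matrix.of_apply]
    by_cases h : (i : ℕ) + k < n
    · rw [Finset.sum_eq_single ⟨_, h⟩]
      · simp [add_assoc]
      · intro b _ hb
        rw [if_neg (fun e => hb (Fin.ext e.symm)), zero_mul]
      · simp
    · rw [Finset.sum_eq_zero (fun b _ => by rw [if_neg (by omega), zero_mul]), if_neg (by omega)]

theorem shift_nil : shift n K ^ n = 0 := by
  ext i j
  rw [shift_pow, Matrix.zero_apply, if_neg (by omega)]

theorem shift_rank (hn : 1 ≤ n) : (shift n K).rank = n - 1 := by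
  have hker : LinearMap.ker (Matrix.mulVecLin (shift n K)) =
      Submodule.span K {(Pi.single (⟨0, hn⟩ : Fin n) 1 : Fin n → K)} := by
    refine le_antisymm (fun x hx => ?_) ?_
    · rw [LinearMap.mem_ker, Matrix.mulVecLin_apply] at hx
      refine Submodule.mem_span_singleton.2 ⟨x ⟨0, hn⟩, funext fun j => ?_⟩
      by_cases hj : (j : ℕ) = 0
      · rw [show j = ⟨0, hn⟩ from Fin.ext hj]; simp
      · have h := congrFun hx ⟨j - 1, by omega⟩
        simp only [mulVec, dotProduct, shift, Matrix.of_apply, Pi.zero_apply] at h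
        rw [Finset.sum_eq_single j (fun b _ hb => by
          rw [if_neg (fun e => hb (Fin.ext (by omega))), zero_mul]) (by simp), if_pos (by omega), one_mul] at h
        rw [h, Pi.smul_apply, Pi.single_eq_of_ne (fun e => hj (congrArg Fin.val e)), smul_zero]
    · rw [Submodule.span_singleton_le_iff_mem, LinearMap.mem_ker, Matrix.mulVecLin_apply]
      funext i
      simp [shift]
  have h := LinearMap.finrank_range_add_finrank_ker (Matrix.mulVecLin (shift n K))
  rw [hker, finrank_span_singleton (fun e => by simpa using congrFun e ⟨0, hn⟩), Module.finrank_fin_fun] at h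
  show finrank K (LinearMap.range (Matrix.mulVecLin (shift n K))) = n - 1
  omega

theorem det_one_add {N : Matrix (Fin n) (Fin n) K} (hN : IsNilpotent N) : (1 + N).det = 1 := by
  have h2 : (-N).charpoly = Polynomial.X ^ n := by
    have := (Matrix.isNilpotent_charpoly_sub_pow_of_isNilpotent hN.neg).eq_zero
    rwa [Fintype.card_fin, sub_eq_zero] at this
  have h3 := Matrix.eval_charpoly (-N) (1 : K)
  rw [h2, Polynomial.eval_pow, Polynomial.eval_X, one_pow, map_one, sub_neg_eq_add] at h3
  exact h3.symm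

theorem det_eq_one {M : Matrix (Fin n) (Fin n) K} (h : RU M) : M.det = 1 := by
  have := det_one_add ⟨n, h.1⟩
  rwa [add_sub_cancel] at this

theorem isConj_of_RU (g h : GL (Fin n) K) (hg : RU g.val) (hh : RU h.val) : IsConj g h := by
  obtain ⟨e, he⟩ := CfsgLib.KnownC.RegNilp.exists_equiv
    (CfsgLib.KnownC.RegNilp.reg_of_matrix (g.val - 1) (by rw [Fintype.card_fin]; exact hg.1)
      (by rw [Fintype.card_fin]; exact hg.2))
    (CfsgLib.KnownC.RegNilp.reg_of_matrix (h.val - 1) (by rw [Fintype.card_fin]; exact hh.1)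
      (by rw [Fintype.card_fin]; exact hh.2)) rfl
  refine isConj_iff.2 ⟨linToGL e, ?_⟩
  rw [mul_inv_eq_iff_eq_mul]
  refine Units.ext (Matrix.ext_of_mulVec_single fun i => ?_)
  have := he (Pi.single i 1)
  simp only [map_sub, map_one, LinearMap.sub_apply, Module.End.one_apply, sub_left_inj, Matrix.toLinAlgEquiv'_apply] at this
  simp only [Units.val_mul, ← mulVec_mulVec, linToGL_mulVec]
  exact this

theorem RU_conj {g : GL (Fin n) K} (h : RU g.val) (c : GL (Fin n) K) : RU (c * g * c⁻¹ : GL (Fin n) K).val := by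
  have e : (c * g * c⁻¹ : GL (Fin n) K).val - 1 = c.val * (g.val - 1) * (c⁻¹ : GL (Fin n) K).val := by
    simp [mul_sub, sub_mul]
  refine ⟨?_, ?_⟩
  · rw [e, Units.conj_pow, h.1]
    simp
  · rw [e, rank_mul_eq_left_of_isUnit_det _ _ ((Matrix.isUnit_iff_isUnit_det _).1 (Units.isUnit _)),
      rank_mul_eq_right_of_isUnit_det _ _ ((Matrix.isUnit_iff_isUnit_det _).1 c.isUnit)]
    exact h.2

variable [Fintype K] {σ : K →+* K}

theorem exists_GU (hK : Fintype.card K = q ^ 2) (hσ : ∀ x, σ x = x ^ q) (hn : 1 ≤ n) :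
    ∃ u : ↥(Cfsg.GU n K q), RU u.1.val := by
  have hdet : (1 + shift n K).det ≠ 0 := by
    rw [det_one_add ⟨n, shift_nil⟩]; exact one_ne_zero
  let M : GL (Fin n) K := GeneralLinearGroup.mkOfDetNeZero _ hdet
  have hM : RU M.val := by
    show (1 + shift n K - 1) ^ n = 0 ∧ (1 + shift n K - 1).rank = n - 1
    rw [add_sub_cancel_left]
    exact ⟨shift_nil, shift_rank hn⟩
  have hadj : adj σ M.val - 1 = (shift n K)ᵀ := by
    show adj σ (1 + shift n K) - 1 = _
    rw [adj_add, adj_one, add_sub_cancel_left, adj]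
    ext i j
    simp [shift, apply_ite σ]
  have hM' : RU ((adjGL σ M)⁻¹ : GL (Fin n) K).val := by
    set A := adjGL σ M
    have e : (A⁻¹ : GL (Fin n) K).val - 1 = -((shift n K)ᵀ * (A⁻¹ : GL (Fin n) K).val) := by
      rw [← hadj, Matrix.sub_mul, Matrix.one_mul, show adj σ M.val = A.val from rfl, Units.mul_inv, neg_sub]
    have hcomm : Commute (shift n K)ᵀ (A⁻¹ : GL (Fin n) K).val := by
      rw [← hadj]
      exact ((Commute.refl A).inv_right.map (Units.coeHom _)).sub_left (Commute.one_left _)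
    constructor
    · rw [e, neg_pow, hcomm.mul_pow, ← transpose_pow, shift_nil, transpose_zero, Matrix.zero_mul, Matrix.mul_zero]
    · rw [e, ← Matrix.mul_neg, ← Units.val_neg, rank_mul_eq_left_of_isUnit_det _ _
        ((Matrix.isUnit_iff_isUnit_det _).1 (Units.isUnit (-A⁻¹))), rank_transpose, shift_rank hn]
  obtain ⟨B, hB⟩ := (similar_iff hK M).2 (by
    have hmap : ((M.val.map (fun x : K => x ^ q)).transpose)⁻¹ =
        ((adjGL σ M)⁻¹ : GL (Fin n) K).val := by
      rw [Matrix.coe_units_inv, ← funext hσ]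
      rfl
    rw [hmap]
    exact MonoidHom.map_isConj (Units.coeHom _) (isConj_of_RU _ _ hM hM'))
  obtain ⟨c, hc⟩ := isConj_iff.1 hB
  exact ⟨B, hc ▸ RU_conj hM c⟩

theorem exists_root (hK : Fintype.card K = q ^ 2) (hσ : ∀ x, σ x = x ^ q) (hc : IsConjugation σ) (hn : 1 ≤ n)
    (u : ↥(Cfsg.GU n K q)) (hu : RU u.1.val) (z : ↥(Cfsg.GU n K q)) (hz : Commute z u) :
    ∃ a : K, a * σ a = 1 ∧ z.1.val.det = a ^ n := by
  have : Nonempty (Fin n) := ⟨⟨0, hn⟩⟩
  set f := Matrix.toLinAlgEquiv' (R := K) (n := Fin n)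
  have hreg := CfsgLib.KnownC.RegNilp.reg_of_matrix (u.1.val - 1) (by rw [Fintype.card_fin]; exact hu.1)
    (by rw [Fintype.card_fin]; exact hu.2)
  obtain ⟨a, ha⟩ := CfsgLib.KnownC.RegNilp.commutant_scalar_add_nilpotent hreg
    ((CfsgLib.KnownC.RegNilp.commute_iff u.1.val z.1.val).2
      (congrArg (fun g : ↥(Cfsg.GU n K q) => g.1.val) hz.eq))
  have hN : IsNilpotent (z.1.val - a • 1) := by
    obtain ⟨k, hk⟩ := ha
    refine ⟨k, f.injective ?_⟩
    rw [map_pow, map_sub, map_smul, map_one, map_zero]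
    exact hk
  have hzz : adj σ z.1.val * z.1.val = 1 := congrArg Units.val ((mem_GU_iff_adj hK hσ hc).1 z.2)
  set N := z.1.val - a • 1 with hNdef
  have hN' : IsNilpotent (adj σ N) := by
    obtain ⟨k, hk⟩ := hN
    refine ⟨k, ?_⟩
    have hp : ∀ j : ℕ, adj σ (N ^ j) = adj σ N ^ j := fun j => by
      induction j with
      | zero => rw [pow_zero, pow_zero, adj_one]
      | succ j ih => rw [pow_succ', adj_mul, ih, ← pow_succ]
    rw [← hp, hk]
    ext i j; simp [adj]
  have hadjz : adj σ z.1.val = σ a • 1 + adj σ N := by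
    ext i j
    simp [hNdef, adj, Matrix.one_apply, apply_ite σ, eq_comm]
  have hnorm : a * σ a = 1 := by
    have hcz : Commute z.1.val (adj σ z.1.val) := (mul_eq_one_comm.1 hzz).trans hzz.symm
    have hc1 : Commute N (adj σ N) := by
      have e : adj σ N = adj σ z.1.val - σ a • 1 := by rw [hadjz, add_sub_cancel_left]
      rw [e, hNdef]
      exact (hcz.sub_right ((Commute.one_right _).smul_right _)).sub_left
        (((Commute.one_left _).smul_left a).sub_right (((Commute.one_left _).smul_left a).smul_right _))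
    have e : (a * σ a - 1) • (1 : Matrix (Fin n) (Fin n) K) = -(a • adj σ N + σ a • N + adj σ N * N) := by
      have h := hzz
      rw [hadjz, show z.1.val = a • 1 + N by rw [hNdef, add_sub_cancel]] at h
      simp only [add_mul, mul_add, smul_mul_assoc, mul_smul_comm, one_mul, mul_one, smul_add, smul_smul] at h
      rw [sub_smul, one_smul, eq_neg_iff_add_eq_zero, ← sub_eq_zero.2 h, mul_comm a]
      abel
    have hnil : IsNilpotent ((a * σ a - 1) • (1 : Matrix (Fin n) (Fin n) K)) := by
      rw [e]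
      have n1 : IsNilpotent (a • adj σ N + σ a • N) :=
        ((hc1.symm.smul_left a).smul_right (σ a)).isNilpotent_add (hN'.smul a) (hN.smul (σ a))
      have c1 : Commute (a • adj σ N + σ a • N) (adj σ N * N) :=
        (((Commute.refl (adj σ N)).mul_right hc1.symm).smul_left a).add_left
          ((hc1.mul_right (Commute.refl N)).smul_left (σ a))
      exact (c1.isNilpotent_add n1 (hc1.symm.isNilpotent_mul_right hN')).neg
    obtain ⟨k, hk⟩ := hnil
    rw [smul_pow, one_pow, smul_eq_zero] at hk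
    exact sub_eq_zero.1 (eq_zero_of_pow_eq_zero (hk.resolve_right one_ne_zero))
  refine ⟨a, hnorm, ?_⟩
  have ha0 : a ≠ 0 := fun h => by simp [h] at hnorm
  have e : z.1.val = a • (1 + a⁻¹ • N) := by
    rw [smul_add, smul_smul, mul_inv_cancel₀ ha0, one_smul, hNdef, add_sub_cancel]
  rw [e, det_smul, det_one_add (hN.smul _), mul_one, Fintype.card_fin]

theorem card_classes (hK : Fintype.card K = q ^ 2) (hn : 1 ≤ n) :
    Nat.card {C : ConjClasses ↥(Cfsg.SU n K q) // ∃ u : ↥(Cfsg.SU n K q), ConjClasses.mk u = C ∧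
      RU ((u : SpecialLinearGroup (Fin n) K) : Matrix (Fin n) (Fin n) K)} = Nat.gcd n (q + 1) := by
  classical
  obtain ⟨σ, hσ, hc⟩ := exists_frob hK
  obtain ⟨u, hu⟩ := exists_GU hK hσ hn
  have hdet := guDet_surjective (n := n) hσ hn
  set T := (normHom σ).ker
  choose c hc' using hdet
  have hmem : ∀ z : ↥(Cfsg.GU n K q), RU z.1.val → z ∈ (suToGU n K q).range := fun z hz => by
    rw [suToGU_range hσ, MonoidHom.mem_ker, guDet_eq_one_iff]
    exact Units.ext (det_eq_one hz)
  have key : ∀ d : T, ∃ v : ↥(Cfsg.SU n K q), suToGU n K q v = c d * u * (c d)⁻¹ :=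
    fun d => hmem _ (RU_conj hu (c d).1)
  choose v hv using key
  let H : Subgroup T := (powMonoidHom n : T →* T).range
  have hscal : ∀ a : T, ∃ z : ↥(Cfsg.GU n K q), Commute z u ∧ guDet hσ z = a ^ n := fun a => by
    refine ⟨⟨diagGL fun _ => (a : Kˣ), diagGL_mem_GU hσ _ fun _ => a.2⟩, Subtype.ext (Units.ext ?_),
      Subtype.ext ?_⟩
    · show (diagonal fun _ : Fin n => ((a : Kˣ) : K)) * u.1.val = u.1.val * diagonal fun _ => ((a : Kˣ) : K)
      exact (Matrix.scalar_commute ((a : Kˣ) : K) (fun r => Commute.all _ r) u.1.val).eq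
    · show GeneralLinearGroup.det (diagGL fun _ => (a : Kˣ)) = _
      rw [diagGL_det, Finset.prod_const, Finset.card_univ, Fintype.card_fin, SubgroupClass.coe_pow]
  have hiff : ∀ (x : ↥(Cfsg.GU n K q)) (w : ↥(Cfsg.SU n K q)), suToGU n K q w = x * u * x⁻¹ →
      ∀ d, IsConj w (v d) ↔ d⁻¹ * guDet hσ x ∈ H := by
    intro x w hw d
    constructor
    · intro h
      obtain ⟨s, hs⟩ := isConj_iff.1 h
      have h1 := congrArg (suToGU n K q) hs
      rw [map_mul, map_mul, map_inv, hw, hv] at h1
      set z := (c d)⁻¹ * suToGU n K q s * x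
      have hz : Commute z u := by
        show z * u = u * z
        calc z * u = (c d)⁻¹ * (suToGU n K q s * (x * u * x⁻¹) * (suToGU n K q s)⁻¹) * suToGU n K q s * x := by
              simp only [z]; group
          _ = u * z := by rw [h1]; simp only [z]; group
      obtain ⟨a, ha, hdeta⟩ := exists_root hK hσ hc hn u hu z hz
      have ha0 : a ≠ 0 := fun h => by simp [h] at ha
      refine ⟨⟨Units.mk0 a ha0, MonoidHom.mem_ker.2 (Units.ext ha)⟩, ?_⟩
      rw [powMonoidHom_apply]
      have hsd : guDet hσ (suToGU n K q s) = 1 := by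
        rw [← MonoidHom.mem_ker, ← suToGU_range hσ]; exact ⟨s, rfl⟩
      have h2 : guDet hσ z = d⁻¹ * guDet hσ x := by
        simp only [z, map_mul, map_inv, hc', hsd, mul_one]
      rw [← h2]
      exact Subtype.ext (Units.ext (by rw [SubgroupClass.coe_pow, Units.val_pow_eq_pow_val]; exact hdeta.symm))
    · rintro ⟨a, ha⟩
      rw [powMonoidHom_apply] at ha
      obtain ⟨z, hz, hzd⟩ := hscal a
      obtain ⟨s, hs⟩ : c d * z * x⁻¹ ∈ (suToGU n K q).range := by
        rw [suToGU_range hσ, MonoidHom.mem_ker, map_mul, map_mul, map_inv, hc', hzd, ha]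
        group
      refine isConj_iff.2 ⟨s, suToGU_injective ?_⟩
      rw [map_mul, map_mul, map_inv, hw, hv, hs]
      calc c d * z * x⁻¹ * (x * u * x⁻¹) * (c d * z * x⁻¹)⁻¹ = c d * (z * u) * z⁻¹ * (c d)⁻¹ := by group
        _ = c d * u * (c d)⁻¹ := by rw [hz.eq]; group
  have hwd : ∀ a b : T, a⁻¹ * b ∈ H → ConjClasses.mk (v a) = ConjClasses.mk (v b) := fun a b h =>
    (ConjClasses.mk_eq_mk_iff_isConj.2 ((hiff (c b) (v b) (hv b) a).2 (by rwa [hc']))).symm
  let Ψ : T ⧸ H → {C : ConjClasses ↥(Cfsg.SU n K q) // ∃ u : ↥(Cfsg.SU n K q), ConjClasses.mk u = C ∧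
      RU ((u : SpecialLinearGroup (Fin n) K) : Matrix (Fin n) (Fin n) K)} :=
    Quotient.lift (fun d => ⟨ConjClasses.mk (v d), v d, rfl, by
      have := RU_conj hu (c d).1
      rw [← InvMemClass.coe_inv, ← Subgroup.coe_mul, ← Subgroup.coe_mul, ← hv d] at this
      exact this⟩)
      fun a b h => Subtype.ext (hwd a b (QuotientGroup.leftRel_apply.1 h))
  have hbij : Function.Bijective Ψ := by
    constructor
    · intro a b
      induction a using QuotientGroup.induction_on
      induction b using QuotientGroup.induction_on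
      rename_i a b
      intro h
      have h1 := (hiff (c b) (v b) (hv b) a).1
        (ConjClasses.mk_eq_mk_iff_isConj.1 (congrArg Subtype.val h).symm)
      rw [hc'] at h1
      exact QuotientGroup.eq.2 h1
    · rintro ⟨C, w, rfl, hw⟩
      obtain ⟨x, hx⟩ := isConj_iff.1 ((isConj_iff_linear hK u (suToGU n K q w)).2
        (isConj_of_RU _ _ hu hw))
      refine ⟨QuotientGroup.mk (guDet hσ x), Subtype.ext (ConjClasses.mk_eq_mk_iff_isConj.2 ?_)⟩
      exact ((hiff x w hx.symm (guDet hσ x)).2 (by rw [inv_mul_cancel]; exact one_mem H)).symm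
  rw [← Nat.card_congr (Equiv.ofBijective Ψ hbij), ← Subgroup.index_eq_card]
  show (powMonoidHom n : T →* T).range.index = _
  rw [IsCyclic.index_powMonoidHom_range, (frob_cards hK hσ hc).2, Nat.gcd_comm]

end CfsgLib.Involution.SURegularUnipotent
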