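import Cfsg.Agent.Lib.Classical.HermMatrix
import Cfsg.Agent.Lib.KnownC.GUConj
import Cfsg.Agent.Lib.KnownA.SemisimpleClassesMatrix

/-!
# Semisimple elements of `SU_n` with the same characteristic polynomial are conjugate

The centraliser of a semisimple element in `GU_n` has every norm-one scalar as a determinant.
-/

set_option autoImplicit false
set_option linter.unusedSectionVars false

open Module Matrix CfsgLib.Classical CfsgLib.KnownC.GUConj

namespace CfsgLib.Involution.SUSemisimple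

variable {K V : Type*} [Field K] [AddCommGroup V] [Module K V] [FiniteDimensional K V]

/-- An invariant subspace without proper invariant subspaces. -/
def IsIrred (f : Module.End K V) (S : Submodule K V) : Prop :=
  S ≠ ⊥ ∧ (∀ x ∈ S, f x ∈ S) ∧ ∀ T : Submodule K V, T ≤ S → (∀ x ∈ T, f x ∈ T) → T = ⊥ ∨ T = S

theorem exists_irred (f : Module.End K V) (U : Submodule K V) (hU0 : U ≠ ⊥) (hU : ∀ x ∈ U, f x ∈ U) :
    ∃ S ≤ U, IsIrred f S := by
  obtain ⟨S, ⟨hSU, hS0, hS⟩, hmin⟩ := exists_minimal_of_wellFoundedLT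
    (fun T : Submodule K V => T ≤ U ∧ T ≠ ⊥ ∧ ∀ x ∈ T, f x ∈ T) ⟨U, le_rfl, hU0, hU⟩
  refine ⟨S, hSU, hS0, hS, fun T hT hTi => ?_⟩
  by_cases h : T = ⊥
  · exact Or.inl h
  · exact Or.inr (le_antisymm hT (hmin ⟨hT.trans hSU, h, hTi⟩ hT))

/-- The centraliser of an element on an irreducible subspace is commutative. -/
theorem commute_of_irred {f : Module.End K V} {S : Submodule K V} (hS : IsIrred f S)
    (φ ψ : S →ₗ[K] S) (hφ : ∀ x : S, φ (f.restrict hS.2.1 x) = f.restrict hS.2.1 (φ x))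
    (hψ : ∀ x : S, ψ (f.restrict hS.2.1 x) = f.restrict hS.2.1 (ψ x)) : φ * ψ = ψ * φ := by
  set g : Module.End K S := f.restrict hS.2.1
  have hpoly : ∀ θ : Module.End K S, Commute θ g → ∃ P : Polynomial K, θ = Polynomial.aeval g P := by
    intro θ hθ
    obtain ⟨x, hx, hx0⟩ := (Submodule.ne_bot_iff S).1 hS.1
    let O : S →ₗ[K] V := S.subtype
    let T : Submodule K V := LinearMap.range
      ((O.comp (LinearMap.applyₗ (⟨x, hx⟩ : S))).comp (Polynomial.aeval g).toLinearMap)
    have hT : T = S := by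
      refine (hS.2.2 T ?_ ?_).resolve_left ?_
      · rintro _ ⟨P, rfl⟩
        exact ((Polynomial.aeval g P) ⟨x, hx⟩).2
      · rintro _ ⟨P, rfl⟩
        refine ⟨Polynomial.X * P, ?_⟩
        simp [O, g]
      · refine (Submodule.ne_bot_iff T).2 ⟨x, ⟨1, ?_⟩, hx0⟩
        simp [O]
    have hgen : ∀ y : S, ∃ P : Polynomial K, Polynomial.aeval g P ⟨x, hx⟩ = y := fun y => by
      obtain ⟨P, hP⟩ := (hT.ge y.2)
      exact ⟨P, Subtype.ext hP⟩
    obtain ⟨P, hP⟩ := hgen (θ ⟨x, hx⟩)
    refine ⟨P, LinearMap.ext fun y => ?_⟩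
    obtain ⟨Q, rfl⟩ := hgen y
    have hc : Commute θ (Polynomial.aeval g Q) :=
      Algebra.commute_of_mem_adjoin_singleton_of_commute (Polynomial.aeval_mem_adjoin_singleton K g) hθ
    rw [← Module.End.mul_apply, hc.eq, Module.End.mul_apply, ← hP, ← Module.End.mul_apply,
      ← Module.End.mul_apply, ← map_mul, ← map_mul, mul_comm]
  obtain ⟨P, rfl⟩ := hpoly φ (LinearMap.ext hφ)
  obtain ⟨Q, rfl⟩ := hpoly ψ (LinearMap.ext hψ)
  rw [← map_mul, ← map_mul, mul_comm]

variable [Finite K] {σ : K →+* K} {B : V →ₛₗ[σ] V →ₗ[K] K}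

theorem perp_invariant {G : Module.End K V} (hG : ∀ x y, B (G x) (G y) = B x y) (hinj : Function.Injective G)
    {W : Submodule K V} (hW : ∀ x ∈ W, G x ∈ W) : ∀ x ∈ perp B W, G x ∈ perp B W := by
  intro x hx
  refine mem_perp.2 fun w hw => ?_
  obtain ⟨⟨w', hw'⟩, he⟩ := LinearMap.surjective_of_injective (f := G.restrict hW)
    (fun a b h => Subtype.ext (hinj (congrArg Subtype.val h))) ⟨w, hw⟩
  have e : G w' = w := congrArg Subtype.val he
  rw [← e, hG]
  exact mem_perp.1 hx _ hw'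

/-- Some element centralising a semisimple isometry commutes with its adjoint and has given determinant. -/
theorem exists_normal (hH : IsHermitian B) (hN : B.SeparatingRight) (G : Module.End K V)
    (hG : ∀ x y, B (G x) (G y) = B x y) (hss : G.IsSemisimple) (hn : 0 < finrank K V) (y : K) :
    ∃ M : Module.End K V, M * G = G * M ∧ LinearMap.det M = y ∧
      ∀ Ms : Module.End K V, (∀ x v, B (Ms x) v = B x (M v)) → M * Ms = Ms * M := by
  classical
  have hnondeg : ∀ x, (∀ v, B x v = 0) → x = 0 := fun x hx => hN x fun v => hH.isRefl _ _ (hx v)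
  have hinj : Function.Injective G := by
    rw [injective_iff_map_eq_zero]
    exact fun x hx => hnondeg x fun v => by rw [← hG, hx, map_zero, LinearMap.zero_apply]
  have hsurj := LinearMap.surjective_of_injective hinj
  obtain ⟨S, S', hS, hS', hd1, hd2, hcase⟩ : ∃ S S' : Submodule K V, IsIrred G S ∧ IsIrred G S' ∧
      S ⊓ perp B S' = ⊥ ∧ S' ⊓ perp B S = ⊥ ∧ (S = S' ∨ (S ≤ perp B S ∧ S' ≤ perp B S')) := by
    by_cases h : ∃ S, IsIrred G S ∧ S ⊓ perp B S = ⊥
    · obtain ⟨S, hS, hd⟩ := h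
      exact ⟨S, S, hS, hS, hd, hd, Or.inl rfl⟩
    push Not at h
    have hTI : ∀ S, IsIrred G S → S ≤ perp B S := fun S hS => by
      have hinv : ∀ x ∈ S ⊓ perp B S, G x ∈ S ⊓ perp B S := fun x hx =>
        ⟨hS.2.1 x hx.1, perp_invariant hG hinj hS.2.1 x hx.2⟩
      exact ((hS.2.2 _ inf_le_left hinv).resolve_left (h S hS)).ge.trans inf_le_right
    have htop : (⊤ : Submodule K V) ≠ ⊥ := fun e => by
      have := congrArg (fun W : Submodule K V => finrank K W) e
      simp only [finrank_top, finrank_bot] at this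
      omega
    obtain ⟨S, -, hS⟩ := exists_irred G ⊤ htop fun x _ => trivial
    obtain ⟨T, hT, hcompl⟩ := Module.End.isSemisimple_iff.1 hss (perp B S)
      ((Module.End.mem_invtSubmodule G).2 (perp_invariant hG hinj hS.2.1))
    have hT0 : T ≠ ⊥ := by
      rintro rfl
      refine hS.1 (eq_bot_iff.2 fun x hx => hnondeg x fun v => ?_)
      have hv : v ∈ perp B S := by
        have := hcompl.sup_eq_top
        rw [sup_bot_eq] at this
        rw [this]; trivial
      exact mem_perp.1 hv x hx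
    obtain ⟨S', hS'T, hS'⟩ := exists_irred G T hT0 ((Module.End.mem_invtSubmodule G).1 hT)
    have hd2 : S' ⊓ perp B S = ⊥ := eq_bot_iff.2 fun x hx => by
      have : x ∈ perp B S ⊓ T := ⟨hx.2, hS'T hx.1⟩
      rwa [hcompl.inf_eq_bot] at this
    refine ⟨S, S', hS, hS', ?_, hd2, Or.inr ⟨hTI S hS, hTI S' hS'⟩⟩
    refine (hS.2.2 _ inf_le_left fun x hx => ⟨hS.2.1 x hx.1, perp_invariant hG hinj hS'.2.1 x hx.2⟩).resolve_right
      fun e => hS'.1 ?_
    rw [← hd2]
    refine (inf_of_le_left fun b hb => mem_perp.2 fun a ha => ?_).symm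
    rw [← e] at ha
    exact hH.isRefl _ _ (mem_perp.1 ha.2 b hb)
  set U := perp B S' with hU
  have hUinv := perp_invariant hG hinj hS'.2.1
  have hcompl : IsCompl S U := by
    refine IsCompl.of_eq hd1 (Submodule.eq_top_of_finrank_eq ?_)
    have a1 := Submodule.finrank_sup_add_finrank_inf_eq S U
    have a2 := Submodule.finrank_sup_add_finrank_inf_eq S' (perp B S)
    rw [hd1, finrank_bot] at a1
    rw [hd2, finrank_bot] at a2
    have b1 := finrank_le_finrank_perp_add B S'
    have b2 := finrank_le_finrank_perp_add B S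
    have c1 := Submodule.finrank_le (S ⊔ U)
    have c2 := Submodule.finrank_le (S' ⊔ perp B S)
    have hUf : finrank K U = finrank K (perp B S') := rfl
    omega
  have : Nontrivial S := Submodule.nontrivial_iff_ne_bot.2 hS.1
  obtain ⟨C, hC, hCdet⟩ := CfsgLib.SemisimpleClasses.exists_centralizer_det (G.restrict hS.2.1)
    (hss.restrict ((Module.End.mem_invtSubmodule G).2 hS.2.1)) Module.finrank_pos y
  let e := Submodule.prodEquivOfIsCompl S U hcompl
  set M : Module.End K V := e.toLinearMap.comp ((C.prodMap LinearMap.id).comp e.symm.toLinearMap) with hM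
  have hMS : ∀ (a : V) (ha : a ∈ S), M a = (C ⟨a, ha⟩ : V) := fun a ha => by
    have h1 : e.symm a = (⟨a, ha⟩, 0) := Submodule.prodEquivOfIsCompl_symm_apply_left S U hcompl ⟨a, ha⟩
    show e (C.prodMap LinearMap.id (e.symm a)) = _
    rw [h1]
    simp [e]
  have hMU : ∀ b ∈ U, M b = b := fun b hb => by
    have h1 : e.symm b = (0, ⟨b, hb⟩) := Submodule.prodEquivOfIsCompl_symm_apply_right S U hcompl ⟨b, hb⟩
    show e (C.prodMap LinearMap.id (e.symm b)) = _
    rw [h1]
    simp [e]
  have hsplit : ∀ x, ∃ a ∈ S, ∃ b ∈ U, x = a + b := fun x => by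
    obtain ⟨a, b, h⟩ := exists_add_eq hcompl x
    exact ⟨a, a.2, b, b.2, h.symm⟩
  refine ⟨M, LinearMap.ext fun x => ?_, ?_, ?_⟩
  · obtain ⟨a, ha, b, hb, rfl⟩ := hsplit x
    simp only [Module.End.mul_apply, map_add, hMU b hb, hMU (G b) (hUinv b hb), hMS a ha,
      hMS (G a) (hS.2.1 a ha)]
    congr 1
    exact congrArg Subtype.val (LinearMap.congr_fun hC ⟨a, ha⟩)
  · rw [hM, LinearMap.det_conj, LinearMap.det_prodMap, LinearMap.det_id, mul_one, hCdet]
  · intro Ms hMs
    have hfix : ∀ x, (∀ a ∈ S, B x (M a) = B x a) → Ms x = x := fun x hx => by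
      refine sub_eq_zero.1 (hnondeg _ fun v => ?_)
      obtain ⟨a, ha, b, hb, rfl⟩ := hsplit v
      rw [map_sub, LinearMap.sub_apply, hMs]
      simp only [map_add, hMU b hb, hx a ha, sub_self]
    have hMmem : ∀ a ∈ S, M a ∈ S := fun a ha => by rw [hMS a ha]; exact (C ⟨a, ha⟩).2
    refine LinearMap.ext fun x => ?_
    obtain ⟨a, ha, b, hb, rfl⟩ := hsplit x
    simp only [Module.End.mul_apply, map_add, hMU b hb]
    rcases hcase with rfl | ⟨hSS, hS'S'⟩
    · have hUfix : ∀ w ∈ U, Ms w = w := fun w hw => hfix w fun s hs => by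
        rw [hH.isRefl _ _ (mem_perp.1 hw _ (hMmem s hs)), hH.isRefl _ _ (mem_perp.1 hw _ hs)]
      have hMsS : ∀ s ∈ S, Ms s ∈ S := fun s hs => by
        obtain ⟨a', ha', b', hb', he⟩ := hsplit (Ms s)
        suffices b' = 0 by rw [he, this, add_zero]; exact ha'
        refine hnondeg _ fun v => ?_
        obtain ⟨a'', ha'', b'', hb'', rfl⟩ := hsplit v
        have e1 : B (Ms s) b'' = 0 := by rw [hMs, hMU b'' hb'']; exact mem_perp.1 hb'' s hs
        rw [he, map_add, LinearMap.add_apply, mem_perp.1 hb'' a' ha', zero_add] at e1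
        rw [map_add, e1, hH.isRefl _ _ (mem_perp.1 hb' a'' ha''), add_zero]
      have hMsG : ∀ z, Ms (G z) = G (Ms z) := fun z => sub_eq_zero.1 (hnondeg _ fun v => by
        obtain ⟨w, rfl⟩ := hsurj v
        have hMG : M (G w) = G (M w) := by
          obtain ⟨a', ha', b', hb', rfl⟩ := hsplit w
          simp only [map_add, hMU b' hb', hMU (G b') (hUinv b' hb'), hMS a' ha',
            hMS (G a') (hS.2.1 a' ha')]
          congr 1
          exact congrArg Subtype.val (LinearMap.congr_fun hC ⟨a', ha'⟩)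
        rw [map_sub, LinearMap.sub_apply, hMs, hMG, hG, hG, hMs, sub_self])
      rw [hUfix b hb, hMU b hb]
      congr 1
      have hcomm := commute_of_irred hS C (Ms.restrict hMsS) (fun z => LinearMap.congr_fun hC z)
        (fun z => Subtype.ext (hMsG z))
      rw [hMS _ (hMsS a ha)]
      have h1 := congrArg Subtype.val (LinearMap.congr_fun hcomm ⟨a, ha⟩)
      refine Eq.trans h1 ?_
      show Ms (C ⟨a, ha⟩ : V) = Ms (M a)
      rw [hMS a ha]
    · have hSfix : ∀ w ∈ S, Ms w = w := fun w hw => hfix w fun s hs => by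
        rw [mem_perp.1 (hSS (hMmem s hs)) w hw, mem_perp.1 (hSS hs) w hw]
      rw [hSfix a ha, hSfix _ (hMmem a ha)]
      congr 1
      refine (hMU _ ?_)
      have hz : Ms b - b ∈ U := mem_perp.2 fun c hc => hH.isRefl _ _ (by
        rw [map_sub, LinearMap.sub_apply, hMs, hMU c (hS'S' hc), sub_self])
      simpa using U.add_mem hz hb

theorem adj_form {n : ℕ} (hc : IsConjugation σ) (M : Matrix (Fin n) (Fin n) K) (x v : Fin n → K) :
    stdHerm σ n (adj σ M *ᵥ x) v = stdHerm σ n x (M *ᵥ v) := by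
  simp only [stdHerm_apply, mulVec, dotProduct, adj, transpose_apply, map_apply, map_sum, map_mul, hc.invol,
    Finset.sum_mul, Finset.mul_sum]
  rw [Finset.sum_comm]
  exact Finset.sum_congr rfl fun i _ => Finset.sum_congr rfl fun j _ => by ring

variable {q n : ℕ} [Fintype K]

theorem exists_centraliser_det (hK : Fintype.card K = q ^ 2) (hσ : ∀ x, σ x = x ^ q) (hc : IsConjugation σ)
    (hn : 0 < n) (p : ℕ) [Fact p.Prime] [CharP K p] (g : ↥(Cfsg.GU n K q)) (hg : (orderOf g).Coprime p)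
    (d : K) (hd : d * σ d = 1) :
    ∃ z : ↥(Cfsg.GU n K q), z * g = g * z ∧ (z.1 : Matrix (Fin n) (Fin n) K).det = d := by
  set Gm : Matrix (Fin n) (Fin n) K := (g.1 : Matrix (Fin n) (Fin n) K)
  obtain ⟨y, hy0, hy⟩ := hc.exists_div_eq hd
  have hss := CfsgLib.SemisimpleClasses.isSemisimple_toLin' (n := n) p
    ((Units.coeHom _).comp (Cfsg.GU n K q).subtype) g hg
  obtain ⟨M, hMG, hdet, hMs⟩ := exists_normal (stdHerm_isHermitian hc n) (stdHerm_sepRight n)
    (Matrix.toLin' Gm) (fun a b => (mem_GU_iff hσ).1 g.2 a b) hss (by rwa [Module.finrank_fin_fun]) y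
  set Cm := LinearMap.toMatrix' M with hCm
  have hCdet : Cm.det = y := by rw [hCm, LinearMap.det_toMatrix', hdet]
  let C : GL (Fin n) K := GeneralLinearGroup.mkOfDetNeZero Cm (by rw [hCdet]; exact hy0)
  have hCg : C * g.1 = g.1 * C := Units.ext (by
    have := congrArg LinearMap.toMatrix' hMG
    simpa [C, hCm, Gm, LinearMap.toMatrix'_mul, LinearMap.toMatrix'_toLin'] using this)
  have hCC : adjGL σ C * C = C * adjGL σ C := by
    refine (Units.ext ?_).symm
    have := congrArg LinearMap.toMatrix' (hMs (Matrix.toLin' (adj σ Cm)) fun x v => by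
      rw [Matrix.toLin'_apply, adj_form hc, hCm, LinearMap.toMatrix'_mulVec])
    simpa [C, hCm, LinearMap.toMatrix'_mul, LinearMap.toMatrix'_toLin', adjGL] using this
  have hgadj : adjGL σ g.1 = g.1⁻¹ := eq_inv_of_mul_eq_one_left ((mem_GU_iff_adj hK hσ hc).1 g.2)
  have hAg : Commute (adjGL σ C) g.1 := by
    have h1 : Commute (adjGL σ C) (adjGL σ g.1) := by
      have h := congrArg (adjGL σ) hCg
      rw [adjGL_mul, adjGL_mul] at h
      exact h.symm
    rw [hgadj] at h1
    simpa using h1.inv_right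
  let z : GL (Fin n) K := C * (adjGL σ C)⁻¹
  have hzmem : z ∈ Cfsg.GU n K q := (mem_GU_iff_adj hK hσ hc).2 (by
    simp only [z]
    rw [adjGL_mul, adjGL_inv, adjGL_adjGL hc]
    calc C⁻¹ * adjGL σ C * (C * (adjGL σ C)⁻¹) = C⁻¹ * (adjGL σ C * C) * (adjGL σ C)⁻¹ := by group
      _ = 1 := by rw [hCC]; group)
  refine ⟨⟨z, hzmem⟩, Subtype.ext ((show Commute C g.1 from hCg).mul_left hAg.inv_left).eq, ?_⟩
  have h1 : (z.val * adj σ Cm).det = y := by
    rw [show z.val * adj σ Cm = ((z * adjGL σ C : GL (Fin n) K) : Matrix (Fin n) (Fin n) K) from rfl,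
      show z * adjGL σ C = C from inv_mul_cancel_right _ _]
    exact hCdet
  have h2 : (adj σ Cm).det = σ y := by
    rw [adj, det_transpose, ← RingHom.mapMatrix_apply, ← RingHom.map_det, hCdet]
  rw [det_mul, h2] at h1
  exact mul_right_cancel₀ ((map_ne_zero σ).2 hy0) (h1.trans hy)

theorem isConj_SU (hK : Fintype.card K = q ^ 2) (p : ℕ) [Fact p.Prime] [CharP K p]
    (g h : ↥(Cfsg.SU n K q)) (hg : (orderOf g).Coprime p) (hh : (orderOf h).Coprime p)
    (hchar : ((g : Matrix.SpecialLinearGroup (Fin n) K) : Matrix (Fin n) (Fin n) K).charpoly =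
      ((h : Matrix.SpecialLinearGroup (Fin n) K) : Matrix (Fin n) (Fin n) K).charpoly) : IsConj g h := by
  rcases Nat.eq_zero_or_pos n with rfl | hn
  · rw [show g = h from Subtype.ext (Subsingleton.elim _ _)]
  obtain ⟨σ, hσ, hc⟩ := exists_frob hK
  set a := suToGU n K q g with ha
  set b := suToGU n K q h with hb
  have hoa : orderOf a = orderOf g := orderOf_injective _ suToGU_injective g
  have hob : orderOf b = orderOf h := orderOf_injective _ suToGU_injective h
  have hlin : IsConj a.1 b.1 := CfsgLib.SemisimpleClasses.isConj_GL p a.1 b.1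
    (by rwa [Subgroup.orderOf_coe, hoa]) (by rwa [Subgroup.orderOf_coe, hob]) hchar
  obtain ⟨P, hP⟩ := isConj_iff.1 ((isConj_iff_linear hK a b).2 hlin)
  have hPn := GU_det_norm hσ P.2
  set δ := (P.1 : Matrix (Fin n) (Fin n) K).det
  have hδ : δ ≠ 0 := left_ne_zero_of_mul_eq_one hPn
  obtain ⟨z, hz, hzd⟩ := exists_centraliser_det hK hσ hc hn p a (by rwa [hoa]) δ⁻¹
    (by rw [map_inv₀, ← mul_inv, hPn, inv_one])
  have hker : P * z ∈ (suToGU n K q).range := by
    rw [suToGU_range hσ, MonoidHom.mem_ker, guDet_eq_one_iff]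
    refine Units.ext ?_
    show ((P.1 : Matrix (Fin n) (Fin n) K) * (z.1 : Matrix (Fin n) (Fin n) K)).det = 1
    rw [det_mul, hzd, mul_inv_cancel₀ hδ]
  obtain ⟨c, hc'⟩ := hker
  refine isConj_iff.2 ⟨c, suToGU_injective ?_⟩
  rw [map_mul, map_mul, map_inv, hc', ← ha, ← hb, _root_.mul_inv_rev]
  calc P * z * a * (z⁻¹ * P⁻¹) = P * (z * a) * z⁻¹ * P⁻¹ := by group
    _ = b := by rw [hz, ← hP]; group

end CfsgLib.Involution.SUSemisimple
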