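import Cfsg.Agent.Lib.Involution.SUSemisimpleConj

/-!
# The number of semisimple classes of `SU_n`
-/

set_option autoImplicit false
set_option linter.unusedSectionVars false

open Polynomial Matrix CfsgLib.Classical CfsgLib.KnownC.GUConj

namespace CfsgLib.Involution.SUSemisimple

variable {F : Type*} [Field F] {σ : F →+* F} {n q : ℕ}

/-- The characteristic polynomials possible for a unitary matrix of determinant one. -/
def SelfDual (σ : F →+* F) (n : ℕ) (P : F[X]) : Prop :=
  P.Monic ∧ P.natDegree = n ∧ P.coeff 0 = (-1) ^ n ∧ C ((-1) ^ n) * (P.map σ).reverse = P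

theorem neg_one_pow_mul_self (n : ℕ) : ((-1 : F) ^ n) * (-1) ^ n = 1 := by
  rw [← mul_pow, neg_one_mul, neg_neg, one_pow]

theorem det_eq_one_iff (M : Matrix (Fin n) (Fin n) F) :
    M.det = 1 ↔ M.charpoly.coeff 0 = (-1) ^ n := by
  rw [det_eq_sign_charpoly_coeff, Fintype.card_fin]
  constructor
  · intro h
    calc M.charpoly.coeff 0 = ((-1) ^ n * (-1) ^ n) * M.charpoly.coeff 0 := by
          rw [neg_one_pow_mul_self, one_mul]
      _ = (-1) ^ n := by rw [mul_assoc, h, mul_one]
  · intro h
    rw [h, neg_one_pow_mul_self]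

theorem charpoly_adj (M : Matrix (Fin n) (Fin n) F) : (adj σ M).charpoly = M.charpoly.map σ := by
  rw [adj, charpoly_transpose, charpoly_map]

theorem charpoly_dual {g : GL (Fin n) F} (h : (g : Matrix (Fin n) (Fin n) F).det = 1) :
    (((adjGL σ g)⁻¹ : GL (Fin n) F) : Matrix (Fin n) (Fin n) F).charpoly =
      C ((-1) ^ n) * ((g : Matrix (Fin n) (Fin n) F).charpoly.map σ).reverse := by
  have hd : (adj σ (g : Matrix (Fin n) (Fin n) F)).det = 1 := by
    rw [adj, det_transpose, ← RingHom.mapMatrix_apply, ← RingHom.map_det, h, map_one]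
  rw [Matrix.coe_units_inv]
  show (adj σ (g : Matrix (Fin n) (Fin n) F))⁻¹.charpoly = _
  rw [charpoly_inv _ ((Matrix.isUnit_iff_isUnit_det _).2 (by rw [hd]; exact isUnit_one)), hd,
    Ring.inverse_one, map_one, mul_one, ← reverse_charpoly, charpoly_adj, Fintype.card_fin,
    map_pow, map_neg, map_one]

theorem selfDual_of_mem [Fintype F] (hF : Fintype.card F = q ^ 2) (hσ : ∀ x, σ x = x ^ q)
    (hc : IsConjugation σ) (g : ↥(Cfsg.GU n F q))
    (hdet : (g.1 : Matrix (Fin n) (Fin n) F).det = 1) :
    SelfDual σ n (g.1 : Matrix (Fin n) (Fin n) F).charpoly := by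
  refine ⟨charpoly_monic _, by rw [charpoly_natDegree_eq_dim, Fintype.card_fin],
    (det_eq_one_iff _).1 hdet, ?_⟩
  rw [← charpoly_dual hdet]
  congr 2
  exact inv_eq_of_mul_eq_one_right ((mem_GU_iff_adj hF hσ hc).1 g.2)

theorem exists_of_selfDual [Fintype F] (hF : Fintype.card F = q ^ 2) (hσ : ∀ x, σ x = x ^ q)
    (p : ℕ) [Fact p.Prime] [CharP F p] {P : F[X]} (hP : SelfDual σ n P) :
    ∃ g : ↥(Cfsg.SU n F q), (orderOf g).Coprime p ∧
      ((g : SpecialLinearGroup (Fin n) F) : Matrix (Fin n) (Fin n) F).charpoly = P := by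
  obtain ⟨M, hM⟩ := CfsgLib.SemisimpleClasses.exists_matrix_charpoly hP.1 hP.2.1
  have hdet : M.det = 1 := (det_eq_one_iff M).2 (by rw [hM]; exact hP.2.2.1)
  obtain ⟨s, hs, hsc⟩ := CfsgLib.SemisimpleClasses.exists_coprime_charpoly p
    (Units.coeHom (Matrix (Fin n) (Fin n) F))
    (GeneralLinearGroup.mkOfDetNeZero M (by rw [hdet]; exact one_ne_zero) : GL (Fin n) F)
  change (s : Matrix (Fin n) (Fin n) F).charpoly = M.charpoly at hsc
  rw [hM] at hsc
  have hsdet : (s : Matrix (Fin n) (Fin n) F).det = 1 := (det_eq_one_iff _).2 (by rw [hsc]; exact hP.2.2.1)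
  let θ : GL (Fin n) F →* GL (Fin n) F :=
    { toFun := fun g => (adjGL σ g)⁻¹
      map_one' := by
        rw [inv_eq_one]
        exact Units.ext (adj_one σ)
      map_mul' := fun a b => by rw [adjGL_mul, _root_.mul_inv_rev] }
  have hconj : IsConj s (θ s) := CfsgLib.SemisimpleClasses.isConj_GL p _ _ hs
    (Nat.Coprime.coprime_dvd_left (orderOf_map_dvd θ s) hs) (by
      show _ = (((adjGL σ s)⁻¹ : GL (Fin n) F) : Matrix (Fin n) (Fin n) F).charpoly
      rw [charpoly_dual hsdet, hsc]
      exact hP.2.2.2.symm)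
  obtain ⟨B, hB⟩ := (similar_iff hF s).2 (by
    have hmap : (((s : Matrix (Fin n) (Fin n) F).map (fun x : F => x ^ q)).transpose)⁻¹ =
        ((θ s : GL (Fin n) F) : Matrix (Fin n) (Fin n) F) := by
      show _ = (((adjGL σ s)⁻¹ : GL (Fin n) F) : Matrix (Fin n) (Fin n) F)
      rw [Matrix.coe_units_inv, ← funext hσ]
      rfl
    rw [hmap]
    exact MonoidHom.map_isConj (Units.coeHom _) hconj)
  obtain ⟨c, hc⟩ := isConj_iff.1 hB
  have hBP : (B.1 : Matrix (Fin n) (Fin n) F).charpoly = P := by
    rw [← hsc, ← hc, Units.val_mul, Units.val_mul, Matrix.coe_units_inv]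
    exact Matrix.charpoly_units_conj c _
  have hBord : orderOf B = orderOf s := by
    rw [← Subgroup.orderOf_coe, ← hc, ← MulAut.conj_apply]
    exact orderOf_injective (MulAut.conj c).toMonoidHom (MulAut.conj c).injective s
  obtain ⟨g, hg⟩ : B ∈ (suToGU n F q).range := by
    rw [suToGU_range hσ, MonoidHom.mem_ker, guDet_eq_one_iff]
    exact Units.ext ((det_eq_one_iff _).2 (by rw [hBP]; exact hP.2.2.1))
  refine ⟨g, ?_, ?_⟩
  · rw [← orderOf_injective _ suToGU_injective g, hg, hBord]
    exact hs
  · rw [← hBP, ← hg]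
    rfl

theorem coeff_selfDual {P : F[X]} (hn : P.natDegree = n) (j : ℕ) :
    (C ((-1) ^ n) * (P.map σ).reverse).coeff j =
      if j ≤ n then (-1) ^ n * σ (P.coeff (n - j)) else 0 := by
  rw [coeff_C_mul, coeff_reverse, natDegree_map, hn, coeff_map]
  split_ifs with h
  · rw [revAt_le h]
  · rw [revAt_eq_self_of_lt (by omega), coeff_eq_zero_of_natDegree_lt (by omega), map_zero, mul_zero]

/-- Number of possible characteristic polynomials. -/
theorem card_selfDual [Fintype F] (hF : Fintype.card F = q ^ 2) (hc : IsConjugation σ) (hn : 1 ≤ n) :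
    Nat.card {P : F[X] // SelfDual σ n P} = q ^ (n - 1) := by
  classical
  set ε : F := (-1) ^ n with hε
  have hεσ : σ ε = ε := by rw [hε, map_pow, map_neg, map_one]
  have hεε : ε * ε = 1 := neg_one_pow_mul_self n
  obtain ⟨m, rfl⟩ : ∃ m, n = m + 1 := ⟨n - 1, by omega⟩
  rw [Nat.add_sub_cancel]
  let T := {a : Fin m → F // ∀ j, ε * σ (a j.rev) = a j}
  let co : (Fin m → F) → ℕ → F := fun a i =>
    if i = 0 then ε else if h : i - 1 < m then a ⟨i - 1, h⟩ else if i = m + 1 then 1 else 0
  let poly : (Fin m → F) → F[X] := fun a => ∑ i ∈ Finset.range (m + 2), monomial i (co a i)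
  have hco0 : ∀ a i, m + 2 ≤ i → co a i = 0 := fun a i hi => by
    simp only [co]
    rw [if_neg (by omega), dif_neg (by omega), if_neg (by omega)]
  have hcoeff : ∀ a i, (poly a).coeff i = co a i := fun a i => by
    simp only [poly, finsetSum_coeff, coeff_monomial, Finset.sum_ite_eq']
    split_ifs with h
    · rfl
    · exact (hco0 a i (by simpa using h)).symm
  have hco_top : ∀ a, co a (m + 1) = 1 := fun a => by simp [co]
  have hco_mid : ∀ a (j : Fin m), co a (j + 1) = a j := fun a j => by
    simp only [co]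
    rw [if_neg (by omega), dif_pos (by omega)]
    exact congrArg a (Fin.ext (by simp))
  have hdeg : ∀ a, (poly a).natDegree = m + 1 := fun a => by
    refine natDegree_eq_of_le_of_coeff_ne_zero (natDegree_le_iff_coeff_eq_zero.2 fun i hi => ?_) ?_
    · rw [hcoeff, hco0 a i (by omega)]
    · rw [hcoeff, hco_top]; exact one_ne_zero
  let e : {P : F[X] // SelfDual σ (m + 1) P} ≃ T :=
    { toFun := fun P => ⟨fun j => P.1.coeff (j + 1), fun j => by
        have h := congrArg (fun Q : F[X] => Q.coeff (j + 1)) P.2.2.2.2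
        simp only [coeff_selfDual P.2.2.1] at h
        rw [if_pos (by omega)] at h
        show ε * σ (P.1.coeff ((j.rev : ℕ) + 1)) = P.1.coeff (j + 1)
        rw [← h, Fin.val_rev]
        congr 3
        omega⟩
      invFun := fun a => ⟨poly a.1, by
        refine ⟨?_, hdeg a.1, by rw [hcoeff]; simp [co, hε], ext fun i => ?_⟩
        · rw [Monic, leadingCoeff, hdeg, hcoeff, hco_top]
        rw [coeff_selfDual (hdeg a.1), hcoeff, hcoeff]
        split_ifs with h
        · rcases Nat.eq_zero_or_pos i with rfl | hi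
          · rw [Nat.sub_zero, hco_top, map_one, mul_one]
            simp [co, hε]
          rcases Nat.lt_or_ge i (m + 1) with hi' | hi'
          · obtain ⟨j, rfl⟩ : ∃ j : Fin m, i = j + 1 := ⟨⟨i - 1, by omega⟩, by simp; omega⟩
            rw [hco_mid, show m + 1 - ((j : ℕ) + 1) = (j.rev : ℕ) + 1 by rw [Fin.val_rev]; omega, hco_mid]
            exact a.2 j
          · obtain rfl : i = m + 1 := by omega
            rw [Nat.sub_self, hco_top, show co a.1 0 = ε from if_pos rfl, hεσ, ← hε, hεε]
        · exact (hco0 _ i (by omega)).symm⟩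
      left_inv := fun P => by
        refine Subtype.ext (Polynomial.ext fun i => ?_)
        rw [hcoeff]
        simp only [co]
        split_ifs with h0 h1 h2
        · rw [h0, P.2.2.2.1, hε]
        · show P.1.coeff (i - 1 + 1) = P.1.coeff i
          congr 1; omega
        · rw [h2]
          have := P.2.1.leadingCoeff
          rwa [leadingCoeff, P.2.2.1, eq_comm] at this
        · rw [coeff_eq_zero_of_natDegree_lt (by rw [P.2.2.1]; omega)]
      right_inv := fun a => Subtype.ext (funext fun j => (hcoeff a.1 _).trans (hco_mid a.1 j)) }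
  rw [Nat.card_congr e]
  obtain ⟨c, hcσ⟩ := hc.exists_not_fixed
  have hd : c - σ c ≠ 0 := sub_ne_zero.2 (Ne.symm hcσ)
  let τ : (Fin m → F) → (Fin m → F) := fun a j => ε * σ (a j.rev)
  have hττ : ∀ a j, τ (τ a) j = a j := fun a j => by
    simp only [τ, Fin.rev_rev, map_mul, hεσ, hc.invol, ← mul_assoc, hεε, one_mul]
  let e2 : T × T ≃ (Fin m → F) :=
    { toFun := fun t j => t.1.1 j + c * t.2.1 j
      invFun := fun w => (⟨fun j => w j - c * ((w j - τ w j) / (c - σ c)), fun j => by
          have h1 := hττ w j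
          have hd2 : σ (c - σ c) = -(c - σ c) := by rw [map_sub, hc.invol]; ring
          simp only [τ, Fin.rev_rev, map_sub, map_mul, map_div₀, hεσ, hc.invol] at h1 ⊢
          rw [show σ c - c = -(c - σ c) by ring, div_neg]
          field_simp
          linear_combination (-(σ c * (w j))) * hεε⟩,
        ⟨fun j => (w j - τ w j) / (c - σ c), fun j => by
          simp only [τ, Fin.rev_rev, map_sub, map_mul, map_div₀, hεσ, hc.invol]
          rw [show σ c - c = -(c - σ c) by ring, div_neg]
          field_simp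
          linear_combination (w j) * hεε⟩)
      left_inv := fun t => by
        have key : ∀ j, τ (fun j => t.1.1 j + c * t.2.1 j) j = t.1.1 j + σ c * t.2.1 j := fun j => by
          simp only [τ, map_add, map_mul]
          linear_combination (t.1.2 j) + σ c * (t.2.2 j)
        have hk : ∀ j, (t.1.1 j + c * t.2.1 j - τ (fun j => t.1.1 j + c * t.2.1 j) j) / (c - σ c) = t.2.1 j :=
          fun j => by rw [key, div_eq_iff hd]; ring
        refine Prod.ext (Subtype.ext (funext fun j => ?_)) (Subtype.ext (funext hk))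
        simp only [hk]
        ring
      right_inv := fun w => funext fun j => by simp }
  have h := Nat.card_congr e2
  rw [Nat.card_prod, Nat.card_fun, Nat.card_fin, Nat.card_eq_fintype_card (α := F), hF,
    ← pow_mul, mul_comm 2, pow_mul, pow_two] at h
  exact Nat.mul_self_inj.1 h

end CfsgLib.Involution.SUSemisimple
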