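import Cfsg.Agent.Lib.Involution.BaerSuzuki
import Cfsg.Agent.Lib.Involution.ZStar.Main
import Cfsg.Agent.Lib.Characterizations.BSWDihedral
import Cfsg.Agent.S3224
import Cfsg.Agent.S1213
import Cfsg.Prelude.Def_Transfer
import Mathlib

/-!
# Simple groups whose non-cyclic subgroups contain their centralisers

If every non-cyclic subgroup `H` of a non-abelian finite simple group satisfies `C(H) ≤ H`, then every involution
centraliser is a `2`-group and the group is `PSL₂(q)` for some odd `q`.
-/

set_option autoImplicit false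

namespace CfsgLib.Involution.SelfCentNoncyclic

universe u

/-- Every non-cyclic subgroup contains its centraliser. -/
def SC (G : Type*) [Group G] : Prop :=
  ∀ H : Subgroup G, ¬ IsCyclic ↥H → Subgroup.centralizer (H : Set G) ≤ H

variable {G : Type u} [Group G] [Finite G]

theorem not_isCyclic_of_two {H : Subgroup G} {u v : G} (hu : orderOf u = 2) (hv : orderOf v = 2)
    (huv : u ≠ v) (huH : u ∈ H) (hvH : v ∈ H) : ¬ IsCyclic ↥H := by
  intro hc
  classical
  haveI := Fintype.ofFinite ↥H
  have h := IsCyclic.card_orderOf_eq_totient (α := ↥H) (d := 2)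
    (by
      have := orderOf_dvd_card (x := (⟨u, huH⟩ : H))
      rwa [Subgroup.orderOf_mk, hu] at this)
  rw [Nat.totient_two, Finset.card_eq_one] at h
  obtain ⟨w, hw⟩ := h
  have hmem : ∀ (a : G) (ha : a ∈ H), orderOf a = 2 → (⟨a, ha⟩ : H) = w := fun a ha h2 =>
    Finset.mem_singleton.1 (hw ▸ Finset.mem_filter.2 ⟨Finset.mem_univ _, by rw [Subgroup.orderOf_mk, h2]⟩)
  exact huv (congrArg Subtype.val ((hmem u huH hu).trans (hmem v hvH hv).symm))

omit [Finite G] in
theorem sq_of_orderOf {u : G} (hu : orderOf u = 2) : u * u = 1 := by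
  rw [← pow_two, ← hu, pow_orderOf_eq_one]

theorem four (hsc : SC G) {u t : G} (hu : orderOf u = 2) (ht : orderOf t = 2) (hne : u ≠ t)
    (hut : Commute u t) {c : G} (hcu : Commute c u) (hct : Commute c t) :
    c = 1 ∨ c = u ∨ c = t ∨ c = u * t := by
  have hu2 := sq_of_orderOf hu
  have ht2 := sq_of_orderOf ht
  have hui : u⁻¹ = u := inv_eq_of_mul_eq_one_right hu2
  have hti : t⁻¹ = t := inv_eq_of_mul_eq_one_right ht2
  have htu : t * u = u * t := hut.eq.symm
  have h1 : u * (u * t) = t := by rw [← mul_assoc, hu2, one_mul]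
  have h2 : t * (u * t) = u := by rw [← mul_assoc, htu, mul_assoc, ht2, mul_one]
  let K : Subgroup G :=
    { carrier := {a | a = 1 ∨ a = u ∨ a = t ∨ a = u * t}
      one_mem' := Or.inl rfl
      mul_mem' := by
        rintro a b (rfl | rfl | rfl | rfl) (rfl | rfl | rfl | rfl) <;>
          simp [hu2, ht2, htu, h1, h2, mul_assoc]
      inv_mem' := by
        rintro a (rfl | rfl | rfl | rfl) <;> simp [hui, hti, htu] }
  refine hsc K (not_isCyclic_of_two hu ht hne (Or.inr (Or.inl rfl)) (Or.inr (Or.inr (Or.inl rfl)))) ?_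
  refine Subgroup.mem_centralizer_iff.2 ?_
  rintro a (rfl | rfl | rfl | rfl)
  · simp
  · exact hcu.eq.symm
  · exact hct.eq.symm
  · exact (hcu.mul_right hct).eq.symm

theorem no_inverted (hsc : SC G) {v t w : G} (hv : orderOf v = 2) (ht : orderOf t = 2) (hne : v ≠ t)
    (hvt : Commute v t) (hwt : Commute w t) (hw : Odd (orderOf w)) (hinv : v * w * v⁻¹ = w⁻¹) :
    w = 1 := by
  by_contra hw1
  have hvi : v⁻¹ = v := inv_eq_of_mul_eq_one_right (sq_of_orderOf hv)
  have hnc : ¬ Commute v w := by
    intro h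
    have e : w = w⁻¹ := by rw [← hinv, h.eq, mul_inv_cancel_right]
    have h2 : orderOf w ∣ 2 := orderOf_dvd_of_pow_eq_one (by
      rw [pow_two]; nth_rewrite 2 [e]; rw [mul_inv_cancel])
    rcases (Nat.dvd_prime Nat.prime_two).1 h2 with h3 | h3
    · exact hw1 (orderOf_eq_one_iff.1 h3)
    · rw [h3] at hw; exact absurd hw (by decide)
  set K := Subgroup.zpowers w ⊔ Subgroup.zpowers v with hK
  have hvN : Subgroup.zpowers v ≤ Subgroup.normalizer (Subgroup.zpowers w : Set G) := by
    rw [Subgroup.zpowers_le, Subgroup.mem_normalizer_iff]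
    have key : ∀ h ∈ Subgroup.zpowers w, v * h * v⁻¹ ∈ Subgroup.zpowers w := by
      rintro h ⟨i, rfl⟩
      refine ⟨-i, ?_⟩
      show w ^ (-i) = v * w ^ i * v⁻¹
      rw [← MulAut.conj_apply, map_zpow, MulAut.conj_apply, hinv, inv_zpow']
    refine fun h => ⟨key h, fun h' => ?_⟩
    have h2 := key _ h'
    rwa [show v * (v * h * v⁻¹) * v⁻¹ = (v * v) * h * (v * v)⁻¹ by group, sq_of_orderOf hv, one_mul,
      inv_one, mul_one] at h2
  have hK' : ¬ IsCyclic ↥K := by
    intro hc
    haveI := hc
    exact hnc (congrArg Subtype.val (mul_comm' (⟨v, Subgroup.mem_sup_right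
      (Subgroup.mem_zpowers v)⟩ : K) ⟨w, Subgroup.mem_sup_left (Subgroup.mem_zpowers w)⟩))
  have htK : t ∈ K := hsc K hK' (by
    refine Subgroup.mem_centralizer_iff.2 fun h hh => ?_
    have hle : K ≤ Subgroup.centralizer ({t} : Set G) := sup_le
      (Subgroup.zpowers_le.2 (Subgroup.mem_centralizer_singleton_iff.2 hwt.eq))
      (Subgroup.zpowers_le.2 (Subgroup.mem_centralizer_singleton_iff.2 hvt.eq))
    exact Subgroup.mem_centralizer_singleton_iff.1 (hle hh))
  rw [hK, ← SetLike.mem_coe, Subgroup.coe_mul_of_right_le_normalizer_left _ _ hvN] at htK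
  obtain ⟨a, ⟨i, rfl⟩, b, hb, hab⟩ := htK
  obtain ⟨j, hj⟩ : ∃ j : ℤ, v ^ j = b := Subgroup.mem_zpowers_iff.1 hb
  simp only at hab
  have hb' : b = 1 ∨ b = v := by
    rcases Int.even_or_odd j with ⟨k, hk⟩ | ⟨k, hk⟩
    · left; rw [← hj, hk, zpow_add, ← (Commute.refl v).mul_zpow, sq_of_orderOf hv, one_zpow]
    · right
      rw [← hj, hk, zpow_add, zpow_one, two_mul, zpow_add, ← (Commute.refl v).mul_zpow,
        sq_of_orderOf hv, one_zpow, one_mul]
  rcases hb' with rfl | rfl
  · rw [mul_one] at hab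
    have h : orderOf t ∣ orderOf w := orderOf_dvd_of_mem_zpowers (Subgroup.mem_zpowers_iff.2 ⟨i, hab⟩)
    rw [ht] at h
    exact absurd (even_iff_two_dvd.2 h) (Nat.not_even_iff_odd.2 hw)
  · refine hnc ?_
    have hb2 : b = w ^ (-i) * t := by rw [← hab]; group
    rw [hb2]
    exact ((Commute.refl w).zpow_left (-i)).mul_left hwt.symm

omit [Finite G] in
/-- An element of `C(t)` of odd order moves no involution to itself, counting argument. -/
theorem involution_mem [Finite G] (hsc : SC G) {t : G} (ht : orderOf t = 2)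
    (P : Sylow 2 ↥(Subgroup.centralizer ({t} : Set G))) {v : ↥(Subgroup.centralizer ({t} : Set G))}
    (hv : orderOf v = 2) : v ∈ (P : Subgroup ↥(Subgroup.centralizer ({t} : Set G))) := by
  haveI : Fact (Nat.Prime 2) := ⟨Nat.prime_two⟩
  suffices h : ∃ N : Subgroup ↥(Subgroup.centralizer ({t} : Set G)), N.Normal ∧ IsPGroup 2 N ∧ v ∈ N by
    obtain ⟨N, hN, hN2, hvN⟩ := h
    exact hN2.le_sylow_of_normal P hvN
  by_cases hvt : (v : G) = t
  · refine ⟨Subgroup.zpowers v, ⟨fun a ha g => ?_⟩, IsPGroup.of_card (n := 1) (by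
      rw [Nat.card_zpowers, hv, pow_one]), Subgroup.mem_zpowers v⟩
    obtain ⟨i, rfl⟩ := Subgroup.mem_zpowers_iff.1 ha
    refine Subgroup.mem_zpowers_iff.2 ⟨i, ?_⟩
    have hc : Commute g v := Subtype.ext (by
      show (g : G) * v = v * g
      rw [hvt]; exact Subgroup.mem_centralizer_singleton_iff.1 g.2)
    rw [(hc.zpow_right i).eq, mul_inv_cancel_right]
  · by_contra hcon
    push Not at hcon
    obtain ⟨h, h1, hodd, hinv⟩ := CfsgLib.Involution.BaerSuzuki.exists_inverted_odd v hv (fun N hN hN2 => hcon N hN hN2)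
    refine h1 (Subtype.ext ?_)
    refine no_inverted hsc (by rw [Subgroup.orderOf_coe, hv]) ht hvt
      (Subgroup.mem_centralizer_singleton_iff.1 v.2)
      (Subgroup.mem_centralizer_singleton_iff.1 h.2) (by rwa [Subgroup.orderOf_coe]) ?_
    exact congrArg Subtype.val hinv

/-- The counting step: `C(t)` is the `2`-group `P`. -/
theorem centralizer_eq_sylow (hsc : SC G) {t : G} (ht : orderOf t = 2) {C : Subgroup G}
    (hC : C = Subgroup.centralizer ({t} : Set G)) (P : Sylow 2 ↥C) (A : Subgroup ↥(P : Subgroup ↥C))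
    (hA : IsCyclic A) (hAi : A.index ≤ 2) {u : ↥C} (hu : orderOf u = 2) (hut : (u : G) ≠ t) :
    IsPGroup 2 ↥C := by
  classical
  haveI : Fact (Nat.Prime 2) := ⟨Nat.prime_two⟩
  have hmemC : ∀ g : C, Commute (g : G) t := fun g => by
    have h := g.2
    revert h
    generalize (g : G) = x
    intro h
    rw [hC] at h
    exact Subgroup.mem_centralizer_singleton_iff.1 h
  haveI := Fintype.ofFinite ↥C
  have htmem : t ∈ C := by rw [hC]; exact Subgroup.mem_centralizer_singleton_iff.2 rfl
  let tC : C := ⟨t, htmem⟩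
  have htC : orderOf tC = 2 := by rw [Subgroup.orderOf_mk, ht]
  have hutC : u ≠ tC := fun e => hut (congrArg Subtype.val e)
  have hcomm : ∀ g : C, Commute g tC := fun g => Subtype.ext (hmemC g)
  -- the centraliser of `u` in `C`
  have hcent : Nat.card (Subgroup.centralizer ({u} : Set C)) ≤ 4 := by
    let s : Finset C := {1, u, tC, u * tC}
    have hsub : ∀ g : Subgroup.centralizer ({u} : Set C), (g : C) ∈ s := by
      intro g
      have hg : Commute ((g : C) : G) (u : G) :=
        congrArg Subtype.val (Subgroup.mem_centralizer_singleton_iff.1 g.2)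
      rcases four hsc (by rw [Subgroup.orderOf_coe, hu]) ht hut
        (hmemC u) hg (hmemC (g : C)) with h | h | h | h
      all_goals simp only [s, Finset.mem_insert, Finset.mem_singleton]
      · exact Or.inl (Subtype.ext h)
      · exact Or.inr (Or.inl (Subtype.ext h))
      · exact Or.inr (Or.inr (Or.inl (Subtype.ext h)))
      · exact Or.inr (Or.inr (Or.inr (Subtype.ext h)))
    calc Nat.card (Subgroup.centralizer ({u} : Set C))
        ≤ Nat.card s := Nat.card_le_card_of_injective (fun g => (⟨g.1, hsub g⟩ : s))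
          (fun a b h => Subtype.ext (congrArg (fun z : s => (z : C)) h))
      _ = s.card := Nat.card_eq_finsetCard s
      _ ≤ 4 := Finset.card_le_four
  -- the conjugacy class of `u`
  have hclass : Nat.card (MulAction.orbit (ConjAct C) u) * 4 ≥ Nat.card C := by
    have h := Nat.card_congr (MulAction.orbitProdStabilizerEquivGroup (ConjAct C) u)
    rw [Nat.card_prod] at h
    have hst : Nat.card (MulAction.stabilizer (ConjAct C) u) = Nat.card (Subgroup.centralizer ({u} : Set C)) := by
      refine Nat.card_congr (Equiv.subtypeEquiv ConjAct.ofConjAct.toEquiv fun g => ?_)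
      rw [MulAction.mem_stabilizer_iff, ConjAct.smul_def, mul_inv_eq_iff_eq_mul,
        Subgroup.mem_centralizer_singleton_iff]
      rfl
    have h4 : Nat.card (ConjAct C) = Nat.card C := Nat.card_congr ConjAct.ofConjAct.toEquiv
    rw [hst, h4] at h
    rw [← h]
    exact Nat.mul_le_mul_left _ hcent
  -- the class avoids a cyclic subgroup of index `2` up to one element
  have horb : ∀ y ∈ MulAction.orbit (ConjAct C) u, orderOf y = 2 ∧ y ≠ tC := by
    rintro y ⟨g, rfl⟩
    simp only [ConjAct.smul_def]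
    refine ⟨(MulEquiv.orderOf_eq (MulAut.conj (ConjAct.ofConjAct g)) u).trans hu, fun e => hutC ?_⟩
    apply (MulAut.conj (ConjAct.ofConjAct g)).injective
    rw [MulAut.conj_apply, MulAut.conj_apply, e, (hcomm _).eq, mul_inv_cancel_right]
  have hinP : ∀ y : C, orderOf y = 2 → y ∈ (P : Subgroup C) := by
    subst hC
    exact fun y hy => involution_mem hsc ht P hy
  let T : Finset ↥(P : Subgroup C) :=
    Finset.univ.filter fun y => orderOf y = 2 ∧ (y : C) ≠ tC
  have hT : Nat.card (MulAction.orbit (ConjAct C) u) ≤ T.card := by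
    rw [← Nat.card_eq_finsetCard]
    refine Nat.card_le_card_of_injective
      (fun y => ⟨⟨y.1, hinP _ (horb _ y.2).1⟩, Finset.mem_filter.2 ⟨Finset.mem_univ _,
        by rw [Subgroup.orderOf_mk]; exact (horb _ y.2).1, (horb _ y.2).2⟩⟩) ?_
    intro a b h
    exact Subtype.ext (congrArg (fun z : T => ((z : ↥(P : Subgroup C)) : C)) h)
  let tP : ↥(P : Subgroup C) := ⟨tC, hinP _ htC⟩
  let U : Finset ↥(P : Subgroup C) := Finset.univ.filter fun y => y ∉ A
  have hTU : T.card ≤ U.card := by
    have hA1 : ∀ a b : ↥(P : Subgroup C), a ∈ A → b ∈ A → orderOf a = 2 → orderOf b = 2 → a = b := by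
      intro a b ha hb h1 h2
      by_contra hne
      exact not_isCyclic_of_two h1 h2 hne ha hb hA
    by_cases htA : tP ∈ A
    · refine Finset.card_le_card fun y hy => ?_
      obtain ⟨-, hy2, hyt⟩ := Finset.mem_filter.1 hy
      refine Finset.mem_filter.2 ⟨Finset.mem_univ _, fun hyA => hyt ?_⟩
      rw [hA1 y tP hyA htA hy2 (by rw [Subgroup.orderOf_mk]; exact htC)]
    · by_cases hex : ∃ a ∈ A, orderOf a = 2
      · obtain ⟨a, haA, ha2⟩ := hex
        have h1 : T ⊆ insert a (U.erase tP) := by
          intro y hy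
          obtain ⟨-, hy2, hyt⟩ := Finset.mem_filter.1 hy
          by_cases hyA : y ∈ A
          · exact Finset.mem_insert.2 (Or.inl (hA1 y a hyA haA hy2 ha2))
          · exact Finset.mem_insert.2 (Or.inr (Finset.mem_erase.2
              ⟨fun e => hyt (by rw [e]), Finset.mem_filter.2 ⟨Finset.mem_univ _, hyA⟩⟩))
        calc T.card ≤ (insert a (U.erase tP)).card := Finset.card_le_card h1
          _ ≤ (U.erase tP).card + 1 := Finset.card_insert_le _ _
          _ = U.card := Finset.card_erase_add_one (Finset.mem_filter.2 ⟨Finset.mem_univ _, htA⟩)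
      · push Not at hex
        exact Finset.card_le_card fun y hy => Finset.mem_filter.2 ⟨Finset.mem_univ _,
          fun hyA => hex y hyA (Finset.mem_filter.1 hy).2.1⟩
  have hU : U.card * 2 ≤ Nat.card (P : Subgroup C) := by
    have h1 : U.card + (Finset.univ.filter fun y => y ∈ A).card = Fintype.card ↥(P : Subgroup C) := by
      rw [add_comm]; exact Finset.card_filter_add_card_filter_not _
    have h2 : (Finset.univ.filter fun y => y ∈ A).card = Nat.card A := by
      rw [← Fintype.card_subtype, ← Nat.card_eq_fintype_card]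
    have h3 := A.card_mul_index
    rw [← Nat.card_eq_fintype_card, h2] at h1
    have : Nat.card A * A.index ≤ Nat.card A * 2 := Nat.mul_le_mul_left _ hAi
    omega
  have hCP : Nat.card C ≤ 2 * Nat.card (P : Subgroup C) := by omega
  have hidx : (P : Subgroup C).index = 1 := by
    have h1 := (P : Subgroup C).card_mul_index
    have h2 : ¬ 2 ∣ (P : Subgroup C).index := P.not_dvd_index
    have h3 : (P : Subgroup C).index ≤ 2 :=
      Nat.le_of_mul_le_mul_left (by rw [h1, mul_comm _ 2]; exact hCP) Nat.card_pos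
    rcases Nat.lt_or_ge (P : Subgroup C).index 1 with h4 | h4
    · exact absurd (by omega : (P : Subgroup C).index = 0) Subgroup.index_ne_zero_of_finite
    · omega
  have h5 : IsPGroup 2 ↥(⊤ : Subgroup C) := (Subgroup.index_eq_one.1 hidx) ▸ P.2
  exact h5.of_equiv Subgroup.topEquiv

end CfsgLib.Involution.SelfCentNoncyclic
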