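import Cfsg.Agent.Lib.LocalEvenB.FourFixedModels
import Cfsg.Agent.Lib.TwoGroups.Classify
import Cfsg.Agent.Lib.TwoGroups.CyclicMax

/-!
# Non-abelian groups of order 64 with a symmetric group of degree three of automorphisms

The element of order three fixes only the identity.  The commutator map is then determined by its
value on two fixed elements of the involution, and an isotropic pair gives the unitriangular group.
-/

set_option autoImplicit false

namespace CfsgLib.Involution.SixtyFourSymThree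

/-- An endomorphism of period three fixing only the identity. -/
structure Fpf {H : Type*} [Group H] (σ : H →* H) : Prop where
  three : ∀ t, σ (σ (σ t)) = t
  fp : ∀ t, σ t = t → t = 1

section fpf

variable {H : Type*} [Group H] [Finite H] {σ : H →* H} (h : Fpf σ)
include h

omit [Finite H] in
theorem Fpf.inj : Function.Injective σ := fun a b e => by rw [← h.three a, e, h.three]

/-- The permutation given by `σ`. -/
theorem card_mod_three : Nat.card H % 3 = 1 := by
  classical
  haveI := Fintype.ofFinite H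
  haveI : Fact (Nat.Prime 3) := ⟨Nat.prime_three⟩
  let f : Equiv.Perm H := Equiv.ofBijective σ (Finite.injective_iff_bijective.1 h.inj)
  have hf : f ^ 3 ^ 1 = 1 := by
    refine Equiv.ext fun t => ?_
    show (f ^ 3) t = t
    rw [show (f ^ 3) = f * f * f from by rw [pow_succ, pow_two]]
    exact h.three t
  have hs : f.supportᶜ = {1} := by
    ext t
    simp only [Finset.mem_compl, Equiv.Perm.mem_support, not_not, Finset.mem_singleton]
    exact ⟨h.fp t, fun e => by subst e; exact map_one σ⟩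
  have := Equiv.Perm.card_compl_support_modEq hf
  rw [hs, Finset.card_singleton, ← Nat.card_eq_fintype_card] at this
  exact this.symm

theorem fixed_coset (N : Subgroup H) (hN : ∀ n ∈ N, σ n ∈ N) (h3 : ¬ 3 ∣ Nat.card N) {t : H}
    (ht : t⁻¹ * σ t ∈ N) : t ∈ N := by
  classical
  haveI : Fact (Nat.Prime 3) := ⟨Nat.prime_three⟩
  haveI : Fintype {u : H // t⁻¹ * u ∈ N} := Fintype.ofFinite _
  have hmem : ∀ u : {u : H // t⁻¹ * u ∈ N}, t⁻¹ * σ u.1 ∈ N := fun u => by
    have : t⁻¹ * σ u.1 = (t⁻¹ * σ t) * σ (t⁻¹ * u.1) := by rw [map_mul, map_inv]; group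
    rw [this]; exact mul_mem ht (hN _ u.2)
  let g : {u : H // t⁻¹ * u ∈ N} → {u : H // t⁻¹ * u ∈ N} := fun u => ⟨σ u.1, hmem u⟩
  have hg : Function.Injective g := fun a b e => Subtype.ext (h.inj (congrArg Subtype.val e))
  let f : Equiv.Perm {u : H // t⁻¹ * u ∈ N} := Equiv.ofBijective g (Finite.injective_iff_bijective.1 hg)
  have hf : f ^ 3 ^ 1 = 1 := by
    refine Equiv.ext fun u => ?_
    show (f ^ 3) u = u
    rw [show (f ^ 3) = f * f * f from by rw [pow_succ, pow_two]]
    exact Subtype.ext (h.three u.1)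
  have hc : Fintype.card {u : H // t⁻¹ * u ∈ N} = Nat.card N := by
    rw [← Nat.card_eq_fintype_card]
    exact Nat.card_congr ((Equiv.mulLeft t⁻¹).subtypeEquiv fun u => Iff.rfl)
  obtain ⟨u, hu⟩ := Equiv.Perm.exists_fixed_point_of_prime (hc ▸ h3) hf
  have hu1 : u.1 = 1 := h.fp _ (congrArg Subtype.val hu)
  have := u.2
  rw [hu1, mul_one] at this
  exact inv_mem_iff.1 this

omit [Finite H] in
theorem map_center_mem (hb : Function.Surjective σ) {z : H} (hz : z ∈ Subgroup.center H) :
    σ z ∈ Subgroup.center H := by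
  refine Subgroup.mem_center_iff.2 fun g => ?_
  obtain ⟨u, rfl⟩ := hb g
  rw [← map_mul, ← map_mul, Subgroup.mem_center_iff.1 hz u]

theorem center_inv {z : H} (hz : z ∈ Subgroup.center H) : σ z ∈ Subgroup.center H :=
  map_center_mem h (Finite.injective_iff_surjective.1 h.inj) hz

theorem sub_fpf (K : Subgroup H) (hK : ∀ k ∈ K, σ k ∈ K) :
    ∃ s : ↥K →* ↥K, Fpf s :=
  ⟨(σ.comp K.subtype).codRestrict K fun k => hK _ k.2,
    ⟨fun t => Subtype.ext (h.three t.1), fun _ e => Subtype.ext (h.fp _ (congrArg Subtype.val e))⟩⟩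

theorem quot_fpf (hH : IsPGroup 2 H) :
    ∃ s : H ⧸ Subgroup.center H →* H ⧸ Subgroup.center H,
      Fpf s ∧ ∀ t : H, s (t : H ⧸ Subgroup.center H) = ((σ t : H) : H ⧸ Subgroup.center H) := by
  refine ⟨QuotientGroup.map _ _ σ fun z hz => center_inv h hz, ⟨fun q => ?_, fun q hq => ?_⟩, fun t => rfl⟩
  · obtain ⟨t, rfl⟩ := QuotientGroup.mk_surjective q
    exact congrArg (QuotientGroup.mk' _) (h.three t)
  · obtain ⟨t, rfl⟩ := QuotientGroup.mk_surjective q
    refine (QuotientGroup.eq_one_iff _).2 (fixed_coset h _ (fun z hz => center_inv h hz) ?_ ?_)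
    · haveI : Fact (Nat.Prime 2) := ⟨Nat.prime_two⟩
      obtain ⟨k, hk⟩ := (hH.to_subgroup (Subgroup.center H)).exists_card_eq
      rw [hk]
      exact fun e => by simpa using Nat.prime_three.dvd_of_dvd_pow e
    · exact QuotientGroup.eq.1 hq.symm

/-- A centre of index four forces commutativity. -/
theorem comm_of_index_four (hH : IsPGroup 2 H) (hi : (Subgroup.center H).index = 4) :
    ∀ t u : H, t * u = u * t := by
  haveI : Fact (Nat.Prime 2) := ⟨Nat.prime_two⟩
  obtain ⟨s, hs, hst⟩ := quot_fpf h hH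
  have hc4 : Nat.card (H ⧸ Subgroup.center H) = 2 ^ 2 := by rw [← Subgroup.index_eq_card, hi]; norm_num
  have hcom := IsPGroup.commutative_of_card_eq_prime_sq hc4
  obtain ⟨q, hq⟩ : ∃ q : H ⧸ Subgroup.center H, q ≠ 1 := by
    by_contra hne
    push Not at hne
    have : Subsingleton (H ⧸ Subgroup.center H) := ⟨fun a b => (hne a).trans (hne b).symm⟩
    rw [Nat.card_of_subsingleton (1 : H ⧸ Subgroup.center H)] at hc4
    norm_num at hc4
  obtain ⟨a, rfl⟩ := QuotientGroup.mk_surjective q
  set b := σ a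
  -- the orbit of `a` fills the quotient
  have hprod : (a : H ⧸ Subgroup.center H) * b * (σ b : H) = 1 := hs.fp _ (by
    rw [map_mul, map_mul, hst, hst, hst, h.three a, hcom (((b : H) : H ⧸ Subgroup.center H) * (σ b : H))]
    exact (mul_assoc _ _ _).symm)
  have hz : a * b * σ b ∈ Subgroup.center H := (QuotientGroup.eq_one_iff _).1 hprod
  have hcz : a * b * a⁻¹ * b⁻¹ ∈ Subgroup.center H := (QuotientGroup.eq_one_iff _).1 (by
    rw [QuotientGroup.mk_mul, QuotientGroup.mk_mul, QuotientGroup.mk_mul, hcom (a : H ⧸ _) b,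
      QuotientGroup.mk_inv, QuotientGroup.mk_inv, mul_inv_cancel_right, mul_inv_cancel])
  have hcc : ∀ g, g * (a * b * a⁻¹ * b⁻¹) = (a * b * a⁻¹ * b⁻¹) * g := Subgroup.mem_center_iff.1 hcz
  have hfix : σ (a * b * a⁻¹ * b⁻¹) = a * b * a⁻¹ * b⁻¹ := by
    simp only [map_mul, map_inv]
    obtain ⟨w, hw, e⟩ : ∃ w ∈ Subgroup.center H, σ b = b⁻¹ * a⁻¹ * w := ⟨_, hz, by group⟩
    have hwg := Subgroup.mem_center_iff.1 hw
    change b * σ b * b⁻¹ * (σ b)⁻¹ = _
    calc b * σ b * b⁻¹ * (σ b)⁻¹ = b * (b⁻¹ * a⁻¹ * w) * b⁻¹ * (b⁻¹ * a⁻¹ * w)⁻¹ := by rw [e]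
      _ = a⁻¹ * (w * b⁻¹) * w⁻¹ * a * b := by group
      _ = a⁻¹ * (b⁻¹ * w) * w⁻¹ * a * b := by rw [← hwg b⁻¹]
      _ = a⁻¹ * b⁻¹ * ((a * b * a⁻¹ * b⁻¹) * b) * a := by group
      _ = a⁻¹ * b⁻¹ * (b * (a * b * a⁻¹ * b⁻¹)) * a := by rw [← hcc b]
      _ = a⁻¹ * (a * b * a⁻¹ * b⁻¹ * a) := by group
      _ = a⁻¹ * (a * (a * b * a⁻¹ * b⁻¹)) := by rw [hcc a]
      _ = _ := by group
  have hab : Commute a b := by
    have := h.fp _ hfix
    rw [mul_inv_eq_one, mul_inv_eq_iff_eq_mul] at this
    exact this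
  let S := Subgroup.center H ⊔ Subgroup.closure {a, b}
  have hS : ∀ t ∈ S, ∀ u ∈ S, t * u = u * t := by
    have hle : S ≤ Subgroup.centralizer ((Subgroup.center H : Set H) ∪ {a, b}) := by
      refine sup_le (Subgroup.center_le_centralizer _) ((Subgroup.closure_le _).2 fun g hg => ?_)
      refine Subgroup.mem_centralizer_iff.2 fun y hy => ?_
      rcases hy with hy | hy
      · exact (Subgroup.mem_center_iff.1 hy g).symm
      · simp only [Set.mem_insert_iff, Set.mem_singleton_iff] at hg hy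
        rcases hg with rfl | rfl <;> rcases hy with rfl | rfl <;> first | rfl | exact hab.eq | exact hab.eq.symm
    intro t ht u hu
    have : S ≤ Subgroup.centralizer {t} := by
      refine sup_le (Subgroup.center_le_centralizer _) ((Subgroup.closure_le _).2 fun g hg => ?_)
      exact Subgroup.mem_centralizer_singleton_iff.2 (Subgroup.mem_centralizer_iff.1 (hle ht) g (Or.inr hg))
    exact (Subgroup.mem_centralizer_singleton_iff.1 (this hu)).symm
  have hzS : Subgroup.center H ≤ S := le_sup_left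
  have haS : a ∈ S := le_sup_right (α := Subgroup H) (Subgroup.subset_closure (by simp))
  have hbS : b ∈ S := le_sup_right (α := Subgroup H) (Subgroup.subset_closure (by simp))
  have htop : S = ⊤ := by
    have h1 := Subgroup.relIndex_mul_index hzS
    have h2 : S.index ∣ 4 := hi ▸ h1 ▸ dvd_mul_left _ _
    have h3 : (Subgroup.center H).relIndex S ≠ 1 := fun e =>
      hq ((QuotientGroup.eq_one_iff _).2 (Subgroup.relIndex_eq_one.1 e haS))
    rw [hi] at h1
    rcases (Nat.dvd_prime_pow Nat.prime_two (m := 2)).1 (by simpa using h2) with ⟨k, hk, e⟩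
    interval_cases k
    · exact Subgroup.index_eq_one.1 (by simpa using e)
    · -- a subgroup of index two is invariant with a fixed-point-free action on a quotient of order two
      exfalso
      have hr : (Subgroup.center H).relIndex S = 2 := by rw [e] at h1; omega
      have hS2 := congrArg (fun n => n * Nat.card (Subgroup.center H)) hr
      simp only [Subgroup.relIndex] at hS2
      rw [← Nat.card_congr (Subgroup.subgroupOfEquivOfLe hzS).toEquiv, Subgroup.index_mul_card,
        Nat.card_congr (Subgroup.subgroupOfEquivOfLe hzS).toEquiv] at hS2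
      have hSinv : ∀ k ∈ S, σ k ∈ S := by
        have hS' : S ≤ S.comap σ := by
          refine sup_le (fun z hz => hzS (center_inv h hz)) ((Subgroup.closure_le _).2 fun g hg => ?_)
          simp only [Set.mem_insert_iff, Set.mem_singleton_iff] at hg
          rcases hg with rfl | rfl
          · exact hbS
          · have : σ b = b⁻¹ * a⁻¹ * (a * b * σ b) := by group
            show σ b ∈ S
            rw [this]; exact mul_mem (mul_mem (inv_mem hbS) (inv_mem haS)) (hzS hz)
        exact hS'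
      obtain ⟨s₁, hs₁⟩ := sub_fpf h S hSinv
      obtain ⟨s₂, hs₂⟩ := sub_fpf h (Subgroup.center H) fun z hz => center_inv h hz
      have m1 := card_mod_three hs₁
      have m2 := card_mod_three hs₂
      have e2 : Nat.card S = 2 * Nat.card (Subgroup.center H) := hS2
      omega
    · rw [e] at h1; omega
  intro t u
  exact hS t (htop ▸ Subgroup.mem_top t) u (htop ▸ Subgroup.mem_top u)

/-- A non-commutative group with such an action has at least 64 elements; with exactly 64 its centre has order 4. -/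
theorem card_cases (hH : IsPGroup 2 H) (hna : ∃ t u : H, t * u ≠ u * t) (hle : Nat.card H ∣ 64) :
    Nat.card H = 64 ∧ Nat.card (Subgroup.center H) = 4 := by
  haveI : Fact (Nat.Prime 2) := ⟨Nat.prime_two⟩
  obtain ⟨t, u, htu⟩ := hna
  haveI : Nontrivial H := ⟨t, 1, fun e => htu (by rw [e, one_mul, mul_one])⟩
  haveI := hH.center_nontrivial
  have h1 : 1 < Nat.card (Subgroup.center H) := Finite.one_lt_card
  obtain ⟨s, hs⟩ := sub_fpf h (Subgroup.center H) fun z hz => center_inv h hz
  have m1 := card_mod_three hs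
  obtain ⟨s', hs', -⟩ := quot_fpf h hH
  have m2 := card_mod_three hs'
  rw [← Subgroup.index_eq_card] at m2
  have h4 : (Subgroup.center H).index ≠ 4 := fun e => htu (comm_of_index_four h hH e t u)
  have hi1 : (Subgroup.center H).index ≠ 1 := fun e =>
    htu (Subgroup.mem_center_iff.1 ((Subgroup.index_eq_one.1 e).symm ▸ Subgroup.mem_top u) t)
  have hmul := (Subgroup.center H).card_mul_index
  have hd1 : Nat.card (Subgroup.center H) ∣ 64 := (Dvd.intro _ hmul).trans hle
  have hd2 : (Subgroup.center H).index ∣ 64 := (Dvd.intro_left _ hmul).trans hle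
  have hb := Nat.le_of_dvd (by norm_num) hle
  have hz : ∀ n, n ∣ 64 → n % 3 = 1 → n = 1 ∨ n = 4 ∨ n = 16 ∨ n = 64 := fun n hn hn3 => by
    have : n ∈ Nat.divisors 64 := Nat.mem_divisors.2 ⟨hn, by norm_num⟩
    revert hn3
    revert this
    rw [show Nat.divisors 64 = {1, 2, 4, 8, 16, 32, 64} by decide]
    simp only [Finset.mem_insert, Finset.mem_singleton]
    omega
  rcases hz _ hd2 m2 with e | e | e | e <;> rcases hz _ hd1 m1 with e' | e' | e' | e' <;>
    rw [e, e'] at hmul <;> omega

end fpf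

/-- The commutator. -/
def cm {T : Type*} [Group T] (t u : T) : T := t * u * t⁻¹ * u⁻¹

/-- The basic consequences. -/
structure Special {T : Type*} [Group T] (σ : T →* T) : Prop extends Fpf σ where
  zcard : Nat.card (Subgroup.center T) = 4
  zsq : ∀ z ∈ Subgroup.center T, z * z = 1
  cmem : ∀ t u : T, cm t u ∈ Subgroup.center T
  sq : ∀ t : T, t * t ∈ Subgroup.center T

theorem special {T : Type*} [Group T] [Finite T] {σ : T →* T} (h : Fpf σ) (hT : Nat.card T = 64)
    (hna : ∃ t u : T, t * u ≠ u * t) : Special σ := by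
  haveI : Fact (Nat.Prime 2) := ⟨Nat.prime_two⟩
  have hp : IsPGroup 2 T := IsPGroup.of_card (n := 6) (by rw [hT]; norm_num)
  obtain ⟨-, hZ⟩ := card_cases h hp hna (by rw [hT])
  have zsq : ∀ z ∈ Subgroup.center T, z * z = 1 := by
    intro z hz
    by_contra hne
    classical
    haveI := Fintype.ofFinite T
    have hw : ∀ w ∈ Subgroup.center T, σ w ∈ Subgroup.center T := fun w hw => center_inv h hw
    have h4 : z ^ 4 = 1 := by
      have := pow_card_eq_one' (x := (⟨z, hz⟩ : Subgroup.center T))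
      rw [hZ] at this
      exact congrArg Subtype.val this
    have hww : (z * z) * (z * z) = 1 := by rw [← h4]; simp [pow_succ, mul_assoc]
    have hσsq : ∀ w, w * w = 1 → σ w * σ w = 1 := fun w e => by rw [← map_mul, e, map_one]
    have d1 : z * z ≠ σ (z * z) := fun e => hne (h.fp _ e.symm)
    have d2 : σ (z * z) ≠ σ (σ (z * z)) := fun e => d1 (h.inj e)
    have d3 : z * z ≠ σ (σ (z * z)) := fun e => d1 (by conv_lhs => rw [← h.three (z * z), ← e])
    have d0 : ∀ w, σ w = 1 → w = 1 := fun w e => h.inj (e.trans (map_one σ).symm)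
    have dz : ∀ w, w * w = 1 → z ≠ w := fun w e e' => hne (by rw [e']; exact e)
    let s : Finset T := {1, z, z * z, σ (z * z), σ (σ (z * z))}
    have hs : s.card = 5 := by
      have a0 := dz _ (one_mul 1)
      have a1 := dz _ hww
      have a2 := dz _ (hσsq _ hww)
      have a3 := dz _ (hσsq _ (hσsq _ hww))
      have b1 : σ (z * z) ≠ 1 := fun e => hne (d0 _ e)
      have b2 : σ (σ (z * z)) ≠ 1 := fun e => b1 (d0 _ e)
      rw [Finset.card_insert_of_notMem, Finset.card_insert_of_notMem, Finset.card_insert_of_notMem,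
        Finset.card_pair d2] <;> simp only [Finset.mem_insert, Finset.mem_singleton, not_or]
      exacts [⟨d1, d3⟩, ⟨a1, a2, a3⟩, ⟨a0.symm, Ne.symm hne, b1.symm, b2.symm⟩]
    have hle : (s : Set T) ⊆ (Subgroup.center T : Set T) := by
      intro y hy
      simp only [s, Finset.coe_insert, Finset.coe_singleton, Set.mem_insert_iff, Set.mem_singleton_iff] at hy
      rcases hy with rfl | rfl | rfl | rfl | rfl
      exacts [one_mem _, hz, mul_mem hz hz, hw _ (mul_mem hz hz), hw _ (hw _ (mul_mem hz hz))]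
    have := Set.ncard_le_ncard hle (Set.toFinite _)
    rw [Set.ncard_coe_finset, hs, ← Nat.card_coe_set_eq] at this
    rw [SetLike.coe_sort_coe, hZ] at this
    omega
  obtain ⟨s, hs, -⟩ := quot_fpf h hp
  have hcom : ∀ q r : T ⧸ Subgroup.center T, q * r = r * q := by
    by_contra hne
    push Not at hne
    have hQ : Nat.card (T ⧸ Subgroup.center T) = 16 := by
      have := (Subgroup.center T).card_mul_index
      rw [hZ, hT, Subgroup.index_eq_card] at this
      omega
    obtain ⟨e, -⟩ := card_cases hs (hp.to_quotient _) hne (by rw [hQ]; norm_num)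
    omega
  have cmem : ∀ t u : T, cm t u ∈ Subgroup.center T := fun t u => by
    refine (QuotientGroup.eq_one_iff _).1 ?_
    simp only [cm, QuotientGroup.mk_mul, QuotientGroup.mk_inv]
    rw [hcom (t : T ⧸ _) u, mul_inv_cancel_right, mul_inv_cancel]
  refine ⟨h, hZ, zsq, cmem, fun t => Subgroup.mem_center_iff.2 fun u => ?_⟩
  have hc := zsq _ (cmem t u)
  have hcc := Subgroup.mem_center_iff.1 (cmem t u)
  have e : t * u = cm t u * (u * t) := by simp only [cm]; group
  calc u * (t * t) = cm t u * cm t u * (u * (t * t)) := by rw [hc, one_mul]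
    _ = cm t u * (cm t u * (u * t) * t) := by group
    _ = cm t u * (t * u * t) := by rw [← e]
    _ = t * (cm t u * (u * t)) := by rw [← mul_assoc t (cm t u), hcc t]; group
    _ = t * (t * u) := by rw [← e]
    _ = _ := (mul_assoc _ _ _).symm

namespace Special

variable {T : Type*} [Group T] [Finite T] {σ : T →* T} (h : Special σ)
include h

omit [Finite T] in
theorem central {t u : T} (g : T) : g * cm t u = cm t u * g := Subgroup.mem_center_iff.1 (h.cmem t u) g

omit [Finite T] in
theorem cm_symm (t u : T) : cm u t = cm t u := by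
  have : cm u t * cm t u = 1 := by simp only [cm]; group
  rw [eq_inv_of_mul_eq_one_left this, inv_eq_of_mul_eq_one_left (h.zsq _ (h.cmem t u))]

omit [Finite T] in
theorem cm_mul (t u v : T) : cm (t * u) v = cm t v * cm u v := by
  calc cm (t * u) v = t * cm u v * (v * t⁻¹ * v⁻¹) := by simp only [cm]; group
    _ = cm u v * (t * v * t⁻¹ * v⁻¹) := by rw [h.central t]; group
    _ = cm t v * cm u v := (h.central _).symm

omit [Finite T] in
theorem cm_mul_right (t u v : T) : cm t (u * v) = cm t u * cm t v := by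
  rw [h.cm_symm (u * v), h.cm_mul, h.cm_symm t u, h.cm_symm t v]

omit [Finite T] in
theorem cm_self (t : T) : cm t t = 1 := by simp only [cm]; group

omit [Finite T] in
theorem cm_center {z : T} (hz : z ∈ Subgroup.center T) (t : T) : cm z t = 1 := by
  simp only [cm]; rw [← Subgroup.mem_center_iff.1 hz t]; group

omit [Finite T] in
theorem cm_map (t u : T) : σ (cm t u) = cm (σ t) (σ u) := by simp only [cm, map_mul, map_inv]

omit [Finite T] in
theorem sq_mul (t u : T) : t * u * (t * u) = t * t * (u * u) * cm t u := by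
  have : u * t = cm t u * (t * u) := by rw [← h.cm_symm]; simp only [cm]; group
  calc t * u * (t * u) = t * (u * t) * u := by group
    _ = t * cm t u * t * (u * u) := by rw [this]; group
    _ = cm t u * (t * t * (u * u)) := by rw [h.central t]; group
    _ = _ := (h.central _).symm

omit [Finite T] in
theorem orbit_z {z : T} (hz : z ∈ Subgroup.center T) (hz1 : σ z ∈ Subgroup.center T) :
    z * σ z * σ (σ z) = 1 := by
  refine h.fp _ ?_
  rw [map_mul, map_mul, h.three, mul_assoc z]
  exact (Subgroup.mem_center_iff.1 hz _)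

theorem zmap {z : T} (hz : z ∈ Subgroup.center T) : σ z ∈ Subgroup.center T := center_inv h.toFpf hz

theorem two_eq {z : T} (hz : z ∈ Subgroup.center T) : σ (σ z) = z * σ z := by
  have := h.orbit_z hz (h.zmap hz)
  rw [eq_inv_of_mul_eq_one_right this]
  exact inv_eq_of_mul_eq_one_left (h.zsq _ (mul_mem hz (h.zmap hz)))

/-- Modulo the centre the orbit of an element multiplies to one. -/
theorem orbit_mod (t : T) : ∃ w ∈ Subgroup.center T, σ (σ t) = t * σ t * w := by
  have hm : t * σ t * σ (σ t) ∈ Subgroup.center T := by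
    refine fixed_coset h.toFpf _ (fun z hz => h.zmap hz) (by rw [h.zcard]; norm_num) ?_
    rw [map_mul, map_mul, h.three]
    have e : (t * σ t * σ (σ t))⁻¹ * (σ t * σ (σ t) * t) = cm (t * σ t * σ (σ t))⁻¹ t⁻¹ := by
      simp only [cm]; group
    rw [e]; exact h.cmem _ _
  refine ⟨(t * σ t)⁻¹ * (t * σ t)⁻¹ * (t * σ t * σ (σ t)), mul_mem ?_ hm, by group⟩
  rw [← mul_inv_rev]; exact inv_mem (h.sq _)

theorem cm_two (t u : T) : cm t (σ (σ u)) = cm t u * cm t (σ u) := by
  obtain ⟨w, hw, e⟩ := h.orbit_mod u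
  rw [e, h.cm_mul_right, h.cm_mul_right, h.cm_symm w t, h.cm_center hw, mul_one]

theorem cm_succ (t : T) : cm t (σ t) = 1 := by
  obtain ⟨w, hw, e⟩ := h.orbit_mod t
  have h1 : σ (σ (t * t)) = t * t * σ (t * t) := h.two_eq (h.sq t)
  simp only [map_mul] at h1
  rw [e, h.sq_mul (t * σ t), h.sq_mul t, h.zsq w hw, mul_one,
    h.cm_symm w (t * σ t), h.cm_center hw, mul_one] at h1
  exact mul_left_cancel (h1.trans (mul_one _).symm)

theorem prod_three (t : T) : σ (σ t) = (σ t)⁻¹ * t⁻¹ := by
  have c1 : t * σ t = σ t * t := by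
    have := h.cm_succ t
    simpa [cm, mul_inv_eq_iff_eq_mul] using this
  have c2 : σ t * σ (σ t) = σ (σ t) * σ t := by rw [← map_mul, ← map_mul, c1]
  have c3 : σ (σ t) * t = t * σ (σ t) := by
    have := congrArg σ c2
    rwa [map_mul, map_mul, h.three] at this
  have : t * σ t * σ (σ t) = 1 := by
    refine h.fp _ ?_
    rw [map_mul, map_mul, h.three, mul_assoc (σ t), c3, ← mul_assoc, c1]
  rw [eq_inv_of_mul_eq_one_right this, mul_inv_rev]

/-- The mixed commutator is determined by the plain one. -/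
theorem cm_cross (u v : T) : cm u (σ v) = cm u v * σ (cm u v) := by
  set z := cm u v
  set c := cm u (σ v)
  have hz : z ∈ Subgroup.center T := h.cmem _ _
  have hc : c ∈ Subgroup.center T := h.cmem _ _
  have hd : cm (σ u) v = c := by
    have := h.cm_succ (u * v)
    rw [map_mul, h.cm_mul, h.cm_mul_right, h.cm_mul_right, h.cm_succ, h.cm_succ, one_mul, mul_one] at this
    rw [h.cm_symm v]
    rw [eq_inv_of_mul_eq_one_right this, inv_eq_of_mul_eq_one_left (h.zsq _ hc)]
  have hstep : σ c = c * σ z := by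
    rw [h.cm_map, h.cm_two, hd, ← h.cm_map]
  have h2 : σ (σ c) = c * z := by
    rw [hstep, map_mul, hstep, h.two_eq hz, mul_assoc c, ← mul_assoc (σ z),
      Subgroup.mem_center_iff.1 hz (σ z), mul_assoc z, ← map_mul, h.zsq _ hz, map_one, mul_one]
  have h3 := h.two_eq hc
  rw [h2, hstep, ← mul_assoc, h.zsq _ hc, one_mul] at h3
  calc c = c * z * z := by rw [mul_assoc, h.zsq _ hz, mul_one]
    _ = σ z * z := by rw [h3]
    _ = _ := (Subgroup.mem_center_iff.1 hz _)

/-- An isotropic pair gives the split relations. -/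
theorem rel_of_pair {a b : T} (ha : a * a = 1) (hb : b * b = 1) (hab : cm a b ≠ 1) (hT : Nat.card T = 64) :
    LocalEvenB.FourFixed.Rel false a (σ a) (a * b) (σ (a * b)) (cm a b) (σ (cm a b)) ∧
      Subgroup.closure {a, σ a, a * b, σ (a * b), cm a b, σ (cm a b)} = ⊤ := by
  set z := cm a b
  have hz : z ∈ Subgroup.center T := h.cmem _ _
  have hz' := h.zmap hz
  have hzc := Subgroup.mem_center_iff.1 hz
  have hzc' := Subgroup.mem_center_iff.1 hz'
  have key : ∀ t u : T, t * u = u * t * cm t u := fun t u => by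
    rw [h.central (u * t)]; simp only [cm]; group
  have hd : a * b * (a * b) = z := by rw [h.sq_mul, ha, hb, one_mul, one_mul]
  have cda : cm (a * b) a = z := by rw [h.cm_mul, h.cm_self, one_mul, h.cm_symm a b]
  have cdy : cm (a * b) (σ a) = z * σ z := by
    rw [h.cm_mul, h.cm_succ, one_mul, h.cm_cross b a, h.cm_symm a b]
  have cea : cm (σ (a * b)) a = z * σ z := by
    rw [h.cm_symm, map_mul, h.cm_mul_right, h.cm_succ, one_mul, h.cm_cross a b]
  have hcomm : ∀ t, t * σ t = σ t * t := fun t => by rw [key, h.cm_succ, mul_one]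
  refine ⟨⟨h.zsq _ hz, ?_, ⟨(hzc _).symm, (hzc _).symm, (hzc _).symm, (hzc _).symm, (hzc _).symm⟩,
    ⟨(hzc' _).symm, (hzc' _).symm, (hzc' _).symm, (hzc' _).symm⟩, hd, ?_, ?_, ?_, hcomm _, ?_, ?_, ?_, ?_,
    hcomm a⟩, ?_⟩
  · exact h.zsq _ hz'
  · rw [← map_mul, hd]
  · rw [ha]; rfl
  · rw [← map_mul, ha, map_one]; rfl
  · rw [key (a * b) a, cda]
  · rw [key (a * b) (σ a), cdy]
  · rw [key (σ (a * b)) a, cea]
  · rw [key (σ (a * b)) (σ a), ← h.cm_map, cda]
  · set S := Subgroup.closure ({a, σ a, a * b, σ (a * b), z, σ z} : Set T)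
    have mem : ∀ g ∈ ({a, σ a, a * b, σ (a * b), z, σ z} : Set T), g ∈ S := fun g hg => Subgroup.subset_closure hg
    have hinv : S ≤ S.comap σ := by
      refine (Subgroup.closure_le _).2 fun g hg => ?_
      simp only [Set.mem_insert_iff, Set.mem_singleton_iff] at hg
      show σ g ∈ S
      rcases hg with rfl | rfl | rfl | rfl | rfl | rfl
      · exact mem _ (by simp)
      · rw [h.prod_three]; exact mul_mem (inv_mem (mem _ (by simp))) (inv_mem (mem _ (by simp)))
      · exact mem _ (by simp)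
      · rw [h.prod_three]; exact mul_mem (inv_mem (mem _ (by simp))) (inv_mem (mem _ (by simp)))
      · exact mem _ (by simp)
      · rw [h.prod_three]; exact mul_mem (inv_mem (mem _ (by simp))) (inv_mem (mem _ (by simp)))
    obtain ⟨s, hs⟩ := sub_fpf h.toFpf S hinv
    haveI : Fact (Nat.Prime 2) := ⟨Nat.prime_two⟩
    have hp : IsPGroup 2 T := IsPGroup.of_card (n := 6) (by rw [hT]; norm_num)
    have haS : a ∈ S := mem _ (by simp)
    have hbS : b ∈ S := by
      have := mul_mem (inv_mem haS) (mem (a * b) (by simp))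
      rwa [inv_mul_cancel_left] at this
    have h64 := (card_cases hs (hp.to_subgroup S) ⟨⟨a, haS⟩, ⟨b, hbS⟩, fun e => hab (by
      have e' : a * b = b * a := congrArg Subtype.val e
      show a * b * a⁻¹ * b⁻¹ = 1
      rw [e']; group)⟩ (hT ▸ Subgroup.card_subgroup_dvd_card S)).1
    exact Subgroup.eq_top_of_card_eq S (by rw [h64, hT])

variable (X : T →* T) (hx2 : ∀ t, X (X t) = t) (hxr : ∀ t, X (σ t) = σ (σ (X t)))
include hx2 hxr

omit [Finite T] hxr in
theorem xcenter {z : T} (hz : z ∈ Subgroup.center T) : X z ∈ Subgroup.center T := by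
  refine Subgroup.mem_center_iff.2 fun g => ?_
  rw [← hx2 g, ← map_mul, ← map_mul, Subgroup.mem_center_iff.1 hz (X g)]

/-- Exactly one non-identity central element is fixed. -/
theorem central_fixed :
    ∃ z₀ ∈ Subgroup.center T, z₀ ≠ 1 ∧ X z₀ = z₀ ∧
      (∀ w ∈ Subgroup.center T, X w = w → w = 1 ∨ w = z₀) ∧
      (∀ w ∈ Subgroup.center T, X w = w → ∃ η ∈ Subgroup.center T, η * X η = w) := by
  classical
  obtain ⟨η, hη, hne⟩ : ∃ η ∈ Subgroup.center T, X η ≠ η := by
    by_contra hall
    push Not at hall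
    haveI : Nontrivial (Subgroup.center T) := Finite.one_lt_card_iff_nontrivial.1 (by rw [h.zcard]; norm_num)
    obtain ⟨z, hz1⟩ := exists_ne (1 : Subgroup.center T)
    have h1 := hxr z.1
    rw [hall _ (h.zmap z.2), hall _ z.2] at h1
    exact hz1 (Subtype.ext (h.fp _ (h.toFpf.inj h1.symm)))
  set z₀ := η * X η
  have hz₀ : z₀ ∈ Subgroup.center T := mul_mem hη (xcenter h X hx2 hη)
  have hz₀x : X z₀ = z₀ := by
    rw [map_mul, hx2]; exact Subgroup.mem_center_iff.1 hη _
  have hz₀1 : z₀ ≠ 1 := fun e => hne (by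
    rw [eq_inv_of_mul_eq_one_right e, inv_eq_of_mul_eq_one_left (h.zsq _ hη)])
  have honly : ∀ w ∈ Subgroup.center T, X w = w → w = 1 ∨ w = z₀ := by
    intro w hw hwx
    by_contra hc
    push Not at hc
    obtain ⟨w1, w2⟩ := hc
    haveI := Fintype.ofFinite T
    let D : Subgroup T := Subgroup.center T ⊓ X.eqLocus (MonoidHom.id T)
    have hD : 3 ≤ Nat.card D := by
      have hle : (({1, z₀, w} : Finset T) : Set T) ⊆ (D : Set T) := by
        intro y hy
        simp only [Finset.coe_insert, Finset.coe_singleton, Set.mem_insert_iff, Set.mem_singleton_iff] at hy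
        rcases hy with rfl | rfl | rfl
        exacts [one_mem _, ⟨hz₀, hz₀x⟩, ⟨hw, hwx⟩]
      have := Set.ncard_le_ncard hle (Set.toFinite _)
      rw [Set.ncard_coe_finset, ← Nat.card_coe_set_eq] at this
      have h3 : ({1, z₀, w} : Finset T).card = 3 := by
        simp [Ne.symm hz₀1, Ne.symm w1, Ne.symm w2]
      rw [h3] at this; exact this
    have hd : Nat.card D ∣ 4 := h.zcard ▸ Subgroup.card_dvd_of_le inf_le_left
    have h4 : Nat.card D = 4 := by
      have := Nat.le_of_dvd (by norm_num) hd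
      interval_cases Nat.card D <;> omega
    have : D = Subgroup.center T := Subgroup.eq_of_le_of_card_ge inf_le_left (by rw [h4, h.zcard])
    exact hne (this.ge hη).2
  refine ⟨z₀, hz₀, hz₀1, hz₀x, honly, fun w hw hwx => ?_⟩
  rcases honly w hw hwx with rfl | rfl
  exacts [⟨1, one_mem _, by rw [map_one, mul_one]⟩, ⟨η, hη, rfl⟩]

/-- The fixed subgroup has order eight, is non-commutative, and generates with its image under `σ`. -/
theorem fixed_facts (hT : Nat.card T = 64) (C : Subgroup T) (hC : ∀ y, y ∈ C ↔ X y = y) :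
    Nat.card C = 8 ∧ ∃ u ∈ C, ∃ v ∈ C, cm u v ≠ 1 := by
  classical
  obtain ⟨z₀, hz₀, hz₀1, hz₀x, honly, hnorm⟩ := h.central_fixed X hx2 hxr
  have hidx : Nat.card (T ⧸ Subgroup.center T) = 16 := by
    have := (Subgroup.center T).card_mul_index
    rw [h.zcard, hT, Subgroup.index_eq_card] at this
    omega
  set π := QuotientGroup.mk' (Subgroup.center T)
  let Xq : T ⧸ Subgroup.center T →* T ⧸ Subgroup.center T :=
    QuotientGroup.map _ _ X fun z hz => xcenter h X hx2 hz
  let Sq : T ⧸ Subgroup.center T →* T ⧸ Subgroup.center T :=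
    QuotientGroup.map _ _ σ fun z hz => h.zmap hz
  have hqc : ∀ q r : T ⧸ Subgroup.center T, q * r = r * q := by
    intro q r
    obtain ⟨t, rfl⟩ := QuotientGroup.mk_surjective q
    obtain ⟨u, rfl⟩ := QuotientGroup.mk_surjective r
    have := (QuotientGroup.eq_one_iff (cm t u)).2 (h.cmem t u)
    simp only [cm, QuotientGroup.mk_mul, QuotientGroup.mk_inv] at this
    rw [mul_inv_eq_one, mul_inv_eq_iff_eq_mul] at this
    exact this
  have hq2 : ∀ q : T ⧸ Subgroup.center T, q * q = 1 := by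
    intro q
    obtain ⟨t, rfl⟩ := QuotientGroup.mk_surjective q
    exact (QuotientGroup.eq_one_iff _).2 (h.sq t)
  have hXq2 : ∀ q, Xq (Xq q) = q := by
    intro q
    obtain ⟨t, rfl⟩ := QuotientGroup.mk_surjective q
    exact congrArg π (hx2 t)
  have hSfp : ∀ q, Sq q = q → q = 1 := by
    intro q hq
    obtain ⟨t, rfl⟩ := QuotientGroup.mk_surjective q
    exact (QuotientGroup.eq_one_iff _).2 (fixed_coset h.toFpf _ (fun z hz => h.zmap hz)
      (by rw [h.zcard]; norm_num) (QuotientGroup.eq.1 hq.symm))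
  have hXS : ∀ q, Xq (Sq q) = Sq (Sq (Xq q)) := by
    intro q
    obtain ⟨t, rfl⟩ := QuotientGroup.mk_surjective q
    exact congrArg π (hxr t)
  let F : Subgroup (T ⧸ Subgroup.center T) := Xq.eqLocus (MonoidHom.id _)
  have hSinj : Function.Injective Sq := by
    intro q r e
    obtain ⟨t, rfl⟩ := QuotientGroup.mk_surjective q
    obtain ⟨u, rfl⟩ := QuotientGroup.mk_surjective r
    have := congrArg (fun y => Sq (Sq y)) e
    change π (σ (σ (σ t))) = π (σ (σ (σ u))) at this
    rwa [h.three, h.three] at this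
  let m : F × F → T ⧸ Subgroup.center T := fun p => p.1.1 * Sq p.2.1
  have hm : Function.Injective m := by
    rintro ⟨⟨p, hp⟩, ⟨r, hr⟩⟩ ⟨⟨p', hp'⟩, ⟨r', hr'⟩⟩ e
    change p * Sq r = p' * Sq r' at e
    have e1 : p'⁻¹ * p = Sq (r' * r⁻¹) := by
      rw [map_mul, map_inv, eq_mul_inv_iff_mul_eq, mul_assoc, e, inv_mul_cancel_left]
    have hd : r' * r⁻¹ ∈ F := mul_mem hr' (inv_mem hr)
    have hd' : p'⁻¹ * p ∈ F := mul_mem (inv_mem hp') hp
    have h1 : Xq (r' * r⁻¹) = r' * r⁻¹ := hd
    have h2 : Xq (p'⁻¹ * p) = p'⁻¹ * p := hd'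
    rw [e1, hXS, h1] at h2
    have h3 : r' * r⁻¹ = 1 := hSfp _ (hSinj h2)
    rw [h3, map_one, inv_mul_eq_one] at e1
    have hr1 : r' = r := mul_inv_eq_one.1 h3
    subst e1; subst hr1; rfl
  let ψ : T ⧸ Subgroup.center T →* T ⧸ Subgroup.center T :=
    MonoidHom.mk' (fun q => q * Xq q) fun q r => by
      rw [map_mul]
      calc q * r * (Xq q * Xq r) = q * (r * Xq q) * Xq r := by group
        _ = q * (Xq q * r) * Xq r := by rw [hqc r]
        _ = _ := by group
  have hker : ψ.ker ≤ F := fun q hq => by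
    have : q * Xq q = 1 := hq
    show Xq q = q
    rw [eq_inv_of_mul_eq_one_right this, inv_eq_of_mul_eq_one_left (hq2 q)]
  have hran : ψ.range ≤ F := by
    rintro _ ⟨q, rfl⟩
    show Xq (q * Xq q) = q * Xq q
    rw [map_mul, hXq2, hqc]
  have hF4 : Nat.card F = 4 := by
    have h1 : 16 ≤ Nat.card F * Nat.card F := by
      rw [← hidx, ← ψ.ker.card_mul_index, Subgroup.index_ker]
      exact Nat.mul_le_mul (Nat.le_of_dvd Nat.card_pos (Subgroup.card_dvd_of_le hker))
        (Nat.le_of_dvd Nat.card_pos (Subgroup.card_dvd_of_le hran))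
    have h2 := Nat.card_le_card_of_injective m hm
    rw [Nat.card_prod, hidx] at h2
    nlinarith
  have hmb : Function.Bijective m :=
    (Nat.bijective_iff_injective_and_card m).2 ⟨hm, by rw [Nat.card_prod, hF4, hidx]⟩
  let g : ↥C →* ↥F := (π.comp C.subtype).codRestrict F fun c => by
    show π (X c.1) = π c.1
    rw [(hC c.1).1 c.2]
  have hg : Function.Surjective g := by
    rintro ⟨q, hq⟩
    obtain ⟨t, rfl⟩ := QuotientGroup.mk_surjective q
    have hζ : t⁻¹ * X t ∈ Subgroup.center T := QuotientGroup.eq.1 (Eq.symm (show π (X t) = π t from hq))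
    set ζ := t⁻¹ * X t
    have hζx : X ζ = ζ := by
      have : X ζ = ζ⁻¹ := by simp only [ζ, map_mul, map_inv, hx2, mul_inv_rev, inv_inv]
      rw [this, inv_eq_of_mul_eq_one_left (h.zsq _ hζ)]
    obtain ⟨η, hη, hηe⟩ := hnorm ζ hζ hζx
    refine ⟨⟨t * η, (hC _).2 ?_⟩, Subtype.ext ?_⟩
    · rw [map_mul, show X t = t * ζ by simp [ζ], ← hηe, mul_assoc, mul_assoc η, h.zsq _ (xcenter h X hx2 hη), mul_one]
    · show ((t * η : T) : T ⧸ Subgroup.center T) = t
      rw [QuotientGroup.mk_mul, (QuotientGroup.eq_one_iff η).2 hη, mul_one]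
  have hgk : Nat.card g.ker = 2 := by
    rw [Nat.card_eq_two_iff' (1 : g.ker)]
    refine ⟨⟨⟨z₀, (hC _).2 hz₀x⟩, Subtype.ext ((QuotientGroup.eq_one_iff _).2 hz₀)⟩, fun e => hz₀1 ?_, ?_⟩
    · exact congrArg (fun y => ((y.1 : ↥C) : T)) e
    · rintro ⟨⟨w, hwC⟩, hw⟩ hw1
      have hwZ : w ∈ Subgroup.center T := (QuotientGroup.eq_one_iff _).1 (congrArg Subtype.val hw)
      refine Subtype.ext (Subtype.ext ((honly w hwZ ((hC w).1 hwC)).resolve_left fun e => hw1 ?_))
      exact Subtype.ext (Subtype.ext e)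
  have hC8 : Nat.card C = 8 := by
    have := g.ker.card_mul_index
    rw [hgk, Subgroup.index_ker, g.range_eq_top_of_surjective hg, Subgroup.card_top, hF4] at this
    omega
  refine ⟨hC8, ?_⟩
  by_contra hall
  push Not at hall
  obtain ⟨⟨q, hqF⟩, hq1⟩ : ∃ q : F, q ≠ 1 := by
    haveI : Nontrivial F := Finite.one_lt_card_iff_nontrivial.1 (by rw [hF4]; norm_num)
    exact exists_ne 1
  obtain ⟨⟨e, heC⟩, hee⟩ := hg ⟨q, hqF⟩
  refine hq1 (hee.symm.trans (Subtype.ext ((QuotientGroup.eq_one_iff e).2 (Subgroup.mem_center_iff.2 fun t => ?_))))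
  obtain ⟨⟨p, r⟩, hpr⟩ := hmb.2 (t : T ⧸ Subgroup.center T)
  obtain ⟨⟨u, huC⟩, hu⟩ := hg p
  obtain ⟨⟨v, hvC⟩, hv⟩ := hg r
  have hpr' : π (u * σ v) = π t := by
    refine Eq.trans ?_ hpr
    rw [← hu, ← hv]; rfl
  obtain ⟨w, hw, ht⟩ : ∃ w ∈ Subgroup.center T, t = u * σ v * w :=
    ⟨_, QuotientGroup.eq.1 hpr', (mul_inv_cancel_left _ _).symm⟩
  have hc : cm e t = 1 := by
    rw [ht, h.cm_mul_right, h.cm_mul_right, h.cm_symm w e, h.cm_center hw, hall e heC u huC,
      h.cm_cross, hall e heC v hvC, map_one]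
    simp
  simp only [cm] at hc
  rw [mul_inv_eq_one, mul_inv_eq_iff_eq_mul] at hc
  exact hc.symm

theorem exists_pair (C : Subgroup T) (hC : ∀ y, y ∈ C ↔ X y = y) {u v : T} (hu : u ∈ C) (hv : v ∈ C)
    (huv : cm u v ≠ 1) : ∃ a b : T, a * a = 1 ∧ b * b = 1 ∧ cm a b ≠ 1 := by
  obtain ⟨z₀, hz₀, -, -, honly, -⟩ := h.central_fixed X hx2 hxr
  set z := cm u v with hzdef
  have hz : z ∈ Subgroup.center T := h.cmem _ _
  have hzx : X z = z := by
    simp only [hzdef, cm, map_mul, map_inv, (hC u).1 hu, (hC v).1 hv]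
  have hze : z = z₀ := (honly z hz hzx).resolve_left huv
  have hq : ∀ t ∈ C, t * t = 1 ∨ t * t = z := fun t ht => by
    rw [hze]; exact honly _ (h.sq t) (by rw [map_mul, (hC t).1 ht])
  have hzz := h.zsq _ hz
  rcases hq u hu with qu | qu <;> rcases hq v hv with qv | qv
  · exact ⟨u, v, qu, qv, huv⟩
  · refine ⟨u, u * v, qu, by rw [h.sq_mul, qu, qv, one_mul]; exact hzz, ?_⟩
    rw [h.cm_mul_right, h.cm_self, one_mul]; exact huv
  · refine ⟨u * v, v, by rw [h.sq_mul, qu, qv, mul_one]; exact hzz, qv, ?_⟩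
    rw [h.cm_mul, h.cm_self, mul_one]; exact huv
  · have hz' := h.zmap hz
    have hzz' := h.zsq _ hz'
    have hcz := Subgroup.mem_center_iff.1 hz
    have hsq1 : σ v * σ v = σ z := by rw [← map_mul, qv]
    have hsq2 : σ (σ v) * σ (σ v) = z * σ z := by
      rw [← map_mul, ← map_mul, qv, h.two_eq hz]
    have hc2 : cm u (σ (σ v)) = σ z := by
      rw [h.cm_two, h.cm_cross, ← mul_assoc, hzz, one_mul]
    refine ⟨u * σ v, u * σ (σ v), ?_, ?_, ?_⟩
    · rw [h.sq_mul, qu, hsq1, h.cm_cross]
      exact h.zsq _ (mul_mem hz hz')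
    · rw [h.sq_mul, qu, hsq2, hc2, ← mul_assoc z z, hzz, one_mul, hzz']
    · rw [h.cm_mul, h.cm_mul_right, h.cm_mul_right, h.cm_self, one_mul, hc2, h.cm_symm u (σ v), h.cm_cross,
        h.cm_succ, mul_one, ← mul_assoc, hcz (σ z), mul_assoc, hzz', mul_one]
      exact huv

end Special

end CfsgLib.Involution.SixtyFourSymThree
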