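import Cfsg.Agent.Lib.KnownC.SympConj
import Cfsg.Agent.Lib.KnownA.SemisimpleClassesMatrix

/-!
# The number of semisimple classes of `Sp_{2n}`

Every self-reciprocal polynomial of degree `2n` is the characteristic polynomial of a symplectic matrix
`(0, T; -T⁻¹, S)`, `T` symmetric with `T S` symmetric.
-/

set_option autoImplicit false
set_option linter.unusedSectionVars false

open Polynomial Matrix

namespace CfsgLib.Involution.SpSemisimple

variable {F : Type*} [Field F] {n : ℕ}

/-- Self-reciprocal polynomials. -/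
def SelfRec (n : ℕ) (P : F[X]) : Prop :=
  P.Monic ∧ P.natDegree = n + n ∧ P.coeff 0 = 1 ∧ P.reverse = P

theorem selfRec_of_mem (g : ↥(Matrix.symplecticGroup (Fin n) F)) :
    SelfRec n (g : Matrix (Fin n ⊕ Fin n) (Fin n ⊕ Fin n) F).charpoly := by
  have hd := SymplecticGroup.det_eq_one g.2
  set M := (g : Matrix (Fin n ⊕ Fin n) (Fin n ⊕ Fin n) F)
  have hcard : Fintype.card (Fin n ⊕ Fin n) = n + n := by simp
  refine ⟨charpoly_monic _, by rw [charpoly_natDegree_eq_dim, hcard], ?_, ?_⟩
  · rw [det_eq_sign_charpoly_coeff, hcard, Even.neg_one_pow ⟨n, rfl⟩, one_mul] at hd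
    exact hd
  · let J : (Matrix (Fin n ⊕ Fin n) (Fin n ⊕ Fin n) F)ˣ :=
      ⟨-Matrix.J (Fin n) F, Matrix.J (Fin n) F, by rw [neg_mul, Matrix.J_squared, neg_neg],
        by rw [mul_neg, Matrix.J_squared, neg_neg]⟩
    have h1 : (M⁻¹).charpoly = M.charpoly := by
      have h := Matrix.charpoly_units_conj J Mᵀ
      rw [charpoly_transpose] at h
      rw [← SymplecticGroup.coe_inv', SymplecticGroup.coe_inv, ← h, ← Matrix.coe_units_inv]
      rfl
    rw [reverse_charpoly]
    rw [charpoly_inv M ((Matrix.isUnit_iff_isUnit_det _).2 (by rw [hd]; exact isUnit_one)), hd,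
      Ring.inverse_one, map_one, mul_one, hcard, Even.neg_one_pow ⟨n, rfl⟩, one_mul] at h1
    exact h1

/-- A matrix with given characteristic polynomial and an invertible symmetric symmetriser. -/
theorem exists_symmetrisable {Q : F[X]} (hQ : Q.Monic) (hn : Q.natDegree = n) :
    ∃ S T : Matrix (Fin n) (Fin n) F, S.charpoly = Q ∧ IsUnit T ∧ Tᵀ = T ∧ (T * S)ᵀ = T * S := by
  classical
  subst hn
  have := hQ.finite_adjoinRoot
  have := hQ.free_adjoinRoot
  let pb := AdjoinRoot.powerBasis' hQ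
  let b : Module.Basis (Fin Q.natDegree) F (AdjoinRoot Q) :=
    pb.basis.reindex (finCongr (AdjoinRoot.powerBasis'_dim hQ))
  let lam : AdjoinRoot Q →ₗ[F] F := (lcoeff F (Q.natDegree - 1)).comp (AdjoinRoot.modByMonicHom hQ)
  let r := AdjoinRoot.root Q
  let S := LinearMap.toMatrix b b (LinearMap.mulLeft F r)
  let T : Matrix (Fin Q.natDegree) (Fin Q.natDegree) F := Matrix.of fun i j => lam (b i * b j)
  have hT : Tᵀ = T := by
    ext i j
    simp [T, mul_comm]
  have hTS : T * S = Matrix.of fun i j => lam (b i * (r * b j)) := by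
    ext i j
    rw [Matrix.mul_apply, Matrix.of_apply]
    conv_rhs => rw [← b.sum_repr (r * b j)]
    simp only [T, S, Matrix.of_apply, LinearMap.toMatrix_apply, LinearMap.mulLeft_apply, Finset.mul_sum,
      mul_smul_comm, map_sum, map_smul, smul_eq_mul]
    exact Finset.sum_congr rfl fun k _ => mul_comm _ _
  have hnd : ∀ x : AdjoinRoot Q, (∀ y, lam (y * x) = 0) → x = 0 := by
    intro x hx
    induction x using AdjoinRoot.induction_on with
    | ih f =>
      have e : AdjoinRoot.mk Q f = AdjoinRoot.mk Q (f %ₘ Q) := by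
        rw [AdjoinRoot.mk_eq_mk]
        exact ⟨f /ₘ Q, by linear_combination -(modByMonic_add_div f Q)⟩
      rw [e] at hx ⊢
      set p := f %ₘ Q
      by_contra hne
      have hp : p ≠ 0 := fun h => hne (by rw [h, map_zero])
      have hQ1 : Q ≠ 1 := fun h => hne (AdjoinRoot.mk_eq_zero.2 (h ▸ one_dvd _))
      have hdeg : p.natDegree < Q.natDegree := Polynomial.natDegree_modByMonic_lt f hQ hQ1
      have h1 := hx (AdjoinRoot.mk Q (X ^ (Q.natDegree - 1 - p.natDegree)))
      rw [← map_mul] at h1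
      simp only [lam, LinearMap.comp_apply, lcoeff_apply, AdjoinRoot.modByMonicHom_mk] at h1
      rw [(modByMonic_eq_self_iff hQ).2] at h1
      · have h2 : (X ^ (Q.natDegree - 1 - p.natDegree) * p).coeff
            (p.natDegree + (Q.natDegree - 1 - p.natDegree)) = p.coeff p.natDegree := coeff_X_pow_mul p _ _
        rw [Nat.add_sub_cancel' (by omega), h1] at h2
        exact leadingCoeff_ne_zero.2 hp h2.symm
      · refine degree_lt_degree ?_
        rw [natDegree_mul (pow_ne_zero _ X_ne_zero) hp, natDegree_X_pow]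
        omega
  have hTu : IsUnit T := by
    refine Matrix.mulVec_injective_iff_isUnit.1 fun v w hvw => ?_
    rw [← sub_eq_zero]
    have h0 : T *ᵥ (v - w) = 0 := by rw [mulVec_sub, sub_eq_zero]; exact hvw
    have hx : (∑ j, (v - w) j • b j : AdjoinRoot Q) = 0 := hnd _ fun y => by
      rw [← b.sum_repr y, Finset.sum_mul, map_sum]
      refine Finset.sum_eq_zero fun i _ => ?_
      rw [smul_mul_assoc, map_smul, Finset.mul_sum, map_sum]
      have := congrFun h0 i
      simp only [mulVec, dotProduct, T, Matrix.of_apply, Pi.zero_apply] at this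
      simp only [mul_smul_comm, map_smul, smul_eq_mul, mul_comm _ (lam _), this, mul_zero]
    funext j
    exact Fintype.linearIndependent_iff.1 b.linearIndependent _ hx j
  refine ⟨S, T, ?_, hTu, hT, ?_⟩
  · rw [LinearMap.charpoly_toMatrix]
    exact CfsgLib.SemisimpleClasses.charpoly_mulLeft_root hQ
  · rw [hTS]
    ext i j
    simp only [transpose_apply, Matrix.of_apply]
    congr 1
    ring

/-- `det ((1 + X²) - X S)` in terms of the characteristic polynomial of `S`. -/
theorem det_eq_sum {Q : F[X]} (hn : Q.natDegree = n) {S : Matrix (Fin n) (Fin n) F} (hS : S.charpoly = Q) :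
    ((1 + X ^ 2 : F[X]) • (1 : Matrix (Fin n) (Fin n) F[X]) - (X : F[X]) • S.map C).det =
      ∑ i ∈ Finset.range (n + 1), C (Q.coeff i) * (1 + X ^ 2) ^ i * X ^ (n - i) := by
  refine IsFractionRing.injective F[X] (FractionRing F[X]) ?_
  set φ := algebraMap F[X] (FractionRing F[X])
  set x := φ X
  have hx : x ≠ 0 := fun h => X_ne_zero (IsFractionRing.injective F[X] (FractionRing F[X]) (h.trans (map_zero φ).symm))
  set y := φ (1 + X ^ 2) / x
  have hmat : φ.mapMatrix ((1 + X ^ 2 : F[X]) • (1 : Matrix (Fin n) (Fin n) F[X]) - (X : F[X]) • S.map C) =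
      x • (Matrix.scalar (Fin n) y - S.map (φ.comp C)) := by
    ext i j
    rcases eq_or_ne i j with rfl | h
    · simp [x, y, mul_sub, mul_div_cancel₀ _ hx] <;> ring
    · simp [x, h] <;> ring
  rw [RingHom.map_det, hmat, det_smul, Fintype.card_fin, ← Matrix.eval_charpoly, Matrix.charpoly_map, hS,
    eval_map, eval₂_eq_sum_range, hn, Finset.mul_sum, map_sum]
  refine Finset.sum_congr rfl fun i hi => ?_
  have hi' : i ≤ n := Nat.lt_succ_iff.1 (Finset.mem_range.1 hi)
  rw [map_mul, map_mul, map_pow, map_pow, RingHom.comp_apply]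
  rw [show x ^ n = x ^ (n - i) * x ^ i by rw [← pow_add, Nat.sub_add_cancel hi'],
    show φ (1 + X ^ 2) = x * y from (mul_div_cancel₀ _ hx).symm, mul_pow]
  ring

/-- The Dickson-type substitution is injective. -/
theorem sum_injective {Q₁ Q₂ : F[X]} (h₁ : Q₁.natDegree ≤ n) (h₂ : Q₂.natDegree ≤ n)
    (h : ∑ i ∈ Finset.range (n + 1), C (Q₁.coeff i) * (1 + X ^ 2 : F[X]) ^ i * X ^ (n - i) =
      ∑ i ∈ Finset.range (n + 1), C (Q₂.coeff i) * (1 + X ^ 2) ^ i * X ^ (n - i)) : Q₁ = Q₂ := by
  rw [← sub_eq_zero, ← Finset.sum_sub_distrib] at h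
  simp only [← sub_mul, ← C_sub, ← coeff_sub] at h
  set D := Q₁ - Q₂
  rw [← sub_eq_zero]
  by_contra hD
  have hk : D.natDegree ≤ n := (natDegree_sub_le _ _).trans (max_le h₁ h₂)
  have := congrArg (fun P : F[X] => P.coeff (n - D.natDegree)) h
  simp only [finsetSum_coeff, coeff_zero, coeff_mul_X_pow'] at this
  rw [Finset.sum_eq_single D.natDegree] at this
  · rw [if_pos le_rfl, Nat.sub_self, mul_coeff_zero, coeff_C_zero] at this
    have h0 : ((1 + X ^ 2 : F[X]) ^ D.natDegree).coeff 0 = 1 := by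
      rw [coeff_zero_eq_eval_zero]; simp
    rw [h0, mul_one] at this
    exact leadingCoeff_ne_zero.2 hD this
  · intro i hi hne
    rw [Finset.mem_range] at hi
    rcases lt_or_gt_of_ne hne with hl | hg
    · rw [if_neg (by omega)]
    · simp [coeff_eq_zero_of_natDegree_lt hg]
  · intro hni
    exact absurd (Finset.mem_range.2 (by omega)) hni

theorem exists_symplectic_charpoly {Q : F[X]} (hQ : Q.Monic) (hn : Q.natDegree = n) :
    ∃ g : ↥(Matrix.symplecticGroup (Fin n) F), (g : Matrix (Fin n ⊕ Fin n) (Fin n ⊕ Fin n) F).charpoly =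
      ∑ i ∈ Finset.range (n + 1), C (Q.coeff i) * (1 + X ^ 2) ^ i * X ^ (n - i) := by
  classical
  obtain ⟨S, T, hS, hTu, hT, hTS⟩ := exists_symmetrisable hQ hn
  obtain ⟨U, rfl⟩ := hTu
  set Ti : Matrix (Fin n) (Fin n) F := Units.val U⁻¹
  set T : Matrix (Fin n) (Fin n) F := (U : Matrix (Fin n) (Fin n) F)
  have hTTi : T * Ti = 1 := Units.mul_inv U
  have hTiT : Ti * T = 1 := Units.inv_mul U
  have hTiT' : Tiᵀ = Ti := by
    have h1 : Tiᵀ * T = 1 := by rw [← hT, ← transpose_mul, hTTi, transpose_one]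
    calc Tiᵀ = Tiᵀ * (T * Ti) := by rw [hTTi, mul_one]
      _ = Ti := by rw [← Matrix.mul_assoc, h1, one_mul]
  have hS' : Ti * Sᵀ = S * Ti := by
    rw [transpose_mul, hT] at hTS
    calc Ti * Sᵀ = Ti * (Sᵀ * T) * Ti := by rw [Matrix.mul_assoc, Matrix.mul_assoc, hTTi, mul_one]
      _ = S * Ti := by rw [hTS, ← Matrix.mul_assoc, hTiT, one_mul]
  set g : Matrix (Fin n ⊕ Fin n) (Fin n ⊕ Fin n) F := fromBlocks 0 T (-Ti) S
  have hg : g ∈ Matrix.symplecticGroup (Fin n) F := by
    rw [SymplecticGroup.mem_iff]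
    simp [g, Matrix.J, fromBlocks_multiply, fromBlocks_transpose, hT, hTiT', hTTi, hTiT, hS']
  refine ⟨⟨g, hg⟩, ?_⟩
  let D : (Matrix (Fin n ⊕ Fin n) (Fin n ⊕ Fin n) F)ˣ :=
    ⟨fromBlocks T 0 0 1, fromBlocks Ti 0 0 1, by simp [fromBlocks_multiply, hTTi, fromBlocks_one],
      by simp [fromBlocks_multiply, hTiT, fromBlocks_one]⟩
  set g' : Matrix (Fin n ⊕ Fin n) (Fin n ⊕ Fin n) F := fromBlocks 0 1 (-1) S
  have hconj : g.charpoly = g'.charpoly := by
    have h := Matrix.charpoly_units_conj D g'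
    rw [← h, ← Matrix.coe_units_inv]
    congr 1
    show g = fromBlocks T 0 0 1 * g' * fromBlocks Ti 0 0 1
    simp [g, g', fromBlocks_multiply]
  show g.charpoly = _
  rw [hconj, ← det_eq_sum hn hS]
  have hcm : g'.charmatrix = fromBlocks ((X : F[X]) • 1) (-1) 1 ((X : F[X]) • 1 - S.map C) := by
    rw [charmatrix]
    ext i j
    rcases i with i | i <;> rcases j with j | j <;> rcases eq_or_ne i j with rfl | h <;>
      simp_all [g', Matrix.one_apply]
  set N : Matrix (Fin n) (Fin n) F[X] := (X : F[X]) • 1 - S.map C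
  let E : Matrix (Fin n ⊕ Fin n) (Fin n ⊕ Fin n) F[X] := fromBlocks 1 0 ((X : F[X]) • 1) 1
  let P1 : Matrix (Fin n ⊕ Fin n) (Fin n ⊕ Fin n) F[X] := fromBlocks 1 1 0 1
  let P2 : Matrix (Fin n ⊕ Fin n) (Fin n ⊕ Fin n) F[X] := fromBlocks 1 0 (-1) 1
  rw [charpoly, hcm]
  have hd : ∀ M : Matrix (Fin n ⊕ Fin n) (Fin n ⊕ Fin n) F[X], (M * (E * (P1 * P2 * P1))).det = M.det := by
    intro M
    simp [E, P1, P2, det_fromBlocks_zero₁₂, det_fromBlocks_zero₂₁]
  rw [← hd]
  simp only [E, P1, P2, fromBlocks_multiply, Matrix.mul_one, Matrix.one_mul, Matrix.mul_zero, Matrix.zero_mul,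
    add_zero, zero_add, Matrix.mul_neg, Matrix.neg_mul, neg_neg, add_neg_cancel, neg_add_cancel, mul_add]
  rw [det_fromBlocks_zero₁₂, det_one, one_mul]
  congr 1
  simp only [N, Matrix.sub_mul, Matrix.mul_smul, Matrix.mul_one, Matrix.smul_mul, Matrix.one_mul, smul_sub,
    smul_smul, add_smul, one_smul, pow_two]
  abel

/-- The coefficient sequence of the self-reciprocal polynomial with given lower half. -/
def recCoeff (a : Fin n → F) (i : ℕ) : F :=
  if i = 0 ∨ i = n + n then 1 else if h : i - 1 < n then a ⟨i - 1, h⟩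
  else if h : n + n - i - 1 < n ∧ i < n + n then a ⟨n + n - i - 1, h.1⟩ else 0

theorem recCoeff_large (a : Fin n → F) {i : ℕ} (hi : n + n < i) : recCoeff a i = 0 := by
  unfold recCoeff
  rw [if_neg (by omega), dif_neg (by omega), dif_neg (by omega)]

theorem recCoeff_symm (a : Fin n → F) {i : ℕ} (hi : i ≤ n + n) : recCoeff a (n + n - i) = recCoeff a i := by
  unfold recCoeff
  split_ifs <;> first | rfl | (exfalso; omega) | (congr 1; apply Fin.ext; simp only; omega)

theorem recCoeff_low (a : Fin n → F) (j : Fin n) : recCoeff a (j + 1) = a j := by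
  unfold recCoeff
  rw [if_neg (by omega), dif_pos (by omega)]
  exact congrArg a (Fin.ext (by simp))

/-- The self-reciprocal polynomial with given lower half. -/
noncomputable def recPoly (a : Fin n → F) : F[X] :=
  ∑ i ∈ Finset.range (n + n + 1), monomial i (recCoeff a i)

theorem recPoly_coeff (a : Fin n → F) (i : ℕ) : (recPoly a).coeff i = recCoeff a i := by
  simp only [recPoly, finsetSum_coeff, coeff_monomial, Finset.sum_ite_eq']
  split_ifs with h
  · rfl
  · exact (recCoeff_large a (by simpa [Nat.lt_succ_iff] using h)).symm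

theorem recCoeff_top (a : Fin n → F) : recCoeff a (n + n) = 1 := if_pos (Or.inr rfl)

theorem recCoeff_zero (a : Fin n → F) : recCoeff a 0 = 1 := if_pos (Or.inl rfl)

theorem recPoly_natDegree (a : Fin n → F) : (recPoly a).natDegree = n + n := by
  refine natDegree_eq_of_le_of_coeff_ne_zero (natDegree_le_iff_coeff_eq_zero.2 fun i hi => ?_) ?_
  · rw [recPoly_coeff, recCoeff_large a hi]
  · rw [recPoly_coeff, recCoeff_top]; exact one_ne_zero

theorem recPoly_selfRec (a : Fin n → F) : SelfRec n (recPoly a) := by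
  refine And.intro ?_ (And.intro (recPoly_natDegree a) (And.intro ?_ ?_))
  · rw [Monic, leadingCoeff, recPoly_natDegree, recPoly_coeff, recCoeff_top]
  · rw [recPoly_coeff, recCoeff_zero]
  · refine Polynomial.ext fun i => ?_
    rw [coeff_reverse, recPoly_natDegree, recPoly_coeff, recPoly_coeff]
    rcases Nat.lt_or_ge (n + n) i with h | h
    · rw [revAt_eq_self_of_lt h]
    · rw [revAt_le h, recCoeff_symm a h]

theorem recPoly_lowHalf {P : F[X]} (hP : SelfRec n P) : recPoly (fun j : Fin n => P.coeff (j + 1)) = P := by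
  obtain ⟨hm, hd, h0, hr⟩ := hP
  refine Polynomial.ext fun i => ?_
  rw [recPoly_coeff]
  unfold recCoeff
  split_ifs with h1 h2 h3
  · rcases h1 with rfl | rfl
    · exact h0.symm
    · have := hm.leadingCoeff
      rw [leadingCoeff, hd] at this
      exact this.symm
  · simp only
    congr 1; omega
  · conv_rhs => rw [← hr]
    rw [coeff_reverse, hd, revAt_le (by omega)]
    simp only
    congr 1; omega
  · rw [coeff_eq_zero_of_natDegree_lt (by omega)]

theorem card_selfRec [Fintype F] : Nat.card {P : F[X] // SelfRec n P} = Fintype.card F ^ n := by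
  classical
  let e : {P : F[X] // SelfRec n P} ≃ (Fin n → F) :=
    { toFun := fun P j => P.1.coeff (j + 1)
      invFun := fun a => ⟨recPoly a, recPoly_selfRec a⟩
      left_inv := fun P => Subtype.ext (recPoly_lowHalf P.2)
      right_inv := fun a => funext fun j => (recPoly_coeff a _).trans (recCoeff_low a j) }
  rw [Nat.card_congr e, Nat.card_fun, Nat.card_fin, Nat.card_eq_fintype_card]

theorem exists_of_selfRec [Fintype F] (p : ℕ) [Fact p.Prime] [CharP F p] {P : F[X]} (hP : SelfRec n P) :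
    ∃ g : ↥(Matrix.symplecticGroup (Fin n) F), (orderOf g).Coprime p ∧
      (g : Matrix (Fin n ⊕ Fin n) (Fin n ⊕ Fin n) F).charpoly = P := by
  classical
  have key : ∀ Q : {Q : F[X] // Q.Monic ∧ Q.natDegree = n}, ∃ g : ↥(Matrix.symplecticGroup (Fin n) F),
      (g : Matrix (Fin n ⊕ Fin n) (Fin n ⊕ Fin n) F).charpoly =
        ∑ i ∈ Finset.range (n + 1), C (Q.1.coeff i) * (1 + X ^ 2) ^ i * X ^ (n - i) :=
    fun Q => exists_symplectic_charpoly Q.2.1 Q.2.2
  choose g hg using key
  let f : {Q : F[X] // Q.Monic ∧ Q.natDegree = n} → {P : F[X] // SelfRec n P} := fun Q =>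
    ⟨_, selfRec_of_mem (g Q)⟩
  have hinj : Function.Injective f := fun Q Q' h => Subtype.ext (sum_injective Q.2.2.le Q'.2.2.le (by
    rw [← hg, ← hg]; exact congrArg Subtype.val h))
  let em : {Q : F[X] // Q.Monic ∧ Q.natDegree = n} ≃ (Fin n → F) :=
    (Polynomial.monicEquivDegreeLT n).trans (Polynomial.degreeLTEquiv F n).toEquiv
  let es : {P : F[X] // SelfRec n P} ≃ (Fin n → F) := by
    have hc := card_selfRec (F := F) (n := n)
    have : Finite {P : F[X] // SelfRec n P} := Nat.finite_of_card_ne_zero (by rw [hc]; exact pow_ne_zero _ Fintype.card_ne_zero)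
    exact Classical.choice ⟨(Finite.equivFin _).trans ((finCongr (by rw [hc]; simp)).trans (Finite.equivFin (Fin n → F)).symm)⟩
  have hbij : Function.Bijective (es ∘ f ∘ em.symm) :=
    Finite.injective_iff_bijective.1 (es.injective.comp (hinj.comp em.symm.injective))
  obtain ⟨a, ha⟩ := hbij.2 (es ⟨P, hP⟩)
  have hf : f (em.symm a) = ⟨P, hP⟩ := es.injective ha
  have hpw : ∀ k : ℕ, ∀ M : Matrix (Fin n ⊕ Fin n) (Fin n ⊕ Fin n) F,
      (M ^ (Fintype.card F ^ k)).charpoly = M.charpoly := by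
    intro k
    induction k with
    | zero => intro M; rw [pow_zero, pow_one]
    | succ k ih => intro M; rw [pow_succ, pow_mul, FiniteField.Matrix.charpoly_pow_card, ih]
  set x := g (em.symm a)
  have hx : orderOf x ≠ 0 := (orderOf_pos x).ne'
  set v := (orderOf x).factorization p
  refine ⟨x ^ (Fintype.card F ^ v), ?_, ?_⟩
  · refine Nat.Coprime.coprime_dvd_left ?_ (Nat.coprime_ordCompl (Fact.out : p.Prime) hx).symm
    rw [orderOf_dvd_iff_pow_eq_one, ← pow_mul, ← orderOf_dvd_iff_pow_eq_one]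
    obtain ⟨e, -, he⟩ := FiniteField.card F p
    conv_lhs => rw [← Nat.ordProj_mul_ordCompl_eq_self (orderOf x) p]
    refine Nat.mul_dvd_mul_right ?_ _
    rw [he, ← pow_mul]
    exact pow_dvd_pow p (Nat.le_mul_of_pos_left v e.pos)
  · rw [SubmonoidClass.coe_pow, hpw]
    exact congrArg Subtype.val hf

end CfsgLib.Involution.SpSemisimple
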