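import Cfsg.Agent.Lib.Involution.OrderFormula

/-!
# The symmetric group of degree five from two involution centralisers

A group with an involution class `Z` with centraliser `2 × S₃` whose other involutions have centraliser dihedral
of order eight meeting `Z` in two elements has order `120` by the Thompson order formula and permutes faithfully
the five four-groups formed by the involutions outside `Z`.
-/

set_option autoImplicit false
set_option linter.style.haveILetI false
set_option linter.unusedSectionVars false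

namespace CfsgLib.Involution.SymFive

open CfsgLib.Involution.Dihedral CfsgLib.Involution.Count CfsgLib.Involution.OrderFormula

variable {K : Type*} [Group K] [Finite K]

/-- The centraliser of an involution outside the class. -/
structure Loc (Z : K → Prop) (u a c : K) : Prop where
  aa : a * a = 1
  cc : c * c = 1
  a1 : a ≠ 1
  au : a ≠ u
  hna : ¬ Z a
  hc : Z c
  ua : u * a = a * u
  uc : u * c = c * u
  cac : c * a * c = a * u
  span : ∀ x, x * u = u * x → ∃ i j k : Fin 2, x = u ^ i.1 * a ^ j.1 * c ^ k.1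

/-- The data. -/
structure Data (Z : K → Prop) (z w s : K) : Prop where
  inv : ∀ x g, Z x → Z (g * x * g⁻¹)
  sq : ∀ x, Z x → x * x = 1
  one : ¬ Z 1
  hz : Z z
  hs : Z s
  hsz : ¬ Z (s * z)
  w3 : w ^ 3 = 1
  w1 : w ≠ 1
  zw : z * w = w * z
  zs : z * s = s * z
  sw : s * w * s⁻¹ = w⁻¹
  span_z : ∀ x, x * z = z * x → ∃ i : Fin 2, ∃ j : Fin 3, ∃ k : Fin 2, x = z ^ i.1 * w ^ j.1 * s ^ k.1
  loc : ∀ u, u * u = 1 → u ≠ 1 → ¬ Z u → ∃ a c, Loc Z u a c

omit [Finite K] in
/-- The powers of an involution. -/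
theorem pow_two_cases {x : K} (hx : x * x = 1) (n : ℕ) : x ^ n = if Even n then 1 else x := by
  rcases Nat.even_or_odd' n with ⟨k, rfl | rfl⟩
  · rw [if_pos (even_two_mul k), pow_mul, pow_two, hx, one_pow]
  · rw [if_neg (Nat.not_even_two_mul_add_one k), pow_succ, pow_mul, pow_two, hx, one_pow, one_mul]

namespace Data

variable {Z : K → Prop} {z w s : K} (D : Data Z z w s)
include D

theorem ne_one {x : K} (h : Z x) : x ≠ 1 := fun e => D.one (e ▸ h)

theorem order_two {x : K} (h : Z x) : orderOf x = 2 := orderOf_eq_two (D.sq x h) (D.ne_one h)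

theorem conj_iff (x g : K) : Z (g * x * g⁻¹) ↔ Z x :=
  ⟨fun h => by simpa [mul_assoc] using D.inv _ g⁻¹ h, D.inv x g⟩

theorem order_w : orderOf w = 3 := haveI : Fact (Nat.Prime 3) := ⟨Nat.prime_three⟩; orderOf_eq_prime D.w3 D.w1

theorem w_conj (n : ℕ) : w ^ n * s = w ^ (2 * n) * s * (w ^ (2 * n))⁻¹ := by
  have h := Dihedral.conj_pow D.sw (2 * n)
  rw [mul_inv_eq_iff_eq_mul] at h
  have e : s * (w ^ (2 * n))⁻¹ = w ^ (2 * n) * s := by
    rw [mul_inv_eq_iff_eq_mul, mul_assoc, h, mul_inv_cancel_left]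
  rw [mul_assoc, e, ← mul_assoc, ← pow_add, pow_eq_pow_mod _ D.w3, show n % 3 = (2 * n + 2 * n) % 3 by omega,
    ← pow_eq_pow_mod _ D.w3]

theorem Z_ws (n : ℕ) : Z (w ^ n * s) := by rw [D.w_conj n]; exact D.inv _ _ D.hs

theorem not_Z_wsz (n : ℕ) : ¬ Z (w ^ n * s * z) := by
  have e : w ^ n * s * z = w ^ (2 * n) * (s * z) * (w ^ (2 * n))⁻¹ := by
    rw [D.w_conj n]
    have hc : z * (w ^ (2 * n))⁻¹ = (w ^ (2 * n))⁻¹ * z :=
      (((show Commute z w from D.zw).pow_right (2 * n)).inv_right).eq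
    simp only [mul_assoc]
    rw [hc]
  rw [e, D.conj_iff]
  exact D.hsz

theorem w_s_comm (n : ℕ) : z * (w ^ n * s) = w ^ n * s * z := by
  rw [← mul_assoc, ((show Commute z w from D.zw).pow_right n).eq, mul_assoc, D.zs, ← mul_assoc]

/-- The order of the centraliser of `z`. -/
theorem card_z : Nat.card (Subgroup.centralizer ({z} : Set K)) = 12 := by
  have hzz := D.sq z D.hz
  have hmem : ∀ (i : Fin 2) (j : Fin 3) (k : Fin 2),
      z ^ i.1 * w ^ j.1 * s ^ k.1 ∈ Subgroup.centralizer ({z} : Set K) := fun i j k => by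
    rw [Subgroup.mem_centralizer_singleton_iff]
    exact (((Commute.refl z).pow_left _).mul_left ((show Commute z w from D.zw).symm.pow_left _)).mul_left
      ((show Commute z s from D.zs).symm.pow_left _)
  let f : Fin 2 × Fin 3 × Fin 2 → ↥(Subgroup.centralizer ({z} : Set K)) := fun p => ⟨_, hmem p.1 p.2.1 p.2.2⟩
  have hnot : ∀ a b : ℕ, s ≠ z ^ a * w ^ b := fun a b e => by
    have h : Commute s w := e ▸ (((show Commute z w from D.zw).pow_left a).mul_left ((Commute.refl w).pow_left b))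
    have h1 : w = w⁻¹ := by rw [← D.sw, h.eq, mul_inv_cancel_right]
    have h2 : w ^ 2 = 1 := by rw [pow_two]; nth_rw 2 [h1]; rw [mul_inv_cancel]
    exact D.w1 (by have := D.w3; rwa [pow_succ, h2, one_mul] at this)
  have hzw : ∀ b : ℕ, z ≠ w ^ b := fun b e => D.ne_one D.hz (by
    calc z = z ^ 3 := by rw [pow_succ, pow_two, hzz, one_mul]
      _ = (w ^ 3) ^ b := by rw [e, ← pow_mul, ← pow_mul, mul_comm]
      _ = 1 := by rw [D.w3, one_pow])
  have hinj : Function.Injective f := by
    rintro ⟨i, j, k⟩ ⟨i', j', k'⟩ e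
    have e1 : z ^ i.1 * w ^ j.1 * s ^ k.1 = z ^ i'.1 * w ^ j'.1 * s ^ k'.1 := congrArg Subtype.val e
    have hk : k = k' := by
      by_contra hne
      have hcases : ∀ (i i' : Fin 2) (j j' : Fin 3), z ^ i.1 * w ^ j.1 * s ≠ z ^ i'.1 * w ^ j'.1 := by
        intro i i' j j' h
        refine hnot (i.1 + i'.1) (3 - j.1 + j'.1) ?_
        calc s = (z ^ i.1 * w ^ j.1)⁻¹ * (z ^ i'.1 * w ^ j'.1) := by rw [← h]; group
          _ = (w ^ j.1)⁻¹ * (z ^ i.1)⁻¹ * z ^ i'.1 * w ^ j'.1 := by group
          _ = w ^ (3 - j.1) * z ^ (i.1 + i'.1) * w ^ j'.1 := by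
            rw [← inv_pow z, inv_eq_of_mul_eq_one_right hzz, pow_add z, ← mul_assoc,
              show (w ^ j.1)⁻¹ = w ^ (3 - j.1) from inv_eq_of_mul_eq_one_right (by
                rw [← pow_add, show j.1 + (3 - j.1) = 3 by omega, D.w3])]
          _ = _ := by
            rw [((show Commute w z from D.zw.symm).pow_pow (3 - j.1) (i.1 + i'.1)).eq, mul_assoc, ← pow_add]
      fin_cases k <;> fin_cases k'
      all_goals first
        | exact hne rfl
        | (simp only [pow_zero, pow_one, mul_one] at e1; first | exact hcases _ _ _ _ e1 | exact hcases _ _ _ _ e1.symm)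
    subst hk
    have e2 := mul_right_cancel e1
    have hi : i = i' := by
      by_contra hne
      have hcases : ∀ (j j' : Fin 3), z * w ^ j.1 ≠ w ^ j'.1 := fun j j' h => hzw (j'.1 + (3 - j.1)) (by
        rw [pow_add, ← h, mul_assoc, ← pow_add, show j.1 + (3 - j.1) = 3 by omega, D.w3, mul_one])
      fin_cases i <;> fin_cases i'
      all_goals first
        | exact hne rfl
        | (simp only [pow_zero, pow_one, one_mul] at e2; first | exact hcases _ _ e2 | exact hcases _ _ e2.symm)
    subst hi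
    have e3 := mul_left_cancel e2
    rw [pow_eq_pow_iff_modEq, D.order_w, Nat.ModEq] at e3
    have : j = j' := Fin.ext (by omega)
    rw [this]
  have hsurj : Function.Surjective f := fun g => by
    obtain ⟨i, j, k, e⟩ := D.span_z g (Subgroup.mem_centralizer_singleton_iff.1 g.2)
    exact ⟨(i, j, k), Subtype.ext e.symm⟩
  rw [← Nat.card_congr (Equiv.ofBijective f ⟨hinj, hsurj⟩)]
  simp

/-- The involutions commuting with `z`. -/
theorem inv_cent_z {x : K} (hx : x * z = z * x) (h2 : x * x = 1) (h1 : x ≠ 1) :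
    x = z ∨ (∃ j : Fin 3, x = w ^ j.1 * s) ∨ ∃ j : Fin 3, x = w ^ j.1 * s * z := by
  obtain ⟨i, j, k, rfl⟩ := D.span_z _ hx
  fin_cases k
  · left
    simp only [pow_zero, mul_one] at h2 h1 ⊢
    have hc : Commute (z ^ i.1) (w ^ j.1) := (show Commute z w from D.zw).pow_pow _ _
    have h3 : z ^ i.1 * w ^ j.1 * (z ^ i.1 * w ^ j.1) = w ^ (2 * j.1) := by
      rw [hc.symm.mul_mul_mul_comm, ← pow_add, ← two_mul i.1, pow_mul, pow_two, D.sq z D.hz, one_pow, one_mul,
        ← pow_add, two_mul]
    rw [h3] at h2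
    have h4 := orderOf_dvd_of_pow_eq_one h2
    rw [D.order_w] at h4
    have hj : j.1 = 0 := by omega
    rw [hj, pow_zero, mul_one] at h1 ⊢
    fin_cases i
    · simp at h1
    · simp
  · fin_cases i
    · exact Or.inr (Or.inl ⟨j, by simp⟩)
    · refine Or.inr (Or.inr ⟨j, ?_⟩)
      simp only [pow_one]
      rw [mul_assoc, D.w_s_comm]

omit D in
/-- The order of the centraliser of an involution outside the class. -/
theorem loc_card {u a c : K} (L : Loc Z u a c) (hu : u * u = 1) (hu1 : u ≠ 1) :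
    Nat.card (Subgroup.centralizer ({u} : Set K)) = 8 := by
  have hmem : ∀ i j k : Fin 2, u ^ i.1 * a ^ j.1 * c ^ k.1 ∈ Subgroup.centralizer ({u} : Set K) := fun i j k => by
    rw [Subgroup.mem_centralizer_singleton_iff]
    exact (((Commute.refl u).pow_left _).mul_left ((show Commute u a from L.ua).symm.pow_left _)).mul_left
      ((show Commute u c from L.uc).symm.pow_left _)
  let f : Fin 2 × Fin 2 × Fin 2 → ↥(Subgroup.centralizer ({u} : Set K)) := fun p => ⟨_, hmem p.1 p.2.1 p.2.2⟩
  have hca : ¬ Commute c a := fun h => hu1 (by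
    have := L.cac
    rw [h.eq, mul_assoc, L.cc, mul_one] at this
    exact mul_left_cancel (this.symm.trans (mul_one a).symm))
  have hinj : Function.Injective f := by
    rintro ⟨i, j, k⟩ ⟨i', j', k'⟩ e
    have e1 : u ^ i.1 * a ^ j.1 * c ^ k.1 = u ^ i'.1 * a ^ j'.1 * c ^ k'.1 := congrArg Subtype.val e
    have hk : k = k' := by
      by_contra hne
      have hcases : ∀ i i' j j' : Fin 2, u ^ i.1 * a ^ j.1 * c ≠ u ^ i'.1 * a ^ j'.1 := by
        intro i i' j j' h
        refine hca ?_
        rw [show c = (u ^ i.1 * a ^ j.1)⁻¹ * (u ^ i'.1 * a ^ j'.1) by rw [← h]; group]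
        have hp : ∀ i j : ℕ, Commute (u ^ i * a ^ j) a := fun i j =>
          ((show Commute u a from L.ua).pow_left i).mul_left ((Commute.refl a).pow_left j)
        exact (hp _ _).inv_left.mul_left (hp _ _)
      fin_cases k <;> fin_cases k'
      all_goals first
        | exact hne rfl
        | (simp only [pow_zero, pow_one, mul_one] at e1; first | exact hcases _ _ _ _ e1 | exact hcases _ _ _ _ e1.symm)
    subst hk
    have e2 := mul_right_cancel e1
    fin_cases i <;> fin_cases i' <;> fin_cases j <;> fin_cases j'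
    all_goals simp only [pow_zero, pow_one, one_mul, mul_one] at e2
    all_goals first
      | rfl
      | exact absurd e2 L.a1
      | exact absurd e2.symm L.a1
      | exact absurd e2 L.au
      | exact absurd e2.symm L.au
      | exact absurd e2 hu1
      | exact absurd e2.symm hu1
      | exact absurd (mul_eq_left.1 e2) L.a1
      | exact absurd (mul_eq_left.1 e2.symm) L.a1
      | exact absurd (mul_eq_right.1 e2) hu1
      | exact absurd (mul_eq_right.1 e2.symm) hu1
      | exact absurd ((eq_inv_of_mul_eq_one_right e2).trans (inv_eq_of_mul_eq_one_right hu)) L.au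
      | exact absurd ((eq_inv_of_mul_eq_one_right e2.symm).trans (inv_eq_of_mul_eq_one_right hu)) L.au
  have hsurj : Function.Surjective f := fun g => by
    obtain ⟨i, j, k, e⟩ := L.span g (Subgroup.mem_centralizer_singleton_iff.1 g.2)
    exact ⟨(i, j, k), Subtype.ext e.symm⟩
  rw [← Nat.card_congr (Equiv.ofBijective f ⟨hinj, hsurj⟩)]
  simp

/-- The third involution outside the class. -/
theorem au_not {u a c : K} (L : Loc Z u a c) : ¬ Z (a * u) := by
  rw [← L.cac]
  nth_rw 2 [← inv_eq_of_mul_eq_one_right L.cc]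
  rw [D.conj_iff]
  exact L.hna

/-- The second involution of the class. -/
theorem cu_mem {u a c : K} (L : Loc Z u a c) : Z (c * u) := by
  have e : c * u = a * c * a⁻¹ := by
    rw [inv_eq_of_mul_eq_one_right L.aa]
    symm
    calc a * c * a = c * c * a * c * a := by rw [L.cc, one_mul]
      _ = c * (c * a * c) * a := by group
      _ = c * (u * a) * a := by rw [L.cac, ← L.ua]
      _ = c * u * (a * a) := by group
      _ = c * u := by rw [L.aa, mul_one]
  rw [e]
  exact D.inv _ _ L.hc

/-- The involutions of that centraliser, with their types. -/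
theorem inv_cent {u a c : K} (L : Loc Z u a c) (hu : u * u = 1) (hu1 : u ≠ 1) (hn : ¬ Z u) {x : K}
    (hx : x * u = u * x) (h2 : x * x = 1) (h1 : x ≠ 1) :
    ((x = u ∨ x = a ∨ x = a * u) ∧ ¬ Z x) ∨ ((x = c ∨ x = c * u) ∧ Z x) := by
  have hau := D.au_not L
  have hcu := D.cu_mem L
  obtain ⟨i, j, k, rfl⟩ := L.span _ hx
  fin_cases k
  · left
    simp only [pow_zero, mul_one] at h1 ⊢
    fin_cases i <;> fin_cases j <;> simp only [pow_zero, pow_one, one_mul, mul_one] at h1 ⊢
    · exact absurd rfl h1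
    · exact ⟨by simp, L.hna⟩
    · exact ⟨by simp, hn⟩
    · rw [L.ua]; exact ⟨by simp, hau⟩
  · right
    fin_cases i <;> fin_cases j <;> simp only [pow_zero, pow_one, one_mul, mul_one] at h2 ⊢
    · exact ⟨by simp, L.hc⟩
    · refine absurd ?_ hu1
      have := L.cac
      rw [show c * a * c = a⁻¹ * (a * c * (a * c)) by group, h2, mul_one, inv_eq_of_mul_eq_one_right L.aa] at this
      exact mul_left_cancel (this.symm.trans (mul_one a).symm)
    · rw [L.uc]; exact ⟨by simp, hcu⟩
    · refine absurd ?_ hu1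
      have e : u * a * c * (u * a * c) = a * c * (a * c) := by
        have h1 : Commute u (a * c) := (show Commute u a from L.ua).mul_right L.uc
        rw [mul_assoc u a c, h1.symm.mul_mul_mul_comm, hu, one_mul]
      rw [e] at h2
      have := L.cac
      rw [show c * a * c = a⁻¹ * (a * c * (a * c)) by group, h2, mul_one, inv_eq_of_mul_eq_one_right L.aa] at this
      exact mul_left_cancel (this.symm.trans (mul_one a).symm)

/-- The centraliser of an involution outside the class is a Sylow subgroup with that involution as centre. -/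
theorem sylow_cent {u a c : K} (L : Loc Z u a c) (hu : u * u = 1) (hu1 : u ≠ 1) (hn : ¬ Z u) :
    ∃ T : Sylow 2 K, (T : Subgroup K) = Subgroup.centralizer ({u} : Set K) ∧
      ∀ y ∈ (T : Subgroup K), y * y = 1 → y ≠ 1 → (∀ v ∈ (T : Subgroup K), v * y = y * v) → y = u := by
  haveI : Fact (Nat.Prime 2) := ⟨Nat.prime_two⟩
  have hp : IsPGroup 2 ↥(Subgroup.centralizer ({u} : Set K)) := IsPGroup.of_card ((loc_card L hu hu1).trans (by norm_num : 8 = 2 ^ 3))
  obtain ⟨T, hT⟩ := hp.exists_le_sylow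
  have hmemu : ∀ {g : K}, g * u = u * g → g ∈ (T : Subgroup K) := fun h =>
    hT (Subgroup.mem_centralizer_singleton_iff.2 h)
  have hca : c * a ≠ a * c := fun e => hu1 (by
    have := L.cac
    rw [e, mul_assoc, L.cc, mul_one] at this
    exact mul_left_cancel (this.symm.trans (mul_one a).symm))
  have hkey : ∀ y ∈ (T : Subgroup K), y * y = 1 → y ≠ 1 → (∀ v ∈ (T : Subgroup K), v * y = y * v) → y = u := by
    intro y hy h2 h1 hc
    have ea := hc a (hmemu L.ua.symm)
    have ec := hc c (hmemu L.uc.symm)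
    have hu' := hc u (hmemu rfl)
    rcases D.inv_cent L hu hu1 hn hu'.symm h2 h1 with ⟨h | h | h, -⟩ | ⟨h | h, -⟩
    · exact h
    · exact absurd (h ▸ ec) hca
    · refine absurd ?_ hca
      rw [h, ← mul_assoc, mul_assoc a u c, L.uc, ← mul_assoc] at ec
      exact mul_right_cancel ec
    · exact absurd (h ▸ ea).symm hca
    · refine absurd ?_ hca
      rw [h, ← mul_assoc, mul_assoc c u a, L.ua, ← mul_assoc] at ea
      exact (mul_right_cancel ea).symm
  refine ⟨T, le_antisymm (fun g hg => ?_) hT, hkey⟩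
  haveI : Nontrivial ↥(T : Subgroup K) :=
    Subgroup.nontrivial_iff_ne_bot _ |>.2 fun e => hu1 (by
      have h : u ∈ (T : Subgroup K) := hmemu rfl
      rw [e, Subgroup.mem_bot] at h
      exact h)
  haveI := T.isPGroup'.center_nontrivial
  obtain ⟨⟨y, hy⟩, hyo⟩ := exists_prime_orderOf_dvd_card' (G := ↥(Subgroup.center ↥(T : Subgroup K))) 2 (by
    obtain ⟨k, hk⟩ := IsPGroup.iff_card.1 (T.isPGroup'.to_subgroup (Subgroup.center ↥(T : Subgroup K)))
    have h1 : 1 < Nat.card ↥(Subgroup.center ↥(T : Subgroup K)) := Finite.one_lt_card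
    rw [hk] at h1 ⊢
    exact dvd_pow_self 2 (fun e => by simp [e] at h1))
  rw [Subgroup.orderOf_mk] at hyo
  have hyy : (y : K) * y = 1 := congrArg Subtype.val (Dihedral.mul_self hyo)
  have e := hkey y y.2 hyy (fun e => Dihedral.ne_one hyo (Subtype.ext e)) fun v hv =>
    congrArg Subtype.val (Subgroup.mem_center_iff.1 hy ⟨v, hv⟩)
  rw [Subgroup.mem_centralizer_singleton_iff, ← e]
  exact congrArg Subtype.val (Subgroup.mem_center_iff.1 hy ⟨g, hg⟩)

/-- The involutions outside the class are conjugate. -/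
theorem other_conj {u v : K} (hu : u * u = 1) (hu1 : u ≠ 1) (hnu : ¬ Z u) (hv : v * v = 1) (hv1 : v ≠ 1)
    (hnv : ¬ Z v) : IsConj u v := by
  obtain ⟨a, c, L⟩ := D.loc u hu hu1 hnu
  obtain ⟨a', c', L'⟩ := D.loc v hv hv1 hnv
  haveI : Fact (Nat.Prime 2) := ⟨Nat.prime_two⟩
  obtain ⟨T, hT, -⟩ := D.sylow_cent L hu hu1 hnu
  obtain ⟨T', hT', hkey⟩ := D.sylow_cent L' hv hv1 hnv
  obtain ⟨g, rfl⟩ := MulAction.exists_smul_eq K T T'
  have hmem : ∀ x, x ∈ ((g • T : Sylow 2 K) : Subgroup K) ↔ g⁻¹ * x * g ∈ (T : Subgroup K) := fun x => by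
    rw [Sylow.coe_subgroup_smul, Subgroup.mem_pointwise_smul_iff_inv_smul_mem]
    simp [MulAut.smul_def]
  refine isConj_iff.2 ⟨g, hkey _ ?_ ?_ ?_ ?_⟩
  · rw [hmem, show g⁻¹ * (g * u * g⁻¹) * g = u by group, hT, Subgroup.mem_centralizer_singleton_iff]
  · rw [show g * u * g⁻¹ * (g * u * g⁻¹) = g * (u * u) * g⁻¹ by group, hu, mul_one, mul_inv_cancel]
  · exact fun e => hu1 (conj_eq_one_iff.1 e)
  · intro x hx
    rw [hmem, hT, Subgroup.mem_centralizer_singleton_iff] at hx
    calc x * (g * u * g⁻¹) = g * (g⁻¹ * x * g * u) * g⁻¹ := by group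
      _ = _ := by rw [hx]; group

theorem sz_facts : s * z * (s * z) = 1 ∧ s * z ≠ 1 := by
  refine ⟨?_, fun e => ?_⟩
  · rw [mul_assoc, ← mul_assoc z, D.zs, mul_assoc s z, D.sq z D.hz, mul_one, D.sq s D.hs]
  · have h : s = z := by rw [eq_inv_of_mul_eq_one_left e, inv_eq_of_mul_eq_one_right (D.sq z D.hz)]
    have h1 := D.sw
    rw [h, D.zw, mul_inv_cancel_right] at h1
    have h2 : w ^ 2 = 1 := by rw [pow_two]; nth_rw 2 [h1]; rw [mul_inv_cancel]
    exact D.w1 (by have := D.w3; rwa [pow_succ, h2, one_mul] at this)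

/-- The class is one conjugacy class. -/
theorem class_iff (x : K) : Z x ↔ IsConj z x := by
  refine ⟨fun hx => ?_, fun h => by obtain ⟨g, rfl⟩ := isConj_iff.1 h; exact D.inv _ _ D.hz⟩
  haveI : Fact (Nat.Prime 2) := ⟨Nat.prime_two⟩
  obtain ⟨hu, hu1⟩ := D.sz_facts
  obtain ⟨a, c, L⟩ := D.loc _ hu hu1 D.hsz
  obtain ⟨T, hT, -⟩ := D.sylow_cent L hu hu1 D.hsz
  have key : ∀ x, Z x → IsConj c x := by
    intro x hx
    have hp : IsPGroup 2 ↥(Subgroup.zpowers x) := IsPGroup.of_card
      ((Nat.card_zpowers x).trans ((D.order_two hx).trans (pow_one 2).symm))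
    obtain ⟨T', hT'⟩ := hp.exists_le_sylow
    obtain ⟨g, rfl⟩ := MulAction.exists_smul_eq K T T'
    have hxm := hT' (Subgroup.mem_zpowers x)
    rw [Sylow.coe_subgroup_smul, Subgroup.mem_pointwise_smul_iff_inv_smul_mem] at hxm
    have hxm' : g⁻¹ * x * g ∈ Subgroup.centralizer ({s * z} : Set K) := hT ▸ by simpa [MulAut.smul_def] using hxm
    have hy : Z (g⁻¹ * x * g) := by simpa using D.inv _ g⁻¹ hx
    rcases D.inv_cent L hu hu1 D.hsz (Subgroup.mem_centralizer_singleton_iff.1 hxm') (D.sq _ hy) (D.ne_one hy) with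
      ⟨-, h⟩ | ⟨h | h, -⟩
    · exact absurd hy h
    · exact isConj_iff.2 ⟨g, by rw [← h]; group⟩
    · refine IsConj.trans (b := c * (s * z)) (isConj_iff.2 ⟨a, ?_⟩) (isConj_iff.2 ⟨g, by rw [← h]; group⟩)
      rw [inv_eq_of_mul_eq_one_right L.aa]
      calc a * c * a = c * c * a * c * a := by rw [L.cc, one_mul]
        _ = c * (c * a * c) * a := by group
        _ = c * (s * z * a) * a := by rw [L.cac, ← L.ua]
        _ = c * (s * z) * (a * a) := by group
        _ = c * (s * z) := by rw [L.aa, mul_one]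
  exact (key z D.hz).symm.trans (key x hx)

theorem pairs_z : Nat.card (Pairs z (s * z) z) = 9 := by
  obtain ⟨hu, hu1⟩ := D.sz_facts
  let f : Fin 3 × Fin 3 → K × K := fun p => (w ^ p.1.1 * s, w ^ p.2.1 * s * z)
  have hf : Function.Injective f := by
    rintro ⟨i, j⟩ ⟨i', j'⟩ e
    obtain ⟨e1, e2⟩ := Prod.mk.inj e
    have e1' := mul_right_cancel e1
    have e2' := mul_right_cancel (mul_right_cancel e2)
    rw [pow_eq_pow_iff_modEq, D.order_w, Nat.ModEq] at e1' e2'
    have hi : i = i' := Fin.ext (by dsimp only at e1'; omega)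
    have hj : j = j' := Fin.ext (by dsimp only at e2'; omega)
    rw [hi, hj]
  have hset : Pairs z (s * z) z = Set.range f := by
    ext ⟨p, q⟩
    simp only [Pairs, Set.mem_ofPred_eq, Set.mem_range]
    constructor
    · rintro ⟨hp, hq, m, hm⟩
      have hpZ := (D.class_iff p).2 hp
      have hq2 : q * q = 1 ∧ q ≠ 1 ∧ ¬ Z q := by
        obtain ⟨g, rfl⟩ := isConj_iff.1 hq
        refine ⟨?_, fun e => hu1 (conj_eq_one_iff.1 e), fun h => D.hsz ((D.conj_iff _ _).1 h)⟩
        rw [show g * (s * z) * g⁻¹ * (g * (s * z) * g⁻¹) = g * (s * z * (s * z)) * g⁻¹ by group, hu]; group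
      have hpo := D.order_two hpZ
      have hqo := orderOf_eq_two hq2.1 hq2.2.1
      have hinv : p * (p * q) * p⁻¹ = (p * q)⁻¹ := conj_mul_left hpo hqo
      have hpz : p * z = z * p := by
        have := Dihedral.conj_pow hinv m
        rw [hm, inv_eq_of_mul_eq_one_right (D.sq z D.hz), mul_inv_eq_iff_eq_mul] at this
        exact this
      have hqz : q * z = z * q := by
        have h1 : Commute (p * q) z := hm ▸ Commute.self_pow (p * q) m
        have h2 : q = p * (p * q) := by rw [← mul_assoc, D.sq p hpZ, one_mul]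
        rw [h2]
        exact ((show Commute p z from hpz).mul_left h1).eq
      rcases D.inv_cent_z hqz hq2.1 hq2.2.1 with h | ⟨j, h⟩ | ⟨j, h⟩
      · exact absurd (h ▸ D.hz) hq2.2.2
      · exact absurd (h ▸ D.Z_ws _) hq2.2.2
      rcases D.inv_cent_z hpz (D.sq p hpZ) (D.ne_one hpZ) with h' | ⟨i, h'⟩ | ⟨i, h'⟩
      · exfalso
        have e : p * q = w ^ j.1 * s := by
          rw [h, h', ← D.w_s_comm, ← mul_assoc, D.sq z D.hz, one_mul]
        rw [e, pow_two_cases (D.sq _ (D.Z_ws _)) m] at hm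
        split at hm
        · exact D.ne_one D.hz hm.symm
        · rw [h, ← hm] at hq2
          exact hq2.2.1 (D.sq _ (D.Z_ws _))
      · exact ⟨(i, j), by rw [h, h']⟩
      · exact absurd (h' ▸ hpZ) (D.not_Z_wsz _)
    · rintro ⟨⟨i, j⟩, e⟩
      obtain ⟨rfl, rfl⟩ := Prod.mk.inj e
      have h2 : w ^ j.1 * s * z * (w ^ j.1 * s * z) = 1 := by
        rw [← mul_assoc, mul_assoc (w ^ j.1 * s) z, D.w_s_comm, ← mul_assoc (w ^ j.1 * s), D.sq _ (D.Z_ws _), one_mul,
          D.sq z D.hz]
      refine ⟨(D.class_iff _).1 (D.Z_ws _), D.other_conj hu hu1 D.hsz h2 ?_ (D.not_Z_wsz _), 3, ?_⟩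
      · intro e1
        exact D.not_Z_wsz j.1 (by
          have : w ^ j.1 * s = z := by rw [eq_inv_of_mul_eq_one_left e1, inv_eq_of_mul_eq_one_right (D.sq z D.hz)]
          exfalso
          have hc : Commute (w ^ j.1 * s) w := this.symm ▸ D.zw
          have h1 : Commute s w := by
            have := ((Commute.refl w).pow_left j.1).inv_left.mul_left hc
            rwa [inv_mul_cancel_left] at this
          have h3 := D.sw
          rw [h1.eq, mul_inv_cancel_right] at h3
          have h4 : w ^ 2 = 1 := by rw [pow_two]; nth_rw 2 [h3]; rw [mul_inv_cancel]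
          exact D.w1 (by have := D.w3; rwa [pow_succ, h4, one_mul] at this))
      · have e : w ^ i.1 * s * (w ^ j.1 * s * z) = w ^ (i.1 + (3 - j.1)) * z := by
          have h3 := Dihedral.conj_pow D.sw j.1
          rw [inv_eq_of_mul_eq_one_right (D.sq s D.hs),
            show (w ^ j.1)⁻¹ = w ^ (3 - j.1) from inv_eq_of_mul_eq_one_right (by
              rw [← pow_add, show j.1 + (3 - j.1) = 3 by omega, D.w3])] at h3
          rw [pow_add, ← h3]
          group
        rw [e, ((show Commute z w from D.zw).symm.pow_left _).mul_pow, ← pow_mul, mul_comm _ 3, pow_mul, D.w3,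
          one_pow, one_mul, pow_succ, pow_two, D.sq z D.hz, one_mul]
  rw [hset, Nat.card_range_of_injective hf]
  simp

theorem pairs_t {u a c : K} (L : Loc Z u a c) (hu : u * u = 1) (hu1 : u ≠ 1) (hn : ¬ Z u) :
    Nat.card (Pairs z u u) = 4 := by
  classical
  let f : Fin 2 × Fin 2 → K × K := fun p => (c * u ^ p.1.1, a * u ^ p.2.1)
  have hf : Function.Injective f := by
    rintro ⟨i, j⟩ ⟨i', j'⟩ e
    obtain ⟨e1, e2⟩ := Prod.mk.inj e
    have ho : orderOf u = 2 := orderOf_eq_two hu hu1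
    have e1' := mul_left_cancel e1
    have e2' := mul_left_cancel e2
    rw [pow_eq_pow_iff_modEq, ho, Nat.ModEq] at e1' e2'
    have hi : i = i' := Fin.ext (by dsimp only at e1'; omega)
    have hj : j = j' := Fin.ext (by dsimp only at e2'; omega)
    rw [hi, hj]
  have hsq : ∀ i j : Fin 2, (c * u ^ i.1 * (a * u ^ j.1)) * (c * u ^ i.1 * (a * u ^ j.1)) = u := by
    intro i j
    have hcu : Commute u c := L.uc
    have hau : Commute u a := L.ua
    have h1 : c * u ^ i.1 * (a * u ^ j.1) = u ^ (i.1 + j.1) * (c * a) := by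
      rw [((hcu.pow_left i.1).symm).eq, ← ((hau.pow_left j.1).eq), pow_add]
      simp only [mul_assoc]
      rw [← mul_assoc c, ← (hcu.pow_left j.1).eq, mul_assoc]
    rw [h1, ((hcu.pow_left _).mul_right (hau.pow_left _)).symm.mul_mul_mul_comm, ← pow_add, ← two_mul, pow_mul,
      pow_two, hu, one_pow, one_mul, ← mul_assoc, L.cac, mul_assoc, L.ua, ← mul_assoc, L.aa, one_mul]
  have hset : Pairs z u u = Set.range f := by
    ext ⟨p, q⟩
    simp only [Pairs, Set.mem_ofPred_eq, Set.mem_range]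
    constructor
    · rintro ⟨hp, hq, m, hm⟩
      have hpZ := (D.class_iff p).2 hp
      have hq2 : q * q = 1 ∧ q ≠ 1 ∧ ¬ Z q := by
        obtain ⟨g, rfl⟩ := isConj_iff.1 hq
        refine ⟨?_, fun e => hu1 (conj_eq_one_iff.1 e), fun h => hn ((D.conj_iff _ _).1 h)⟩
        rw [show g * u * g⁻¹ * (g * u * g⁻¹) = g * (u * u) * g⁻¹ by group, hu]; group
      have hinv : p * (p * q) * p⁻¹ = (p * q)⁻¹ := conj_mul_left (D.order_two hpZ) (orderOf_eq_two hq2.1 hq2.2.1)
      have hpu : p * u = u * p := by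
        have := Dihedral.conj_pow hinv m
        rw [hm, inv_eq_of_mul_eq_one_right hu, mul_inv_eq_iff_eq_mul] at this
        exact this
      have hqu : q * u = u * q := by
        have h1 : Commute (p * q) u := hm ▸ Commute.self_pow (p * q) m
        have h2 : q = p * (p * q) := by rw [← mul_assoc, D.sq p hpZ, one_mul]
        rw [h2]
        exact ((show Commute p u from hpu).mul_left h1).eq
      rcases D.inv_cent L hu hu1 hn hpu (D.sq p hpZ) (D.ne_one hpZ) with ⟨-, h⟩ | ⟨h', -⟩
      · exact absurd hpZ h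
      have hp' : ∃ i : Fin 2, p = c * u ^ i.1 := by
        rcases h' with h | h
        · exact ⟨0, by simp [h]⟩
        · exact ⟨1, by simp [h]⟩
      obtain ⟨i, rfl⟩ := hp'
      rcases D.inv_cent L hu hu1 hn hqu hq2.1 hq2.2.1 with ⟨h' | h' | h', -⟩ | ⟨-, h⟩
      · exfalso
        subst h'
        have h3 : c * q ^ i.1 * q * (c * q ^ i.1 * q) = 1 := by
          have hc : Commute q c := L.uc
          rw [mul_assoc c, ← pow_succ, (hc.pow_left _).mul_mul_mul_comm, L.cc, one_mul, ← pow_add, ← two_mul,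
            pow_mul, pow_two, hu, one_pow]
        rw [pow_two_cases h3 m] at hm
        split at hm
        · exact hu1 hm.symm
        · have h4 : c * q ^ i.1 = 1 := mul_right_cancel (hm.trans (one_mul q).symm)
          exact D.one (h4 ▸ hpZ)
      · exact ⟨(i, 0), by simp [f, h']⟩
      · exact ⟨(i, 1), by simp [f, h']⟩
      · exact absurd h hq2.2.2
    · rintro ⟨⟨i, j⟩, e⟩
      obtain ⟨rfl, rfl⟩ := Prod.mk.inj e
      have hua : Commute u a := L.ua
      have hcu : Commute u c := L.uc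
      have h2 : a * u ^ j.1 * (a * u ^ j.1) = 1 := by
        rw [(hua.pow_left _).mul_mul_mul_comm, L.aa, one_mul, ← pow_add, ← two_mul, pow_mul, pow_two, hu, one_pow]
      have h1 : a * u ^ j.1 ≠ 1 := by
        fin_cases j
        · simpa using L.a1
        · simp only [pow_one]
          exact fun e => L.au ((eq_inv_of_mul_eq_one_left e).trans (inv_eq_of_mul_eq_one_right hu))
      have hx : a * u ^ j.1 * u = u * (a * u ^ j.1) := (hua.mul_right ((Commute.refl u).pow_right _)).symm.eq
      have hpZ : Z (c * u ^ i.1) := by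
        fin_cases i
        · simpa using L.hc
        · simpa using D.cu_mem L
      refine ⟨(D.class_iff _).1 hpZ, D.other_conj hu hu1 hn h2 h1 ?_, 2, by rw [pow_two]; exact hsq i j⟩
      fin_cases j
      · simpa using L.hna
      · simpa using D.au_not L
  rw [hset, Nat.card_range_of_injective hf]
  simp

theorem card_eq_120 : Nat.card K = 120 := by
  obtain ⟨hu, hu1⟩ := D.sz_facts
  obtain ⟨a, c, L⟩ := D.loc _ hu hu1 D.hsz
  have h := OrderFormula.card_eq z (s * z) (D.order_two D.hz) (orderOf_eq_two hu hu1)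
    (fun e => D.hsz ((D.class_iff _).2 e)) fun x hx => by
      by_cases hZ : Z x
      · exact Or.inl ((D.class_iff x).1 hZ)
      · exact Or.inr (D.other_conj hu hu1 D.hsz (Dihedral.mul_self hx) (Dihedral.ne_one hx) hZ)
  rw [D.pairs_z, D.pairs_t L hu hu1 D.hsz, loc_card L hu hu1, D.card_z] at h
  omega

/-- The group is symmetric of degree five. -/
theorem nonempty_iso : Nonempty (K ≃* Equiv.Perm (Fin 5)) := by
  classical
  haveI := Fintype.ofFinite K
  obtain ⟨hu0, hu01⟩ := D.sz_facts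
  set N : Finset K := {x | IsConj (s * z) x} with hN
  have hNmem : ∀ {x}, x ∈ N ↔ (x * x = 1 ∧ x ≠ 1 ∧ ¬ Z x) := fun {x} => by
    rw [hN, Finset.mem_filter]
    constructor
    · rintro ⟨-, h⟩
      obtain ⟨g, rfl⟩ := isConj_iff.1 h
      refine ⟨?_, fun e => hu01 (conj_eq_one_iff.1 e), fun h => D.hsz ((D.conj_iff _ _).1 h)⟩
      rw [show g * (s * z) * g⁻¹ * (g * (s * z) * g⁻¹) = g * (s * z * (s * z)) * g⁻¹ by group, hu0]; group
    · rintro ⟨h1, h2, h3⟩
      exact ⟨Finset.mem_univ _, D.other_conj hu0 hu01 D.hsz h1 h2 h3⟩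
  let F : K → Finset K := fun u => N.filter fun x => x * u = u * x
  have hFinv : ∀ {u}, u ∈ N → ∃ a c, Loc Z u a c ∧ F u = {u, a, a * u} ∧ ({u, a, a * u} : Finset K).card = 3 := by
    intro u hu
    obtain ⟨h2, h1, hn⟩ := hNmem.1 hu
    obtain ⟨a, c, L⟩ := D.loc u h2 h1 hn
    have hne : a * u ≠ a ∧ a * u ≠ u ∧ a * u ≠ 1 :=
      ⟨fun e => h1 (mul_eq_left.1 e), fun e => L.a1 (mul_eq_right.1 e), fun e =>
        L.au ((eq_inv_of_mul_eq_one_left e).trans (inv_eq_of_mul_eq_one_right h2))⟩
    refine ⟨a, c, L, ?_, ?_⟩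
    · ext x
      simp only [F, Finset.mem_filter, Finset.mem_insert, Finset.mem_singleton]
      constructor
      · rintro ⟨hx, hxu⟩
        obtain ⟨k2, k1, kn⟩ := hNmem.1 hx
        rcases D.inv_cent L h2 h1 hn hxu k2 k1 with ⟨h, -⟩ | ⟨-, h⟩
        · exact h
        · exact absurd h kn
      · have hua : Commute u a := L.ua
        rintro (rfl | rfl | rfl)
        · exact ⟨hu, rfl⟩
        · exact ⟨hNmem.2 ⟨L.aa, L.a1, L.hna⟩, L.ua.symm⟩
        · have e2 : a * u * (a * u) = 1 := by rw [hua.symm.symm.mul_mul_mul_comm, L.aa, h2, one_mul]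
          have e3 : a * u * u = u * (a * u) := (hua.mul_right (Commute.refl u)).symm.eq
          exact ⟨hNmem.2 ⟨e2, hne.2.2, D.au_not L⟩, e3⟩
    · rw [Finset.card_insert_of_notMem, Finset.card_insert_of_notMem, Finset.card_singleton]
      · simpa using Ne.symm hne.1
      · simp only [Finset.mem_insert, Finset.mem_singleton, not_or]
        exact ⟨L.au.symm, hne.2.1.symm⟩
  have hblock : ∀ {u}, u ∈ N → ∀ {v}, v ∈ F u → v ∈ N ∧ F v = F u := by
    intro u hu v hv
    obtain ⟨a, c, L, hF, hc⟩ := hFinv hu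
    have hvN : v ∈ N := (Finset.mem_filter.1 hv).1
    refine ⟨hvN, ?_⟩
    obtain ⟨a', c', L', hF', hc'⟩ := hFinv hvN
    have hua : Commute u a := L.ua
    refine (Finset.eq_of_subset_of_card_le (fun x hx => ?_) (by rw [hF, hF', hc, hc'])).symm
    refine Finset.mem_filter.2 ⟨(Finset.mem_filter.1 hx).1, ?_⟩
    rw [hF] at hx hv
    simp only [Finset.mem_insert, Finset.mem_singleton] at hx hv
    have c1 : Commute u (a * u) := hua.mul_right (Commute.refl u)
    have c2 : Commute a (a * u) := (Commute.refl a).mul_right hua.symm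
    rcases hx with rfl | rfl | rfl <;> rcases hv with rfl | rfl | rfl
    exacts [rfl, hua.eq, c1.eq, hua.symm.eq, rfl, c2.eq, c1.symm.eq, c2.symm.eq, rfl]
  set B := N.image F with hB
  have hcard3 : ∀ b ∈ B, (N.filter fun x => F x = b).card = 3 := by
    intro b hb
    obtain ⟨u, hu, rfl⟩ := Finset.mem_image.1 hb
    obtain ⟨a, c, L, hF, hc⟩ := hFinv hu
    rw [← hc, ← hF]
    congr 1
    ext x
    simp only [Finset.mem_filter]
    constructor
    · rintro ⟨hx, e⟩
      obtain ⟨a', c', L', hF', -⟩ := hFinv hx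
      exact (show x ∈ F u by rw [← e, hF']; simp)
    · intro h
      exact hblock hu h
  have hB5 : B.card = 5 := by
    have h1 := Finset.card_eq_sum_card_fiberwise (f := F) (s := N) (t := B) fun x hx => Finset.mem_image_of_mem _ hx
    rw [Finset.sum_congr rfl hcard3, Finset.sum_const, smul_eq_mul] at h1
    obtain ⟨a, c, L⟩ := D.loc _ hu0 hu01 D.hsz
    have h2 := card_eq_class_mul (s * z)
    rw [D.card_eq_120, loc_card L hu0 hu01, ← hN, h1] at h2
    omega
  -- the action on the blocks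
  have hFconj : ∀ g u, (F u).image (fun x => g * x * g⁻¹) = F (g * u * g⁻¹) := by
    intro g u
    ext y
    simp only [F, Finset.mem_image, Finset.mem_filter]
    constructor
    · rintro ⟨x, ⟨hx, e⟩, rfl⟩
      refine ⟨?_, ?_⟩
      · rw [hN, Finset.mem_filter] at hx ⊢
        exact ⟨Finset.mem_univ _, hx.2.trans (isConj_iff.2 ⟨g, rfl⟩)⟩
      · rw [conj_mul, conj_mul, e]
    · rintro ⟨hy, e⟩
      refine ⟨g⁻¹ * y * g, ⟨?_, ?_⟩, by group⟩
      · rw [hN, Finset.mem_filter] at hy ⊢
        exact ⟨Finset.mem_univ _, hy.2.trans (isConj_iff.2 ⟨g⁻¹, by group⟩)⟩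
      · calc g⁻¹ * y * g * u = g⁻¹ * (y * (g * u * g⁻¹)) * g := by group
          _ = _ := by rw [e]; group
  have hcm : ∀ g, ∀ b ∈ B, b.image (fun x => g * x * g⁻¹) ∈ B := by
    intro g b hb
    obtain ⟨u, hu, rfl⟩ := Finset.mem_image.1 hb
    rw [hFconj]
    refine Finset.mem_image_of_mem _ ?_
    rw [hN, Finset.mem_filter] at hu ⊢
    exact ⟨Finset.mem_univ _, hu.2.trans (isConj_iff.2 ⟨g, rfl⟩)⟩
  letI : MulAction K ↥B :=
    { smul := fun g b => ⟨b.1.image (fun x => g * x * g⁻¹), hcm g b.1 b.2⟩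
      one_smul := fun b => Subtype.ext (by show b.1.image _ = b.1; simp)
      mul_smul := fun g h b => Subtype.ext (by
        show b.1.image _ = (b.1.image _).image _
        rw [Finset.image_image]
        exact Finset.image_congr fun x _ => by simp [mul_assoc]) }
  let φ := MulAction.toPermHom K ↥B
  have hker : ∀ g, φ g = 1 → ∀ u ∈ N, g * u * g⁻¹ ∈ F u := by
    intro g hg u hu
    have h : g • (⟨F u, Finset.mem_image_of_mem _ hu⟩ : ↥B) = ⟨F u, Finset.mem_image_of_mem _ hu⟩ :=
      Equiv.Perm.ext_iff.1 hg _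
    have h' : (F u).image (fun x => g * x * g⁻¹) = F u := congrArg Subtype.val h
    rw [← h']
    exact Finset.mem_image_of_mem _ (Finset.mem_filter.2 ⟨hu, rfl⟩)
  -- an involution moves a block
  have hinvol : ∀ g, g * g = 1 → g ≠ 1 → φ g ≠ 1 := by
    intro g h2 h1 hg
    have hfix : ∀ b ∈ B, ∃ v ∈ b, v ∈ N ∧ g * v = v * g ∧ F v = b := by
      intro b hb
      obtain ⟨u, hu, rfl⟩ := Finset.mem_image.1 hb
      obtain ⟨a, c, L, hF, hc3⟩ := hFinv hu
      have hu' := hker g hg u hu
      by_cases hgu : g * u * g⁻¹ = u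
      · exact ⟨u, Finset.mem_filter.2 ⟨hu, rfl⟩, hu, mul_inv_eq_iff_eq_mul.1 hgu, rfl⟩
      have hmap : ∀ x ∈ F u, g * x * g⁻¹ ∈ F u := fun x hx => by
        have h := hker g hg x (hblock hu hx).1
        rwa [(hblock hu hx).2] at h
      have hgg : ∀ x, g * (g * x * g⁻¹) * g⁻¹ = x := fun x => by
        rw [show g * (g * x * g⁻¹) * g⁻¹ = g * g * x * (g * g)⁻¹ by group, h2]; group
      obtain ⟨v, hv, hv1, hv2⟩ : ∃ v ∈ F u, v ≠ u ∧ v ≠ g * u * g⁻¹ := by
        by_contra hall
        push Not at hall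
        have hle : F u ⊆ {u, g * u * g⁻¹} := fun x hx => by
          simp only [Finset.mem_insert, Finset.mem_singleton]
          by_cases hxu : x = u
          · exact Or.inl hxu
          · exact Or.inr (hall x hx hxu)
        have := (Finset.card_le_card hle).trans Finset.card_le_two
        rw [hF, hc3] at this
        omega
      refine ⟨v, hv, (hblock hu hv).1, mul_inv_eq_iff_eq_mul.1 ?_, (hblock hu hv).2⟩
      by_contra hgv
      have h4 : g * v * g⁻¹ ≠ u := fun e => hv2 (by rw [← e, hgg])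
      have h5 : g * v * g⁻¹ ≠ g * u * g⁻¹ := fun e => hv1 (mul_left_cancel (mul_right_cancel e))
      have hle : ({u, g * u * g⁻¹, v, g * v * g⁻¹} : Finset K) ⊆ F u := by
        intro x hx
        simp only [Finset.mem_insert, Finset.mem_singleton] at hx
        rcases hx with rfl | rfl | rfl | rfl
        exacts [Finset.mem_filter.2 ⟨hu, rfl⟩, hu', hv, hmap v hv]
      have h6 := Finset.card_le_card hle
      rw [hF, hc3, Finset.card_insert_of_notMem (by simp [Ne.symm hgu, hv1.symm, h4.symm]),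
        Finset.card_insert_of_notMem (by simp [hv2.symm, h5.symm]),
        Finset.card_insert_of_notMem (by simp [Ne.symm hgv]), Finset.card_singleton] at h6
      omega
    choose v hv hvN hgv hFv using hfix
    by_cases hgN : g ∈ N
    · have hall : ∀ b, ∀ hb : b ∈ B, b = F g := fun b hb => by
        have h : v b hb ∈ F g := Finset.mem_filter.2 ⟨hvN b hb, (hgv b hb).symm⟩
        rw [← hFv b hb]
        exact (hblock hgN h).2
      have : B.card ≤ 1 := Finset.card_le_one.2 fun b hb b' hb' => (hall b hb).trans (hall b' hb').symm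
      omega
    · have hZ : Z g := by
        by_contra hZ
        exact hgN (hNmem.2 ⟨h2, h1, hZ⟩)
      obtain ⟨k, rfl⟩ := isConj_iff.1 ((D.class_iff g).1 hZ)
      have hin : ∀ b (hb : b ∈ B), ∃ j : Fin 3, v b hb = k * (w ^ j.1 * s * z) * k⁻¹ := by
        intro b hb
        obtain ⟨e2, e1, en⟩ := hNmem.1 (hvN b hb)
        have e3 : k⁻¹ * v b hb * k * z = z * (k⁻¹ * v b hb * k) := by
          calc k⁻¹ * v b hb * k * z = k⁻¹ * (v b hb * (k * z * k⁻¹)) * k := by group
            _ = _ := by rw [← hgv b hb]; group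
        have e4 : k⁻¹ * v b hb * k * (k⁻¹ * v b hb * k) = 1 := by
          rw [show k⁻¹ * v b hb * k * (k⁻¹ * v b hb * k) = k⁻¹ * (v b hb * v b hb) * k by group, e2]; group
        have e5 : k⁻¹ * v b hb * k ≠ 1 := fun e => e1 (by
          rw [show v b hb = k * (k⁻¹ * v b hb * k) * k⁻¹ by group, e]; group)
        have e6 : ¬ Z (k⁻¹ * v b hb * k) := fun h => en (by
          have := D.inv _ k h
          rwa [show k * (k⁻¹ * v b hb * k) * k⁻¹ = v b hb by group] at this)
        rcases D.inv_cent_z e3 e4 e5 with h | ⟨j, h⟩ | ⟨j, h⟩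
        · exact absurd (h ▸ D.hz) e6
        · exact absurd (h ▸ D.Z_ws _) e6
        · exact ⟨j, by rw [← h]; group⟩
      choose j hj using hin
      have hle : B.card ≤ 3 := by
        have := Finset.card_le_card_of_injOn (s := B.attach) (t := (Finset.univ : Finset (Fin 3)))
          (fun b => j b.1 b.2) (fun _ _ => Finset.mem_univ _) fun b _ b' _ e => Subtype.ext (by
            rw [← hFv b.1 b.2, ← hFv b'.1 b'.2, hj b.1 b.2, hj b'.1 b'.2, show j b.1 b.2 = j b'.1 b'.2 from e])
        simpa using this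
      omega
  -- the kernel is trivial
  have hinj : Function.Injective φ := by
    rw [← MonoidHom.ker_eq_bot_iff]
    by_contra hne
    haveI : Nontrivial ↥φ.ker := (Subgroup.nontrivial_iff_ne_bot _).2 hne
    obtain ⟨g, hg1⟩ := exists_ne (1 : ↥φ.ker)
    have hg1' : (g : K) ≠ 1 := fun e => hg1 (Subtype.ext e)
    have hodd : ¬ 2 ∣ Nat.card ↥φ.ker := fun h => by
      obtain ⟨y, hy⟩ := exists_prime_orderOf_dvd_card' (G := ↥φ.ker) 2 h
      exact hinvol y (congrArg Subtype.val (Dihedral.mul_self hy)) (fun e => Dihedral.ne_one hy (Subtype.ext e)) y.2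
    have hnot : ∀ u ∈ N, ∀ x : ↥φ.ker, x ≠ 1 → ¬ Commute (x : K) u := by
      intro u hu x hx h
      obtain ⟨a', c', L', -, -⟩ := hFinv hu
      have hmem : (x : K) ∈ Subgroup.centralizer ({u} : Set K) := Subgroup.mem_centralizer_singleton_iff.2 h.eq
      have h8 : orderOf x ∣ 2 ^ 3 := by
        rw [← Subgroup.orderOf_coe, ← Subgroup.orderOf_mk _ hmem, show 2 ^ 3 = 8 by norm_num, ← (loc_card L' (hNmem.1 hu).1 (hNmem.1 hu).2.1)]
        exact orderOf_dvd_natCard _
      obtain ⟨i, hi, e⟩ := (Nat.dvd_prime_pow Nat.prime_two).1 h8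
      cases i with
      | zero => exact hx (orderOf_eq_one_iff.1 (by rw [e, pow_zero]))
      | succ i =>
        exact hodd ((dvd_pow_self 2 (Nat.succ_ne_zero i)).trans (e ▸ orderOf_dvd_natCard x))
    -- a fixed-point-free involution inverts
    have hinvert : ∀ u ∈ N, u * (g : K) * u⁻¹ = (g : K)⁻¹ := by
      intro u hu
      have hu2 := (hNmem.1 hu).1
      let f : ↥φ.ker → ↥φ.ker := fun x =>
        x⁻¹ * ⟨u * (x : K) * u⁻¹, (MonoidHom.normal_ker φ).conj_mem _ x.2 u⟩
      have hf : Function.Injective f := by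
        intro x y e
        have e' : (x : K)⁻¹ * (u * (x : K) * u⁻¹) = (y : K)⁻¹ * (u * (y : K) * u⁻¹) := congrArg Subtype.val e
        by_contra hxy
        refine hnot u hu (y * x⁻¹) (fun h => hxy (mul_inv_eq_one.1 h).symm) ?_
        refine Commute.symm (mul_inv_eq_iff_eq_mul.1 ?_)
        show u * ((y : K) * (x : K)⁻¹) * u⁻¹ = (y : K) * (x : K)⁻¹
        calc u * ((y : K) * (x : K)⁻¹) * u⁻¹ = (y : K) * ((y : K)⁻¹ * (u * (y : K) * u⁻¹)) * (u * (x : K) * u⁻¹)⁻¹ := by
              group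
          _ = _ := by rw [← e']; group
      obtain ⟨x, hx⟩ := (Finite.injective_iff_surjective.1 hf) g
      have hx' : (x : K)⁻¹ * (u * (x : K) * u⁻¹) = g := congrArg Subtype.val hx
      rw [← hx', inv_eq_of_mul_eq_one_right hu2]
      calc u * ((x : K)⁻¹ * (u * (x : K) * u)) * u = u * (x : K)⁻¹ * u * (x : K) * (u * u) := by group
        _ = _ := by
          rw [hu2, mul_one, mul_inv_rev, inv_inv, mul_inv_rev, mul_inv_rev, inv_eq_of_mul_eq_one_right hu2]
          group
    have hN0 : s * z ∈ N := hNmem.2 ⟨hu0, hu01, D.hsz⟩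
    obtain ⟨a', c', L', hF, -⟩ := hFinv hN0
    have haN : a' ∈ N := hNmem.2 ⟨L'.aa, L'.a1, L'.hna⟩
    have hauN : a' * (s * z) ∈ N := (hblock hN0 (show a' * (s * z) ∈ F (s * z) by rw [hF]; simp)).1
    refine hnot _ hauN g hg1 (Commute.symm (mul_inv_eq_iff_eq_mul.1 ?_))
    calc a' * (s * z) * (g : K) * (a' * (s * z))⁻¹ = a' * (s * z * (g : K) * (s * z)⁻¹) * a'⁻¹ := by group
      _ = (a' * (g : K) * a'⁻¹)⁻¹ := by rw [hinvert _ hN0]; group
      _ = g := by rw [hinvert _ haN, inv_inv]
  have hcard : Nat.card (Equiv.Perm ↥B) = 120 := by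
    rw [Nat.card_perm, Nat.card_eq_fintype_card, Fintype.card_coe, hB5]
    rfl
  have hbij : Function.Bijective φ := (Nat.bijective_iff_injective_and_card φ).2 ⟨hinj, by rw [hcard, D.card_eq_120]⟩
  exact ⟨(MulEquiv.ofBijective φ hbij).trans ((Fintype.equivFinOfCardEq (by rw [Fintype.card_coe, hB5])).permCongrHom)⟩

end Data

end CfsgLib.Involution.SymFive
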