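import Mathlib

/-!
# Automorphisms of odd order of doubly transitive groups

If an automorphism `α` of odd order of a doubly transitive group moves a point stabilizer to a subgroup
with an orbit of length coprime to the degree, then it moves it to a point stabilizer.
The proof uses the incidence matrices of the orbits on pairs, twisted by `α` and `α²`.
-/

set_option autoImplicit false

open MulAction

namespace CfsgLib.Involution.TwistedPairs

variable {G : Type*} [Group G] {Ω : Type*} [MulAction G Ω]

/-- Pairs, with the action twisted by `β` in the first coordinate. -/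
@[ext] structure Pair (β : MulAut G) (Ω : Type*) where
  fst : Ω
  snd : Ω

/-- The underlying pair. -/
def Pair.equiv (β : MulAut G) : Pair β Ω ≃ Ω × Ω where
  toFun p := (p.fst, p.snd)
  invFun p := ⟨p.1, p.2⟩
  left_inv _ := rfl
  right_inv _ := rfl

instance (β : MulAut G) : MulAction G (Pair β Ω) where
  smul g p := ⟨β g • p.fst, g • p.snd⟩
  one_smul p := by
    show (⟨β 1 • p.fst, (1 : G) • p.snd⟩ : Pair β Ω) = p
    rw [map_one, one_smul, one_smul]
  mul_smul g h p := by
    show (⟨β (g * h) • p.fst, (g * h) • p.snd⟩ : Pair β Ω) = ⟨β g • β h • p.fst, g • h • p.snd⟩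
    rw [map_mul, mul_smul, mul_smul]

theorem pair_smul (β : MulAut G) (g : G) (p : Pair β Ω) : g • p = ⟨β g • p.fst, g • p.snd⟩ := rfl

instance [Finite Ω] (β : MulAut G) : Finite (Pair β Ω) := Finite.of_equiv _ (Pair.equiv β).symm

/-- The number of fixed points. -/
noncomputable def fixN (g : G) (Ω : Type*) [MulAction G Ω] : ℤ := Nat.card (fixedBy Ω g)

variable [Fintype G] [Fintype Ω]

theorem sum_fix (β : MulAut G) :
    ∑ g : G, fixN (β g) Ω * fixN g Ω =
      (Nat.card (orbitRel.Quotient G (Pair β Ω)) : ℤ) * Fintype.card G := by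
  classical
  haveI := Fintype.ofFinite (Pair β Ω)
  haveI := Fintype.ofFinite (orbitRel.Quotient G (Pair β Ω))
  have h : (∑ g : G, Fintype.card (fixedBy (Pair β Ω) g))
      = Fintype.card (orbitRel.Quotient G (Pair β Ω)) * Fintype.card G :=
    sum_card_fixedBy_eq_card_orbits_mul_card_group G (Pair β Ω)
  rw [Nat.card_eq_fintype_card, ← Nat.cast_mul, ← h, Nat.cast_sum]
  refine Finset.sum_congr rfl fun g _ => ?_
  rw [fixN, fixN, ← Nat.cast_mul, ← Nat.card_eq_fintype_card, ← Nat.card_prod]
  congr 1
  exact (Nat.card_congr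
    { toFun := fun p => (⟨p.1.fst, congrArg Pair.fst p.2⟩, ⟨p.1.snd, congrArg Pair.snd p.2⟩)
      invFun := fun p => ⟨⟨p.1, p.2⟩, Pair.ext p.1.2 p.2.2⟩
      left_inv := fun p => rfl
      right_inv := fun p => rfl }).symm

variable (h2 : IsMultiplyPretransitive G Ω 2)
include h2

theorem pretrans : IsPretransitive G Ω :=
  isPretransitive_of_is_two_pretransitive (G := G) (α := Ω)

theorem card_orbits_one (hn : 1 < Fintype.card Ω) :
    Nat.card (orbitRel.Quotient G (Pair (1 : MulAut G) Ω)) = 2 := by
  classical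
  obtain ⟨a, b, hab⟩ := Fintype.exists_pair_of_one_lt_card hn
  rw [Nat.card_eq_two_iff]
  refine ⟨Quotient.mk'' ⟨a, a⟩, Quotient.mk'' ⟨a, b⟩, ?_, ?_⟩
  · intro h
    obtain ⟨g, hg⟩ := Quotient.eq''.1 h
    have h1 : g • a = a := congrArg Pair.fst hg
    have h2' : g • b = a := congrArg Pair.snd hg
    exact hab (MulAction.injective g (h1.trans h2'.symm))
  · refine Set.eq_univ_of_forall fun x => ?_
    induction x using Quotient.inductionOn' with
    | h p =>
      obtain ⟨c, d⟩ := p
      by_cases hcd : c = d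
      · subst hcd
        haveI := pretrans h2
        obtain ⟨g, hg⟩ := exists_smul_eq G a c
        refine Or.inl (Quotient.eq''.2 ⟨g, ?_⟩)
        exact Pair.ext hg hg
      · obtain ⟨g, hg1, hg2⟩ := is_two_pretransitive_iff.1 h2 hab hcd
        refine Or.inr (Quotient.eq''.2 ⟨g, ?_⟩)
        exact Pair.ext hg1 hg2

theorem sum_sq (hn : 1 < Fintype.card Ω) (β : MulAut G) :
    ∑ g : G, fixN (β g) Ω * fixN (β g) Ω = 2 * Fintype.card G := by
  have h := sum_fix (Ω := Ω) (1 : MulAut G)
  rw [card_orbits_one h2 hn] at h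
  rw [Nat.cast_ofNat] at h
  rw [← h]
  exact Fintype.sum_equiv β.toEquiv _ _ fun g => rfl

theorem sum_diff (hn : 1 < Fintype.card Ω) (β : MulAut G) :
    ∑ g : G, (fixN (β g) Ω - fixN g Ω) * (fixN (β g) Ω - fixN g Ω) =
      (4 - 2 * (Nat.card (orbitRel.Quotient G (Pair β Ω)) : ℤ)) * Fintype.card G := by
  have h1 : ∑ g : G, fixN g Ω * fixN g Ω = 2 * Fintype.card G := sum_sq h2 hn 1
  have e : ∀ g : G, (fixN (β g) Ω - fixN g Ω) * (fixN (β g) Ω - fixN g Ω) =
      fixN (β g) Ω * fixN (β g) Ω + fixN g Ω * fixN g Ω - 2 * (fixN (β g) Ω * fixN g Ω) := fun g => by ring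
  rw [Finset.sum_congr rfl fun g _ => e g, Finset.sum_sub_distrib, Finset.sum_add_distrib, ← Finset.mul_sum,
    sum_sq h2 hn β, h1, sum_fix]
  ring

theorem card_orbits_le (hn : 1 < Fintype.card Ω) (β : MulAut G) :
    Nat.card (orbitRel.Quotient G (Pair β Ω)) ≤ 2 := by
  have h := sum_diff h2 hn β
  have h0 : 0 ≤ ∑ g : G, (fixN (β g) Ω - fixN g Ω) * (fixN (β g) Ω - fixN g Ω) :=
    Finset.sum_nonneg fun g _ => mul_self_nonneg _
  rw [h] at h0
  have := nonneg_of_mul_nonneg_left h0 (by exact_mod_cast Fintype.card_pos)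
  omega

theorem inv_of_two (hn : 1 < Fintype.card Ω) (β : MulAut G)
    (hc : Nat.card (orbitRel.Quotient G (Pair β Ω)) = 2) (g : G) : fixN (β g) Ω = fixN g Ω := by
  have h := sum_diff h2 hn β
  rw [hc, Nat.cast_ofNat, show (4 : ℤ) - 2 * 2 = 0 by norm_num, zero_mul,
    Finset.sum_eq_zero_iff_of_nonneg fun g _ => mul_self_nonneg _] at h
  exact sub_eq_zero.1 (mul_self_eq_zero.1 (h g (Finset.mem_univ g)))

theorem two_of_inv (hn : 1 < Fintype.card Ω) (β : MulAut G) (h : ∀ g, fixN (β g) Ω = fixN g Ω) :
    Nat.card (orbitRel.Quotient G (Pair β Ω)) = 2 := by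
  have h1 := sum_diff h2 hn β
  rw [Finset.sum_eq_zero (fun g _ => by rw [h g, sub_self, mul_zero])] at h1
  rcases mul_eq_zero.1 h1.symm with h' | h'
  · omega
  · exact absurd h' (by exact_mod_cast Fintype.card_pos.ne')

/-- Incidence matrix of the orbit of a pair. -/
noncomputable def inc (β : MulAut G) (p : Pair β Ω) (x y : Ω) : ℤ := by
  classical exact if (⟨x, y⟩ : Pair β Ω) ∈ orbit G p then 1 else 0

omit h2 in
theorem mk_eq_iff {X : Type*} [MulAction G X] (u v : X) :
    (Quotient.mk'' u : orbitRel.Quotient G X) = Quotient.mk'' v ↔ u ∈ orbit G v := Quotient.eq''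

omit h2 in
theorem inc_smul (β : MulAut G) (p : Pair β Ω) (g : G) (x y : Ω) :
    inc β p (β g • x) (g • y) = inc β p x y := by
  have : (⟨β g • x, g • y⟩ : Pair β Ω) ∈ orbit G p ↔ (⟨x, y⟩ : Pair β Ω) ∈ orbit G p := by
    rw [show (⟨β g • x, g • y⟩ : Pair β Ω) = g • (⟨x, y⟩ : Pair β Ω) from rfl]
    rw [← orbit_eq_iff, ← orbit_eq_iff, orbit_smul]
  simp only [inc]
  split_ifs <;> simp_all

/-- An invariant function on pairs is a combination of the incidence matrix and the all-ones matrix. -/
theorem exists_coeff (hn : 1 < Fintype.card Ω) (β : MulAut G) (hinv : ∀ g, fixN (β g) Ω = fixN g Ω)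
    (p : Pair β Ω) (f : Ω → Ω → ℤ) (hf : ∀ g x y, f (β g • x) (g • y) = f x y) :
    ∃ a b : ℤ, ∀ x y, f x y = a * inc β p x y + b := by
  classical
  obtain ⟨c, d, hcd, huniv⟩ := Nat.card_eq_two_iff.1 (two_of_inv h2 hn β hinv)
  obtain ⟨q, hq⟩ : ∃ q : Pair β Ω, (Quotient.mk'' q : orbitRel.Quotient G (Pair β Ω)) ≠ Quotient.mk'' p := by
    by_cases h : c = Quotient.mk'' p
    · induction d using Quotient.inductionOn' with
      | h q => exact ⟨q, fun e => hcd (h.trans e.symm)⟩
    · induction c using Quotient.inductionOn' with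
      | h q => exact ⟨q, h⟩
  refine ⟨f p.fst p.snd - f q.fst q.snd, f q.fst q.snd, fun x y => ?_⟩
  have hconst : ∀ r : Pair β Ω, (⟨x, y⟩ : Pair β Ω) ∈ orbit G r → f x y = f r.fst r.snd := by
    rintro r ⟨g, hg⟩
    have e1 : β g • r.fst = x := congrArg Pair.fst hg
    have e2 : g • r.snd = y := congrArg Pair.snd hg
    rw [← e1, ← e2, hf]
  simp only [inc]
  by_cases hp : (⟨x, y⟩ : Pair β Ω) ∈ orbit G p
  · rw [if_pos hp, hconst p hp]
    ring
  · rw [if_neg hp, mul_zero, zero_add]
    refine hconst q ((mk_eq_iff _ _).1 ?_)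
    have hne : (Quotient.mk'' (⟨x, y⟩ : Pair β Ω) : orbitRel.Quotient G (Pair β Ω)) ≠ Quotient.mk'' p :=
      fun e => hp ((mk_eq_iff _ _).1 e)
    have hx : ∀ z : orbitRel.Quotient G (Pair β Ω), z = c ∨ z = d := fun z => by
      have := huniv ▸ Set.mem_univ z
      simpa using this
    rcases hx (Quotient.mk'' (⟨x, y⟩ : Pair β Ω)) with e1 | e1 <;> rcases hx (Quotient.mk'' q) with e2 | e2 <;>
      rcases hx (Quotient.mk'' p) with e3 | e3 <;> simp_all

theorem colSum_const (β : MulAut G) (p : Pair β Ω) (y z : Ω) :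
    ∑ x, inc β p x y = ∑ x, inc β p x z := by
  haveI := pretrans h2
  obtain ⟨g, rfl⟩ := exists_smul_eq G y z
  exact Fintype.sum_equiv (toPerm (β g)) _ _ fun x => (inc_smul β p g x y).symm

theorem rowSum_const (β : MulAut G) (p : Pair β Ω) (x z : Ω) :
    ∑ y, inc β p x y = ∑ y, inc β p z y := by
  haveI := pretrans h2
  obtain ⟨g, rfl⟩ := exists_smul_eq G x z
  refine Fintype.sum_equiv (toPerm (β.symm g)) _ _ fun y => ?_
  have h := inc_smul β p (β.symm g) x y
  rw [β.apply_symm_apply] at h
  exact h.symm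

theorem rowSum_eq (hn : 1 < Fintype.card Ω) (β : MulAut G) (p : Pair β Ω) {k : ℤ} {o : Ω}
    (hk : ∑ x, inc β p x o = k) (x : Ω) : ∑ y, inc β p x y = k := by
  have h1 : ∑ x', ∑ y, inc β p x' y = Fintype.card Ω * ∑ y, inc β p x y := by
    rw [Finset.sum_congr rfl fun x' _ => rowSum_const h2 β p x' x]
    simp
  rw [Finset.sum_comm, Finset.sum_congr rfl fun y _ => (colSum_const h2 β p y o).trans hk,
    Finset.sum_const, Finset.card_univ, nsmul_eq_mul] at h1
  exact (mul_left_cancel₀ (by exact_mod_cast (by omega : Fintype.card Ω ≠ 0)) h1).symm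

omit h2 in
theorem inc_sq (β : MulAut G) (p : Pair β Ω) (x y : Ω) : inc β p x y * inc β p x y = inc β p x y := by
  simp only [inc]
  split_ifs <;> ring

/-- `M Mᵀ` and `Mᵀ M` are `m I + l J`, where `M` has all row and column sums `k`. -/
theorem gram [DecidableEq Ω] (hn : 1 < Fintype.card Ω) (β : MulAut G) (p : Pair β Ω) {k : ℤ} {o : Ω}
    (hk : ∑ x, inc β p x o = k) :
    ∃ l : ℤ, l * (Fintype.card Ω - 1) = k * (k - 1) ∧
      (∀ x x', ∑ y, inc β p x y * inc β p x' y = if x' = x then k else l) ∧
      ∀ y y', ∑ x, inc β p x y * inc β p x y' = if y' = y then k else l := by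
  classical
  haveI := pretrans h2
  obtain ⟨a, b, hab⟩ := Fintype.exists_pair_of_one_lt_card hn
  have hcol : ∀ y, ∑ x, inc β p x y = k := fun y => (colSum_const h2 β p y o).trans hk
  have hrow := rowSum_eq h2 hn β p hk
  set l₁ := ∑ y, inc β p a y * inc β p b y
  set l₂ := ∑ x, inc β p x a * inc β p x b
  have hr : ∀ x x', ∑ y, inc β p x y * inc β p x' y = if x' = x then k else l₁ := by
    intro x x'
    split_ifs with h
    · subst h
      rw [Finset.sum_congr rfl fun y _ => inc_sq β p x' y, hrow]
    · obtain ⟨g, rfl, rfl⟩ := is_two_pretransitive_iff.1 h2 hab (Ne.symm h)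
      refine (Fintype.sum_equiv (toPerm (β.symm g)) _ _ fun y => ?_).symm
      have h₁ := inc_smul β p (β.symm g) a y
      have h₂ := inc_smul β p (β.symm g) b y
      rw [β.apply_symm_apply] at h₁ h₂
      rw [toPerm_apply, h₁, h₂]
  have hc : ∀ y y', ∑ x, inc β p x y * inc β p x y' = if y' = y then k else l₂ := by
    intro y y'
    split_ifs with h
    · subst h
      rw [Finset.sum_congr rfl fun x _ => inc_sq β p x y', hcol]
    · obtain ⟨g, rfl, rfl⟩ := is_two_pretransitive_iff.1 h2 hab (Ne.symm h)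
      exact (Fintype.sum_equiv (toPerm (β g)) _ _ fun x => by
        rw [toPerm_apply, inc_smul, inc_smul]).symm
  have hl₁ : l₁ * (Fintype.card Ω - 1) = k * (k - 1) := by
    have e : ∑ x', ∑ y, inc β p a y * inc β p x' y = k * k := by
      rw [Finset.sum_comm, Finset.sum_congr rfl fun y _ => show ∑ x', inc β p a y * inc β p x' y = inc β p a y * k by
        rw [← Finset.mul_sum, hcol], ← Finset.sum_mul, hrow]
    rw [Finset.sum_congr rfl fun x' _ => (hr a x').trans
      (show (if x' = a then k else l₁) = (if x' = a then k - l₁ else 0) + l₁ by split_ifs <;> ring),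
      Finset.sum_add_distrib, Finset.sum_ite_eq'] at e
    simp at e
    linear_combination e
  have hl₂ : l₂ * (Fintype.card Ω - 1) = k * (k - 1) := by
    have e : ∑ y', ∑ x, inc β p x a * inc β p x y' = k * k := by
      rw [Finset.sum_comm, Finset.sum_congr rfl fun x _ => show ∑ y', inc β p x a * inc β p x y' = inc β p x a * k by
        rw [← Finset.mul_sum, hrow], ← Finset.sum_mul, hcol]
    rw [Finset.sum_congr rfl fun y' _ => (hc a y').trans
      (show (if y' = a then k else l₂) = (if y' = a then k - l₂ else 0) + l₂ by split_ifs <;> ring),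
      Finset.sum_add_distrib, Finset.sum_ite_eq'] at e
    simp at e
    linear_combination e
  have hll : l₂ = l₁ := mul_right_cancel₀
    (sub_ne_zero.2 (by exact_mod_cast (by omega : Fintype.card Ω ≠ 1))) (hl₂.trans hl₁.symm)
  exact ⟨l₁, hl₁, hr, hll ▸ hc⟩

/-- `α(G_o)` is a point stabilizer. -/
def IsStab (β : MulAut G) (o : Ω) : Prop :=
  ∃ w : Ω, ∀ g : G, g • o = o ↔ β g • w = w

theorem isStab_mul {β γ : MulAut G} {o : Ω} (hβ : IsStab β o) (hγ : IsStab γ o) : IsStab (β * γ) o := by
  obtain ⟨w, hw⟩ := hγ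
  obtain ⟨v, hv⟩ := hβ
  haveI := pretrans h2
  obtain ⟨t, rfl⟩ := exists_smul_eq G o w
  refine ⟨β t • v, fun g => ?_⟩
  rw [hw, show γ g • t • o = t • o ↔ (t⁻¹ * γ g * t) • o = o by rw [mul_smul, mul_smul, inv_smul_eq_iff],
    hv, MulAut.mul_apply, map_mul, map_mul, map_inv, mul_smul, mul_smul, inv_smul_eq_iff]

theorem isStab_pow {β : MulAut G} {o : Ω} (h : IsStab β o) (j : ℕ) : IsStab (β ^ j) o := by
  induction j with
  | zero => exact ⟨o, fun g => Iff.rfl⟩
  | succ j ih => rw [pow_succ]; exact isStab_mul h2 ih h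

theorem stab_orbit (hn : 1 < Fintype.card Ω) (o ω : Ω) (β : MulAut G) :
    (∑ x, inc β ⟨ω, o⟩ x o : ℤ) = Nat.card (orbit ((stabilizer G o).map β.toMonoidHom) ω) := by
  classical
  haveI := Fintype.ofFinite (orbit ((stabilizer G o).map β.toMonoidHom) ω)
  rw [Nat.card_eq_fintype_card, Fintype.card_subtype]
  simp only [inc, Finset.sum_boole]
  congr 2
  refine Finset.filter_congr fun x _ => ?_
  constructor
  · rintro ⟨g, hg⟩
    exact ⟨⟨β g, g, congrArg Pair.snd hg, rfl⟩, congrArg Pair.fst hg⟩
  · rintro ⟨⟨_, g, hg, rfl⟩, hx⟩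
    exact ⟨g, Pair.ext hx hg⟩

/-- A fixed point of `β(G_o)` means that it is a point stabilizer. -/
theorem isStab_of_fixed {o : Ω} {β : MulAut G} (w : Ω) (h : ∀ g : G, g • o = o → β g • w = w) : IsStab β o := by
  haveI := pretrans h2
  refine ⟨w, fun g => ⟨h g, ?_⟩⟩
  have hle : (stabilizer G o).map β.toMonoidHom ≤ stabilizer G w := by
    rintro _ ⟨g, hg, rfl⟩
    exact h g hg
  have heq := Subgroup.eq_of_le_of_card_ge hle (by
    rw [Subgroup.card_map_of_injective β.injective]
    obtain ⟨t, rfl⟩ := exists_smul_eq G o w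
    exact (Nat.card_congr (stabilizerEquivStabilizer (g := t) rfl).toEquiv).ge)
  intro hg
  obtain ⟨g', hg', e⟩ := heq.ge (show β g ∈ stabilizer G w from hg)
  exact β.injective e ▸ hg'

set_option maxHeartbeats 1000000 in
theorem isStab_of_coprime (hn : 1 < Fintype.card Ω) (o ω : Ω) (α : MulAut G) (hα : Odd (orderOf α))
    (hk : (Nat.card (orbit ((stabilizer G o).map α.toMonoidHom) ω)).Coprime (Fintype.card Ω)) :
    IsStab α o := by
  classical
  set k := Nat.card (orbit ((stabilizer G o).map α.toMonoidHom) ω) with hkdef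
  set n := Fintype.card Ω with hndef
  have hk0 : 0 < k := Nat.card_pos_iff.2 ⟨⟨⟨ω, mem_orbit_self ω⟩⟩, inferInstance⟩
  have hkn : k < n := by
    have hle : k ≤ n := by
      rw [hkdef, hndef, ← Nat.card_eq_fintype_card]
      exact Nat.card_le_card_of_injective _ Subtype.val_injective
    refine lt_of_le_of_ne hle fun e => ?_
    rw [e, Nat.coprime_self] at hk
    omega
  set p : Pair α Ω := ⟨ω, o⟩ with hp
  have hkM : ∑ x, inc α p x o = (k : ℤ) := stab_orbit h2 hn o ω α
  -- two orbits
  have hinv : ∀ g, fixN (α g) Ω = fixN g Ω := by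
    refine inv_of_two h2 hn α ((card_orbits_le h2 hn α).antisymm ?_)
    by_contra hc
    have hsub : Subsingleton (orbitRel.Quotient G (Pair α Ω)) :=
      Finite.card_le_one_iff_subsingleton.1 (by omega)
    have hall : ∀ x, inc α p x o = 1 := fun x => by
      simp only [inc]
      rw [if_pos ((mk_eq_iff _ _).1 (@Subsingleton.elim _ hsub (Quotient.mk'' (⟨x, o⟩ : Pair α Ω)) (Quotient.mk'' p)))]
    rw [Finset.sum_congr rfl fun x _ => hall x] at hkM
    simp at hkM
    omega
  have hinv2 : ∀ g, fixN ((α * α) g) Ω = fixN g Ω := fun g => by rw [MulAut.mul_apply, hinv, hinv]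
  set p' : Pair (α * α) Ω := ⟨ω, o⟩ with hp'
  obtain ⟨k', hk'⟩ : ∃ k', ∑ x, inc (α * α) p' x o = k' := ⟨_, rfl⟩
  obtain ⟨l, hl, hMr, hMc⟩ := gram h2 hn α p hkM
  obtain ⟨l', hl', -, hM'c⟩ := gram h2 hn (α * α) p' hk'
  set M : Ω → Ω → ℤ := inc α p with hMdef
  set M' : Ω → Ω → ℤ := inc (α * α) p' with hM'def
  set f : Ω → Ω → ℤ := fun y z => ∑ x, M x y * M' x z with hfdef
  obtain ⟨a, b, hab⟩ := exists_coeff h2 hn α hinv p f (fun g y z => by
    simp only [hfdef]
    refine (Fintype.sum_equiv (toPerm ((α * α) g)) _ _ fun x => ?_).symm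
    rw [toPerm_apply, hM'def, inc_smul, hMdef, MulAut.mul_apply, inc_smul])
  have hfsum : (k : ℤ) * k' = a * k + b * n := by
    have e1 : ∑ y, f y o = (k : ℤ) * k' := by
      simp only [hfdef]
      rw [Finset.sum_comm, Finset.sum_congr rfl fun x _ => show ∑ y, M x y * M' x o = k * M' x o by
        rw [← Finset.sum_mul, hMdef, rowSum_eq h2 hn α p hkM], ← Finset.mul_sum, hM'def, hk']
    rw [← e1, Finset.sum_congr rfl fun y _ => hab y o, Finset.sum_add_distrib, ← Finset.mul_sum, hkM]
    simp [hndef]
    ring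
  -- the Gram matrix of `f`, computed in two ways
  have hff : ∀ z z', ∑ y, f y z * f y z' = ((k : ℤ) - l) * (∑ x, M' x z * M' x z') +
      l * ((∑ x, M' x z) * (∑ x, M' x z')) := by
    intro z z'
    calc ∑ y, f y z * f y z' = ∑ x, ∑ x', M' x z * M' x' z' * ∑ y, M x y * M x' y := by
          simp only [hfdef, Finset.sum_mul_sum]
          rw [Finset.sum_comm]
          refine Finset.sum_congr rfl fun x _ => ?_
          rw [Finset.sum_comm]
          refine Finset.sum_congr rfl fun x' _ => ?_
          rw [Finset.mul_sum]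
          exact Finset.sum_congr rfl fun y _ => by ring
      _ = ∑ x, ∑ x', (((k : ℤ) - l) * (if x' = x then M' x z * M' x' z' else 0) + l * (M' x z * M' x' z')) := by
          refine Finset.sum_congr rfl fun x _ => Finset.sum_congr rfl fun x' _ => ?_
          rw [hMr]
          split_ifs <;> ring
      _ = _ := by
          simp only [Finset.sum_add_distrib, ← Finset.mul_sum, ← Finset.sum_mul, Finset.sum_ite_eq',
            Finset.mem_univ, if_true]
  obtain ⟨c, d, hcd⟩ := Fintype.exists_pair_of_one_lt_card hn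
  have hA : ∀ z z', ∑ y, f y z * f y z' =
      a * a * (∑ y, M y z * M y z') + a * b * (∑ y, M y z + ∑ y, M y z') + n * (b * b) := by
    intro z z'
    rw [Finset.sum_congr rfl fun y _ => show f y z * f y z' =
        a * a * (M y z * M y z') + a * b * (M y z + M y z') + b * b by rw [hab, hab]; ring,
      Finset.sum_add_distrib, Finset.sum_add_distrib, ← Finset.mul_sum, ← Finset.mul_sum, Finset.sum_add_distrib]
    simp [hndef]
  have hcol : ∀ y, ∑ x, M x y = (k : ℤ) := fun y => (colSum_const h2 α p y o).trans hkM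
  have hcol' : ∀ y, ∑ x, M' x y = k' := fun y => (colSum_const h2 (α * α) p' y o).trans hk'
  have e1 := (hA c c).symm.trans (hff c c)
  have e2 := (hA c d).symm.trans (hff c d)
  rw [hMc, hM'c, hcol, hcol', if_pos rfl, if_pos rfl] at e1
  rw [hMc, hM'c, hcol, hcol, hcol', hcol', if_neg (Ne.symm hcd), if_neg (Ne.symm hcd)] at e2
  have hn1 : (1 : ℤ) < n := by exact_mod_cast hn
  have hm : (k : ℤ) - l ≠ 0 := by
    intro h
    have : (k : ℤ) * (n - k) = 0 := by linear_combination ((n : ℤ) - 1) * h + hl
    rcases mul_eq_zero.1 this with h' | h' <;> omega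
  have ha : a * a = k' - l' := mul_left_cancel₀ hm (by linear_combination e1 - e2)
  have hk'n : 0 < k' ∧ k' ≤ n := by
    constructor
    · rw [← hk']
      refine lt_of_lt_of_le zero_lt_one (le_trans (le_of_eq ?_)
        (Finset.single_le_sum (f := fun x => inc (α * α) p' x o) (fun x _ => ?_) (Finset.mem_univ ω)))
      · simp [inc, hp', mem_orbit_self]
      · simp only [inc]; split_ifs <;> norm_num
    · rw [← hk']
      refine le_trans (Finset.sum_le_sum (g := fun _ => (1 : ℤ)) fun x _ => ?_) (by simp [hndef])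
      simp only [hM'def, inc]; split_ifs <;> norm_num
  have hdiv : (n : ℤ) ∣ k' - a := by
    refine (Int.isCoprime_iff_nat_coprime.2 ?_ : IsCoprime (n : ℤ) k).dvd_of_dvd_mul_left ⟨b, by linear_combination hfsum⟩
    simpa using hk.symm
  have hmn : (a * a) * (n - 1) = k' * (n - k') := by
    rw [ha]
    linear_combination -hl'
  have hfix : IsStab (α * α) o := by
    obtain ⟨t, ht⟩ := hdiv
    have hbound : -(n : ℤ) < a ∧ a < n := by
      constructor <;> nlinarith
    have ht' : t = 0 ∨ t = 1 := by
      have h1 : -1 < t := by nlinarith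
      have h3 : t < 2 := by nlinarith
      omega
    have key : k' = 1 ∨ k' = n - 1 ∨ k' = n := by
      rcases ht' with rfl | rfl
      · have : a = k' := by linarith
        rw [this] at hmn
        have : k' * (n * (k' - 1)) = 0 := by linear_combination hmn
        rcases mul_eq_zero.1 this with h | h
        · omega
        · rcases mul_eq_zero.1 h with h | h <;> omega
      · have : a = k' - n := by linarith
        rw [this] at hmn
        have : (n - k') * (n * ((n : ℤ) - k' - 1)) = 0 := by linear_combination hmn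
        rcases mul_eq_zero.1 this with h | h
        · omega
        · rcases mul_eq_zero.1 h with h | h <;> omega
    have hfixed : ∀ w : Ω, (∀ x, inc (α * α) p' x o = inc (α * α) p' w o → x = w) → IsStab (α * α) o := by
      intro w hw
      refine isStab_of_fixed h2 w fun g hg => hw _ ?_
      conv_lhs => rw [← hg]
      exact inc_smul (α * α) p' g w o
    rcases key with h | h | h
    · -- the orbit is `{ω}`
      refine hfixed ω fun x hx => ?_
      by_contra hne
      have hω : inc (α * α) p' ω o = 1 := by simp [inc, hp', mem_orbit_self]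
      rw [hω] at hx
      have := Finset.sum_le_sum_of_subset_of_nonneg (f := fun y => inc (α * α) p' y o)
        (Finset.subset_univ {x, ω}) (fun y _ _ => by simp only [inc]; split_ifs <;> norm_num)
      rw [Finset.sum_pair hne, hx, hω, hk', h] at this
      omega
    · -- the other orbit is a single point
      have hex : ∃ w, inc (α * α) p' w o = 0 := by
        by_contra hno
        push Not at hno
        have : ∑ x, inc (α * α) p' x o = (n : ℤ) := by
          rw [Finset.sum_congr rfl fun x _ => show inc (α * α) p' x o = 1 by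
            have := hno x
            simp only [inc] at this ⊢
            split_ifs at this ⊢ <;> simp_all]
          simp [hndef]
        rw [hk', h] at this
        omega
      obtain ⟨w, hw⟩ := hex
      refine hfixed w fun x hx => ?_
      by_contra hne
      rw [hw] at hx
      have : ∑ y, (1 - inc (α * α) p' y o) = 1 := by
        rw [Finset.sum_sub_distrib, hk', h]; simp [hndef]
      have h2' := Finset.sum_le_sum_of_subset_of_nonneg (f := fun y => 1 - inc (α * α) p' y o)
        (Finset.subset_univ {x, w}) (fun y _ _ => by simp only [inc]; split_ifs <;> norm_num)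
      rw [Finset.sum_pair hne, hx, hw, this] at h2'
      norm_num at h2'
    · -- the whole of `Ω`: then `a = 0`, impossible
      exfalso
      have ha0 : a = 0 := by
        rw [h] at hmn
        have : a * a * ((n : ℤ) - 1) = 0 := by rw [hmn]; ring
        rcases mul_eq_zero.1 this with h' | h'
        · exact mul_self_eq_zero.1 h'
        · omega
      have hall : ∀ x, inc (α * α) p' x o = 1 := by
        intro x
        by_contra hx
        have hx0 : inc (α * α) p' x o = 0 := by
          simp only [inc] at hx ⊢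
          split_ifs at hx ⊢ <;> simp_all
        have := Finset.sum_le_sum (s := Finset.univ.erase x) (f := fun y => inc (α * α) p' y o)
          (g := fun _ => (1 : ℤ)) fun y _ => by simp only [inc]; split_ifs <;> norm_num
        rw [Finset.sum_erase (f := fun y => inc (α * α) p' y o) _ hx0, hk', h, Finset.sum_const, Finset.card_erase_of_mem (Finset.mem_univ x)] at this
        simp at this
        omega
      have hc := two_of_inv h2 hn (α * α) hinv2
      have hsub : Subsingleton (orbitRel.Quotient G (Pair (α * α) Ω)) := ⟨fun u v => by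
        have key : ∀ u : orbitRel.Quotient G (Pair (α * α) Ω), u = Quotient.mk'' p' := by
          intro u
          induction u using Quotient.inductionOn' with
          | h q =>
            haveI := pretrans h2
            obtain ⟨g, hg⟩ := exists_smul_eq G q.snd o
            have hone := hall ((α * α) g • q.fst)
            simp only [inc] at hone
            split_ifs at hone with hmem
            · refine Quotient.eq''.2 ?_
              have : g • q ∈ orbit G p' := by rw [pair_smul, hg]; exact hmem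
              rw [← orbit_eq_iff, orbit_smul, orbit_eq_iff] at this
              exact this
            · exact absurd hone (by norm_num)
        rw [key u, key v]⟩
      rw [@Nat.card_eq_one_iff_unique _ |>.2 ⟨hsub, ⟨Quotient.mk'' p'⟩⟩] at hc
      omega
  obtain ⟨r, hr⟩ := hα
  have : α = (α * α) ^ (r + 1) := by
    rw [← pow_two, ← pow_mul, show 2 * (r + 1) = orderOf α + 1 by omega, pow_succ, pow_orderOf_eq_one, one_mul]
  rw [this]
  exact isStab_pow h2 hfix _

theorem orbit_card_of_isStab (hn : 1 < Fintype.card Ω) {o ω : Ω} {α : MulAut G} (h : IsStab α o) :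
    Nat.card (orbit ((stabilizer G o).map α.toMonoidHom) ω) = 1 ∨
      Nat.card (orbit ((stabilizer G o).map α.toMonoidHom) ω) = Fintype.card Ω - 1 := by
  classical
  obtain ⟨w, hw⟩ := h
  have hmem : ∀ h : (stabilizer G o).map α.toMonoidHom, (h : G) • w = w := by
    rintro ⟨_, g, hg, rfl⟩
    exact (hw g).1 hg
  by_cases hω : ω = w
  · left
    subst hω
    rw [show orbit ((stabilizer G o).map α.toMonoidHom) ω = {ω} from Set.eq_singleton_iff_unique_mem.2
      ⟨mem_orbit_self ω, by rintro _ ⟨h, rfl⟩; exact hmem h⟩]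
    simp
  · right
    have : orbit ((stabilizer G o).map α.toMonoidHom) ω = {x | x ≠ w} := by
      ext x
      constructor
      · rintro ⟨h, rfl⟩ e
        exact hω (MulAction.injective (h : G) (e.trans (hmem h).symm))
      · intro hx
        obtain ⟨g, hg1, hg2⟩ := is_two_pretransitive_iff.1 h2 hω hx
        refine ⟨⟨g, α.symm g, ?_, α.apply_symm_apply g⟩, hg1⟩
        exact (hw _).2 (by rw [α.apply_symm_apply]; exact hg2)
    rw [this, Nat.card_coe_set_eq, show {x : Ω | x ≠ w} = {w}ᶜ from rfl, Set.ncard_compl, Set.ncard_singleton,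
      Nat.card_eq_fintype_card]

end CfsgLib.Involution.TwistedPairs

namespace CfsgLib.Involution.TwistedPairs

variable {Ω : Type*} [Fintype Ω]

/-- An automorphism mapping a point stabilizer to a point stabilizer is induced by the symmetric group. -/
theorem exists_perm_of_isStab (G : Subgroup (Equiv.Perm Ω)) (htr : IsPretransitive G Ω) (o : Ω)
    (α : MulAut G) (h : IsStab α o) :
    ∃ σ : Equiv.Perm Ω, σ ∈ Subgroup.normalizer (G : Set (Equiv.Perm Ω)) ∧
      ∀ g : G, ((α g : G) : Equiv.Perm Ω) = σ * (g : Equiv.Perm Ω) * σ⁻¹ := by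
  classical
  obtain ⟨w, hw⟩ := h
  choose t ht using fun x : Ω => exists_smul_eq G o x
  have hwd : ∀ g : G, α (t (g • o)) • w = α g • w := by
    intro g
    have hfix : α (g⁻¹ * t (g • o)) • w = w := (hw _).1 (by rw [mul_smul, ht, inv_smul_smul])
    rwa [map_mul, map_inv, mul_smul, inv_smul_eq_iff] at hfix
  have hinj : Function.Injective (fun x : Ω => α (t x) • w) := by
    intro x y hxy
    have hfix : α ((t y)⁻¹ * t x) • w = w := by
      rw [map_mul, map_inv, mul_smul, inv_smul_eq_iff]; exact hxy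
    have := (hw _).2 hfix
    rwa [mul_smul, ht, inv_smul_eq_iff, ht] at this
  let σ := Equiv.ofBijective _ (Finite.injective_iff_bijective.1 hinj)
  have hσ : ∀ g : G, ((α g : G) : Equiv.Perm Ω) = σ * (g : Equiv.Perm Ω) * σ⁻¹ := by
    intro g
    rw [eq_mul_inv_iff_mul_eq]
    refine Equiv.ext fun x => ?_
    show α g • α (t x) • w = α (t (g • x)) • w
    rw [← mul_smul, ← map_mul, ← hwd (g * t x), mul_smul g (t x), ht]
  refine ⟨σ, ?_, hσ⟩
  rw [Subgroup.mem_normalizer_iff]
  intro g
  constructor
  · intro hg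
    exact hσ ⟨g, hg⟩ ▸ (α ⟨g, hg⟩).2
  · intro hg
    have h' := hσ (α.symm ⟨_, hg⟩)
    rw [α.apply_symm_apply] at h'
    rw [mul_left_cancel (mul_right_cancel h')]
    exact (α.symm _).2

theorem result (G : Subgroup (Equiv.Perm Ω)) (h2 : IsMultiplyPretransitive G Ω 2) (o : Ω) (α : MulAut G)
    (hα : Odd (orderOf α)) (ω : Ω)
    (hk : (Nat.card (orbit ((stabilizer G o).map α.toMonoidHom) ω)).Coprime (Fintype.card Ω)) :
    (∃ σ : Equiv.Perm Ω, σ ∈ Subgroup.normalizer (G : Set (Equiv.Perm Ω)) ∧
      ∀ g : G, ((α g : G) : Equiv.Perm Ω) = σ * (g : Equiv.Perm Ω) * σ⁻¹) ∧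
    (Nat.card (orbit ((stabilizer G o).map α.toMonoidHom) ω) = 1 ∨
      Nat.card (orbit ((stabilizer G o).map α.toMonoidHom) ω) = Fintype.card Ω - 1) := by
  classical
  haveI : Fintype G := Fintype.ofFinite G
  by_cases hn : 1 < Fintype.card Ω
  · have h := isStab_of_coprime h2 hn o ω α hα hk
    exact ⟨exists_perm_of_isStab G (pretrans h2) o α h, orbit_card_of_isStab h2 hn h⟩
  · haveI : Subsingleton Ω := Fintype.card_le_one_iff_subsingleton.1 (by omega)
    refine ⟨⟨1, one_mem _, fun g => Subsingleton.elim _ _⟩, Or.inl ?_⟩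
    exact Nat.card_eq_one_iff_unique.2 ⟨inferInstance, ⟨⟨ω, mem_orbit_self ω⟩⟩⟩

theorem orbit_coprime_of_hall (G : Subgroup (Equiv.Perm Ω)) (h2 : IsMultiplyPretransitive G Ω 2) (o : Ω)
    (hHall : (Nat.card (stabilizer G o)).Coprime (stabilizer G o).index) (α : MulAut G) :
    (Nat.card (orbit ((stabilizer G o).map α.toMonoidHom) o)).Coprime (Fintype.card Ω) := by
  haveI := isPretransitive_of_is_two_pretransitive (G := G) (α := Ω) (h2 := h2)
  rw [index_stabilizer_of_transitive, Nat.card_eq_fintype_card (α := Ω)] at hHall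
  refine hHall.coprime_dvd_left ?_
  rw [← Subgroup.card_map_of_injective (f := α.toMonoidHom) (K := stabilizer G o) α.injective,
    Nat.card_coe_set_eq, ← index_stabilizer ((stabilizer G o).map α.toMonoidHom) o]
  exact Subgroup.index_dvd_card _

end CfsgLib.Involution.TwistedPairs
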