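import Cfsg.Agent.Lib.Involution.U34Sylow

/-!
# The centraliser of an involution in `U₃(4)`
-/

set_option autoImplicit false
set_option linter.unusedSectionVars false

namespace CfsgLib.Involution.U34Centralizer

open Matrix CfsgLib.Involution.U34Sylow
open scoped commutatorElement

variable {F : Type*} [Field F] [Fintype F] [h16 : Fact (Fintype.card F = 16)]
  [σh : Fact (∃ σ : F →+* F, (∀ x, σ x = x ^ 4) ∧ CfsgLib.Classical.IsConjugation σ)]

/-- The underlying matrix. -/
abbrev mat (g : Cfsg.SU 3 F 4) : Matrix (Fin 3) (Fin 3) F := g.1.1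

theorem mat_mul (g h : Cfsg.SU 3 F 4) : mat (g * h) = mat g * mat h := rfl

theorem mat_inj {g h : Cfsg.SU 3 F 4} (e : mat g = mat h) : g = h := Subtype.ext (Subtype.ext e)

/-- `Heis` inside `SU(3,4)`. -/
def rep : Heis F →* Cfsg.SU 3 F 4 := repSL.codRestrict _ repSL_mem

theorem mat_rep (g : Heis F) : mat (rep g) = repMat g := rfl

theorem mat_rep_mk (c b : F) (hb : b + b ^ 4 = c ^ 5) :
    mat (rep ⟨c, b, hb⟩) = !![1 + b, b, c ^ 4; b, 1 + b, c ^ 4; c, c, 1] := rfl

theorem rep_injective : Function.Injective (rep (F := F)) := fun g h e => by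
  have h1 := congrArg (fun x => mat x 2 0) e
  have h2 := congrArg (fun x => mat x 1 0) e
  simp [mat_rep, repMat] at h1 h2
  exact Heis.ext h1 h2

/-- The torus element with parameter a fifth root of unity. -/
def tor (u : F) (hu : u ^ 5 = 1) : Cfsg.SU 3 F 4 :=
  ⟨⟨!![u, 0, 0; 0, u, 0; 0, 0, u ^ 3], by
      rw [Matrix.det_fin_three]; simp; linear_combination hu⟩, by
    intro v w
    change Cfsg.hermForm 3 F 4 ((!![u, 0, 0; 0, u, 0; 0, 0, u ^ 3] : Matrix (Fin 3) (Fin 3) F) *ᵥ v)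
      ((!![u, 0, 0; 0, u, 0; 0, 0, u ^ 3] : Matrix (Fin 3) (Fin 3) F) *ᵥ w) = _
    simp [Cfsg.hermForm, Matrix.mulVec, dotProduct, Fin.sum_univ_three, mul_pow]
    linear_combination (v 0 * w 0 ^ 4 + v 1 * w 1 ^ 4 + v 2 * w 2 ^ 4 * (u ^ 10 + u ^ 5 + 1)) * hu⟩

theorem mat_tor (u : F) (hu : u ^ 5 = 1) :
    mat (tor u hu) = !![u, 0, 0; 0, u, 0; 0, 0, u ^ 3] := rfl

/-- The involution. -/
def t₀ : Cfsg.SU 3 F 4 := rep ⟨0, 1, by linear_combination two0 (F := F)⟩

theorem mat_t₀ : mat (t₀ (F := F)) = !![0, 1, 0; 1, 0, 0; 0, 0, 1] := by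
  rw [t₀, mat_rep_mk]
  have h : (1 : F) + 1 = 0 := add_self 1
  simp [h]

theorem orderOf_t₀ : orderOf (t₀ (F := F)) = 2 := by
  rw [t₀, orderOf_injective _ rep_injective, orderOf_two_iff]
  exact ⟨rfl, fun h => one_ne_zero (congrArg Heis.b h)⟩

/-- The shape of an element commuting with `t₀`. -/
theorem shape {g : Cfsg.SU 3 F 4} (hg : g * t₀ = t₀ * g) :
    mat g 1 1 = mat g 0 0 ∧ mat g 1 0 = mat g 0 1 ∧ mat g 1 2 = mat g 0 2 ∧
      mat g 2 1 = mat g 2 0 := by
  have h := congrArg mat hg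
  rw [mat_mul, mat_mul, mat_t₀] at h
  have e := fun i j => congrFun (congrFun h i) j
  have h1 := e 0 1
  have h2 := e 0 0
  have h3 := e 0 2
  have h4 := e 2 0
  simp [Matrix.mul_apply, Fin.sum_univ_three] at h1 h2 h3 h4
  exact ⟨h1.symm, h2.symm, h3.symm, h4⟩

/-- The unitary condition on the columns. -/
theorem col (g : Cfsg.SU 3 F 4) (i j : Fin 3) :
    mat g 0 i * mat g 0 j ^ 4 + mat g 1 i * mat g 1 j ^ 4 + mat g 2 i * mat g 2 j ^ 4 =
      if i = j then 1 else 0 := by
  have h : Cfsg.hermForm 3 F 4 (mat g *ᵥ Pi.single i 1) (mat g *ᵥ Pi.single j 1) =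
      Cfsg.hermForm 3 F 4 (Pi.single i 1) (Pi.single j 1) := g.2 (Pi.single i 1) (Pi.single j 1)
  fin_cases i <;> fin_cases j <;>
    simpa [Cfsg.hermForm, Matrix.mulVec, dotProduct, Fin.sum_univ_three, Pi.single_apply] using h

/-- The character of the centraliser. -/
theorem char_mul {g h : Cfsg.SU 3 F 4} (hg : g * t₀ = t₀ * g) (hh : h * t₀ = t₀ * h) :
    mat (g * h) 0 0 + mat (g * h) 0 1 = (mat g 0 0 + mat g 0 1) * (mat h 0 0 + mat h 0 1) := by
  obtain ⟨a1, a2, a3, a4⟩ := shape hh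
  rw [mat_mul]
  simp [Matrix.mul_apply, Fin.sum_univ_three, a1, a2, a4]
  linear_combination (mat g 0 2 * mat h 2 0) * two0 (F := F)

/-- Normal form. -/
theorem decomp {g : Cfsg.SU 3 F 4} (hg : g * t₀ = t₀ * g) :
    ∃ h : Heis F, ∃ u : F, ∃ hu : u ^ 5 = 1, g = rep h * tor u hu := by
  obtain ⟨a1, a2, a3, a4⟩ := shape hg
  have c00 := col g 0 0
  have c01 := col g 0 1
  have c02 := col g 0 2
  have hdet : (mat g).det = 1 := g.1.2
  rw [Matrix.det_fin_three] at hdet
  simp only [a1, a2, a3, a4, if_true, if_neg (show (0 : Fin 3) ≠ 1 by decide),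
    if_neg (show (0 : Fin 3) ≠ 2 by decide)] at c00 c01 c02 hdet
  set a := mat g 0 0 with ha
  set b := mat g 0 1 with hb
  set x := mat g 0 2 with hx
  set y := mat g 2 0 with hy
  set e := mat g 2 2 with he
  have hμ : (a + b) ^ 5 = 1 := by
    rw [pow_succ, add4]
    linear_combination c00 + c01 - y ^ 5 * two0 (F := F)
  have hμ0 : a + b ≠ 0 := fun h => by simp [h] at hμ
  have he3 : e = (a + b) ^ 3 := by
    have h2 : (a + b) ^ 2 * e = 1 := by
      linear_combination hdet + (e * b ^ 2 + e * a * b + x * y * a - x * y * b) * two0 (F := F)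
    refine mul_left_cancel₀ (pow_ne_zero 2 hμ0) ?_
    rw [h2, ← pow_add, hμ]
  have hν : ((a + b) ^ 4) ^ 5 = 1 := by rw [← pow_mul, mul_comm, pow_mul, hμ, one_pow]
  set ν := (a + b) ^ 4 with hνdef
  have hab : a * ν + b * ν = 1 := by rw [← add_mul, hνdef, ← pow_succ', hμ]
  have hB : b * ν + (b * ν) ^ 4 = (y * ν) ^ 5 := by
    have hA : a * ν = 1 + b * ν := by linear_combination hab - (b * ν) * two0 (F := F)
    have h1 : (a * ν) ^ 5 + (b * ν) ^ 5 + (y * ν) ^ 5 = 1 := by
      simp only [mul_pow, hν, mul_one]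
      linear_combination c00
    rw [hA] at h1
    rw [pow_succ (1 + b * ν) 4, add4, one_pow] at h1
    linear_combination h1 - ((y * ν) ^ 5 + (b * ν) ^ 5) * two0 (F := F)
  refine ⟨⟨y * ν, b * ν, hB⟩, a + b, hμ, mat_inj ?_⟩
  have hx' : (y * ν) ^ 4 * (a + b) ^ 3 = x := by
    have h2 : y = (a + b) * x ^ 4 * (a + b) ^ 3 := by
      have he4 : e ^ 4 * (a + b) ^ 3 = 1 := by
        rw [he3, ← pow_mul, ← pow_add, show 3 * 4 + 3 = 5 * 3 from rfl, pow_mul, hμ, one_pow]
      linear_combination (a + b) ^ 3 * c02 - y * he4 - ((a + b) * x ^ 4 * (a + b) ^ 3) * two0 (F := F)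
    have h3 : y * ν = (a + b) ^ 3 * x ^ 4 := by
      rw [hνdef]; linear_combination (a + b) ^ 4 * h2 + ((a + b) ^ 3 * x ^ 4) * hμ
    rw [h3, mul_pow, ← pow_mul, ← pow_mul, pow16]
    linear_combination x * ((a + b) ^ 10 + (a + b) ^ 5 + 1) * hμ
  have ha' : a = (1 + b * ν) * (a + b) := by
    rw [hνdef]; linear_combination -b * hμ - b * two0 (F := F)
  have hb' : b = b * ν * (a + b) := by
    rw [hνdef]; linear_combination -b * hμ
  have hy' : y = y * ν * (a + b) := by
    rw [hνdef]; linear_combination -y * hμ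
  rw [mat_mul, mat_rep_mk, mat_tor]
  ext i j
  fin_cases i <;> fin_cases j <;> simp [Matrix.mul_apply, Fin.sum_univ_three]
  · exact ha'
  · exact hb'
  · exact hx'.symm
  · rw [a2]; exact hb'
  · rw [a1]; exact ha'
  · rw [a3]; exact hx'.symm
  · exact hy'
  · rw [a4]; exact hy'
  · exact he3

theorem rep_comm (h : Heis F) : rep h * t₀ = t₀ * rep h := by
  rw [t₀, ← map_mul, ← map_mul,
    Subgroup.mem_center_iff.mp ((mem_center_iff' _).mpr rfl) h]

theorem tor_comm (u : F) (hu : u ^ 5 = 1) : tor u hu * t₀ = t₀ * tor u hu := by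
  refine mat_inj ?_
  rw [mat_mul, mat_mul, mat_tor, mat_t₀]
  ext i j
  fin_cases i <;> fin_cases j <;> simp [Matrix.mul_apply, Fin.sum_univ_three]

theorem char_decomp (h : Heis F) (u : F) (hu : u ^ 5 = 1) :
    mat (rep h * tor u hu) 0 0 + mat (rep h * tor u hu) 0 1 = u := by
  rw [mat_mul, mat_rep, mat_tor]
  simp [repMat, Matrix.mul_apply, Fin.sum_univ_three]
  linear_combination (h.b * u) * two0 (F := F)

abbrev C₀ (F : Type*) [Field F] [Fintype F] [Fact (Fintype.card F = 16)]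
    [Fact (∃ σ : F →+* F, (∀ x, σ x = x ^ 4) ∧ CfsgLib.Classical.IsConjugation σ)] :
    Subgroup (Cfsg.SU 3 F 4) :=
  Subgroup.centralizer {t₀}

theorem mem_C₀ {g : Cfsg.SU 3 F 4} : g ∈ C₀ F ↔ g * t₀ = t₀ * g :=
  Subgroup.mem_centralizer_singleton_iff

/-- `Heis` inside the centraliser. -/
def repC : Heis F →* C₀ F := rep.codRestrict _ fun h => mem_C₀.mpr (rep_comm h)

/-- The torus inside the centraliser. -/
def torC (u : F) (hu : u ^ 5 = 1) : C₀ F := ⟨tor u hu, mem_C₀.mpr (tor_comm u hu)⟩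

theorem decompC (g : C₀ F) : ∃ h : Heis F, ∃ u : F, ∃ hu : u ^ 5 = 1, g = repC h * torC u hu := by
  obtain ⟨h, u, hu, e⟩ := decomp (mem_C₀.mp g.2)
  exact ⟨h, u, hu, Subtype.ext e⟩

theorem card_C₀ : Nat.card (C₀ F) = 320 := by
  classical
  haveI : Finite (Heis F) := Nat.finite_of_card_ne_zero (by rw [card_heis]; norm_num)
  let f : Heis F × {u : Fˣ // u ^ 5 = 1} → C₀ F := fun p => repC p.1 * torC (p.2.1 : F) (by
    rw [← Units.val_pow_eq_pow_val, p.2.2, Units.val_one])
  have hf : Function.Bijective f := by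
    refine ⟨fun p q e => ?_, fun g => ?_⟩
    · have hp : (p.2.1 : F) ^ 5 = 1 := by rw [← Units.val_pow_eq_pow_val, p.2.2, Units.val_one]
      have hq : (q.2.1 : F) ^ 5 = 1 := by rw [← Units.val_pow_eq_pow_val, q.2.2, Units.val_one]
      have e' : rep p.1 * tor (p.2.1 : F) hp = rep q.1 * tor (q.2.1 : F) hq := congrArg Subtype.val e
      have hu : (p.2.1 : F) = q.2.1 := by
        have := congrArg (fun g => mat g 0 0 + mat g 0 1) e'
        simpa only [char_decomp] using this
      obtain ⟨a, v⟩ := p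
      obtain ⟨a', v'⟩ := q
      obtain rfl : v = v' := Subtype.ext (Units.ext hu)
      exact Prod.ext (rep_injective (congrArg Subtype.val (mul_right_cancel e))) rfl
    · obtain ⟨h, u, hu, rfl⟩ := decompC g
      have hu0 : u ≠ 0 := fun h0 => by simp [h0] at hu
      exact ⟨⟨h, Units.mk0 u hu0, Units.ext (by simpa using hu)⟩, rfl⟩
  rw [← Nat.card_congr (Equiv.ofBijective f hf), Nat.card_prod, card_heis,
    CfsgLib.Classical.card_pow_eq_one_units (by rw [h16.out]; norm_num)]

theorem commutator_C₀ : commutator (C₀ F) = (repC (F := F)).range := by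
  haveI : Finite (Heis F) := Nat.finite_of_card_ne_zero (by rw [card_heis]; norm_num)
  apply le_antisymm
  · rw [_root_.commutator_def, Subgroup.commutator_le]
    intro a _ b _
    let χ : C₀ F →* F :=
      { toFun := fun g => mat (g : Cfsg.SU 3 F 4) 0 0 + mat (g : Cfsg.SU 3 F 4) 0 1
        map_one' := by simp [mat]
        map_mul' := fun g h => char_mul (mem_C₀.mp g.2) (mem_C₀.mp h.2) }
    obtain ⟨h, u, hu, e⟩ := decompC ⁅a, b⁆
    have h1 : χ ⁅a, b⁆ = 1 := by
      rw [commutatorElement_def, map_mul, map_mul, map_mul,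
        show χ a * χ b * χ a⁻¹ * χ b⁻¹ = χ a * χ a⁻¹ * (χ b * χ b⁻¹) by ring, ← map_mul, ← map_mul,
        mul_inv_cancel, mul_inv_cancel, map_one, one_mul]
    have h2 : u = 1 := by
      rw [e] at h1
      exact (char_decomp h u hu).symm.trans h1
    refine ⟨h, ?_⟩
    rw [e]
    subst h2
    rw [show torC (1 : F) hu = 1 from Subtype.ext (mat_inj (by
      rw [show ((torC (1 : F) hu : C₀ F) : Cfsg.SU 3 F 4) = tor 1 hu from rfl, mat_tor]
      ext i j
      fin_cases i <;> fin_cases j <;> simp [mat])), mul_one]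
  · rintro _ ⟨h, rfl⟩
    obtain ⟨u, hu, hu1⟩ : ∃ u : F, u ^ 5 = 1 ∧ u ≠ 1 := by
      have hc := CfsgLib.Classical.card_pow_eq_one_units (F := F) (d := 5) (by rw [h16.out]; norm_num)
      haveI : Nontrivial {u : Fˣ // u ^ 5 = 1} :=
        Finite.one_lt_card_iff_nontrivial.mp (by rw [hc]; norm_num)
      obtain ⟨v, hv⟩ := exists_ne (⟨1, one_pow 5⟩ : {u : Fˣ // u ^ 5 = 1})
      exact ⟨v.1, by rw [← Units.val_pow_eq_pow_val, v.2, Units.val_one],
        fun h => hv (Subtype.ext (Units.ext h))⟩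
    have hne : u ^ 2 + 1 ≠ 0 := by
      intro h0
      have h1 : u ^ 2 = 1 := by linear_combination h0 - two0 (F := F)
      apply hu1
      linear_combination hu - (u ^ 3 + u) * h1
    obtain ⟨k, hk⟩ := exists_elt (h.c / (u ^ 2 + 1))
    let k' : Heis F := ⟨k.c * u ^ 2, k.b, by
      rw [mul_pow, ← pow_mul, show 2 * 5 = 5 * 2 from rfl, pow_mul, hu, one_pow, mul_one]; exact k.hb⟩
    have hconj : torC u hu * repC k = repC k' * torC u hu := by
      refine Subtype.ext (mat_inj ?_)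
      show mat (tor u hu * rep k) = mat (rep k' * tor u hu)
      rw [mat_mul, mat_mul, mat_tor, mat_rep, mat_rep_mk]
      ext i j
      fin_cases i <;> fin_cases j <;> simp [repMat, Matrix.mul_apply, Fin.sum_univ_three]
      all_goals first
        | linear_combination (-(k.c ^ 4) * u * (u ^ 5 + 1)) * hu
        | ring
    have hcomm : ⁅torC u hu, repC k⁆ = repC (k' * k⁻¹) := by
      rw [commutatorElement_def, hconj, mul_inv_cancel_right, map_mul, map_inv]
    have hc : ((k' * k⁻¹)⁻¹ * h).c = 0 := by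
      rw [mul_c, inv_c, mul_c, inv_c]
      show k.c * u ^ 2 + k.c + h.c = 0
      have hkey : k.c * (u ^ 2 + 1) = h.c := by rw [hk, div_mul_cancel₀ _ hne]
      linear_combination hkey + h.c * two0 (F := F)
    have hz : repC ((k' * k⁻¹)⁻¹ * h) ∈ commutator (C₀ F) := by
      have h1 := (mem_center_iff' _).mpr hc
      rw [center_commutator] at h1
      have h2 := Subgroup.mem_map_of_mem (repC (F := F)) h1
      rw [_root_.commutator_def, Subgroup.map_commutator] at h2
      exact Subgroup.commutator_mono le_top le_top h2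
    have := mul_mem (hcomm ▸ Subgroup.commutator_mem_commutator
      (Subgroup.mem_top (torC u hu)) (Subgroup.mem_top (repC k)) :
      repC (k' * k⁻¹) ∈ commutator (C₀ F)) hz
    rwa [← map_mul, mul_inv_cancel_left] at this

theorem derived_facts : Nat.card (commutator (C₀ F)) = 64 ∧
    IsKleinFour (Subgroup.center (commutator (C₀ F))) := by
  have hinj : Function.Injective (repC (F := F)) := fun g h e =>
    rep_injective (congrArg Subtype.val e)
  let e : Heis F ≃* commutator (C₀ F) :=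
    (MonoidHom.ofInjective hinj).trans (MulEquiv.subgroupCongr commutator_C₀.symm)
  let ec := Subgroup.centerCongr e
  haveI := center_klein (F := F)
  exact ⟨(Nat.card_congr e.toEquiv).symm.trans card_heis,
    (Nat.card_congr ec.toEquiv).symm.trans IsKleinFour.card_four,
    by rw [← Monoid.exponent_eq_of_mulEquiv ec]; exact IsKleinFour.exponent_two⟩

omit σh in
theorem center_SU : Subgroup.center (Cfsg.SU 3 F 4) = ⊥ := Subgroup.eq_bot_of_card_eq _ (by
  rw [CfsgLib.Classical.card_center_SU (F := F) (q := 4) (by rw [h16.out]; norm_num) (by norm_num)]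
  norm_num)

/-- An involution of `PSU(3,4)` whose centraliser has the model structure. -/
theorem exists_model : ∃ t : Cfsg.PSU 3 F 4, orderOf t = 2 ∧
    Nonempty (C₀ F ≃* Subgroup.centralizer ({t} : Set (Cfsg.PSU 3 F 4))) := by
  set ψ := QuotientGroup.mk' (Subgroup.center (Cfsg.SU 3 F 4)) with hψ
  have hinj : Function.Injective ψ := by
    rw [← MonoidHom.ker_eq_bot_iff, hψ, QuotientGroup.ker_mk', center_SU]
  refine ⟨ψ t₀, (orderOf_injective ψ hinj _).trans orderOf_t₀, ⟨?_⟩⟩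
  refine (Subgroup.equivMapOfInjective _ ψ hinj).trans (MulEquiv.subgroupCongr ?_)
  ext y
  obtain ⟨g, rfl⟩ := QuotientGroup.mk'_surjective _ y
  rw [Subgroup.mem_map_iff_mem hinj, mem_C₀, Subgroup.mem_centralizer_singleton_iff]
  rw [← map_mul, ← map_mul]
  exact hinj.eq_iff.symm

end CfsgLib.Involution.U34Centralizer
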