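import Cfsg.Prelude.Def_JordanBlocks
import Cfsg.Agent.Lib.KnownC.JordanNormal
import Mathlib

/-!
# The order of the centraliser of a unipotent element of `GL_n`

The commutant of a unipotent matrix of given block sizes is parametrised by its free entries, and such a
matrix is invertible iff each diagonal block of its action on the fixed space is.
-/

set_option autoImplicit false
set_option linter.unusedSectionVars false

open Matrix

namespace CfsgLib.Involution.UnipotentCentralizerGL

variable {F : Type*} [Field F] {t : ℕ} (d : Fin t → ℕ)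

local notation "ι" => ((k : Fin t) × Fin (d k))

/-- The free entries of the commutant. -/
abbrev P : Type := Σ kl : Fin t × Fin t, Fin (min (d kl.1) (d kl.2))

/-- The element of the commutant with given free entries. -/
def cmat (c : P d → F) : Matrix ι ι F :=
  Matrix.of fun x y => if h : (y.2 : ℕ) + (d x.1 - d y.1) ≤ x.2 then
    c ⟨(y.1, x.1), ⟨x.2 - y.2 - (d x.1 - d y.1), by have := x.2.2; have := y.2.2; dsimp only; omega⟩⟩ else 0

/-- The action on the fixed space. -/
def smat (c : P d → F) : Matrix (Fin t) (Fin t) F :=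
  Matrix.of fun k l => if h : d k ≤ d l ∧ 0 < d k then c ⟨(k, l), ⟨0, by dsimp only; omega⟩⟩ else 0

theorem mul_nil_apply (A : Matrix ι ι F) (x y : ι) :
    (A * (Cfsg.jordanTypeMatrix d F - 1)) x y =
      if h : (y.2 : ℕ) + 1 < d y.1 then A x ⟨y.1, ⟨y.2 + 1, h⟩⟩ else 0 := by
  rw [mul_apply]
  simp only [CfsgLib.KnownC.JordanNormal.jordanType_sub_one_entry, mul_ite, mul_one, mul_zero]
  split_ifs with h
  · rw [Finset.sum_eq_single (⟨y.1, ⟨y.2 + 1, h⟩⟩ : ι)]
    · simp
    · rintro ⟨l, j⟩ _ hne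
      rw [if_neg]
      rintro ⟨h1, h2⟩
      dsimp only at h1 h2
      subst h1
      exact hne (by rw [show j = ⟨y.2 + 1, h⟩ from Fin.ext h2])
    · simp
  · refine Finset.sum_eq_zero fun z _ => if_neg ?_
    rintro ⟨h1, h2⟩
    have := z.2.2
    have h3 : d z.1 = d y.1 := congrArg d h1
    omega

theorem nil_mul_apply (A : Matrix ι ι F) (x y : ι) :
    ((Cfsg.jordanTypeMatrix d F - 1) * A) x y =
      if h : 1 ≤ (x.2 : ℕ) then A ⟨x.1, ⟨x.2 - 1, by omega⟩⟩ y else 0 := by
  rw [mul_apply]
  simp only [CfsgLib.KnownC.JordanNormal.jordanType_sub_one_entry, ite_mul, one_mul, zero_mul]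
  split_ifs with h
  · rw [Finset.sum_eq_single (⟨x.1, ⟨x.2 - 1, by omega⟩⟩ : ι)]
    · rw [if_pos ⟨rfl, show (x.2 : ℕ) = x.2 - 1 + 1 by omega⟩]
    · rintro ⟨l, j⟩ _ hne
      rw [if_neg]
      rintro ⟨h1, h2⟩
      dsimp only at h1 h2
      subst h1
      exact hne (by rw [show j = ⟨x.2 - 1, by omega⟩ from Fin.ext (show (j : ℕ) = x.2 - 1 by omega)])
    · simp
  · exact Finset.sum_eq_zero fun z _ => if_neg (by rintro ⟨-, h2⟩; omega)

theorem comm_iff (A : Matrix ι ι F) :
    A * Cfsg.jordanTypeMatrix d F = Cfsg.jordanTypeMatrix d F * A ↔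
      A * (Cfsg.jordanTypeMatrix d F - 1) = (Cfsg.jordanTypeMatrix d F - 1) * A := by
  rw [mul_sub, sub_mul, mul_one, one_mul, sub_left_inj]

theorem cmat_comm (c : P d → F) :
    cmat d c * (Cfsg.jordanTypeMatrix d F - 1) = (Cfsg.jordanTypeMatrix d F - 1) * cmat d c := by
  ext ⟨l, j⟩ ⟨k, i⟩
  rw [mul_nil_apply, nil_mul_apply]
  simp only [cmat, Matrix.of_apply]
  have := i.2; have := j.2
  split_ifs <;> first
    | (exfalso; omega)
    | rfl
    | (congr 3; omega)

theorem eq_cmat (hd : ∀ k, 1 ≤ d k) (A : Matrix ι ι F)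
    (hA : A * (Cfsg.jordanTypeMatrix d F - 1) = (Cfsg.jordanTypeMatrix d F - 1) * A) :
    A = cmat d (fun x => A ⟨x.1.2, ⟨x.2 + (d x.1.2 - d x.1.1), by have := x.2.2; omega⟩⟩
      ⟨x.1.1, ⟨0, hd _⟩⟩) := by
  have hcol : ∀ (i : ℕ) (x : ι) (k : Fin t) (hi : i < d k), A x ⟨k, ⟨i, hi⟩⟩ =
      if h : i ≤ (x.2 : ℕ) then A ⟨x.1, ⟨x.2 - i, by omega⟩⟩ ⟨k, ⟨0, hd k⟩⟩ else 0 := by
    intro i
    induction i with
    | zero => intro x k hi; rw [dif_pos (Nat.zero_le _)]; rfl
    | succ i ih =>
      intro x k hi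
      have h := congrFun (congrFun hA x) ⟨k, ⟨i, by omega⟩⟩
      rw [mul_nil_apply, nil_mul_apply, dif_pos (show i + 1 < d k from hi)] at h
      rw [h]
      by_cases h1 : 1 ≤ (x.2 : ℕ)
      · rw [dif_pos h1, ih]
        simp only
        split_ifs <;> first
          | (exfalso; omega)
          | rfl
          | (congr 3; omega)
      · rw [dif_neg h1, dif_neg (by omega)]
  ext ⟨l, j⟩ ⟨k, i, hi⟩
  rw [hcol]
  simp only [cmat, Matrix.of_apply]
  have hj := j.2
  split_ifs with h1 h2 h2
  · congr 3; omega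
  · have h := congrFun (congrFun hA ⟨l, ⟨(j : ℕ) - i + (d k - 1) + 1, by omega⟩⟩) ⟨k, ⟨d k - 1, by omega⟩⟩
    rw [mul_nil_apply, nil_mul_apply, dif_neg (show ¬ d k - 1 + 1 < d k by omega),
      dif_pos (show 1 ≤ (j : ℕ) - i + (d k - 1) + 1 by omega), hcol,
      dif_pos (show d k - 1 ≤ (j : ℕ) - i + (d k - 1) + 1 - 1 by omega)] at h
    simp only at h
    rw [h]
    congr 3
    omega
  · exfalso; omega
  · rfl

/-- The embedding as fixed space. -/
def socle (y : Fin t → F) : ι → F := fun x => if (x.2 : ℕ) + 1 = d x.1 then y x.1 else 0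

theorem socle_inj (hd : ∀ k, 1 ≤ d k) : Function.Injective (socle d : (Fin t → F) → ι → F) := fun a b h =>
  funext fun k => by
    have := congrFun h ⟨k, ⟨d k - 1, by have := hd k; omega⟩⟩
    simp only [socle] at this
    rwa [if_pos (by have := hd k; omega), if_pos (by have := hd k; omega)] at this

theorem cmat_socle (hd : ∀ k, 1 ≤ d k) (c : P d → F) (y : Fin t → F) :
    cmat d c *ᵥ socle d y = socle d ((smat d c)ᵀ *ᵥ y) := by
  funext ⟨l, j⟩
  have key : ∀ k : Fin t, ∑ i : Fin (d k), cmat d c ⟨l, j⟩ ⟨k, i⟩ * socle d y ⟨k, i⟩ =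
      if (j : ℕ) + 1 = d l then smat d c k l * y k else 0 := by
    intro k
    have := hd k; have := j.2
    rw [Finset.sum_eq_single (⟨d k - 1, by omega⟩ : Fin (d k))]
    · simp only [socle, cmat, smat, Matrix.of_apply]
      rw [if_pos (show d k - 1 + 1 = d k by omega)]
      split_ifs <;> first
        | (exfalso; omega)
        | rw [zero_mul]
        | (congr 3; ext; dsimp only; omega)
    · intro i _ hne
      simp only [socle]
      rw [if_neg (fun e => hne (Fin.ext (show (i : ℕ) = d k - 1 by omega))), mul_zero]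
    · simp
  show ∑ x : ι, cmat d c ⟨l, j⟩ x * socle d y x = _
  rw [Fintype.sum_sigma, Finset.sum_congr rfl fun k _ => key k]
  simp only [socle]
  split_ifs with h
  · rfl
  · rw [Finset.sum_const_zero]

theorem nil_mulVec_apply (v : ι → F) (x : ι) : ((Cfsg.jordanTypeMatrix d F - 1) *ᵥ v) x =
    if h : 1 ≤ (x.2 : ℕ) then v ⟨x.1, ⟨x.2 - 1, by omega⟩⟩ else 0 :=
  nil_mul_apply d (Matrix.of fun z _ => v z) x x

theorem isUnit_cmat_iff (hd : ∀ k, 1 ≤ d k) (c : P d → F) : IsUnit (cmat d c) ↔ IsUnit (smat d c) := by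
  rw [← Matrix.mulVec_injective_iff_isUnit, ← Matrix.isUnit_transpose (A := smat d c),
    ← Matrix.mulVec_injective_iff_isUnit]
  constructor
  · exact fun h a b hab => socle_inj d hd (h (by rw [cmat_socle d hd, cmat_socle d hd, hab]))
  · intro h
    have key : ∀ (r : ℕ) (v : ι → F), (∀ x : ι, (x.2 : ℕ) + r < d x.1 → v x = 0) →
        cmat d c *ᵥ v = 0 → v = 0 := by
      intro r
      induction r with
      | zero => exact fun v hv _ => funext fun x => hv x x.2.2
      | succ r ih =>
        intro v hv hcv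
        have hN : (Cfsg.jordanTypeMatrix d F - 1) *ᵥ v = 0 := by
          refine ih _ (fun x hx => ?_) ?_
          · rw [nil_mulVec_apply]
            split_ifs with h1
            · exact hv _ (show (x.2 : ℕ) - 1 + (r + 1) < d x.1 by omega)
            · rfl
          · rw [mulVec_mulVec, cmat_comm, ← mulVec_mulVec, hcv, mulVec_zero]
        have hv' : v = socle d fun k => v ⟨k, ⟨d k - 1, by have := hd k; omega⟩⟩ := by
          funext ⟨k, i⟩
          simp only [socle]
          split_ifs with h1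
          · congr 3; exact Fin.ext (show (i : ℕ) = d k - 1 by omega)
          · have := congrFun hN ⟨k, ⟨i + 1, by omega⟩⟩
            rw [nil_mulVec_apply, dif_pos (show 1 ≤ (i : ℕ) + 1 by omega)] at this
            simpa using this
        rw [hv', cmat_socle d hd] at hcv
        have h0 : ∀ a, socle d a = (0 : ι → F) → a = 0 := fun a ha =>
          socle_inj d hd (ha.trans (funext fun x => by simp [socle]))
        rw [hv', h ((h0 _ hcv).trans (mulVec_zero _).symm)]
        funext x; simp [socle]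
    intro a b hab
    refine sub_eq_zero.1 (key (Finset.univ.sup d) _ (fun x hx => ?_) (by rw [mulVec_sub, hab, sub_self]))
    have := Finset.le_sup (f := d) (Finset.mem_univ x.1)
    omega

/-- The fibre of a block size. -/
abbrev fib (a : Fin (Finset.univ.sup d + 1)) : Type := {k : Fin t // d k = a}

/-- The free entries in the diagonal blocks of the action on the fixed space. -/
abbrev IsDiag (x : P d) : Prop := d x.1.1 = d x.1.2 ∧ (x.2 : ℕ) = 0

theorem isUnit_smat_iff (hd : ∀ k, 1 ≤ d k) (c : P d → F) : IsUnit (smat d c) ↔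
    ∀ a, IsUnit (Matrix.of fun i j : fib d a => c ⟨(i.1, j.1), ⟨0, by have := hd i.1; have := hd j.1; dsimp only; omega⟩⟩) := by
  classical
  have hB : ∀ a, (Matrix.of fun i j : fib d a => c ⟨(i.1, j.1), ⟨0, by have := hd i.1; have := hd j.1; dsimp only; omega⟩⟩) =
      (smat d c).toSquareBlock d (a : ℕ) := fun a => by
    ext i j
    rw [toSquareBlock_def, of_apply, of_apply, smat, of_apply, dif_pos ⟨by rw [i.2, j.2], hd _⟩]
  simp only [hB, Matrix.isUnit_iff_isUnit_det, isUnit_iff_ne_zero]
  rw [Matrix.BlockTriangular.det (b := d) (fun i j hij => by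
    rw [smat, of_apply, dif_neg (by omega)]), Finset.prod_ne_zero_iff]
  constructor
  · intro h a
    by_cases ha : (a : ℕ) ∈ Finset.univ.image d
    · exact h _ ha
    · have : IsEmpty {k // d k = (a : ℕ)} := ⟨fun k => ha (Finset.mem_image.2 ⟨k.1, Finset.mem_univ _, k.2⟩)⟩
      rw [det_isEmpty]
      exact one_ne_zero
  · intro h b hb
    obtain ⟨k, -, rfl⟩ := Finset.mem_image.1 hb
    exact h ⟨d k, Nat.lt_succ_of_le (Finset.le_sup (Finset.mem_univ k))⟩

theorem card_GL_index [Fintype F] (m : Type*) [Fintype m] [DecidableEq m] :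
    Nat.card {A : Matrix m m F // IsUnit A} =
      ∏ j : Fin (Fintype.card m), (Fintype.card F ^ Fintype.card m - Fintype.card F ^ (j : ℕ)) := by
  rw [← Matrix.card_GL_field]
  let e : {A : Matrix m m F // IsUnit A} ≃ (Matrix m m F)ˣ :=
    ⟨fun a => a.2.unit, fun u => ⟨u.val, u.isUnit⟩, fun _ => Subtype.ext rfl, fun _ => Units.ext rfl⟩
  exact Nat.card_congr (e.trans
    (Units.mapEquiv (Matrix.reindexAlgEquiv F F (Fintype.equivFin m)).toMulEquiv).toEquiv)

theorem sum_eq_sum_range (f : ℕ → ℕ) : ∑ k, f (d k) = ∑ i ∈ Finset.range (Finset.univ.sup d + 1),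
    (Finset.univ.filter (fun k : Fin t => d k = i)).card * f i := by
  rw [← Finset.sum_fiberwise_of_maps_to (s := Finset.univ) (t := Finset.range (Finset.univ.sup d + 1)) (g := d)
    (fun k _ => Finset.mem_range.2 (Nat.lt_succ_of_le (Finset.le_sup (Finset.mem_univ k))))]
  refine Finset.sum_congr rfl fun i _ => ?_
  rw [Finset.sum_congr rfl (fun k hk => by rw [(Finset.mem_filter.1 hk).2]), Finset.sum_const, smul_eq_mul]

/-- The number of blocks of size `i`. -/
def mult (i : ℕ) : ℕ := (Finset.univ.filter (fun k : Fin t => d k = i)).card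

theorem exponent : 2 * (∑ i ∈ Finset.range (Finset.univ.sup d + 1), ∑ j ∈ Finset.range (Finset.univ.sup d + 1),
      if i < j then i * mult d i * mult d j else 0) +
    ∑ i ∈ Finset.range (Finset.univ.sup d + 1), (i - 1) * mult d i ^ 2 +
    ∑ i ∈ Finset.range (Finset.univ.sup d + 1), (if i = 0 then 0 else mult d i * mult d i) = Fintype.card (P d) := by
  rw [Fintype.card_sigma, Fintype.sum_prod_type]
  simp only [Fintype.card_fin]
  rw [sum_eq_sum_range d (fun a => ∑ l, min a (d l))]
  conv_rhs => arg 2; intro a; rw [sum_eq_sum_range d (fun b => min a b), Finset.mul_sum]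
  set R := Finset.range (Finset.univ.sup d + 1)
  show _ = ∑ i ∈ R, ∑ j ∈ R, mult d i * (mult d j * min i j)
  have e1 : ∀ i ∈ R, (i - 1) * mult d i ^ 2 + (if i = 0 then 0 else mult d i * mult d i) =
      ∑ j ∈ R, if i = j then i * mult d i * mult d j else 0 := fun i hi => by
    rw [Finset.sum_ite_eq, if_pos hi]
    rcases i with _ | i
    · simp
    · simp only [Nat.succ_ne_zero, if_false, Nat.add_sub_cancel]; ring
  rw [add_assoc, ← Finset.sum_add_distrib, Finset.sum_congr rfl e1, two_mul]
  nth_rewrite 2 [Finset.sum_comm]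
  rw [← Finset.sum_add_distrib, ← Finset.sum_add_distrib]
  refine Finset.sum_congr rfl fun i _ => ?_
  rw [← Finset.sum_add_distrib, ← Finset.sum_add_distrib]
  refine Finset.sum_congr rfl fun j _ => ?_
  rcases lt_trichotomy i j with h | rfl | h
  · rw [if_pos h, if_neg (by omega), if_neg (by omega), min_eq_left h.le]; ring
  · simp; ring
  · rw [if_neg (by omega), if_pos h, if_neg (by omega), min_eq_right h.le]; ring

/-- The number of free entries outside the diagonal blocks. -/
theorem card_nondiag (hd : ∀ k, 1 ≤ d k) : Fintype.card {x : P d // ¬ IsDiag d x} =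
    2 * (∑ i ∈ Finset.range (Finset.univ.sup d + 1), ∑ j ∈ Finset.range (Finset.univ.sup d + 1),
      if i < j then i * mult d i * mult d j else 0) +
      ∑ i ∈ Finset.range (Finset.univ.sup d + 1), (i - 1) * mult d i ^ 2 := by
  have h1 := exponent d
  have h2 : Fintype.card (P d) = Fintype.card {x : P d // IsDiag d x} + Fintype.card {x : P d // ¬ IsDiag d x} := by
    rw [← Fintype.card_sum]
    exact Fintype.card_congr (Equiv.sumCompl _).symm
  have h3 : Fintype.card {x : P d // IsDiag d x} =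
      ∑ i ∈ Finset.range (Finset.univ.sup d + 1), (if i = 0 then 0 else mult d i * mult d i) := by
    have eD : {x : P d // IsDiag d x} ≃ Σ a : Fin (Finset.univ.sup d + 1), fib d a × fib d a :=
      { toFun := fun x => ⟨⟨d x.1.1.1, Nat.lt_succ_of_le (Finset.le_sup (Finset.mem_univ _))⟩,
          ⟨x.1.1.1, rfl⟩, ⟨x.1.1.2, x.2.1.symm⟩⟩
        invFun := fun y => ⟨⟨(y.2.1.1, y.2.2.1), ⟨0, by have := hd y.2.1.1; have := hd y.2.2.1; dsimp only; omega⟩⟩,
          y.2.1.2.trans y.2.2.2.symm, rfl⟩
        left_inv := fun ⟨⟨kl, m⟩, h⟩ => Subtype.ext (Sigma.ext rfl (heq_of_eq (Fin.ext h.2.symm)))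
        right_inv := fun ⟨⟨a, ha⟩, ⟨i, hi⟩, ⟨j, hj⟩⟩ => by
          dsimp only at hi hj ⊢
          subst hi
          rfl }
    rw [Fintype.card_congr eD, Fintype.card_sigma, Finset.sum_range]
    refine Finset.sum_congr rfl fun a _ => ?_
    rw [Fintype.card_prod, Fintype.card_subtype]
    split_ifs with h
    · rw [Finset.filter_false_of_mem (fun k _ => by rw [h]; exact (Nat.one_le_iff_ne_zero.1 (hd k))),
        Finset.card_empty]
    · rfl
  omega

theorem card_centralizer [Fintype F] (hd : ∀ k, 1 ≤ d k) :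
    Nat.card {g : GL ι F // (g : Matrix ι ι F) * Cfsg.jordanTypeMatrix d F =
      Cfsg.jordanTypeMatrix d F * (g : Matrix ι ι F)} =
    Fintype.card F ^ (2 * (∑ i ∈ Finset.range (Finset.univ.sup d + 1), ∑ j ∈ Finset.range (Finset.univ.sup d + 1),
      if i < j then i * mult d i * mult d j else 0) +
      ∑ i ∈ Finset.range (Finset.univ.sup d + 1), (i - 1) * mult d i ^ 2) *
    ∏ i ∈ Finset.range (Finset.univ.sup d + 1),
      ∏ j : Fin (mult d i), (Fintype.card F ^ mult d i - Fintype.card F ^ (j : ℕ)) := by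
  classical
  let e1 : {g : GL ι F // (g : Matrix ι ι F) * Cfsg.jordanTypeMatrix d F =
      Cfsg.jordanTypeMatrix d F * (g : Matrix ι ι F)} ≃ {c : P d → F // IsUnit (cmat d c)} :=
    { toFun := fun g => ⟨_, eq_cmat d hd _ ((comm_iff d _).1 g.2) ▸ g.1.isUnit⟩
      invFun := fun c => ⟨c.2.unit, (comm_iff d _).2 (cmat_comm d c.1)⟩
      left_inv := fun g => Subtype.ext (Units.ext (by
        exact (eq_cmat d hd _ ((comm_iff d _).1 g.2)).symm))
      right_inv := fun c => Subtype.ext (funext fun x => by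
        show cmat d c.1 _ _ = _
        simp only [cmat, Matrix.of_apply]
        rw [dif_pos (by omega)]
        exact congrArg c.1 (Sigma.ext rfl (heq_of_eq (Fin.ext (by simp))))) }
  let B : (P d → F) ≃ ((a : Fin (Finset.univ.sup d + 1)) → Matrix (fib d a) (fib d a) F) ×
      ({x : P d // ¬ IsDiag d x} → F) :=
    { toFun := fun c => (fun a => Matrix.of fun i j => c ⟨(i.1, j.1), ⟨0, by have := hd i.1; have := hd j.1; dsimp only; omega⟩⟩,
        fun x => c x.1)
      invFun := fun b x => if h : IsDiag d x then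
          b.1 ⟨d x.1.1, Nat.lt_succ_of_le (Finset.le_sup (Finset.mem_univ _))⟩ ⟨x.1.1, rfl⟩ ⟨x.1.2, h.1.symm⟩
        else b.2 ⟨x, h⟩
      left_inv := fun c => funext fun ⟨kl, m⟩ => by
        dsimp only
        split_ifs with h
        · show c _ = c _
          congr 1
          exact Sigma.ext rfl (heq_of_eq (Fin.ext h.2.symm))
        · rfl
      right_inv := fun b => Prod.ext (funext fun a => by
          ext i j
          simp only [Matrix.of_apply]
          rw [dif_pos ⟨i.2.trans j.2.symm, rfl⟩]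
          obtain ⟨i, hi⟩ := i
          obtain ⟨j, hj⟩ := j
          obtain ⟨a, ha⟩ := a
          dsimp only at hi hj
          subst hi
          rfl) (funext fun x => by simp only [dif_neg x.2]) }
  let e2 : {c : P d → F // IsUnit (cmat d c)} ≃
      ((a : Fin (Finset.univ.sup d + 1)) → {A : Matrix (fib d a) (fib d a) F // IsUnit A}) ×
        ({x : P d // ¬ IsDiag d x} → F) :=
    ((B.subtypeEquiv (q := fun b => ∀ a, IsUnit (b.1 a))
      (fun c => (isUnit_cmat_iff d hd c).trans (isUnit_smat_iff d hd c))).trans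
      { toFun := fun b => (fun a => ⟨b.1.1 a, b.2 a⟩, b.1.2)
        invFun := fun b => ⟨(fun a => (b.1 a).1, b.2), fun a => (b.1 a).2⟩
        left_inv := fun b => rfl
        right_inv := fun b => rfl })
  rw [Nat.card_congr (e1.trans e2), Nat.card_prod, Nat.card_pi, Nat.card_fun, Nat.card_eq_fintype_card (α := F),
    mul_comm, Nat.card_eq_fintype_card (α := {x : P d // ¬ IsDiag d x})]
  congr 1
  · congr 1
    exact card_nondiag d hd
  · rw [Finset.prod_range]
    refine Finset.prod_congr rfl fun a _ => ?_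
    rw [card_GL_index, Fintype.card_subtype]
    rfl

end CfsgLib.Involution.UnipotentCentralizerGL
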