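import Cfsg.Agent.Lib.Involution.UnipotentCentralizerGL
import Cfsg.Agent.Lib.KnownC.GUConj
import Cfsg.Agent.Lib.KnownC.NormSurj
import Cfsg.Agent.Lib.Classical.HermMatrix

/-!
# The order of the centraliser of a unipotent element of `GU_n`

In the commutant of a unipotent matrix preserving a Hermitian form the adjoint respects the reduction to the
diagonal blocks, each of which carries a non-degenerate form; the elements reducing to the identity are counted
through the surjectivity of the norm.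
-/

set_option autoImplicit false
set_option linter.unusedSectionVars false

open Matrix CfsgLib.Classical

namespace CfsgLib.Involution.UnipotentCentralizerGU

open CfsgLib.Involution.UnipotentCentralizerGL

variable {K : Type*} [Field K]

/-- Conjugate transpose. -/
def ct (σ : K →+* K) {l m : Type*} (M : Matrix l m K) : Matrix m l K := (M.map σ)ᵀ

variable {σ : K →+* K}

theorem ct_mul {l m p : Type*} [Fintype m] (M : Matrix l m K) (N : Matrix m p K) :
    ct σ (M * N) = ct σ N * ct σ M := by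
  rw [ct, Matrix.map_mul, transpose_mul]; rfl

theorem ct_ct (hi : ∀ a, σ (σ a) = a) {l m : Type*} (M : Matrix l m K) : ct σ (ct σ M) = M := by
  ext i j; simp [ct, hi]

theorem ct_add {l m : Type*} (M N : Matrix l m K) : ct σ (M + N) = ct σ M + ct σ N := by
  ext i j; simp [ct]

theorem ct_smul {l m : Type*} (c : K) (M : Matrix l m K) : ct σ (c • M) = σ c • ct σ M := by
  ext i j; simp [ct]

theorem ct_one {m : Type*} [DecidableEq m] : ct σ (1 : Matrix m m K) = 1 := by
  ext i j; simp [ct, one_apply, eq_comm]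

variable {t : ℕ} (d : Fin t → ℕ)

local notation "ι" => ((k : Fin t) × Fin (d k))
local notation "JJ" => Cfsg.jordanTypeMatrix d K

/-- Commuting with the unipotent matrix. -/
def Com (G : Matrix ι ι K) : Prop := G * (JJ - 1) = (JJ - 1) * G

variable {d} (hd : ∀ k, 1 ≤ d k)

/-- The first index of a block. -/
def bot (k : Fin t) : ι := ⟨k, ⟨0, hd k⟩⟩

/-- The last index of a block. -/
def top (k : Fin t) : ι := ⟨k, ⟨d k - 1, by have := hd k; omega⟩⟩

/-- The reduction to a diagonal block. -/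
def blk (a : Fin (Finset.univ.sup d + 1)) (G : Matrix ι ι K) : Matrix (fib d a) (fib d a) K :=
  Matrix.of fun i j => G (top hd i.1) (top hd j.1)

include hd in
theorem com_zero {G : Matrix ι ι K} (hG : Com d G) (x y : ι)
    (h : (x.2 : ℕ) < y.2 + (d x.1 - d y.1)) : G x y = 0 := by
  rw [eq_cmat d hd G hG]
  simp only [cmat, Matrix.of_apply]
  rw [dif_neg (by omega)]

theorem blk_cmat (a : Fin (Finset.univ.sup d + 1)) (c : P d → K) (i j : fib d a) :
    blk hd a (cmat d c) i j = c ⟨(j.1, i.1), ⟨0, by have := hd i.1; have := hd j.1; dsimp only; omega⟩⟩ := by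
  have h : d i.1 = d j.1 := i.2.trans j.2.symm
  simp only [blk, cmat, top, Matrix.of_apply]
  rw [dif_pos (by omega)]
  congr 3
  omega

theorem bot_eq_top {G : Matrix ι ι K} (hG : Com d G) {i j : Fin t} (h : d i = d j) :
    G (bot hd i) (bot hd j) = G (top hd i) (top hd j) := by
  rw [eq_cmat d hd G hG]
  simp only [cmat, bot, top, Matrix.of_apply]
  rw [dif_pos (by omega), dif_pos (by omega)]
  congr 3
  all_goals omega

theorem blk_add (a : Fin (Finset.univ.sup d + 1)) (G G' : Matrix ι ι K) :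
    blk hd a (G + G') = blk hd a G + blk hd a G' := rfl

theorem blk_sub (a : Fin (Finset.univ.sup d + 1)) (G G' : Matrix ι ι K) :
    blk hd a (G - G') = blk hd a G - blk hd a G' := rfl

theorem blk_smul (a : Fin (Finset.univ.sup d + 1)) (c : K) (G : Matrix ι ι K) :
    blk hd a (c • G) = c • blk hd a G := rfl

theorem blk_one (a : Fin (Finset.univ.sup d + 1)) : blk hd a (1 : Matrix ι ι K) = 1 := by
  ext i j
  simp only [blk, Matrix.of_apply, one_apply]
  refine if_congr ⟨fun h => Subtype.ext ?_, fun h => by rw [h]⟩ rfl rfl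
  exact congrArg Sigma.fst h

theorem com_one : Com d (1 : Matrix ι ι K) := by rw [Com, one_mul, mul_one]

theorem com_add {G G' : Matrix ι ι K} (h : Com d G) (h' : Com d G') : Com d (G + G') := by
  rw [Com, add_mul, h, h', mul_add]

theorem com_sub {G G' : Matrix ι ι K} (h : Com d G) (h' : Com d G') : Com d (G - G') := by
  rw [Com, sub_mul, h, h', ← mul_sub]

theorem com_smul {G : Matrix ι ι K} (c : K) (h : Com d G) : Com d (c • G) := by
  rw [Com, smul_mul, h, mul_smul_comm]

theorem com_mul {G G' : Matrix ι ι K} (h : Com d G) (h' : Com d G') : Com d (G * G') := by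
  rw [Com, mul_assoc, h', ← mul_assoc, h, mul_assoc]

theorem com_inv {G : Matrix ι ι K} (h : Com d G) (hu : IsUnit G.det) : Com d G⁻¹ := by
  calc G⁻¹ * (JJ - 1) = G⁻¹ * ((JJ - 1) * G) * G⁻¹ := by
        rw [mul_assoc, mul_assoc (JJ - 1), mul_nonsing_inv _ hu, mul_one]
    _ = (JJ - 1) * G⁻¹ := by rw [← h, ← mul_assoc, nonsing_inv_mul _ hu, one_mul]

/-- A sum over the indices of the blocks of one size. -/
theorem sum_fib (a : Fin (Finset.univ.sup d + 1)) (f : Fin t → K) (g : fib d a → K)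
    (h0 : ∀ k, d k ≠ (a : ℕ) → f k = 0) (hg : ∀ k : fib d a, f k.1 = g k) : ∑ k, f k = ∑ k : fib d a, g k := by
  rw [← Finset.sum_subset (Finset.subset_univ (Finset.univ.filter fun k => d k = (a : ℕ)))
    (fun k _ hk => h0 k (fun e => hk (Finset.mem_filter.2 ⟨Finset.mem_univ _, e⟩))),
    Finset.sum_subtype (p := fun k => d k = (a : ℕ)) _ (fun k => by simp) f]
  exact Finset.sum_congr rfl fun k _ => hg k

theorem blk_mul {G G' : Matrix ι ι K} (h : Com d G) (h' : Com d G') (a : Fin (Finset.univ.sup d + 1)) :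
    blk hd a (G * G') = blk hd a G * blk hd a G' := by
  ext i j
  rw [mul_apply]
  simp only [blk, Matrix.of_apply]
  rw [mul_apply, Fintype.sum_sigma]
  have hj : d j.1 = a := j.2
  have hi : d i.1 = a := i.2
  refine sum_fib a _ _ (fun k hk => Finset.sum_eq_zero fun m _ => ?_) (fun k => ?_)
  · by_cases hm : (m : ℕ) + 1 = d k ∧ (a : ℕ) < d k
    · rw [com_zero hd h (top hd i.1) ⟨k, m⟩ (by simp only [top]; have := hd i.1; omega), zero_mul]
    · rw [com_zero hd h' ⟨k, m⟩ (top hd j.1) (by simp only [top]; have := m.2; have := hd j.1; omega), mul_zero]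
  · have hk : d k.1 = a := k.2
    refine (Finset.sum_eq_single (⟨d k.1 - 1, by have := hd k.1; omega⟩ : Fin (d k.1)) (fun m _ hm => ?_)
      (by simp)).trans rfl
    rw [com_zero hd h' ⟨k.1, m⟩ (top hd j.1) (by
      simp only [top]
      have := m.2
      have : (m : ℕ) ≠ d k.1 - 1 := fun e => hm (Fin.ext e)
      omega), mul_zero]

theorem isUnit_of_blk {G : Matrix ι ι K} (hG : Com d G) (h : ∀ a, IsUnit (blk hd a G)) : IsUnit G := by
  rw [eq_cmat d hd G hG] at h ⊢
  rw [isUnit_cmat_iff d hd, isUnit_smat_iff d hd]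
  intro a
  rw [← Matrix.isUnit_transpose]
  refine (congrArg IsUnit ?_).mp (h a)
  ext i j
  rw [blk_cmat]
  rfl

variable (H : Matrix ((k : Fin t) × Fin (d k)) ((k : Fin t) × Fin (d k)) K)

/-- The adjoint with respect to the form. -/
noncomputable def star' (σ : K →+* K) (G : Matrix ι ι K) : Matrix ι ι K := H⁻¹ * ct σ G * H

/-- The form on a diagonal block. -/
def sblk (a : Fin (Finset.univ.sup d + 1)) : Matrix (fib d a) (fib d a) K :=
  Matrix.of fun i j => H (bot hd i.1) (top hd j.1)

variable {H}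

theorem star'_add (G G' : Matrix ι ι K) : star' H σ (G + G') = star' H σ G + star' H σ G' := by
  rw [star', ct_add, mul_add, add_mul]; rfl

theorem star'_sub (G G' : Matrix ι ι K) : star' H σ (G - G') = star' H σ G - star' H σ G' :=
  eq_sub_of_add_eq (by rw [← star'_add, sub_add_cancel])

theorem star'_smul (c : K) (G : Matrix ι ι K) : star' H σ (c • G) = σ c • star' H σ G := by
  rw [star', ct_smul, mul_smul_comm, smul_mul]; rfl

theorem star'_one (hH : IsUnit H.det) : star' H σ (1 : Matrix ι ι K) = 1 := by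
  rw [star', ct_one, mul_one, nonsing_inv_mul _ hH]

theorem H_mul_star' (hH : IsUnit H.det) (G : Matrix ι ι K) : H * star' H σ G = ct σ G * H := by
  rw [star', ← mul_assoc, ← mul_assoc, mul_nonsing_inv _ hH, one_mul]

theorem star'_mul (hH : IsUnit H.det) (G G' : Matrix ι ι K) :
    star' H σ (G * G') = star' H σ G' * star' H σ G := by
  conv_rhs => rw [star', mul_assoc, H_mul_star' hH]
  rw [star', ct_mul]
  simp only [mul_assoc]

theorem star'_star' (hi : ∀ a, σ (σ a) = a) (hH : IsUnit H.det) {ε : K} (hct : H = ε • ct σ H)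
    (G : Matrix ι ι K) : star' H σ (star' H σ G) = G := by
  have h1 : ct σ H⁻¹ * ct σ H = 1 := by rw [← ct_mul, mul_nonsing_inv _ hH, ct_one]
  have h2 : H⁻¹ * (ε • ct σ H) = 1 := by rw [← hct, nonsing_inv_mul _ hH]
  rw [star', star', ct_mul, ct_mul, ct_ct hi]
  calc H⁻¹ * (ct σ H * (G * ct σ H⁻¹)) * H = H⁻¹ * (ct σ H * (G * ct σ H⁻¹)) * (ε • ct σ H) := by rw [← hct]
    _ = H⁻¹ * (ε • ct σ H) * G * (ct σ H⁻¹ * ct σ H) := by
      simp only [mul_smul_comm, smul_mul, mul_assoc]
    _ = G := by rw [h1, h2, one_mul, mul_one]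

variable (hJ : ct σ (Cfsg.jordanTypeMatrix d K) * H * Cfsg.jordanTypeMatrix d K = H)

include hJ in
theorem com_star (hH : IsUnit H.det) {G : Matrix ι ι K} (hG : Com d G) : Com d (star' H σ G) := by
  have h1 : star' H σ JJ * JJ = 1 := by
    rw [star', mul_assoc, mul_assoc, ← mul_assoc (ct σ JJ), hJ, nonsing_inv_mul _ hH]
  have h2 : JJ * star' H σ JJ = 1 := mul_eq_one_comm.1 h1
  have h3 : star' H σ JJ * star' H σ G = star' H σ G * star' H σ JJ := by
    rw [← star'_mul hH, ← star'_mul hH, (comm_iff d G).2 hG]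
  refine (comm_iff d _).1 ?_
  calc star' H σ G * JJ = JJ * (star' H σ JJ * star' H σ G) * JJ := by rw [← mul_assoc, h2, one_mul]
    _ = JJ * star' H σ G := by rw [h3, mul_assoc, mul_assoc (star' H σ G), h1, mul_one]

include hJ in
theorem H_zero_left : ∀ (r : ℕ) (x y : ι), d x.1 ≤ x.2 + r → d x.1 ≤ x.2 + y.2 → H x y = 0 := by
  have hN : ct σ (JJ - 1) = ((JJ - 1) : Matrix ι ι K)ᵀ := by
    ext a b
    simp only [ct, transpose_apply, map_apply, CfsgLib.KnownC.JordanNormal.jordanType_sub_one_entry]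
    split_ifs <;> simp
  set A := ((JJ - 1) : Matrix ι ι K)ᵀ * H with hA
  have hAe : ∀ x y : ι, A x y = if h : (x.2 : ℕ) + 1 < d x.1 then H ⟨x.1, ⟨x.2 + 1, h⟩⟩ y else 0 := by
    intro x y
    rw [hA, ← transpose_transpose H, ← transpose_mul, transpose_apply, mul_nil_apply]
    rfl
  have key : H * (JJ - 1) + (A + A * (JJ - 1)) = 0 := by
    have e := hJ
    rw [show (JJ : Matrix ι ι K) = 1 + (JJ - 1) from (add_sub_cancel _ _).symm, ct_add, ct_one, hN] at e
    rw [hA]
    calc H * (JJ - 1) + ((JJ - 1)ᵀ * H + (JJ - 1)ᵀ * H * (JJ - 1))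
        = (1 + (JJ - 1)ᵀ) * H * (1 + (JJ - 1)) - H := by simp only [add_mul, mul_add, one_mul, mul_one]; abel
      _ = 0 := by rw [e, sub_self]
  intro r
  induction r with
  | zero => intro x y h _; exact absurd h (by have := x.2.2; omega)
  | succ r ih =>
    rintro x ⟨l, m⟩ h h'
    dsimp only at h'
    have hm : 1 ≤ (m : ℕ) := by have := x.2.2; omega
    have h1 := congrFun (congrFun key x) ⟨l, ⟨m - 1, by omega⟩⟩
    rw [Matrix.add_apply, Matrix.add_apply, Matrix.zero_apply, mul_nil_apply, mul_nil_apply,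
      dif_pos (show (m : ℕ) - 1 + 1 < d l by omega), dif_pos (show (m : ℕ) - 1 + 1 < d l by omega),
      show (⟨(m : ℕ) - 1 + 1, by omega⟩ : Fin (d l)) = m from Fin.ext (by simp; omega), hAe, hAe] at h1
    split_ifs at h1 with h2
    · dsimp only at h1
      rw [ih ⟨x.1, ⟨x.2 + 1, h2⟩⟩ ⟨l, ⟨m - 1, by omega⟩⟩ (show d x.1 ≤ (x.2 : ℕ) + 1 + r by omega)
          (show d x.1 ≤ (x.2 : ℕ) + 1 + ((m : ℕ) - 1) by omega),
        ih ⟨x.1, ⟨x.2 + 1, h2⟩⟩ ⟨l, m⟩ (show d x.1 ≤ (x.2 : ℕ) + 1 + r by omega)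
          (show d x.1 ≤ (x.2 : ℕ) + 1 + (m : ℕ) by omega), add_zero, add_zero] at h1
      exact h1
    · simpa using h1

variable {ε : K} (hc : IsConjugation σ) (hH : IsUnit H.det) (hct : H = ε • ct σ H)

include hJ in
theorem H_left {x y : ι} (h : d x.1 ≤ x.2 + y.2) : H x y = 0 := H_zero_left hJ _ x y (Nat.le_add_left _ _) h

include hJ hct in
theorem H_right {x y : ι} (h : d y.1 ≤ x.2 + y.2) : H x y = 0 := by
  rw [hct]
  show ε * σ (H y x) = 0
  rw [H_left hJ (by omega), map_zero, mul_zero]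

include hJ hH hct in
theorem sblk_star {G : Matrix ι ι K} (hG : Com d G) (a : Fin (Finset.univ.sup d + 1)) :
    sblk hd H a * blk hd a (star' H σ G) = ct σ (blk hd a G) * sblk hd H a := by
  have hG' : Com d (star' H σ G) := com_star hJ hH hG
  have e := H_mul_star' hH (σ := σ) G
  set G' := star' H σ G
  ext i j
  have hi : d i.1 = a := i.2
  have hj : d j.1 = a := j.2
  have e' := congrFun (congrFun e (bot hd i.1)) (top hd j.1)
  rw [mul_apply, mul_apply, Fintype.sum_sigma, Fintype.sum_sigma,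
    sum_fib a _ (fun k => sblk hd H a i k * blk hd a G' k j) (fun k hk => ?_) (fun k => ?_),
    sum_fib a (fun k => ∑ m : Fin (d k), ct σ G (bot hd i.1) ⟨k, m⟩ * H ⟨k, m⟩ (top hd j.1))
      (fun k => ct σ (blk hd a G) i k * sblk hd H a k j) (fun k hk => ?_) (fun k => ?_)] at e'
  · exact e'
  · refine Finset.sum_eq_zero fun m _ => ?_
    rcases Nat.eq_zero_or_pos (m : ℕ) with h0 | h0
    · rcases lt_or_gt_of_ne hk with h1 | h1
      · rw [H_left hJ (show d k ≤ (m : ℕ) + (d j.1 - 1) by omega), mul_zero]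
      · show σ (G ⟨k, m⟩ (bot hd i.1)) * _ = 0
        rw [com_zero hd hG ⟨k, m⟩ _ (by simp only [bot]; omega), map_zero, zero_mul]
    · rw [H_right hJ hct (show d j.1 ≤ (m : ℕ) + (d j.1 - 1) by omega), mul_zero]
  · have hk : d k.1 = a := k.2
    refine (Finset.sum_eq_single (⟨0, hd k.1⟩ : Fin (d k.1)) (fun m _ hm => ?_) (by simp)).trans ?_
    · rw [H_right hJ hct (show d j.1 ≤ (m : ℕ) + (d j.1 - 1) by
        have : (m : ℕ) ≠ 0 := fun e => hm (Fin.ext e)
        omega), mul_zero]
    · show σ (G (bot hd k.1) (bot hd i.1)) * _ = σ (G (top hd k.1) (top hd i.1)) * _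
      rw [bot_eq_top hd hG (hk.trans hi.symm)]
      rfl
  · refine Finset.sum_eq_zero fun m _ => ?_
    by_cases hm : (m : ℕ) + 1 = d k ∧ (a : ℕ) < d k
    · rw [H_left hJ (show d i.1 ≤ 0 + (m : ℕ) by omega), zero_mul]
    · rw [com_zero hd hG' ⟨k, m⟩ (top hd j.1) (by simp only [top]; have := m.2; have := hd j.1; omega), mul_zero]
  · have hk : d k.1 = a := k.2
    refine (Finset.sum_eq_single (⟨d k.1 - 1, by have := hd k.1; omega⟩ : Fin (d k.1)) (fun m _ hm => ?_)
      (by simp)).trans rfl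
    rw [com_zero hd hG' ⟨k.1, m⟩ (top hd j.1) (by
      simp only [top]
      have := m.2
      have : (m : ℕ) ≠ d k.1 - 1 := fun e => hm (Fin.ext e)
      omega), mul_zero]

include hJ hH hct in
theorem sblk_det (a : Fin (Finset.univ.sup d + 1)) : IsUnit (sblk hd H a).det := by
  classical
  set T : Matrix (Fin t) (Fin t) K := Matrix.of fun i j => H (bot hd i) (top hd j)
  have hinj : Function.Injective T.mulVec := by
    intro y y' hy
    refine socle_inj d hd (Matrix.mulVec_injective_iff_isUnit.2 ((Matrix.isUnit_iff_isUnit_det _).2 hH) ?_)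
    have key : ∀ (y : Fin t → K) (x : ι), (H *ᵥ socle d y) x = if (x.2 : ℕ) = 0 then (T *ᵥ y) x.1 else 0 := by
      intro y x
      show ∑ z : ι, H x z * socle d y z = _
      rw [Fintype.sum_sigma]
      have hl : ∀ l, ∑ m : Fin (d l), H x ⟨l, m⟩ * socle d y ⟨l, m⟩ = H x (top hd l) * y l := fun l => by
        refine (Finset.sum_eq_single (⟨d l - 1, by have := hd l; omega⟩ : Fin (d l)) (fun m _ hm => ?_)
          (by simp)).trans ?_
        · simp only [socle]
          rw [if_neg (fun e => hm (Fin.ext (show (m : ℕ) = d l - 1 by omega))), mul_zero]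
        · simp only [socle]
          rw [if_pos (by have := hd l; omega)]
          rfl
      rw [Finset.sum_congr rfl fun l _ => hl l]
      split_ifs with h
      · rw [show x = bot hd x.1 from Sigma.ext rfl (heq_of_eq (Fin.ext h))]
        rfl
      · refine Finset.sum_eq_zero fun l _ => ?_
        rw [H_right hJ hct (show d l ≤ (x.2 : ℕ) + (d l - 1) by omega), zero_mul]
    funext x
    rw [key, key, hy]
  have hT : T.det ≠ 0 :=
    isUnit_iff_ne_zero.1 ((Matrix.isUnit_iff_isUnit_det _).1 (Matrix.mulVec_injective_iff_isUnit.1 hinj))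
  rw [← det_transpose, Matrix.BlockTriangular.det (b := d) (fun i j hij => by
    show H (bot hd j) (top hd i) = 0
    exact H_left hJ (show d j ≤ 0 + (d i - 1) by omega)), Finset.prod_ne_zero_iff] at hT
  rw [isUnit_iff_ne_zero, ← det_transpose]
  by_cases ha : (a : ℕ) ∈ Finset.univ.image d
  · exact hT _ ha
  · have : IsEmpty (fib d a) := ⟨fun k => ha (Finset.mem_image.2 ⟨k.1, Finset.mem_univ _, k.2⟩)⟩
    rw [det_isEmpty]
    exact one_ne_zero

section Count

variable [Fintype K]

include hJ hc hH hct in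
theorem exists_sqrt' (h : Matrix ι ι K) (hh : Com d h) (hs : star' H σ h = h) (h1 : ∀ a, blk hd a h = 1) :
    ∃ v, Com d v ∧ (∀ a, blk hd a v = 1) ∧ star' H σ v * v = h := by
  classical
  have hu : IsUnit h := isUnit_of_blk hd hh fun a => h1 a ▸ isUnit_one
  let R := Algebra.adjoin K {h}
  have hcomm : ∀ a b : R, a * b = b * a := fun a b => Subtype.ext
    ((Algebra.commute_of_mem_adjoin_singleton_of_commute b.2
      (Algebra.commute_of_mem_adjoin_singleton_of_commute a.2 (Commute.refl h)).symm))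
  have hsc : ∀ c : K, star' H σ (algebraMap K (Matrix ι ι K) c) = algebraMap K _ (σ c) := fun c => by
    rw [Algebra.algebraMap_eq_smul_one, star'_smul, star'_one hH, ← Algebra.algebraMap_eq_smul_one]
  have hmem : ∀ Y ∈ R, star' H σ Y ∈ R ∧ Com d Y ∧ ∃ c : K, ∀ a, blk hd a Y = c • 1 := by
    intro Y hY
    induction hY using Algebra.adjoin_induction with
    | mem x hx =>
      rw [Set.mem_singleton_iff.1 hx]
      exact ⟨hs.symm ▸ Algebra.subset_adjoin rfl, hh, 1, fun a => by rw [h1, one_smul]⟩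
    | algebraMap c =>
      refine ⟨hsc c ▸ R.algebraMap_mem _, ?_, c, fun a => ?_⟩
      · rw [Algebra.algebraMap_eq_smul_one]; exact com_smul c com_one
      · rw [Algebra.algebraMap_eq_smul_one, blk_smul, blk_one]
    | add x y _ _ hx hy =>
      obtain ⟨c, hc1⟩ := hx.2.2
      obtain ⟨c', hc2⟩ := hy.2.2
      exact ⟨star'_add x y ▸ R.add_mem hx.1 hy.1, com_add hx.2.1 hy.2.1, c + c', fun a => by
        rw [blk_add, hc1, hc2, add_smul]⟩
    | mul x y _ _ hx hy =>
      obtain ⟨c, hc1⟩ := hx.2.2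
      obtain ⟨c', hc2⟩ := hy.2.2
      exact ⟨star'_mul hH x y ▸ R.mul_mem hy.1 hx.1, com_mul hx.2.1 hy.2.1, c * c', fun a => by
        rw [blk_mul hd hx.2.1 hy.2.1, hc1, hc2, smul_mul_smul_comm, one_mul]⟩
  letI : CommRing R := { (inferInstance : Ring R) with mul_comm := hcomm }
  let s : R →+* R :=
    { toFun := fun x => ⟨star' H σ x, (hmem x x.2).1⟩
      map_one' := Subtype.ext (star'_one hH)
      map_mul' := fun x y => by
        rw [hcomm x y]
        exact Subtype.ext (star'_mul hH _ _)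
      map_zero' := Subtype.ext (show star' H σ (0 : Matrix ι ι K) = 0 by
        rw [← map_zero (algebraMap K (Matrix ι ι K)), hsc, map_zero])
      map_add' := fun x y => Subtype.ext (star'_add _ _) }
  have hs' : ∀ x, s (s x) = x := fun x => Subtype.ext (star'_star' hc.invol hH hct _)
  obtain ⟨θ, hθ⟩ := CfsgLib.KnownC.GUConj.exists_conj_fix hc
  have hθ' : IsUnit (algebraMap K R θ - s (algebraMap K R θ)) := by
    rw [show s (algebraMap K R θ) = algebraMap K R (σ θ) from Subtype.ext (hsc θ), ← map_sub]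
    exact (IsUnit.mk0 _ hθ).map _
  obtain ⟨v, -, hv⟩ := CfsgLib.KnownC.NormSurj.norm_surjective s hs' hθ'
    (w := ⟨h, Algebra.subset_adjoin rfl⟩)
    (IsUnit.of_pow_eq_one (n := orderOf hu.unit) (Subtype.ext (by
      rw [SubmonoidClass.coe_pow]
      show (hu.unit : Matrix ι ι K) ^ _ = 1
      rw [← Units.val_pow_eq_pow_val, pow_orderOf_eq_one]
      rfl)) (orderOf_pos hu.unit).ne') (Subtype.ext hs)
  have hv' : star' H σ v * (v : Matrix ι ι K) = h := congrArg Subtype.val hv
  obtain ⟨-, hvc, α, hα⟩ := hmem v v.2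
  rcases isEmpty_or_nonempty (Fin t) with he | ⟨⟨k⟩⟩
  · exact ⟨v, hvc, fun a => by ext i; exact he.elim i.1, hv'⟩
  let a : Fin (Finset.univ.sup d + 1) := ⟨d k, Nat.lt_succ_of_le (Finset.le_sup (Finset.mem_univ k))⟩
  have hn : σ α * α = 1 := by
    have h2 : sblk hd H a * blk hd a (star' H σ v * (v : Matrix ι ι K)) = (σ α * α) • sblk hd H a := by
      rw [blk_mul hd (com_star hJ hH hvc) hvc, ← mul_assoc, sblk_star hd hJ hH hct hvc, hα, ct_smul, ct_one,
        smul_mul, one_mul, smul_mul, mul_smul_comm, mul_one, smul_smul]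
    rw [hv', h1, mul_one] at h2
    have hS := sblk_det hd hJ hH hct a
    have h3 : (1 : Matrix (fib d a) (fib d a) K) = (σ α * α) • 1 := by
      have h4 := congrArg (fun M => (sblk hd H a)⁻¹ * M) h2
      simpa only [mul_smul_comm, nonsing_inv_mul _ hS] using h4
    have h5 := congrFun (congrFun h3 ⟨k, rfl⟩) ⟨k, rfl⟩
    simpa using h5.symm
  refine ⟨σ α • (v : Matrix ι ι K), com_smul _ hvc, fun b => by rw [blk_smul, hα, smul_smul, hn, one_smul], ?_⟩
  rw [star'_smul, smul_mul, mul_smul_comm, smul_smul, hc.invol, mul_comm, hn, one_smul, hv']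

/-- The elements of the commutant reducing to the identity. -/
abbrev V (K : Type*) [Field K] := {G : Matrix ι ι K // Com d G ∧ ∀ a, blk hd a G = 1}

theorem card_V : Nat.card (V hd K) = Fintype.card K ^ Fintype.card {x : P d // ¬ IsDiag d x} := by
  classical
  let val0 : ({x : P d // ¬ IsDiag d x} → K) → P d → K := fun f x =>
    if h : IsDiag d x then (if x.1.1 = x.1.2 then 1 else 0) else f ⟨x, h⟩
  let e : V hd K ≃ ({x : P d // ¬ IsDiag d x} → K) :=
    { toFun := fun G x => G.1 ⟨x.1.1.2, ⟨x.1.2 + (d x.1.1.2 - d x.1.1.1), by have := x.1.2.2; omega⟩⟩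
        ⟨x.1.1.1, ⟨0, hd _⟩⟩
      invFun := fun f => ⟨cmat d (val0 f), cmat_comm d _, fun a => by
        ext i j
        rw [blk_cmat]
        simp only [val0]
        rw [dif_pos ⟨j.2.trans i.2.symm, rfl⟩, one_apply]
        exact if_congr ⟨fun h => Subtype.ext h.symm, fun h => by rw [h]⟩ rfl rfl⟩
      left_inv := fun G => Subtype.ext (by
        refine Eq.trans ?_ (eq_cmat d hd G.1 G.2.1).symm
        refine congrArg (cmat d) ?_
        funext ⟨⟨k, l⟩, m⟩
        simp only [val0]
        split_ifs with h hkl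
        · obtain ⟨h1, h2⟩ := h
          dsimp only at h1 hkl
          subst hkl
          have h3 := congrFun (congrFun (G.2.2 ⟨d k, Nat.lt_succ_of_le (Finset.le_sup (Finset.mem_univ k))⟩)
            ⟨k, rfl⟩) ⟨k, rfl⟩
          rw [one_apply_eq] at h3
          rw [← h3]
          simp only [blk, Matrix.of_apply]
          rw [← bot_eq_top hd G.2.1 rfl]
          simp only at h2
          simp [bot, h2]
        · obtain ⟨h1, h2⟩ := h
          dsimp only at h1 hkl
          have h3 := congrFun (congrFun (G.2.2 ⟨d l, Nat.lt_succ_of_le (Finset.le_sup (Finset.mem_univ l))⟩)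
            ⟨l, rfl⟩) ⟨k, h1⟩
          rw [one_apply_ne (fun e => hkl (congrArg Subtype.val e).symm)] at h3
          rw [← h3]
          simp only [blk, Matrix.of_apply]
          rw [← bot_eq_top hd G.2.1 h1.symm]
          simp only at h2
          simp [bot, h2, h1]
        · rfl)
      right_inv := fun f => funext fun ⟨⟨⟨k, l⟩, m⟩, hx⟩ => by
        show cmat d (val0 f) ⟨l, _⟩ ⟨k, _⟩ = _
        simp only [cmat, Matrix.of_apply]
        rw [dif_pos (by omega)]
        have e : ∀ y : P d, y = ⟨(k, l), m⟩ → val0 f y = f ⟨⟨(k, l), m⟩, hx⟩ := fun y hy => by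
          subst hy
          simp only [val0, dif_neg hx]
        exact e _ (Sigma.ext rfl (heq_of_eq (Fin.ext (by simp)))) }
  rw [Nat.card_congr e, Nat.card_fun, Nat.card_eq_fintype_card, Nat.card_eq_fintype_card]

include hJ hH hct in
theorem blk_star_one {G : Matrix ι ι K} (hG : Com d G) (a : Fin (Finset.univ.sup d + 1))
    (h : blk hd a G = 1) : blk hd a (star' H σ G) = 1 := by
  have hS := sblk_det hd hJ hH hct a
  have e := sblk_star hd hJ hH hct hG a
  rw [h, ct_one, one_mul] at e
  have := congrArg (fun M => (sblk hd H a)⁻¹ * M) e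
  simpa only [← mul_assoc, nonsing_inv_mul _ hS, one_mul] using this

include hJ hc hH hct in
theorem card_unipotent_part :
    Nat.card {G : V hd K // star' H σ G.1 * G.1 = 1} ^ 2 = Nat.card (V hd K) := by
  classical
  set U1 := {G : V hd K // star' H σ G.1 * G.1 = 1}
  let Hm := {G : V hd K // star' H σ G.1 = G.1}
  have hw : ∀ h : Hm, ∃ w : V hd K, star' H σ w.1 * w.1 = h.1.1 := fun h => by
    obtain ⟨v, h1, h2, h3⟩ := exists_sqrt' hd hJ hc hH hct h.1.1 h.1.2.1 h.2 h.1.2.2
    exact ⟨⟨v, h1, h2⟩, h3⟩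
  choose w hw using hw
  have hu : ∀ G : V hd K, IsUnit G.1.det := fun G =>
    (Matrix.isUnit_iff_isUnit_det _).1 (isUnit_of_blk hd G.2.1 fun a => G.2.2 a ▸ isUnit_one)
  have hb : Function.Bijective (fun p : U1 × Hm => (⟨p.1.1.1 * (w p.2).1, com_mul p.1.1.2.1 (w p.2).2.1,
      fun a => by rw [blk_mul hd p.1.1.2.1 (w p.2).2.1, p.1.1.2.2, (w p.2).2.2, one_mul]⟩ : V hd K)) := by
    constructor
    · rintro ⟨u, h⟩ ⟨u', h'⟩ e
      have e' : u.1.1 * (w h).1 = u'.1.1 * (w h').1 := congrArg Subtype.val e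
      have key : ∀ (u : U1) (h : Hm), star' H σ (u.1.1 * (w h).1) * (u.1.1 * (w h).1) = h.1.1 := fun u h => by
        rw [star'_mul hH, mul_assoc, ← mul_assoc (star' H σ u.1.1), u.2, one_mul, hw]
      obtain rfl : h = h' := Subtype.ext (Subtype.ext (by rw [← key u h, ← key u' h', e']))
      refine Prod.ext (Subtype.ext (Subtype.ext ?_)) rfl
      have := congrArg (fun M => M * ((w h).1)⁻¹) e'
      simpa only [mul_assoc, mul_nonsing_inv _ (hu _), mul_one] using this
    · intro x
      let h : Hm := ⟨⟨star' H σ x.1 * x.1, com_mul (com_star hJ hH x.2.1) x.2.1, fun a => by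
        rw [blk_mul hd (com_star hJ hH x.2.1) x.2.1, blk_star_one hd hJ hH hct x.2.1 a (x.2.2 a), x.2.2,
          one_mul]⟩, by rw [star'_mul hH, star'_star' hc.invol hH hct]⟩
      have hi := hu (w h)
      have hi1 : ∀ a, blk hd a ((w h).1)⁻¹ = 1 := fun a => by
        have e := congrArg (blk hd a) (mul_nonsing_inv (w h).1 hi)
        rwa [blk_mul hd (w h).2.1 (com_inv (w h).2.1 hi), (w h).2.2, one_mul, blk_one] at e
      refine ⟨(⟨⟨x.1 * ((w h).1)⁻¹, com_mul x.2.1 (com_inv (w h).2.1 hi), fun a => by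
        rw [blk_mul hd x.2.1 (com_inv (w h).2.1 hi), x.2.2, hi1, one_mul]⟩, ?_⟩, h), Subtype.ext ?_⟩
      · show star' H σ (x.1 * ((w h).1)⁻¹) * (x.1 * ((w h).1)⁻¹) = 1
        rw [star'_mul hH, mul_assoc, ← mul_assoc (star' H σ x.1),
          show star' H σ x.1 * x.1 = star' H σ (w h).1 * (w h).1 from (hw h).symm,
          mul_assoc (star' H σ (w h).1), mul_nonsing_inv _ hi, mul_one, ← star'_mul hH, mul_nonsing_inv _ hi,
          star'_one hH]
      · show x.1 * ((w h).1)⁻¹ * (w h).1 = x.1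
        rw [mul_assoc, nonsing_inv_mul _ hi, mul_one]
  obtain ⟨θ, hθ⟩ := CfsgLib.KnownC.GUConj.exists_conj_fix hc
  have hb2 : Function.Bijective (fun p : Hm × Hm => (⟨p.1.1.1 + θ • (p.2.1.1 - 1),
      com_add p.1.1.2.1 (com_smul θ (com_sub p.2.1.2.1 com_one)),
      fun a => by rw [blk_add, blk_smul, blk_sub, p.1.1.2.2, p.2.1.2.2, blk_one, sub_self, smul_zero, add_zero]⟩ :
        V hd K)) := by
    have hst : ∀ a b : Hm, star' H σ (a.1.1 + θ • (b.1.1 - 1)) = a.1.1 + σ θ • (b.1.1 - 1) := fun a b => by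
      rw [star'_add, star'_smul, star'_sub, star'_one hH, a.2, b.2]
    constructor
    · rintro ⟨a, b⟩ ⟨a', b'⟩ e
      have e1 : a.1.1 + θ • (b.1.1 - 1) = a'.1.1 + θ • (b'.1.1 - 1) := congrArg Subtype.val e
      have e2 : a.1.1 + σ θ • (b.1.1 - 1) = a'.1.1 + σ θ • (b'.1.1 - 1) := by rw [← hst, ← hst, e1]
      have e3 : (θ - σ θ) • (b.1.1 - b'.1.1) = 0 := by
        linear_combination (norm := module) e1 - e2
      obtain rfl : b = b' := Subtype.ext (Subtype.ext (sub_eq_zero.1 ((smul_eq_zero.1 e3).resolve_left hθ)))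
      exact Prod.ext (Subtype.ext (Subtype.ext (add_right_cancel e1))) rfl
    · intro x
      set r := (θ - σ θ)⁻¹ with hr
      have hσr : σ r = -r := by rw [hr, map_inv₀, map_sub, hc.invol, ← inv_neg, neg_sub]
      set y := r • (x.1 - star' H σ x.1) with hy
      have hys : star' H σ y = y := by
        rw [hy, star'_smul, star'_sub, star'_star' hc.invol hH hct, hσr]
        module
      have hyc : Com d y := com_smul _ (com_sub x.2.1 (com_star hJ hH x.2.1))
      have hy0 : ∀ a, blk hd a y = 0 := fun a => by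
        rw [hy, blk_smul, blk_sub, x.2.2, blk_star_one hd hJ hH hct x.2.1 a (x.2.2 a), sub_self, smul_zero]
      refine ⟨(⟨⟨x.1 - θ • y, com_sub x.2.1 (com_smul θ hyc), fun a => by
        rw [blk_sub, blk_smul, x.2.2, hy0, smul_zero, sub_zero]⟩, ?_⟩,
        ⟨⟨1 + y, com_add com_one hyc, fun a => by rw [blk_add, blk_one, hy0, add_zero]⟩, ?_⟩), Subtype.ext ?_⟩
      · show star' H σ (x.1 - θ • y) = x.1 - θ • y
        rw [star'_sub, star'_smul, hys]
        have e4 : (θ - σ θ) • y = x.1 - star' H σ x.1 := by rw [hy, smul_smul, hr, mul_inv_cancel₀ hθ, one_smul]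
        linear_combination (norm := module) e4
      · show star' H σ (1 + y) = 1 + y
        rw [star'_add, star'_one hH, hys]
      · show x.1 - θ • y + θ • ((1 + y) - 1) = x.1
        rw [add_sub_cancel_left, sub_add_cancel]
  have c1 := Nat.card_eq_of_bijective _ hb
  have c2 := Nat.card_eq_of_bijective _ hb2
  rw [Nat.card_prod] at c1 c2
  have : Nonempty Hm := ⟨⟨⟨1, com_one, fun a => blk_one hd a⟩, star'_one hH⟩⟩
  have hpos : 0 < Nat.card Hm := Nat.card_pos
  have h12 : Nat.card U1 = Nat.card Hm := Nat.eq_of_mul_eq_mul_right hpos (c1.trans c2.symm)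
  rw [h12, pow_two]
  exact c2

include hJ hc hH hct in
theorem card_unitary : Nat.card {G : Matrix ι ι K // Com d G ∧ star' H σ G * G = 1} =
    (∏ a, Nat.card {M : Matrix (fib d a) (fib d a) K // ct σ M * sblk hd H a * M = sblk hd H a}) *
      Nat.card {G : V hd K // star' H σ G.1 * G.1 = 1} := by
  classical
  rw [← Nat.card_pi, ← Nat.card_prod]
  set UA := (a : Fin (Finset.univ.sup d + 1)) →
    {M : Matrix (fib d a) (fib d a) K // ct σ M * sblk hd H a * M = sblk hd H a}
  have hlift : ∀ M : UA, ∃ G : Matrix ι ι K,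
      (Com d G ∧ star' H σ G * G = 1) ∧ ∀ a, blk hd a G = (M a).1 := by
    intro M
    let c : P d → K := fun x => if h : IsDiag d x then
      (M ⟨d x.1.1, Nat.lt_succ_of_le (Finset.le_sup (Finset.mem_univ _))⟩).1 ⟨x.1.2, h.1.symm⟩ ⟨x.1.1, rfl⟩ else 0
    have hL : ∀ a, blk hd a (cmat d c) = (M a).1 := fun a => by
      ext i j
      rw [blk_cmat]
      simp only [c]
      rw [dif_pos ⟨j.2.trans i.2.symm, rfl⟩]
      obtain ⟨i, hi⟩ := i
      obtain ⟨j, hj⟩ := j
      obtain ⟨a, ha⟩ := a
      dsimp only at hi hj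
      subst hj
      rfl
    set L := cmat d c
    have hLc : Com d L := cmat_comm d c
    have hb1 : ∀ a, blk hd a (star' H σ L * L) = 1 := fun a => by
      have hS := sblk_det hd hJ hH hct a
      have e : sblk hd H a * blk hd a (star' H σ L * L) = sblk hd H a := by
        rw [blk_mul hd (com_star hJ hH hLc) hLc, ← mul_assoc, sblk_star hd hJ hH hct hLc, hL]
        exact (M a).2
      have := congrArg (fun X => (sblk hd H a)⁻¹ * X) e
      simpa only [← mul_assoc, nonsing_inv_mul _ hS, one_mul] using this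
    obtain ⟨v, hv1, hv2, hv3⟩ := exists_sqrt' hd hJ hc hH hct (star' H σ L * L)
      (com_mul (com_star hJ hH hLc) hLc) (by rw [star'_mul hH, star'_star' hc.invol hH hct]) hb1
    have hvu : IsUnit v.det :=
      (Matrix.isUnit_iff_isUnit_det _).1 (isUnit_of_blk hd hv1 fun a => hv2 a ▸ isUnit_one)
    refine ⟨L * v⁻¹, ⟨com_mul hLc (com_inv hv1 hvu), ?_⟩, fun a => ?_⟩
    · rw [star'_mul hH, mul_assoc, ← mul_assoc (star' H σ L), ← hv3, mul_assoc (star' H σ v),
        mul_nonsing_inv _ hvu, mul_one, ← star'_mul hH, mul_nonsing_inv _ hvu, star'_one hH]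
    · have e := congrArg (blk hd a) (mul_nonsing_inv v hvu)
      rw [blk_mul hd hv1 (com_inv hv1 hvu), hv2, one_mul, blk_one] at e
      rw [blk_mul hd hLc (com_inv hv1 hvu), e, mul_one, hL]
  choose L hL hLb using hlift
  refine (Nat.card_eq_of_bijective (fun p : UA × {G : V hd K // star' H σ G.1 * G.1 = 1} =>
    (⟨L p.1 * p.2.1.1, com_mul (hL p.1).1 p.2.1.2.1, by
      rw [star'_mul hH, mul_assoc, ← mul_assoc (star' H σ (L p.1)), (hL p.1).2, one_mul, p.2.2]⟩ :
        {G : Matrix ι ι K // Com d G ∧ star' H σ G * G = 1})) ⟨?_, ?_⟩).symm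
  · rintro ⟨M, u⟩ ⟨M', u'⟩ e
    have e' : L M * u.1.1 = L M' * u'.1.1 := congrArg Subtype.val e
    obtain rfl : M = M' := funext fun a => Subtype.ext (by
      have := congrArg (blk hd a) e'
      rwa [blk_mul hd (hL M).1 u.1.2.1, blk_mul hd (hL M').1 u'.1.2.1, u.1.2.2, u'.1.2.2, mul_one, mul_one,
        hLb, hLb] at this)
    refine Prod.ext rfl (Subtype.ext (Subtype.ext ?_))
    have := congrArg (fun X => star' H σ (L M) * X) e'
    simpa only [← mul_assoc, (hL M).2, one_mul] using this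
  · rintro ⟨G, hG, hGu⟩
    let M : UA := fun a => ⟨blk hd a G, by
      rw [← sblk_star hd hJ hH hct hG, mul_assoc, ← blk_mul hd (com_star hJ hH hG) hG, hGu, blk_one, mul_one]⟩
    have hb : ∀ a, blk hd a (star' H σ (L M) * G) = 1 := fun a => by
      rw [blk_mul hd (com_star hJ hH (hL M).1) hG]
      have e := congrArg (blk hd a) (hL M).2
      rw [blk_mul hd (com_star hJ hH (hL M).1) (hL M).1, blk_one, hLb] at e
      exact e
    refine ⟨(M, ⟨⟨star' H σ (L M) * G, com_mul (com_star hJ hH (hL M).1) hG, hb⟩, ?_⟩), Subtype.ext ?_⟩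
    · show star' H σ (star' H σ (L M) * G) * (star' H σ (L M) * G) = 1
      rw [star'_mul hH, star'_star' hc.invol hH hct, mul_assoc, ← mul_assoc (L M), mul_eq_one_comm.1 (hL M).2, one_mul,
        hGu]
    · show L M * (star' H σ (L M) * G) = G
      rw [← mul_assoc, mul_eq_one_comm.1 (hL M).2, one_mul]

include hJ hc hH hct in
theorem sblk_herm (a : Fin (Finset.univ.sup d + 1)) :
    ∃ μ : K, μ ≠ 0 ∧ ct σ (μ • sblk hd H a) = μ • sblk hd H a := by
  classical
  set S := sblk hd H a with hSdef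
  have hS : IsUnit S.det := hSdef ▸ sblk_det hd hJ hH hct a
  rcases isEmpty_or_nonempty (fib d a) with he | ⟨⟨i⟩⟩
  · exact ⟨1, one_ne_zero, by ext i; exact he.elim i⟩
  have key : ∀ M, Commute M (S⁻¹ * ct σ S) := fun M => by
    let c : P d → K := fun x => if h : d x.1.1 = (a : ℕ) ∧ d x.1.2 = (a : ℕ) ∧ (x.2 : ℕ) = 0 then
      M ⟨x.1.2, h.2.1⟩ ⟨x.1.1, h.1⟩ else 0
    have hM : blk hd a (cmat d c) = M := by
      ext i j
      rw [blk_cmat]
      simp only [c]
      rw [dif_pos ⟨j.2, i.2, trivial⟩]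
    have hc' : Com d (cmat d c) := cmat_comm d c
    have e1 := sblk_star hd hJ hH hct hc' a
    have e2 := sblk_star hd hJ hH hct (com_star hJ hH hc') a
    rw [star'_star' hc.invol hH hct, hM] at e2
    rw [hM] at e1
    set Y := blk hd a (star' H σ (cmat d c))
    have e3 : ct σ Y * ct σ S = ct σ S * M := by
      have := congrArg (ct σ) e1
      rwa [ct_mul, ct_mul, ct_ct hc.invol] at this
    have e4 : ct σ Y = S * M * S⁻¹ := by rw [hSdef, e2, mul_assoc, mul_nonsing_inv _ hS, mul_one]
    show M * (S⁻¹ * ct σ S) = S⁻¹ * ct σ S * M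
    rw [mul_assoc, ← e3, e4]
    simp only [← mul_assoc, nonsing_inv_mul _ hS, one_mul]
  obtain ⟨z, hz⟩ := Matrix.mem_range_scalar_of_commute_single (M := S⁻¹ * ct σ S) fun j k _ => key _
  have hzS : ct σ S = z • S := by
    have h := congrArg (fun X => S * X) hz
    simp only [Matrix.scalar_apply, ← mul_assoc, mul_nonsing_inv _ hS, one_mul] at h
    rw [← h]
    ext i j
    simp [mul_comm]
  have hzz : σ z * z = 1 := by
    have h := congrArg (ct σ) hzS
    rw [ct_ct hc.invol, ct_smul, hzS, smul_smul] at h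
    have hne : ∃ i j, S i j ≠ 0 := by
      by_contra hall
      push Not at hall
      have h0 : S = 0 := Matrix.ext hall
      have : Nonempty (fib d a) := ⟨i⟩
      rw [h0, det_zero] at hS
      exact not_isUnit_zero hS
    obtain ⟨i, j, hij⟩ := hne
    have := congrFun (congrFun h i) j
    rw [Matrix.smul_apply, smul_eq_mul] at this
    exact mul_right_cancel₀ hij (by rw [one_mul]; exact this.symm)
  obtain ⟨θ, hθ⟩ := CfsgLib.KnownC.GUConj.exists_conj_fix hc
  obtain ⟨μ, hμ, hμz⟩ : ∃ μ : K, μ ≠ 0 ∧ σ μ * z = μ := by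
    by_cases hz1 : z = -1
    · exact ⟨θ - σ θ, hθ, by rw [map_sub, hc.invol, hz1]; ring⟩
    · exact ⟨1 + z, fun e => hz1 (eq_neg_of_add_eq_zero_right e), by
        rw [map_add, map_one]; linear_combination hzz⟩
  exact ⟨μ, hμ, by rw [ct_smul, hzS, smul_smul, hμz]⟩

theorem card_isometries {q m : ℕ} (hK : Fintype.card K = q ^ 2) (hσ : ∀ x, σ x = x ^ q) (hcj : IsConjugation σ)
    {α : Type*} [Fintype α] [DecidableEq α] (hm : Fintype.card α = m) (T : Matrix α α K) (hT : IsUnit T.det)
    (hTh : ct σ T = T) :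
    Nat.card {M : Matrix α α K // ct σ M * T * M = T} = Nat.card ↥(Cfsg.GU m K q) := by
  classical
  let e := Fintype.equivFinOfCardEq hm
  set T' := Matrix.reindex e e T with hT'
  have hT'u : IsUnit T'.det := by rwa [hT', det_reindex_self]
  obtain ⟨v, hv, -⟩ := CfsgLib.KnownC.GUConj.exists_sqrt hcj
    (Matrix.nonsingInvUnit T' hT'u) (Units.ext (by
      ext i j
      show σ (T' j i) = T' i j
      exact congrFun (congrFun hTh (e.symm i)) (e.symm j)))
  have hv' : ct σ v.val * v.val = T' := congrArg Units.val hv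
  refine (Nat.card_congr (Equiv.subtypeEquiv (q := fun M : Matrix (Fin m) (Fin m) K => ct σ M * T' * M = T')
    (Matrix.reindex e e) fun M => ?_)).trans ?_
  · rw [hT']
    simp only [Matrix.reindex_apply]
    constructor
    · intro h
      rw [show ct σ (M.submatrix e.symm e.symm) = (ct σ M).submatrix e.symm e.symm from rfl,
        submatrix_mul_equiv, submatrix_mul_equiv, h]
    · intro h
      rw [show ct σ (M.submatrix e.symm e.symm) = (ct σ M).submatrix e.symm e.symm from rfl,
        submatrix_mul_equiv, submatrix_mul_equiv] at h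
      exact Matrix.reindex e e |>.injective h
  have hu : ∀ M : Matrix (Fin m) (Fin m) K, ct σ M * T' * M = T' → IsUnit M.det := fun M h => by
    have := congrArg det h
    rw [det_mul, det_mul] at this
    exact isUnit_iff_ne_zero.2 fun h0 => by rw [h0, mul_zero] at this; exact hT'u.ne_zero this.symm
  let mk : {M : Matrix (Fin m) (Fin m) K // ct σ M * T' * M = T'} → GL (Fin m) K := fun M =>
    v * Matrix.nonsingInvUnit M.1 (hu M.1 M.2) * v⁻¹
  have hmem : ∀ M, mk M ∈ Cfsg.GU m K q := fun M => (CfsgLib.KnownC.GUConj.mem_GU_iff_adj hK hσ hcj).2 (by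
    have hM : CfsgLib.KnownC.GUConj.adjGL σ (Matrix.nonsingInvUnit M.1 (hu M.1 M.2)) *
        (CfsgLib.KnownC.GUConj.adjGL σ v * v) * Matrix.nonsingInvUnit M.1 (hu M.1 M.2) =
        CfsgLib.KnownC.GUConj.adjGL σ v * v := by
      refine Units.ext ?_
      show ct σ M.1 * (ct σ v.val * v.val) * M.1 = ct σ v.val * v.val
      rw [hv']
      exact M.2
    simp only [mk, CfsgLib.KnownC.GUConj.adjGL_mul, CfsgLib.KnownC.GUConj.adjGL_inv]
    calc _ = (CfsgLib.KnownC.GUConj.adjGL σ v)⁻¹ * (CfsgLib.KnownC.GUConj.adjGL σ (Matrix.nonsingInvUnit M.1 (hu M.1 M.2)) *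
        (CfsgLib.KnownC.GUConj.adjGL σ v * v) * Matrix.nonsingInvUnit M.1 (hu M.1 M.2)) * v⁻¹ := by group
      _ = 1 := by rw [hM]; group)
  refine Nat.card_eq_of_bijective (fun M => (⟨mk M, hmem M⟩ : ↥(Cfsg.GU m K q))) ⟨?_, ?_⟩
  · intro M M' h
    have h' := congrArg (fun g : ↥(Cfsg.GU m K q) => g.1) h
    simp only [mk, mul_left_inj, mul_right_inj] at h'
    exact Subtype.ext (congrArg Units.val h')
  · intro g
    have hg := (CfsgLib.KnownC.GUConj.mem_GU_iff_adj hK hσ hcj).1 g.2
    refine ⟨⟨(v⁻¹ * g.1 * v : GL (Fin m) K).val, ?_⟩, Subtype.ext (Units.ext ?_)⟩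
    · show (CfsgLib.KnownC.GUConj.adjGL σ (v⁻¹ * g.1 * v)).val * T' * (v⁻¹ * g.1 * v : GL (Fin m) K).val = T'
      rw [← hv', show ct σ v.val * v.val = (CfsgLib.KnownC.GUConj.adjGL σ v * v).val from rfl, ← Units.val_mul,
        ← Units.val_mul]
      refine congrArg Units.val ?_
      simp only [CfsgLib.KnownC.GUConj.adjGL_mul, CfsgLib.KnownC.GUConj.adjGL_inv]
      calc _ = CfsgLib.KnownC.GUConj.adjGL σ v * (CfsgLib.KnownC.GUConj.adjGL σ g.1 * g.1) * v := by group
        _ = CfsgLib.KnownC.GUConj.adjGL σ v * v := by rw [hg, mul_one]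
    · show v.val * (v⁻¹ * g.1 * v : GL (Fin m) K).val * (v⁻¹ : GL (Fin m) K).val = g.1.val
      rw [← Units.val_mul, ← Units.val_mul]
      exact congrArg Units.val (by group)

end Count

theorem gu_order_int (q a : ℕ) (hq : 2 ≤ q) :
    ((q ^ (a * (a - 1) / 2) * ∏ i ∈ Finset.range a, (if Even i then q ^ (i + 1) + 1 else q ^ (i + 1) - 1) : ℕ) : ℤ) =
      (q : ℤ) ^ (a * (a - 1) / 2) * ∏ j : Fin a, ((q : ℤ) ^ ((j : ℕ) + 1) - (-1) ^ ((j : ℕ) + 1)) := by
  rw [Nat.cast_mul, Nat.cast_pow, Finset.prod_range, Nat.cast_prod]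
  congr 1
  refine Finset.prod_congr rfl fun j _ => ?_
  split_ifs with h
  · rw [(Even.add_one h).neg_one_pow, sub_neg_eq_add]
    push_cast
    ring
  · rw [((Nat.not_even_iff_odd.1 h).add_one).neg_one_pow, Nat.cast_sub (Nat.one_le_pow _ _ (by omega))]
    push_cast
    ring

theorem card_centralizer [Fintype K] {q n : ℕ} (hd : ∀ k, 1 ≤ d k) (hK : Fintype.card K = q ^ 2)
    (e : ι ≃ Fin n) (u : ↥(Cfsg.GU n K q))
    (hu : IsConj (Matrix.reindex e e JJ) ((u : GL (Fin n) K) : Matrix (Fin n) (Fin n) K)) :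
    (Nat.card ↥(Subgroup.centralizer ({u} : Set ↥(Cfsg.GU n K q))) : ℤ) =
    (q : ℤ) ^ (2 * (∑ i ∈ Finset.range (Finset.univ.sup d + 1), ∑ j ∈ Finset.range (Finset.univ.sup d + 1),
      if i < j then i * mult d i * mult d j else 0) +
      ∑ i ∈ Finset.range (Finset.univ.sup d + 1), (i - 1) * mult d i ^ 2) *
    ∏ i ∈ Finset.range (Finset.univ.sup d + 1), ((q : ℤ) ^ (mult d i * (mult d i - 1) / 2) *
      ∏ j : Fin (mult d i), ((q : ℤ) ^ ((j : ℕ) + 1) - (-1) ^ ((j : ℕ) + 1))) := by
  classical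
  obtain ⟨σ, hσ, hc⟩ := exists_frob hK
  have hq := two_le_of_card_sq hK
  obtain ⟨c, hcu⟩ := hu
  -- the model
  set C : Matrix (Fin n) ι K := c.val.submatrix id e with hC
  set C' : Matrix ι (Fin n) K := (c⁻¹ : (Matrix (Fin n) (Fin n) K)ˣ).val.submatrix e id with hC'
  have hCC' : C * C' = 1 := by
    rw [hC, hC', submatrix_mul_equiv, Units.mul_inv, submatrix_id_id]
  have hC'C : C' * C = 1 := by
    rw [hC, hC', ← submatrix_mul _ _ e id e Function.bijective_id, Units.inv_mul, submatrix_one_equiv]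
  have hBC : (u.1.val) * C = C * JJ := by
    have h := hcu.eq
    have e1 : (u.1.val * c.val).submatrix id e = (c.val * Matrix.reindex e e JJ).submatrix id e := by rw [h]
    rw [← submatrix_mul_equiv (u.1.val) c.val id (Equiv.refl (Fin n)) e,
      ← submatrix_mul_equiv c.val (Matrix.reindex e e JJ) id e e] at e1
    simp [Matrix.submatrix_submatrix, Function.comp_def] at e1
    exact e1
  set H : Matrix ι ι K := ct σ C * C with hHdef
  have huadj : ct σ u.1.val * u.1.val = 1 :=
    congrArg Units.val ((CfsgLib.KnownC.GUConj.mem_GU_iff_adj hK hσ hc).1 u.2)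
  have hH : IsUnit H.det := by
    refine Matrix.isUnit_det_of_left_inverse (B := C' * ct σ C') ?_
    calc C' * ct σ C' * (ct σ C * C) = C' * (ct σ (C * C')) * C := by rw [ct_mul]; simp only [Matrix.mul_assoc]
      _ = 1 := by rw [hCC', ct_one, Matrix.mul_one, hC'C]
  have hct : H = (1 : K) • ct σ H := by rw [one_smul, hHdef, ct_mul, ct_ct hc.invol]
  have hJ : ct σ JJ * H * JJ = H := by
    calc ct σ JJ * (ct σ C * C) * JJ = ct σ (C * JJ) * (C * JJ) := by rw [ct_mul]; simp only [Matrix.mul_assoc]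
      _ = ct σ C * (ct σ u.1.val * u.1.val) * C := by rw [← hBC, ct_mul]; simp only [Matrix.mul_assoc]
      _ = ct σ C * C := by rw [huadj, Matrix.mul_one]
  have hJC : C' * u.1.val = JJ * C' := by
    calc C' * u.1.val = C' * (u.1.val * C) * C' := by simp only [Matrix.mul_assoc, hCC', Matrix.mul_one]
      _ = JJ * C' := by rw [hBC, ← Matrix.mul_assoc, hC'C, Matrix.one_mul]
  -- the transport
  have hiff : ∀ G : Matrix ι ι K, star' H σ G * G = 1 ↔ ct σ G * H * G = H := fun G => by
    constructor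
    · intro h
      rw [← H_mul_star' hH, Matrix.mul_assoc, h, Matrix.mul_one]
    · intro h
      rw [star', Matrix.mul_assoc, Matrix.mul_assoc, ← Matrix.mul_assoc (ct σ G), h, nonsing_inv_mul _ hH]
  let E : ↥(Subgroup.centralizer ({u} : Set ↥(Cfsg.GU n K q))) ≃
      {G : Matrix ι ι K // Com d G ∧ star' H σ G * G = 1} :=
    { toFun := fun g => ⟨C' * g.1.1.val * C, by
        have hg : g.1.1.val * u.1.val = u.1.val * g.1.1.val :=
          congrArg (fun x : ↥(Cfsg.GU n K q) => x.1.val) (Subgroup.mem_centralizer_singleton_iff.1 g.2)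
        refine ⟨(comm_iff d _).1 ?_, (hiff _).2 ?_⟩
        · calc C' * g.1.1.val * C * JJ = C' * (g.1.1.val * u.1.val) * C := by
                rw [Matrix.mul_assoc _ C, ← hBC]; simp only [Matrix.mul_assoc]
            _ = C' * u.1.val * g.1.1.val * C := by rw [hg]; simp only [Matrix.mul_assoc]
            _ = JJ * (C' * g.1.1.val * C) := by rw [hJC]; simp only [Matrix.mul_assoc]
        · have hga : ct σ g.1.1.val * g.1.1.val = 1 :=
            congrArg Units.val ((CfsgLib.KnownC.GUConj.mem_GU_iff_adj hK hσ hc).1 g.1.2)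
          calc ct σ (C' * g.1.1.val * C) * (ct σ C * C) * (C' * g.1.1.val * C)
              = ct σ C * ct σ g.1.1.val * (ct σ (C * C')) * ((C * C') * g.1.1.val * C) := by
                simp only [ct_mul, Matrix.mul_assoc]
            _ = ct σ C * (ct σ g.1.1.val * g.1.1.val) * C := by
                rw [hCC', ct_one, Matrix.mul_one, Matrix.one_mul]; simp only [Matrix.mul_assoc]
            _ = ct σ C * C := by rw [hga, Matrix.mul_one]⟩
      invFun := fun G => by
        have h1 : ct σ (C * G.1 * C') * (C * G.1 * C') = 1 := by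
          calc ct σ (C * G.1 * C') * (C * G.1 * C') = ct σ C' * (ct σ G.1 * (ct σ C * C) * G.1) * C' := by
                simp only [ct_mul, Matrix.mul_assoc]
            _ = ct σ C' * (ct σ C * C) * C' := by rw [(hiff _).1 G.2.2]
            _ = ct σ (C * C') * (C * C') := by simp only [ct_mul, Matrix.mul_assoc]
            _ = 1 := by rw [hCC', ct_one, Matrix.mul_one]
        refine ⟨⟨⟨C * G.1 * C', ct σ (C * G.1 * C'), mul_eq_one_comm.1 h1, h1⟩,
          (CfsgLib.KnownC.GUConj.mem_GU_iff_adj hK hσ hc).2 (Units.ext h1)⟩, ?_⟩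
        refine Subgroup.mem_centralizer_singleton_iff.2 (Subtype.ext (Units.ext ?_))
        show C * G.1 * C' * u.1.val = u.1.val * (C * G.1 * C')
        calc C * G.1 * C' * u.1.val = C * (G.1 * JJ) * C' := by
              rw [Matrix.mul_assoc _ C', hJC]; simp only [Matrix.mul_assoc]
          _ = C * JJ * G.1 * C' := by rw [(comm_iff d _).2 G.2.1]; simp only [Matrix.mul_assoc]
          _ = u.1.val * (C * G.1 * C') := by rw [← hBC]; simp only [Matrix.mul_assoc]
      left_inv := fun g => Subtype.ext (Subtype.ext (Units.ext (by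
        show C * (C' * g.1.1.val * C) * C' = g.1.1.val
        calc _ = (C * C') * g.1.1.val * (C * C') := by simp only [Matrix.mul_assoc]
          _ = _ := by rw [hCC', Matrix.one_mul, Matrix.mul_one])))
      right_inv := fun G => Subtype.ext (by
        show C' * (C * G.1 * C') * C = G.1
        calc _ = (C' * C) * G.1 * (C' * C) := by simp only [Matrix.mul_assoc]
          _ = _ := by rw [hC'C, Matrix.one_mul, Matrix.mul_one]) }
  rw [Nat.card_congr E, card_unitary hd hJ hc hH hct, mul_comm, Nat.cast_mul]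
  congr 1
  · rw [← Nat.cast_pow]
    norm_cast
    have h1 := card_unipotent_part hd hJ hc hH hct
    rw [card_V hd, hK, ← pow_mul, mul_comm 2, pow_mul] at h1
    rw [Nat.pow_left_injective (by norm_num) h1]
    congr 1
    exact card_nondiag d hd
  · rw [Nat.cast_prod, Finset.prod_range]
    refine Finset.prod_congr rfl fun a _ => ?_
    obtain ⟨μ, hμ, hμh⟩ := sblk_herm hd hJ hc hH hct a
    have hcard : Fintype.card (fib d a) = mult d a := by rw [Fintype.card_subtype]; rfl
    have hdet : IsUnit (μ • sblk hd H a).det := by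
      rw [det_smul]
      exact ((IsUnit.mk0 _ hμ).pow _).mul (sblk_det hd hJ hH hct a)
    rw [show Nat.card {M : Matrix (fib d a) (fib d a) K // ct σ M * sblk hd H a * M = sblk hd H a} =
        Nat.card {M : Matrix (fib d a) (fib d a) K // ct σ M * (μ • sblk hd H a) * M = μ • sblk hd H a} from
      Nat.card_congr (Equiv.subtypeEquivRight fun M => by
        rw [Matrix.mul_smul, Matrix.smul_mul, smul_right_inj hμ]),
      card_isometries hK hσ hc hcard _ hdet hμh, card_GU hK, gu_order_int q _ hq]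

end CfsgLib.Involution.UnipotentCentralizerGU
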