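import Cfsg.Agent.Lib.Classical.HermMatrix

/-!
# Primes of the centraliser of a unipotent element in a unitary group

If an element `g` of prime order `r` commutes with a non-trivial unipotent element of `GU_n`, then `r`
divides the order of `GU_{n-2}`: `g` normalises the totally isotropic image `R` of the last non-zero power
of `u - 1`, on which it preserves a non-degenerate Hermitian form, and acts on `perp R / R`.
-/

set_option autoImplicit false
set_option linter.unusedSectionVars false

open Module CfsgLib.Classical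

namespace CfsgLib.Involution.UnipotentPrimes

variable {F : Type*} [Field F] [Fintype F] {σ : F →+* F} {V : Type*} [AddCommGroup V] [Module F V]
  [FiniteDimensional F V] {B : V →ₛₗ[σ] V →ₗ[F] F}

theorem pow_eq_add {D : Module.End F V} (hD : D * (D * D) = 0) : ∀ j : ℕ,
    (1 + D) ^ j = 1 + (j : F) • D + ((j.choose 2 : ℕ) : F) • (D * D)
  | 0 => by simp
  | j + 1 => by
    rw [pow_succ, pow_eq_add hD j, Nat.choose_succ_succ, Nat.choose_one_right]
    push_cast
    simp only [mul_add, add_mul, mul_one, one_mul, smul_mul_assoc, mul_assoc, hD, smul_zero, add_zero,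
      add_smul, one_smul]
    abel

theorem eq_one_of_pow {g : Module.End F V} {r : ℕ} (hr : (r : F) ≠ 0) (h3 : (g - 1) * ((g - 1) * (g - 1)) = 0)
    (hgr : g ^ r = 1) : g = 1 := by
  have e := pow_eq_add h3 r
  rw [add_sub_cancel, hgr, add_assoc, eq_comm, add_eq_left] at e
  have e2 : (g - 1) * (g - 1) = 0 := by
    have h := congrArg (fun X => (g - 1) * X) e
    simp only [mul_add, mul_smul_comm, h3, smul_zero, add_zero, mul_zero] at h
    exact (smul_eq_zero.1 h).resolve_left hr
  rw [e2, smul_zero, add_zero] at e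
  exact sub_eq_zero.1 ((smul_eq_zero.1 e).resolve_left hr)

/-- An isometry with `h ^ r = 1`, for a prime `r` not dividing the order of the isometry group, is trivial. -/
theorem isom_eq_one {W : Type*} [AddCommGroup W] [Module F W] [FiniteDimensional F W]
    {C : W →ₛₗ[σ] W →ₗ[F] F} {r : ℕ} [Fact r.Prime] (h : W →ₗ[F] W)
    (hC : ∀ a b, C (h a) (h b) = C a b) (hr : h ^ r = 1)
    (hcard : ¬ r ∣ Nat.card (isomGroup C)) : h = 1 := by
  have hr0 := (Fact.out : r.Prime).pos
  let e : W ≃ₗ[F] W := LinearEquiv.ofLinear h (h ^ (r - 1))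
    (by rw [← Module.End.mul_eq_comp, ← pow_succ', Nat.sub_add_cancel hr0, hr]; rfl)
    (by rw [← Module.End.mul_eq_comp, ← pow_succ, Nat.sub_add_cancel hr0, hr]; rfl)
  let γ : isomGroup C := ⟨e, hC⟩
  have hpow : ∀ (j : ℕ) (x : W), (γ ^ j).1 x = (h ^ j) x := by
    intro j
    induction j with
    | zero => simp
    | succ j ih =>
      intro x
      rw [pow_succ, pow_succ, Subgroup.coe_mul, LinearEquiv.mul_apply, ih]
      rfl
  have hγr : γ ^ r = 1 := Subtype.ext (LinearEquiv.ext fun x => by rw [hpow, hr]; rfl)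
  by_contra hne
  have hγ : γ ≠ 1 := fun hγ => hne (LinearMap.ext fun x => congrArg (fun δ : isomGroup C => δ.1 x) hγ)
  exact hcard (orderOf_eq_prime hγr hγ ▸ orderOf_dvd_natCard γ)

theorem card_isom_dvd (hH : IsHermitian B) (hN : B.SeparatingRight) {q : ℕ} (hF : Fintype.card F = q ^ 2)
    (hσ : ∀ x, σ x = x ^ q) {n : ℕ} (hn : finrank F V ≤ n) :
    Nat.card (isomGroup B) ∣ Nat.card (Cfsg.GU n F q) := by
  rw [card_isom_herm_closed hF hσ hH hN, card_GU hF]
  exact mul_dvd_mul (pow_dvd_pow q (Nat.div_le_div_right (Nat.mul_le_mul hn (by omega))))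
    (Finset.prod_dvd_prod_of_subset _ _ _ (Finset.range_mono hn))

/-- The main lemma. -/
theorem eq_one_of_commute (hH : IsHermitian B) (hNB : B.SeparatingRight) {q : ℕ}
    (hF : Fintype.card F = q ^ 2) (hσ : ∀ x, σ x = x ^ q) (hn : 3 ≤ finrank F V)
    (g u : isomGroup B) (hgu : Commute g u) (hu : u ≠ 1) {m : ℕ}
    (hnil : ((u.1 : V →ₗ[F] V) - 1) ^ m = 0) {r : ℕ} [Fact r.Prime] (hrF : (r : F) ≠ 0) (hgr : g ^ r = 1)
    (hr : ¬ r ∣ Nat.card (Cfsg.GU (finrank F V - 2) F q)) : g = 1 := by
  classical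
  set n := finrank F V with hndef
  set G : Module.End F V := (g.1 : V →ₗ[F] V) with hG
  set T : Module.End F V := (u.1 : V →ₗ[F] V) with hT
  set Ti : Module.End F V := ((u⁻¹).1 : V →ₗ[F] V) with hTi
  set N : Module.End F V := T - 1 with hN
  have hTiT : Ti * T = 1 := LinearMap.ext fun x => congrArg (fun δ : isomGroup B => δ.1 x) (inv_mul_cancel u)
  have hTTi : T * Ti = 1 := LinearMap.ext fun x => congrArg (fun δ : isomGroup B => δ.1 x) (mul_inv_cancel u)
  have hGT : Commute G T := LinearMap.ext fun x => congrArg (fun δ : isomGroup B => δ.1 x) hgu.eq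
  have hGN : Commute G N := hGT.sub_right (Commute.one_right G)
  have hNTi : Commute N Ti := (show Commute T Ti from hTTi.trans hTiT.symm).sub_left (Commute.one_left Ti)
  have hN0 : N ≠ 0 := fun h0 => hu (Subtype.ext (LinearEquiv.toLinearMap_injective (sub_eq_zero.1 h0)))
  have hex : ∃ j, N ^ (j + 1) = 0 := ⟨m, by rw [pow_succ, hnil, zero_mul]⟩
  set l := Nat.find hex with hl
  have hl0 : N ^ (l + 1) = 0 := Nat.find_spec hex
  have hl1 : 1 ≤ l := by
    rcases Nat.eq_zero_or_pos l with h | h
    · rw [h] at hl0; exact absurd (by simpa using hl0) hN0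
    · exact h
  have hlne : N ^ l ≠ 0 := by
    have h := Nat.find_min hex (show l - 1 < l by omega)
    rwa [Nat.sub_add_cancel hl1] at h
  -- the adjoint of `N`
  set M : Module.End F V := Ti - 1 with hM
  have hadj1 : ∀ x y, B x (N y) = B (M x) y := fun x y => by
    have e : B (Ti x) y = B x (T y) := by
      have := u.2 (Ti x) y
      change B (T (Ti x)) (T y) = _ at this
      rw [show T (Ti x) = x from LinearMap.congr_fun hTTi x] at this
      exact this.symm
    simp [hN, hM, e]
  have hadj : ∀ (j : ℕ) x y, B x ((N ^ j) y) = B ((M ^ j) x) y := by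
    intro j
    induction j with
    | zero => simp
    | succ j ih =>
      intro x y
      rw [pow_succ, Module.End.mul_apply, ih, hadj1, pow_succ', Module.End.mul_apply]
  have hMN : M = -(N * Ti) := by rw [hN, hM, sub_mul, hTTi, one_mul, neg_sub]
  have hNlT : ∀ j : ℕ, N ^ l * Ti ^ j = N ^ l := by
    intro j
    induction j with
    | zero => simp
    | succ j ih =>
      have h1 : N ^ l * M = 0 := by rw [hMN, mul_neg, ← mul_assoc, ← pow_succ, hl0, zero_mul, neg_zero]
      have h2 : N ^ l * Ti = N ^ l := by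
        rwa [hM, mul_sub, mul_one, sub_eq_zero] at h1
      rw [pow_succ', ← mul_assoc, h2, ih]
  have hMl : M ^ l = (-1 : F) ^ l • N ^ l := by
    rw [hMN, ← neg_one_smul F (N * Ti), smul_pow, hNTi.mul_pow, hNlT]
  have hflip : ∀ x y, B x ((N ^ l) y) = σ ((-1 : F) ^ l) * B ((N ^ l) x) y := fun x y => by
    rw [hadj, hMl, LinearMap.smul_apply, map_smulₛₗ, LinearMap.smul_apply, smul_eq_mul]
  have hsgn : σ ((-1 : F) ^ l) ≠ 0 := by simp
  -- the subspace `R` and its perpendicular
  set R : Submodule F V := LinearMap.range (N ^ l) with hR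
  set K : Submodule F V := LinearMap.ker (N ^ l) with hK
  have hKperp : perp B R = K := by
    ext y
    rw [mem_perp, hK, LinearMap.mem_ker]
    constructor
    · intro h
      refine hNB _ fun x => ?_
      rw [hflip, h _ (LinearMap.mem_range_self _ x), mul_zero]
    · rintro h _ ⟨x, rfl⟩
      have e := hflip x y
      rw [h, map_zero] at e
      exact (mul_eq_zero.1 e.symm).resolve_left hsgn
  have hRK : R ≤ K := by
    rintro _ ⟨x, rfl⟩
    rw [hK, LinearMap.mem_ker, ← Module.End.mul_apply, ← pow_add,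
      show l + l = (l + 1) + (l - 1) by omega, pow_add, hl0, zero_mul, LinearMap.zero_apply]
  have hdim : finrank F R + finrank F K = n := LinearMap.finrank_range_add_finrank_ker (N ^ l)
  have hR1 : 1 ≤ finrank F R := by
    by_contra h
    refine hlne (LinearMap.range_eq_bot.1 (Submodule.finrank_eq_zero.1 ?_))
    show finrank F R = 0
    omega
  have hRK' := Submodule.finrank_mono hRK
  have hdvd : ∀ {j : ℕ}, j ∣ Nat.card (Cfsg.GU (n - 2) F q) → ¬ r ∣ j := fun hj hrj => hr (hrj.trans hj)
  -- `g` on `R`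
  have hGR : ∀ x ∈ R, G x ∈ R := by
    rintro _ ⟨x, rfl⟩
    exact ⟨G x, (LinearMap.congr_fun (hGN.pow_right l).eq x).symm⟩
  have hgB : ∀ x y, B (G x) (G y) = B x y := g.2
  have hGr : G ^ r = 1 := by
    have hp : ∀ (j : ℕ) (x : V), (g ^ j).1 x = (G ^ j) x := by
      intro j
      induction j with
      | zero => simp
      | succ j ih =>
        intro x
        rw [pow_succ, pow_succ, Subgroup.coe_mul, LinearEquiv.mul_apply, ih]
        rfl
    refine LinearMap.ext fun x => ?_
    rw [← hp, hgr]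
    rfl
  obtain ⟨s, hs⟩ := LinearMap.exists_rightInverse_of_surjective (N ^ l).rangeRestrict
    (LinearMap.range_rangeRestrict _)
  have hs' : ∀ a : R, (N ^ l) (s a) = (a : V) := fun a => congrArg Subtype.val (LinearMap.congr_fun hs a)
  obtain ⟨κ, hκ0, hκ⟩ : ∃ κ : F, κ ≠ 0 ∧ σ κ = (-1 : F) ^ l * κ := by
    rcases Nat.even_or_odd l with he | ho
    · exact ⟨1, one_ne_zero, by rw [map_one, he.neg_one_pow, one_mul]⟩
    · obtain ⟨c, hc0, hc⟩ := hH.conj.exists_trace_zero
      exact ⟨c, hc0, by rw [ho.neg_one_pow]; linear_combination hc⟩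
  let Φ : R →ₛₗ[σ] R →ₗ[F] F := LinearMap.mk₂'ₛₗ σ (RingHom.id F) (fun a b => κ * B (s a) (b : V))
    (fun a a' b => by simp [mul_add])
    (fun c a b => by simp [map_smulₛₗ]; ring)
    (fun a b b' => by simp [mul_add])
    (fun c a b => by simp; ring)
  have hΦ : ∀ a b : R, Φ a b = κ * B (s a) (b : V) := fun a b => rfl
  have hsymm : ∀ a b : R, B (s a) (b : V) = (-1 : F) ^ l * σ (B (s b) (a : V)) := fun a b => by
    rw [← hs' b, hflip, hs' a, hH.symm, map_pow, map_neg, map_one]
  have hΦH : IsHermitian Φ := ⟨hH.conj, fun a b => by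
    rw [hΦ, hΦ, map_mul, hκ, hsymm b a]
    ring⟩
  have hperpK : ∀ (x : V) (b : R), (N ^ l) x = 0 → B x (b : V) = 0 := fun x b hx => by
    rw [← hs' b, hflip, hx, map_zero, LinearMap.zero_apply, mul_zero]
  have hΦN : Φ.SeparatingRight := fun b hb => Subtype.ext (hNB _ fun x => by
    have e : (N ^ l) (x - s ⟨(N ^ l) x, LinearMap.mem_range_self _ x⟩) = 0 := by
      rw [map_sub, hs', sub_self]
    have h1 := hperpK _ b e
    have h2 := hb ⟨(N ^ l) x, LinearMap.mem_range_self _ x⟩
    rw [hΦ] at h2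
    rw [map_sub, LinearMap.sub_apply, sub_eq_zero] at h1
    rw [h1]
    exact (mul_eq_zero.1 h2).resolve_left hκ0)
  have hfixR : ∀ x ∈ R, G x = x := by
    let GR : R →ₗ[F] R := G.restrict hGR
    have hGRB : ∀ a b, Φ (GR a) (GR b) = Φ a b := fun a b => by
      rw [hΦ, hΦ]
      congr 1
      have e : (N ^ l) (s (GR a) - G (s a)) = 0 := by
        rw [map_sub, hs', ← Module.End.mul_apply, ← (hGN.pow_right l).eq, Module.End.mul_apply, hs']
        exact sub_self _
      have h1 := hperpK _ (GR b) e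
      rw [map_sub, LinearMap.sub_apply, sub_eq_zero] at h1
      exact h1.trans (hgB (s a) b)
    have hGRr : GR ^ r = 1 := LinearMap.ext fun a => Subtype.ext (by
      rw [Module.End.pow_restrict r]
      exact LinearMap.congr_fun hGr a.1)
    have h1 := isom_eq_one GR hGRB hGRr (hdvd (card_isom_dvd hΦH hΦN hF hσ (by omega)))
    intro x hx
    exact congrArg Subtype.val (LinearMap.congr_fun h1 ⟨x, hx⟩)
  -- `g` on `K / R`
  obtain ⟨C, hC⟩ := Submodule.exists_isCompl R
  set W : Submodule F V := K ⊓ C with hW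
  let π : V →ₗ[F] V := C.subtype.comp (C.projectionOnto R hC.symm)
  have hπR : ∀ x, x - π x ∈ R := fun x => by
    obtain ⟨c, a, rfl⟩ := exists_add_eq hC.symm x
    simp [π, Submodule.projectionOnto_apply_left, Submodule.projectionOnto_apply_right]
  have hπ0 : ∀ a ∈ R, π a = 0 := fun a ha => by
    simp [π, Submodule.projectionOnto_apply_of_mem_right hC.symm ha]
  have hπW : ∀ x ∈ K, π x ∈ W := fun x hx => ⟨by
    have := K.sub_mem hx (hRK (hπR x))
    rwa [sub_sub_cancel] at this, (C.projectionOnto R hC.symm x).2⟩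
  have hπid : ∀ w ∈ W, π w = w := fun w hw => by
    exact congrArg Subtype.val (Submodule.projectionOnto_apply_left hC.symm ⟨w, hw.2⟩)
  have hGK : ∀ x ∈ K, G x ∈ K := fun x hx => by
    rw [hK, LinearMap.mem_ker, ← Module.End.mul_apply, ← (hGN.pow_right l).eq, Module.End.mul_apply,
      LinearMap.mem_ker.1 hx, map_zero]
  have hBR : ∀ a ∈ R, ∀ x ∈ K, B a x = 0 := fun a ha x hx => by
    rw [← hKperp] at hx
    exact mem_perp.1 hx a ha
  have hBπ : ∀ x ∈ K, ∀ y ∈ K, B (π x) (π y) = B x y := fun x hx y hy => by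
    have a1 : B (x - π x) y = 0 := hBR _ (hπR x) y hy
    have a2 : B (y - π y) (π x) = 0 := hBR _ (hπR y) _ (hπW x hx).1
    have a3 := hH.isRefl _ _ a2
    rw [map_sub, LinearMap.sub_apply, sub_eq_zero] at a1
    rw [map_sub, sub_eq_zero] at a3
    rw [a1, a3]
  have hWdim : finrank F W + finrank F R = finrank F K := by
    have h := Submodule.finrank_sup_add_finrank_inf_eq W R
    have e1 : W ⊔ R = K := le_antisymm (sup_le inf_le_left hRK) fun x hx => by
      rw [← add_sub_cancel (π x) x]
      exact Submodule.add_mem_sup (hπW x hx) (hπR x)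
    have e2 : W ⊓ R = ⊥ := eq_bot_iff.2 fun x hx => by
      have h' : x ∈ R ⊓ C := ⟨hx.2, hx.1.2⟩
      rwa [hC.inf_eq_bot] at h'
    rw [e1, e2, finrank_bot] at h
    omega
  have hWnd : NondegOn B W := nondegOn_iff.2 fun x hx hperp => by
    have hxK : ∀ y ∈ K, B x y = 0 := fun y hy => by
      refine hH.isRefl _ _ ?_
      rw [← hBπ y hy x hx.1, hπid x hx]
      exact hperp _ (hπW y hy)
    obtain ⟨z, hz⟩ := hH.exists_form_eq hNB
      (((B x).comp s).comp (R.projectionOnto C hC))
    have hxR : x ∈ R := by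
      have hgen : ∀ y, B x y = B z ((N ^ l) y) := fun y => by
        have e : (N ^ l) (y - s ⟨(N ^ l) y, LinearMap.mem_range_self _ y⟩) = 0 := by
          rw [map_sub, hs', sub_self]
        have h1 := hxK _ (LinearMap.mem_ker.2 e)
        rw [map_sub, sub_eq_zero] at h1
        rw [h1, hz]
        simp only [LinearMap.comp_apply]
        exact congrArg (fun a => B x (s a))
          (Submodule.projectionOnto_apply_left hC (⟨(N ^ l) y, LinearMap.mem_range_self _ y⟩ : R)).symm
      refine ⟨(-1 : F) ^ l • z, ?_⟩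
      refine (sub_eq_zero.1 (hNB _ fun y => ?_)).symm
      rw [← hH.symm, map_sub, LinearMap.sub_apply, map_smul, map_smulₛₗ, LinearMap.smul_apply, hgen,
        smul_eq_mul, ← hflip, sub_self, map_zero]
    have h' : x ∈ R ⊓ C := ⟨hxR, hx.2⟩
    rwa [hC.inf_eq_bot] at h'
  have hfixK : ∀ x ∈ K, G x - x ∈ R := by
    have hmem : ∀ w ∈ W, (π * G) w ∈ W := fun w hw => hπW _ (hGK w hw.1)
    let GW : W →ₗ[F] W := (π * G).restrict hmem
    have hGWB : ∀ a b, restrictForm B W (GW a) (GW b) = restrictForm B W a b := fun a b => by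
      change B (π (G a)) (π (G b)) = B (a : V) b
      rw [hBπ _ (hGK _ a.2.1) _ (hGK _ b.2.1), hgB]
    have hiter : ∀ (j : ℕ) (w : W), ((GW ^ j) w : V) = π ((G ^ j) w) := by
      intro j
      induction j with
      | zero => intro w; simp [hπid _ w.2]
      | succ j ih =>
        intro w
        rw [pow_succ', pow_succ', Module.End.mul_apply, Module.End.mul_apply]
        change π (G ((GW ^ j) w : V)) = _
        rw [ih, ← sub_eq_zero, ← map_sub, ← map_sub]
        refine hπ0 _ (hGR _ ?_)
        simpa using R.neg_mem (hπR ((G ^ j) w))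
    have hGWr : GW ^ r = 1 := LinearMap.ext fun w => Subtype.ext (by
      rw [hiter, hGr]; exact hπid _ w.2)
    have h1 := isom_eq_one GW hGWB hGWr
      (hdvd (card_isom_dvd (hH.restrict W) (restrictForm_separatingRight hWnd) hF hσ (by omega)))
    intro x hx
    have h2 : π (G (π x)) = π x := congrArg (fun w : W => (w : V)) (LinearMap.congr_fun h1 ⟨π x, hπW x hx⟩)
    have h3 : G (x - π x) = x - π x := hfixR _ (hπR x)
    rw [map_sub, sub_eq_iff_eq_add] at h3
    have h4 : G x - x = G (π x) - π (G (π x)) := by rw [h3, h2]; abel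
    rw [h4]
    exact hπR _
  have hfixV : ∀ x, G x - x ∈ K := fun x => by
    rw [← hKperp, mem_perp]
    intro a ha
    rw [map_sub, sub_eq_zero]
    conv_lhs => rw [← hfixR a ha]
    exact hgB a x
  have hD : (G - 1) * ((G - 1) * (G - 1)) = 0 := LinearMap.ext fun x => by
    have h1 : ∀ y, (G - 1) y = G y - y := fun y => rfl
    rw [Module.End.mul_apply, Module.End.mul_apply, h1, h1, h1]
    have h2 := hfixR _ (hfixK _ (hfixV x))
    rw [h2]; simp
  have := eq_one_of_pow hrF hD hGr
  exact Subtype.ext (LinearEquiv.toLinearMap_injective this)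

end CfsgLib.Involution.UnipotentPrimes
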