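import Cfsg.Agent.Lib.Involution.UnipotentCentralizerGU
import Cfsg.Agent.Lib.KnownA.UnipotentTypesStd
import Cfsg.Agent.Lib.KnownC.GraphForms.Classify
import Cfsg.Agent.Lib.KnownC.Discr
import Cfsg.Agent.Lib.Classical.SympMatrix

/-!
# Classes of elements of order `p` in `Sp_2m(q)`, `q` odd

Within one block type the classes correspond to the invariant alternating forms up to congruence by the commutant;
these are determined by the forms on the diagonal blocks, symmetric for even and alternating for odd block size.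
-/

set_option autoImplicit false
set_option linter.unusedSectionVars false

open Matrix

namespace CfsgLib.Involution.UnipotentClassesSp

open CfsgLib.Involution.UnipotentCentralizerGL CfsgLib.Involution.UnipotentCentralizerGU
open CfsgLib.KnownC.GraphForms

variable {F : Type*} [Field F] {t : ℕ} {d : Fin t → ℕ}

local notation "ι" => ((k : Fin t) × Fin (d k))
local notation "JJ" => Cfsg.jordanTypeMatrix d F
local notation "I₀" => RingHom.id F

theorem ct_id {l n : Type*} (M : Matrix l n F) : ct (RingHom.id F) M = Mᵀ := rfl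

/-- An invariant non-degenerate alternating form. -/
structure IsForm (d : Fin t → ℕ) (H : Matrix ((k : Fin t) × Fin (d k)) ((k : Fin t) × Fin (d k)) F) : Prop where
  det : IsUnit H.det
  inv : ct (RingHom.id F) (Cfsg.jordanTypeMatrix d F) * H * Cfsg.jordanTypeMatrix d F = H
  skew : H = (-1 : F) • ct (RingHom.id F) H

theorem id_invol : ∀ a : F, (RingHom.id F) ((RingHom.id F) a) = a := fun _ => rfl

variable (hd : ∀ k, 1 ≤ d k) {H : Matrix ((k : Fin t) × Fin (d k)) ((k : Fin t) × Fin (d k)) F}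

theorem sblk_symm (hH : IsForm d H) (a : Fin (Finset.univ.sup d + 1)) :
    (sblk hd H a)ᵀ = (-1 : F) ^ (a : ℕ) • sblk hd H a := by
  have hN : ct I₀ (JJ - 1) = ((JJ - 1) : Matrix ι ι F)ᵀ := rfl
  set A := ((JJ - 1) : Matrix ι ι F)ᵀ * H with hA
  have hAe : ∀ x y : ι, A x y = if h : (x.2 : ℕ) + 1 < d x.1 then H ⟨x.1, ⟨x.2 + 1, h⟩⟩ y else 0 := by
    intro x y
    rw [hA, ← transpose_transpose H, ← transpose_mul, transpose_apply, mul_nil_apply]
    rfl
  have key : H * (JJ - 1) + (A + A * (JJ - 1)) = 0 := by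
    have e := hH.inv
    rw [show (JJ : Matrix ι ι F) = 1 + (JJ - 1) from (add_sub_cancel _ _).symm, ct_add, ct_one, hN] at e
    rw [hA]
    calc H * (JJ - 1) + ((JJ - 1)ᵀ * H + (JJ - 1)ᵀ * H * (JJ - 1))
        = (1 + (JJ - 1)ᵀ) * H * (1 + (JJ - 1)) - H := by simp only [add_mul, mul_add, one_mul, mul_one]; abel
      _ = 0 := by rw [e, sub_self]
  ext i j
  rw [transpose_apply, Matrix.smul_apply, smul_eq_mul]
  show H (bot hd j.1) (top hd i.1) = _ * H (bot hd i.1) (top hd j.1)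
  have hi : d i.1 = a := i.2
  have hj : d j.1 = a := j.2
  have hb := hd j.1
  have step : ∀ (r : ℕ) (hr : r < (a : ℕ)), H ⟨i.1, ⟨r, by omega⟩⟩ ⟨j.1, ⟨(a : ℕ) - 1 - r, by omega⟩⟩ =
      (-1) ^ r * H (bot hd i.1) (top hd j.1) := by
    intro r
    induction r with
    | zero =>
      intro hr
      rw [pow_zero, one_mul]
      simp only [bot, top]
      congr 3
      rw [hj]; rfl
    | succ r ih =>
      intro hr
      have h1 := congrFun (congrFun key ⟨i.1, ⟨r, by omega⟩⟩) ⟨j.1, ⟨(a : ℕ) - 1 - (r + 1), by omega⟩⟩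
      rw [Matrix.add_apply, Matrix.add_apply, Matrix.zero_apply, mul_nil_apply, mul_nil_apply,
        dif_pos (show (a : ℕ) - 1 - (r + 1) + 1 < d j.1 by omega),
        dif_pos (show (a : ℕ) - 1 - (r + 1) + 1 < d j.1 by omega), hAe, hAe,
        dif_pos (show r + 1 < d i.1 by omega), dif_pos (show r + 1 < d i.1 by omega)] at h1
      dsimp only at h1
      rw [H_left hH.inv (x := ⟨i.1, ⟨r + 1, by omega⟩⟩) (y := ⟨j.1, ⟨(a : ℕ) - 1 - (r + 1) + 1, by omega⟩⟩)
        (show d i.1 ≤ r + 1 + ((a : ℕ) - 1 - (r + 1) + 1) by omega), add_zero] at h1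
      have h2 : H ⟨i.1, ⟨r, by omega⟩⟩ ⟨j.1, ⟨(a : ℕ) - 1 - (r + 1) + 1, by omega⟩⟩ =
          (-1) ^ r * H (bot hd i.1) (top hd j.1) := by
        rw [← ih (by omega)]
        congr 3
        omega
      rw [h2] at h1
      rw [pow_succ]
      linear_combination h1
  have h1 := step ((a : ℕ) - 1) (by omega)
  have h2 : H (bot hd j.1) (top hd i.1) = -1 * H (top hd i.1) (bot hd j.1) := congrFun (congrFun hH.skew _) _
  have h3 : H (top hd i.1) (bot hd j.1) =
      H ⟨i.1, ⟨(a : ℕ) - 1, by omega⟩⟩ ⟨j.1, ⟨(a : ℕ) - 1 - ((a : ℕ) - 1), by omega⟩⟩ := by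
    simp only [top, bot, hi, Nat.sub_self]
  rw [h2, h3, h1, ← mul_assoc]
  congr 1
  conv_rhs => rw [show (a : ℕ) = (a : ℕ) - 1 + 1 by omega, pow_succ]
  ring

theorem sblk_mul (hH : IsForm d H) {G : Matrix ι ι F} (hG : Com d G) (a : Fin (Finset.univ.sup d + 1)) :
    sblk hd (H * G) a = sblk hd H a * blk hd a G := by
  ext i j
  have hi : d i.1 = a := i.2
  have hj : d j.1 = a := j.2
  show (H * G) (bot hd i.1) (top hd j.1) = _
  rw [mul_apply, mul_apply, Fintype.sum_sigma]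
  refine sum_fib a _ _ (fun k hk => Finset.sum_eq_zero fun m _ => ?_) (fun k => ?_)
  · by_cases hm : (m : ℕ) + 1 = d k ∧ (a : ℕ) < d k
    · rw [H_left hH.inv (show d i.1 ≤ 0 + (m : ℕ) by omega), zero_mul]
    · rw [com_zero hd hG ⟨k, m⟩ (top hd j.1) (by simp only [top]; have := m.2; have := hd j.1; omega), mul_zero]
  · have hk : d k.1 = a := k.2
    refine (Finset.sum_eq_single (⟨d k.1 - 1, by have := hd k.1; omega⟩ : Fin (d k.1)) (fun m _ hm => ?_)
      (by simp)).trans rfl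
    rw [com_zero hd hG ⟨k.1, m⟩ (top hd j.1) (by
      simp only [top]
      have := m.2
      have : (m : ℕ) ≠ d k.1 - 1 := fun e => hm (Fin.ext e)
      omega), mul_zero]

include hd in
theorem sblk_congr (hH : IsForm d H) {G : Matrix ι ι F} (hG : Com d G) (a : Fin (Finset.univ.sup d + 1)) :
    sblk hd (ct I₀ G * H * G) a = ct I₀ (blk hd a G) * sblk hd H a * blk hd a G := by
  have hG' : Com d (star' H I₀ G) := com_star hH.inv hH.det hG
  rw [← H_mul_star' hH.det, Matrix.mul_assoc, sblk_mul hd hH (com_mul hG' hG), blk_mul hd hG' hG,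
    ← Matrix.mul_assoc, sblk_star hd hH.inv hH.det hH.skew hG]

theorem form_congr (hH : IsForm d H) {G : Matrix ι ι F} (hG : Com d G) (hu : IsUnit G) :
    IsForm d (ct I₀ G * H * G) := by
  have hu' := (Matrix.isUnit_iff_isUnit_det _).1 hu
  have hGJ := (comm_iff d G).2 hG
  refine ⟨?_, ?_, ?_⟩
  · rw [det_mul, det_mul, ct_id, det_transpose]
    exact (hu'.mul hH.det).mul hu'
  · calc ct I₀ JJ * (ct I₀ G * H * G) * JJ = ct I₀ (G * JJ) * H * (G * JJ) := by
          simp only [ct_mul, Matrix.mul_assoc]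
      _ = ct I₀ G * (ct I₀ JJ * H * JJ) * G := by
          rw [hGJ, ct_mul]
          simp only [Matrix.mul_assoc]
      _ = ct I₀ G * H * G := by rw [hH.inv]
  · conv_lhs => rw [hH.skew]
    rw [ct_mul, ct_mul, ct_ct id_invol]
    simp only [Matrix.mul_smul, Matrix.smul_mul, Matrix.mul_assoc]

/-- Elements of the commutant reducing to the identity, as units. -/
def vSub (K : Type*) [Field K] : Subgroup (GL ι K) where
  carrier := {g | Com d (g : Matrix ι ι K) ∧ ∀ a, blk hd a (g : Matrix ι ι K) = 1}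
  mul_mem' := fun {x y} hx hy => ⟨com_mul hx.1 hy.1, fun a => by
    rw [Units.val_mul, blk_mul hd hx.1 hy.1, hx.2, hy.2, one_mul]⟩
  one_mem' := ⟨com_one, fun a => blk_one hd a⟩
  inv_mem' := fun {x} hx => by
    have h := com_inv hx.1 (Matrix.isUnits_det_units x)
    rw [← Matrix.coe_units_inv] at h
    refine ⟨h, fun a => ?_⟩
    have e := congrArg (blk hd a) x.mul_inv
    rwa [blk_mul hd hx.1 h, hx.2, one_mul, blk_one] at e

theorem exists_sqrt [Fintype F] (hq : Odd (Fintype.card F)) (hH : IsForm d H) (h : Matrix ι ι F) (hh : Com d h)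
    (hs : star' H I₀ h = h) (h1 : ∀ a, blk hd a h = 1) :
    ∃ v, Com d v ∧ IsUnit v ∧ (∀ a, blk hd a v = 1) ∧ star' H I₀ v * v = h := by
  classical
  have hu : IsUnit h := isUnit_of_blk hd hh fun a => h1 a ▸ isUnit_one
  let g : vSub hd F := ⟨hu.unit, hh, h1⟩
  have hcard : Odd (Nat.card (vSub hd F)) := by
    have e : Nat.card (vSub hd F) = Nat.card (V hd F) := Nat.card_eq_of_bijective
      (fun g => (⟨(g.1 : Matrix ι ι F), g.2⟩ : V hd F))
      ⟨fun a b e => Subtype.ext (Units.ext (congrArg Subtype.val e)),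
        fun G => ⟨⟨(isUnit_of_blk hd G.2.1 fun a => G.2.2 a ▸ isUnit_one).unit, G.2⟩, rfl⟩⟩
    rw [e, card_V hd]
    exact hq.pow
  obtain ⟨k, hk⟩ := hcard
  have hgk : g ^ (k + 1) * g ^ (k + 1) = g := by
    rw [← pow_add, show k + 1 + (k + 1) = Nat.card (vSub hd F) + 1 by omega, pow_succ, pow_card_eq_one', one_mul]
  have hst : ∀ j : ℕ, star' H I₀ (h ^ j) = h ^ j := by
    intro j
    induction j with
    | zero => rw [pow_zero, star'_one hH.det]
    | succ j ih =>
      conv_lhs => rw [pow_succ, star'_mul hH.det, hs, ih]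
      rw [← pow_succ']
  have hval : ((g ^ (k + 1) : vSub hd F).1 : Matrix ι ι F) = h ^ (k + 1) := by
    rw [SubmonoidClass.coe_pow, Units.val_pow_eq_pow_val]; rfl
  refine ⟨h ^ (k + 1), hval ▸ (g ^ (k + 1)).2.1, hu.pow _, hval ▸ (g ^ (k + 1)).2.2, ?_⟩
  rw [hst, ← hval]
  exact congrArg (fun x : vSub hd F => ((x.1 : GL ι F) : Matrix ι ι F)) hgk

/-- A lift of matrices on the diagonal blocks. -/
def lift (M : (a : Fin (Finset.univ.sup d + 1)) → Matrix (fib d a) (fib d a) F) : Matrix ι ι F :=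
  cmat d fun x => if h : IsDiag d x then
    M ⟨d x.1.1, Nat.lt_succ_of_le (Finset.le_sup (Finset.mem_univ _))⟩ ⟨x.1.2, h.1.symm⟩ ⟨x.1.1, rfl⟩ else 0

theorem blk_lift (M : (a : Fin (Finset.univ.sup d + 1)) → Matrix (fib d a) (fib d a) F)
    (a : Fin (Finset.univ.sup d + 1)) : blk hd a (lift M) = M a := by
  ext i j
  rw [lift, blk_cmat, dif_pos ⟨j.2.trans i.2.symm, rfl⟩]
  obtain ⟨i, hi⟩ := i
  obtain ⟨j, hj⟩ := j
  obtain ⟨a, ha⟩ := a
  dsimp only at hi hj
  subst hj
  rfl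

include hd in
theorem congr_of_blk [Fintype F] (hq : Odd (Fintype.card F)) {H' : Matrix ι ι F} (hH : IsForm d H)
    (hH' : IsForm d H')
    (P : (a : Fin (Finset.univ.sup d + 1)) → Matrix (fib d a) (fib d a) F)
    (hP : ∀ a, (P a)ᵀ * sblk hd H' a * P a = sblk hd H a) :
    ∃ G : Matrix ι ι F, Com d G ∧ IsUnit G ∧ ct I₀ G * H' * G = H := by
  have hPu : ∀ a, IsUnit (P a) := fun a => by
    have h := sblk_det hd hH.inv hH.det hH.skew a
    rw [← hP a, det_mul] at h
    exact (Matrix.isUnit_iff_isUnit_det _).2 (isUnit_of_mul_isUnit_right h)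
  have hL : Com d (lift P) := cmat_comm d _
  have hLu : IsUnit (lift P) := isUnit_of_blk hd hL fun a => by rw [blk_lift]; exact hPu a
  have hH2 := form_congr hH' hL hLu
  set H2 := ct I₀ (lift P) * H' * lift P
  set h := H⁻¹ * H2 with hdef
  have hH0 : H * h = H2 := by rw [hdef, ← Matrix.mul_assoc, mul_nonsing_inv _ hH.det, Matrix.one_mul]
  have hh : Com d h := by
    refine (comm_iff d h).1 ?_
    have e : ct I₀ JJ * H * (h * JJ) = ct I₀ JJ * H * (JJ * h) := by
      rw [← Matrix.mul_assoc (ct I₀ JJ * H) JJ, hH.inv, hH0, ← Matrix.mul_assoc, Matrix.mul_assoc (ct I₀ JJ) H h,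
        hH0, hH2.inv]
    refine ((Matrix.isUnit_iff_isUnit_det (ct I₀ JJ * H)).2 ?_).mul_left_cancel e
    have h2 := hH.det
    rw [← hH.inv, det_mul] at h2
    exact isUnit_of_mul_isUnit_left h2
  have hs : star' H I₀ h = h := by
    have h3 : ct I₀ h * H = H * h := by
      have e := hH2.skew
      rw [← hH0, ct_mul] at e
      rw [e]
      conv_lhs => rw [hH.skew]
      rw [Matrix.mul_smul]
    rw [star', Matrix.mul_assoc, h3, ← Matrix.mul_assoc, nonsing_inv_mul _ hH.det, Matrix.one_mul]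
  have h1 : ∀ a, blk hd a h = 1 := fun a => by
    have hS := sblk_det hd hH.inv hH.det hH.skew a
    have e : sblk hd H a * blk hd a h = sblk hd H a := by
      rw [← sblk_mul hd hH hh, hH0, sblk_congr hd hH' hL, blk_lift, ct_id, hP]
    have := congrArg (fun X => (sblk hd H a)⁻¹ * X) e
    simpa only [← Matrix.mul_assoc, nonsing_inv_mul _ hS, Matrix.one_mul] using this
  obtain ⟨v, hv, hvu, hv1, hvv⟩ := exists_sqrt hd hq hH h hh hs h1
  have hvd := (Matrix.isUnit_iff_isUnit_det _).1 hvu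
  have hvi : IsUnit v⁻¹ := (Matrix.isUnit_iff_isUnit_det _).2 (Matrix.isUnit_nonsing_inv_det _ hvd)
  refine ⟨lift P * v⁻¹, com_mul hL (com_inv hv hvd), hLu.mul hvi, ?_⟩
  have e : ct I₀ v * H * v = H2 := by
    rw [← H_mul_star' hH.det, Matrix.mul_assoc, hvv, hH0]
  calc ct I₀ (lift P * v⁻¹) * H' * (lift P * v⁻¹) = ct I₀ v⁻¹ * H2 * v⁻¹ := by
        simp only [ct_mul, Matrix.mul_assoc, H2]
    _ = ct I₀ (v * v⁻¹) * H * (v * v⁻¹) := by rw [← e]; simp only [ct_mul, Matrix.mul_assoc]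
    _ = H := by rw [mul_nonsing_inv _ hvd, ct_one, Matrix.one_mul, Matrix.mul_one]

include hd in
theorem exists_form_blk (h2 : (2 : F) ≠ 0) (hH : IsForm d H)
    (T : (a : Fin (Finset.univ.sup d + 1)) → Matrix (fib d a) (fib d a) F)
    (hT : ∀ a, (T a)ᵀ = (-1 : F) ^ (a : ℕ) • T a) (hTu : ∀ a, IsUnit (T a).det) :
    ∃ H' : Matrix ι ι F, IsForm d H' ∧ ∀ a, sblk hd H' a = T a := by
  set L := lift fun a => (sblk hd H a)⁻¹ * T a with hLdef
  have hL : Com d L := cmat_comm d _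
  have hL' := com_star hH.inv hH.det hL
  have hbL' : ∀ a, blk hd a (star' H I₀ L) = (sblk hd H a)⁻¹ * T a := fun a => by
    have hS := sblk_det hd hH.inv hH.det hH.skew a
    have e := sblk_star hd hH.inv hH.det hH.skew hL a
    rw [ct_id, hLdef, blk_lift, transpose_mul, hT] at e
    have e2 : ((sblk hd H a)⁻¹)ᵀ * sblk hd H a = (-1 : F) ^ (a : ℕ) • (1 : Matrix (fib d a) (fib d a) F) := by
      have e3 : ((sblk hd H a)⁻¹)ᵀ * (sblk hd H a)ᵀ = 1 := by
        rw [← transpose_mul, mul_nonsing_inv _ hS, transpose_one]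
      rw [sblk_symm hd hH, Matrix.mul_smul] at e3
      rw [← e3, smul_smul, ← mul_pow, neg_one_mul, neg_neg, one_pow, one_smul]
    rw [Matrix.smul_mul, Matrix.smul_mul, Matrix.mul_assoc (T a), e2, Matrix.mul_smul, Matrix.mul_one, smul_smul,
      ← mul_pow, neg_one_mul, neg_neg, one_pow, one_smul] at e
    have := congrArg (fun X => (sblk hd H a)⁻¹ * X) e
    simpa only [← Matrix.mul_assoc, nonsing_inv_mul _ hS, Matrix.one_mul] using this
  set G := (2⁻¹ : F) • (L + star' H I₀ L) with hGdef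
  have hG : Com d G := com_smul _ (com_add hL hL')
  have hbG : ∀ a, blk hd a G = (sblk hd H a)⁻¹ * T a := fun a => by
    rw [hGdef, blk_smul, blk_add, hbL', hLdef, blk_lift, ← two_smul F, smul_smul, inv_mul_cancel₀ h2, one_smul]
  have hGs : star' H I₀ G = G := by
    rw [hGdef, star'_smul, star'_add, star'_star' id_invol hH.det hH.skew, RingHom.id_apply, add_comm L]
  have hGu : IsUnit G := isUnit_of_blk hd hG fun a => by
    rw [hbG]
    exact ((Matrix.isUnit_iff_isUnit_det _).2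
      (Matrix.isUnit_nonsing_inv_det _ (sblk_det hd hH.inv hH.det hH.skew a))).mul
      ((Matrix.isUnit_iff_isUnit_det _).2 (hTu a))
  refine ⟨H * G, ⟨?_, ?_, ?_⟩, fun a => ?_⟩
  · rw [det_mul]; exact hH.det.mul ((Matrix.isUnit_iff_isUnit_det _).1 hGu)
  · calc ct I₀ JJ * (H * G) * JJ = ct I₀ JJ * H * (G * JJ) := by simp only [Matrix.mul_assoc]
      _ = ct I₀ JJ * H * JJ * G := by rw [(comm_iff d G).2 hG]; simp only [Matrix.mul_assoc]
      _ = H * G := by rw [hH.inv]
  · conv_lhs => rw [← hGs, H_mul_star' hH.det, hH.skew]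
    rw [ct_mul, Matrix.mul_smul]
  · rw [sblk_mul hd hH hG, hbG, ← Matrix.mul_assoc, mul_nonsing_inv _ (sblk_det hd hH.inv hH.det hH.skew a),
      Matrix.one_mul]

/-- Non-degenerate alternating matrices of the same size are congruent. -/
theorem congr_alt {α β : Type} [Fintype α] [DecidableEq α] [Fintype β] [DecidableEq β] (h2 : (2 : F) ≠ 0)
    {M : Matrix α α F} {M' : Matrix β β F} (hM : Mᵀ = -M) (hM' : M'ᵀ = -M')
    (hc : Fintype.card α = Fintype.card β) (hu : M.det ≠ 0) (hu' : M'.det ≠ 0) : Congr M M' := by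
  have alt : ∀ {γ : Type} [Fintype γ] [DecidableEq γ] {M : Matrix γ γ F}, Mᵀ = -M → ∀ v, v ⬝ᵥ (M *ᵥ v) = 0 := by
    intro γ _ _ M hM v
    have h : v ⬝ᵥ (M *ᵥ v) = -(v ⬝ᵥ (M *ᵥ v)) := by
      conv_lhs => rw [dotProduct_mulVec, ← mulVec_transpose, hM, neg_mulVec, neg_dotProduct, dotProduct_comm]
    exact (mul_eq_zero.1 (show (2 : F) * (v ⬝ᵥ (M *ᵥ v)) = 0 by linear_combination h)).resolve_left h2
  obtain ⟨m, hm, P, Q, c, h1, h1', h3⟩ := similar_J (alt hM) hu
  obtain ⟨m', hm', P', Q', c', h4, h4', h6⟩ := similar_J (alt hM') hu'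
  obtain rfl : m = m' := by omega
  have key : ∀ c : Fˣ, Congr ((c : F) • Matrix.J (Fin m) F) (Matrix.J (Fin m) F) := fun c =>
    ⟨fromBlocks (((c⁻¹ : Fˣ) : F) • 1) 0 0 1, fromBlocks ((c : F) • 1) 0 0 1,
      by simp [fromBlocks_multiply, smul_smul], by simp [fromBlocks_multiply, smul_smul], by
      simp [Matrix.J, fromBlocks_multiply, fromBlocks_smul, fromBlocks_transpose, smul_smul]⟩
  exact Congr.trans (Congr.trans ⟨P, Q, h1, h1', h3⟩ (key c))
    (Congr.trans (key c').symm (Congr.symm ⟨P', Q', h4, h4', h6⟩))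

theorem congr_square [Finite F] {α : Type} [Fintype α] [DecidableEq α] (h2 : (2 : F) ≠ 0) {M M' : Matrix α α F}
    (hM : Mᵀ = M) (hM' : M'ᵀ = M') (hu : M.det ≠ 0) (hu' : M'.det ≠ 0)
    (h : IsSquare M.det ↔ IsSquare M'.det) : Congr M M' := by
  have := Fintype.ofFinite F
  refine congr_of_isSquare h2 hM hM' rfl hu hu' ?_
  by_cases hs : IsSquare M.det
  · exact hs.mul (h.1 hs)
  · rw [mul_comm]
    exact (CfsgLib.KnownC.Discr.isSquare_mul_nonsquare
      (fun e => h2 (by simpa [e] using ringChar.Nat.cast_ringChar (R := F))) hu' hs).2 fun h' => hs (h.2 h')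

/-- Congruence of blocks with the same invariants. -/
theorem exists_block_congr [Fintype F] (h2 : (2 : F) ≠ 0) {a : ℕ} {α : Type} [Fintype α] [DecidableEq α]
    {S T : Matrix α α F} (hS : Sᵀ = (-1 : F) ^ a • S) (hT : Tᵀ = (-1 : F) ^ a • T) (hSu : S.det ≠ 0)
    (hTu : T.det ≠ 0) (h : Even a → (IsSquare S.det ↔ IsSquare T.det)) : ∃ P, Pᵀ * T * P = S := by
  rcases Nat.even_or_odd a with ha | ha
  · rw [ha.neg_one_pow, one_smul] at hS hT
    obtain ⟨P, -, -, -, h3⟩ := congr_square h2 hT hS hTu hSu (h ha).symm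
    exact ⟨P, h3⟩
  · rw [ha.neg_one_pow, neg_smul, one_smul] at hS hT
    obtain ⟨P, -, -, -, h3⟩ := congr_alt h2 hT hS rfl hTu hSu
    exact ⟨P, h3⟩

section Count

variable [Fintype F] {p : ℕ} [Fact p.Prime] [CharP F p] {m : ℕ}

/-- The index type of the standard symplectic space. -/
local notation "N₂" => (Fin m ⊕ Fin m)

/-- `A` is represented by the form `H` on the model of block sizes `d`. -/
def Repr (A : ↥(symplecticGroup (Fin m) F))
    (H : Matrix ((k : Fin t) × Fin (d k)) ((k : Fin t) × Fin (d k)) F) : Prop :=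
  ∃ (c : Matrix (Fin m ⊕ Fin m) ((k : Fin t) × Fin (d k)) F)
    (c' : Matrix ((k : Fin t) × Fin (d k)) (Fin m ⊕ Fin m) F), c * c' = 1 ∧ c' * c = 1 ∧
    (A : Matrix (Fin m ⊕ Fin m) (Fin m ⊕ Fin m) F) * c = c * Cfsg.jordanTypeMatrix d F ∧
    H = cᵀ * Matrix.J (Fin m) F * c

theorem J_skew : (Matrix.J (Fin m) F)ᵀ = -Matrix.J (Fin m) F := Matrix.J_transpose (Fin m) F

theorem det_J_ne_zero : (Matrix.J (Fin m) F).det ≠ 0 := (Matrix.isUnit_det_J (Fin m) F).ne_zero

theorem Repr.form {A : ↥(symplecticGroup (Fin m) F)} (h : Repr A H) : IsForm d H := by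
  obtain ⟨c, c', h1, h1', h2, rfl⟩ := h
  have hA : (A : Matrix N₂ N₂ F)ᵀ * Matrix.J (Fin m) F * (A : Matrix N₂ N₂ F) = Matrix.J (Fin m) F :=
    SymplecticGroup.mem_iff'.1 A.2
  refine ⟨?_, ?_, ?_⟩
  · refine Matrix.isUnit_det_of_left_inverse (B := c' * (Matrix.J (Fin m) F)⁻¹ * c'ᵀ) ?_
    calc c' * (Matrix.J (Fin m) F)⁻¹ * c'ᵀ * (cᵀ * Matrix.J (Fin m) F * c)
        = c' * (Matrix.J (Fin m) F)⁻¹ * (c * c')ᵀ * Matrix.J (Fin m) F * c := by
          simp only [transpose_mul, Matrix.mul_assoc]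
      _ = 1 := by
          rw [h1, transpose_one, Matrix.mul_one, Matrix.mul_assoc c',
            nonsing_inv_mul _ (Matrix.isUnit_det_J (Fin m) F), Matrix.mul_one, h1']
  · calc ct I₀ JJ * (cᵀ * Matrix.J (Fin m) F * c) * JJ
        = (c * JJ)ᵀ * Matrix.J (Fin m) F * (c * JJ) := by
          simp only [ct_id, transpose_mul, Matrix.mul_assoc]
      _ = cᵀ * ((A : Matrix N₂ N₂ F)ᵀ * Matrix.J (Fin m) F * (A : Matrix N₂ N₂ F)) * c := by
          rw [← h2]; simp only [transpose_mul, Matrix.mul_assoc]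
      _ = _ := by rw [hA]
  · rw [ct_id]
    simp only [transpose_mul, transpose_transpose, J_skew, Matrix.mul_assoc, Matrix.mul_neg, Matrix.neg_mul,
      neg_smul, one_smul, neg_neg]

theorem exists_repr (hcard : Fintype.card ι = 2 * m) (h2 : (2 : F) ≠ 0) (hH : IsForm d H) :
    ∃ A : ↥(symplecticGroup (Fin m) F), Repr A H := by
  obtain ⟨c, c', h1, h1', h3⟩ := congr_alt h2 (J_skew (F := F) (m := m))
    (M' := H) (by
      have e := hH.skew
      rw [ct_id, neg_smul, one_smul] at e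
      conv_rhs => rw [e]
      rw [neg_neg]) (by rw [hcard, Fintype.card_sum, Fintype.card_fin]; omega) det_J_ne_zero hH.det.ne_zero
  have h4 : c'ᵀ * H * c' = Matrix.J (Fin m) F := by
    rw [← h3]
    calc c'ᵀ * (cᵀ * Matrix.J (Fin m) F * c) * c' = (c * c')ᵀ * Matrix.J (Fin m) F * (c * c') := by
          simp only [transpose_mul, Matrix.mul_assoc]
      _ = _ := by rw [h1, transpose_one, Matrix.one_mul, Matrix.mul_one]
  refine ⟨⟨c * JJ * c', SymplecticGroup.mem_iff'.2 ?_⟩, c, c', h1, h1', ?_, h3.symm⟩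
  · calc (c * JJ * c')ᵀ * Matrix.J (Fin m) F * (c * JJ * c')
        = c'ᵀ * (ct I₀ JJ * (cᵀ * Matrix.J (Fin m) F * c) * JJ) * c' := by
          simp only [ct_id, transpose_mul, Matrix.mul_assoc]
      _ = _ := by rw [h3, hH.inv, h4]
  · show c * JJ * c' * c = c * JJ
    rw [Matrix.mul_assoc, h1', Matrix.mul_one]

include hd in
theorem Repr.conj_iff {A A' : ↥(symplecticGroup (Fin m) F)} {H' : Matrix ι ι F} (h : Repr A H) (h' : Repr A' H') :
    IsConj A A' ↔ ∃ G : Matrix ι ι F, Com d G ∧ IsUnit G ∧ ct I₀ G * H' * G = H := by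
  obtain ⟨c, c', h1, h1', h2, rfl⟩ := h
  obtain ⟨b, b', k1, k1', k2, rfl⟩ := h'
  constructor
  · intro hconj
    obtain ⟨s, hs⟩ := isConj_iff.1 hconj
    have hs' : (A' : Matrix N₂ N₂ F) * (s : Matrix N₂ N₂ F) = (s : Matrix N₂ N₂ F) * (A : Matrix N₂ N₂ F) :=
      congrArg (fun x : ↥(symplecticGroup (Fin m) F) => (x : Matrix N₂ N₂ F)) (mul_inv_eq_iff_eq_mul.1 hs).symm
    have hb' : b' * (A' : Matrix N₂ N₂ F) = JJ * b' := by
      calc b' * (A' : Matrix N₂ N₂ F) = b' * ((A' : Matrix N₂ N₂ F) * b) * b' := by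
            simp only [Matrix.mul_assoc, k1, Matrix.mul_one]
        _ = JJ * b' := by rw [k2, ← Matrix.mul_assoc, k1', Matrix.one_mul]
    refine ⟨b' * (s : Matrix N₂ N₂ F) * c, (comm_iff d _).1 ?_, ?_, ?_⟩
    · calc b' * (s : Matrix N₂ N₂ F) * c * JJ = b' * ((s : Matrix N₂ N₂ F) * (A : Matrix N₂ N₂ F)) * c := by
            rw [Matrix.mul_assoc _ c, ← h2]; simp only [Matrix.mul_assoc]
        _ = b' * (A' : Matrix N₂ N₂ F) * (s : Matrix N₂ N₂ F) * c := by rw [← hs']; simp only [Matrix.mul_assoc]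
        _ = JJ * (b' * (s : Matrix N₂ N₂ F) * c) := by rw [hb']; simp only [Matrix.mul_assoc]
    · refine (Matrix.isUnit_iff_isUnit_det _).2 (Matrix.isUnit_det_of_left_inverse
        (B := c' * ((s⁻¹ : ↥(symplecticGroup (Fin m) F)) : Matrix N₂ N₂ F) * b) ?_)
      calc c' * ((s⁻¹ : ↥(symplecticGroup (Fin m) F)) : Matrix N₂ N₂ F) * b * (b' * (s : Matrix N₂ N₂ F) * c)
          = c' * (((s⁻¹ : ↥(symplecticGroup (Fin m) F)) : Matrix N₂ N₂ F) * (b * b') * (s : Matrix N₂ N₂ F)) * c := by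
            simp only [Matrix.mul_assoc]
        _ = 1 := by
            rw [k1, Matrix.mul_one, CfsgLib.Classical.sp_inv_mul, Matrix.mul_one, h1']
    · have hs2 : (s : Matrix N₂ N₂ F)ᵀ * Matrix.J (Fin m) F * (s : Matrix N₂ N₂ F) = Matrix.J (Fin m) F :=
        SymplecticGroup.mem_iff'.1 s.2
      calc ct I₀ (b' * (s : Matrix N₂ N₂ F) * c) * (bᵀ * Matrix.J (Fin m) F * b) * (b' * (s : Matrix N₂ N₂ F) * c)
          = cᵀ * ((s : Matrix N₂ N₂ F)ᵀ * ((b * b')ᵀ * Matrix.J (Fin m) F * (b * b')) * (s : Matrix N₂ N₂ F)) * c := by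
            simp only [ct_id, transpose_mul, Matrix.mul_assoc]
        _ = _ := by rw [k1, transpose_one, Matrix.one_mul, Matrix.mul_one, hs2]
  · rintro ⟨G, hG, -, hG2⟩
    have hc' : c' * (A : Matrix N₂ N₂ F) = JJ * c' := by
      calc c' * (A : Matrix N₂ N₂ F) = c' * ((A : Matrix N₂ N₂ F) * c) * c' := by
            simp only [Matrix.mul_assoc, h1, Matrix.mul_one]
        _ = JJ * c' := by rw [h2, ← Matrix.mul_assoc, h1', Matrix.one_mul]
    let s : ↥(symplecticGroup (Fin m) F) := ⟨b * G * c', SymplecticGroup.mem_iff'.2 (by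
      calc (b * G * c')ᵀ * Matrix.J (Fin m) F * (b * G * c')
          = c'ᵀ * (ct I₀ G * (bᵀ * Matrix.J (Fin m) F * b) * G) * c' := by
            simp only [ct_id, transpose_mul, Matrix.mul_assoc]
        _ = (c * c')ᵀ * Matrix.J (Fin m) F * (c * c') := by
            rw [hG2]; simp only [transpose_mul, Matrix.mul_assoc]
        _ = _ := by rw [h1, transpose_one, Matrix.one_mul, Matrix.mul_one])⟩
    refine isConj_iff.2 ⟨s, mul_inv_eq_iff_eq_mul.2 (Subtype.ext ?_)⟩
    show b * G * c' * (A : Matrix N₂ N₂ F) = (A' : Matrix N₂ N₂ F) * (b * G * c')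
    calc b * G * c' * (A : Matrix N₂ N₂ F) = b * (G * JJ) * c' := by
          rw [Matrix.mul_assoc _ c', hc']; simp only [Matrix.mul_assoc]
      _ = b * JJ * G * c' := by rw [(comm_iff d _).2 hG]; simp only [Matrix.mul_assoc]
      _ = _ := by rw [← k2]; simp only [Matrix.mul_assoc]

include hd in
theorem Repr.conj {A : ↥(symplecticGroup (Fin m) F)} (h : Repr A H)
    (e : ι ≃ N₂) : IsConj (Matrix.reindex e e JJ) (A : Matrix N₂ N₂ F) := by
  obtain ⟨c, c', h1, h1', h2, -⟩ := h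
  refine ⟨⟨c.submatrix id e.symm, c'.submatrix e.symm id, ?_, ?_⟩, ?_⟩
  · rw [submatrix_mul_equiv, h1, submatrix_id_id]
  · rw [← submatrix_mul _ _ _ id _ Function.bijective_id, h1', submatrix_one_equiv]
  · show c.submatrix id e.symm * Matrix.reindex e e JJ = (A : Matrix N₂ N₂ F) * c.submatrix id e.symm
    rw [Matrix.reindex_apply, submatrix_mul_equiv, ← h2,
      submatrix_mul _ _ id id e.symm Function.bijective_id, submatrix_id_id]

include hd in
theorem Repr.chains {A : ↥(symplecticGroup (Fin m) F)} (h : Repr A H) (hcard : Fintype.card ι = 2 * m) :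
    ∃ v, CfsgLib.KnownC.JordanNormal.IsChains (Matrix.toLin' ((A : Matrix N₂ N₂ F) - 1)) d v :=
  CfsgLib.UnipotentTypes.chains_of_conj hd
    (h.conj hd (Fintype.equivOfCardEq (by rw [hcard, Fintype.card_sum, Fintype.card_fin, two_mul])))

theorem sp_sub_pow (hm : 1 ≤ m) (A : ↥(symplecticGroup (Fin m) F)) :
    ((A : Matrix N₂ N₂ F) - 1) ^ p = ((A ^ p : ↥(symplecticGroup (Fin m) F)) : Matrix N₂ N₂ F) - 1 := by
  have : Nonempty (Fin m) := ⟨⟨0, hm⟩⟩
  rw [sub_pow_char_of_commute (p := p) (h := Commute.one_right _), one_pow, SubmonoidClass.coe_pow]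

theorem orderOf_eq_p_iff {A : ↥(symplecticGroup (Fin m) F)} :
    orderOf A = p ↔ ((A : Matrix N₂ N₂ F) - 1) ^ p = 0 ∧ A ≠ 1 := by
  rcases Nat.eq_zero_or_pos m with rfl | hm
  · have : A = 1 := Subtype.ext (Matrix.ext fun i => i.elim (fun i => i.elim0) fun i => i.elim0)
    simp [this, (Fact.out : p.Prime).ne_one.symm]
  rw [sp_sub_pow hm, sub_eq_zero]
  constructor
  · intro h
    refine ⟨?_, fun h1 => (Fact.out : p.Prime).ne_one (by rw [← h, h1, orderOf_one])⟩
    rw [← h, pow_orderOf_eq_one]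
    rfl
  · exact fun h => orderOf_eq_prime (Subtype.ext h.1) h.2

end Count

section Partitions

variable [Fintype F] {p : ℕ} [Fact p.Prime] [CharP F p] {m : ℕ}

/-- The block sizes of a partition. -/
noncomputable def dd (μ : Nat.Partition (2 * m)) : Fin μ.parts.toList.length → ℕ := μ.parts.toList.get

theorem dd_map (μ : Nat.Partition (2 * m)) : Finset.univ.val.map (dd μ) = μ.parts := by
  rw [Fin.univ_val_map]
  show ((List.ofFn μ.parts.toList.get : List ℕ) : Multiset ℕ) = μ.parts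
  rw [List.ofFn_get, Multiset.coe_toList]

theorem dd_pos (μ : Nat.Partition (2 * m)) (k : Fin μ.parts.toList.length) : 1 ≤ dd μ k :=
  μ.parts_pos (Multiset.mem_toList.1 (List.get_mem _ k))

theorem dd_sum (μ : Nat.Partition (2 * m)) : ∑ k, dd μ k = 2 * m := by
  show (Finset.univ.val.map (dd μ)).sum = 2 * m
  rw [dd_map, μ.parts_sum]

theorem dd_card (μ : Nat.Partition (2 * m)) :
    Fintype.card ((k : Fin μ.parts.toList.length) × Fin (dd μ k)) = 2 * m := by
  rw [Fintype.card_sigma]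
  simpa using dd_sum μ

theorem dd_count (μ : Nat.Partition (2 * m)) (j : ℕ) :
    (Finset.univ.filter (fun k => dd μ k = j)).card = μ.parts.count j := by
  rw [← CfsgLib.UnipotentTypes.count_eq, dd_map]

theorem exists_of_mem (μ : Nat.Partition (2 * m)) {a : ℕ} (h : a ∈ μ.parts) : ∃ k, dd μ k = a := by
  have h' : a ∈ Finset.univ.val.map (dd μ) := by rw [dd_map]; exact h
  obtain ⟨k, -, hk⟩ := Multiset.mem_map.1 h'
  exact ⟨k, hk⟩

theorem mem_parts (μ : Nat.Partition (2 * m)) (k : Fin μ.parts.toList.length) : dd μ k ∈ μ.parts := by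
  have h := Multiset.mem_map_of_mem (dd μ) (Finset.mem_univ_val k)
  rwa [dd_map] at h

theorem repr_of_conj {t : ℕ} {d : Fin t → ℕ} {A : ↥(symplecticGroup (Fin m) F)}
    (e : ((k : Fin t) × Fin (d k)) ≃ Fin m ⊕ Fin m)
    (c : (Matrix (Fin m ⊕ Fin m) (Fin m ⊕ Fin m) F)ˣ)
    (hc : (c : Matrix (Fin m ⊕ Fin m) (Fin m ⊕ Fin m) F) * Matrix.reindex e e (Cfsg.jordanTypeMatrix d F) =
      (A : Matrix (Fin m ⊕ Fin m) (Fin m ⊕ Fin m) F) * (c : Matrix (Fin m ⊕ Fin m) (Fin m ⊕ Fin m) F)) :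
    Repr A (((c : Matrix (Fin m ⊕ Fin m) (Fin m ⊕ Fin m) F).submatrix id e)ᵀ * Matrix.J (Fin m) F *
      (c : Matrix (Fin m ⊕ Fin m) (Fin m ⊕ Fin m) F).submatrix id e) := by
  refine ⟨(c : Matrix (Fin m ⊕ Fin m) (Fin m ⊕ Fin m) F).submatrix id e,
    ((c⁻¹ : (Matrix (Fin m ⊕ Fin m) (Fin m ⊕ Fin m) F)ˣ) : Matrix (Fin m ⊕ Fin m) (Fin m ⊕ Fin m) F).submatrix e id,
    ?_, ?_, ?_, rfl⟩
  · rw [submatrix_mul_equiv, Units.mul_inv, submatrix_id_id]
  · rw [← submatrix_mul _ _ _ id _ Function.bijective_id, Units.inv_mul, submatrix_one_equiv]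
  · calc (A : Matrix (Fin m ⊕ Fin m) (Fin m ⊕ Fin m) F) * (c : Matrix (Fin m ⊕ Fin m) (Fin m ⊕ Fin m) F).submatrix id e
        = ((A : Matrix (Fin m ⊕ Fin m) (Fin m ⊕ Fin m) F) *
            (c : Matrix (Fin m ⊕ Fin m) (Fin m ⊕ Fin m) F)).submatrix id e := by
          rw [submatrix_mul _ _ id id e Function.bijective_id, submatrix_id_id]
      _ = _ := by
          rw [← hc, submatrix_mul _ _ id e e e.bijective]
          simp [Matrix.submatrix_submatrix]

theorem exists_base_form (μ : Nat.Partition (2 * m)) (hodd : ∀ j, Odd j → Even (μ.parts.count j)) :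
    ∃ H : Matrix ((k : Fin μ.parts.toList.length) × Fin (dd μ k)) ((k : Fin μ.parts.toList.length) × Fin (dd μ k)) F,
      IsForm (dd μ) H := by
  obtain ⟨e, A, c, hc⟩ := (CfsgLib.UnipotentTypes.symp_types (F := F) (dd_pos μ) (dd_sum μ)).2
    fun j hj => by rw [dd_count]; exact hodd j hj
  exact ⟨_, (repr_of_conj e c hc.eq).form⟩

variable (F p m) in
/-- The parametrising partitions. -/
abbrev Adm : Type := {μ : Nat.Partition (2 * m) //
  ((∀ a ∈ μ.parts, a ≤ p) ∧ ∀ j : ℕ, Odd j → Even (μ.parts.count j)) ∧ ∃ a ∈ μ.parts, 1 < a}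

/-- The even part sizes. -/
abbrev Ev (μ : Nat.Partition (2 * m)) : Type := ↥(μ.parts.toFinset.filter (fun j : ℕ => Even j))

theorem exists_signed_form (hp : p ≠ 2) (μ : Nat.Partition (2 * m)) (hodd : ∀ j, Odd j → Even (μ.parts.count j))
    (s : Ev μ → Bool) :
    ∃ H : Matrix ((k : Fin μ.parts.toList.length) × Fin (dd μ k)) ((k : Fin μ.parts.toList.length) × Fin (dd μ k)) F,
      IsForm (dd μ) H ∧ ∀ (a : Fin (Finset.univ.sup (dd μ) + 1)) (ha : (a : ℕ) ∈ μ.parts.toFinset.filter Even),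
        IsSquare (sblk (dd_pos μ) H a).det ↔ s ⟨a, ha⟩ = true := by
  classical
  have h2 : (2 : F) ≠ 0 := Ring.two_ne_zero (ringChar.eq F p ▸ hp)
  obtain ⟨H0, hH0⟩ := exists_base_form (F := F) μ hodd
  obtain ⟨z, hz⟩ := FiniteField.exists_nonsquare (F := F) (ringChar.eq F p ▸ hp)
  have hz0 : z ≠ 0 := fun h => hz (h ▸ IsSquare.zero)
  let T : (a : Fin (Finset.univ.sup (dd μ) + 1)) → Matrix (fib (dd μ) a) (fib (dd μ) a) F := fun a =>
    if ha : (a : ℕ) ∈ μ.parts.toFinset.filter Even then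
      Matrix.diagonal (Function.update 1
        (Classical.choice (α := fib (dd μ) a) (by
          obtain ⟨k, hk⟩ := exists_of_mem μ (Multiset.mem_toFinset.1 (Finset.mem_filter.1 ha).1)
          exact ⟨⟨k, hk⟩⟩)) (if s ⟨a, ha⟩ then 1 else z))
    else sblk (dd_pos μ) H0 a
  have hdet : ∀ (a : Fin (Finset.univ.sup (dd μ) + 1)) (ha : (a : ℕ) ∈ μ.parts.toFinset.filter Even),
      (T a).det = if s ⟨a, ha⟩ then 1 else z := fun a ha => by
    simp only [T, dif_pos ha, det_diagonal, Finset.prod_update_of_mem (Finset.mem_univ _)]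
    simp
  obtain ⟨H, hH, hHT⟩ := exists_form_blk (dd_pos μ) h2 hH0 T (fun a => by
    by_cases ha : (a : ℕ) ∈ μ.parts.toFinset.filter Even
    · simp only [T, dif_pos ha, diagonal_transpose, (Finset.mem_filter.1 ha).2.neg_one_pow, one_smul]
    · simp only [T, dif_neg ha]
      exact sblk_symm (dd_pos μ) hH0 a) (fun a => by
    by_cases ha : (a : ℕ) ∈ μ.parts.toFinset.filter Even
    · rw [hdet a ha]
      split_ifs
      · exact isUnit_one
      · exact IsUnit.mk0 _ hz0
    · simp only [T, dif_neg ha]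
      exact sblk_det (dd_pos μ) hH0.inv hH0.det hH0.skew a)
  refine ⟨H, hH, fun a ha => ?_⟩
  rw [hHT, hdet a ha]
  split_ifs with hs
  · simp [hs]
  · simp [hs, hz]

theorem partition_unique {A A' : ↥(symplecticGroup (Fin m) F)} (hc : IsConj A A') {μ ν : Nat.Partition (2 * m)}
    {H : Matrix ((k : Fin μ.parts.toList.length) × Fin (dd μ k)) ((k : Fin μ.parts.toList.length) × Fin (dd μ k)) F}
    {H' : Matrix ((k : Fin ν.parts.toList.length) × Fin (dd ν k)) ((k : Fin ν.parts.toList.length) × Fin (dd ν k)) F}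
    (h : Repr A H) (h' : Repr A' H') : μ = ν := by
  let e1 : ((k : Fin μ.parts.toList.length) × Fin (dd μ k)) ≃ Fin m ⊕ Fin m :=
    Fintype.equivOfCardEq (by rw [dd_card, Fintype.card_sum, Fintype.card_fin, two_mul])
  have hA' : IsConj (Matrix.reindex e1 e1 (Cfsg.jordanTypeMatrix (dd μ) F))
      (A' : Matrix (Fin m ⊕ Fin m) (Fin m ⊕ Fin m) F) :=
    (h.conj (dd_pos μ) e1).trans (MonoidHom.map_isConj (Submonoid.subtype _) hc)
  obtain ⟨v, hv⟩ := CfsgLib.UnipotentTypes.chains_of_conj (dd_pos μ) hA'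
  obtain ⟨w, hw⟩ := h'.chains (dd_pos ν) (dd_card ν)
  have := CfsgLib.KnownC.JordanNormal.map_eq_map hv.pos hw.pos fun j => by
    rw [← hv.finrank_range_pow, ← hw.finrank_range_pow]
  rw [dd_map, dd_map] at this
  exact Nat.Partition.ext this

theorem card_classes (hp : p ≠ 2) :
    Nat.card {C : ConjClasses ↥(symplecticGroup (Fin m) F) //
      ∃ g : ↥(symplecticGroup (Fin m) F), ConjClasses.mk g = C ∧ orderOf g = p} =
    Nat.card (Σ μ : Adm p m, Ev μ.1 → Bool) := by
  classical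
  have hchar : ringChar F ≠ 2 := ringChar.eq F p ▸ hp
  have h2 : (2 : F) ≠ 0 := Ring.two_ne_zero hchar
  have hq : Odd (Fintype.card F) := Nat.odd_iff.2 (FiniteField.odd_card_of_char_ne_two hchar)
  choose H hH hsq using fun x : (Σ μ : Adm p m, Ev μ.1 → Bool) =>
    exists_signed_form (F := F) hp x.1.1 x.1.2.1.2 x.2
  choose A hA using fun x => exists_repr (dd_card x.1.1) h2 (hH x)
  have hord : ∀ x, orderOf (A x) = p := fun x => by
    obtain ⟨v, hv⟩ := (hA x).chains (dd_pos _) (dd_card _)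
    refine orderOf_eq_p_iff.2 ⟨Matrix.toLin'.injective ?_, fun h1 => ?_⟩
    · rw [Matrix.toLin'_pow, map_zero]
      refine LinearMap.range_eq_bot.1 (Submodule.finrank_eq_zero.1 ?_)
      rw [hv.finrank_range_pow, Finset.sum_eq_zero_iff]
      intro k _
      exact Nat.sub_eq_zero_of_le (x.1.2.1.1 _ (mem_parts x.1.1 k))
    · obtain ⟨a, ha, ha1⟩ := x.1.2.2
      obtain ⟨k, rfl⟩ := exists_of_mem x.1.1 ha
      have e := hv.finrank_range_pow 1
      have hz : Matrix.toLin' ((A x : Matrix (Fin m ⊕ Fin m) (Fin m ⊕ Fin m) F) - 1) = 0 := by rw [h1]; simp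
      rw [hz, pow_one, LinearMap.range_zero, finrank_bot] at e
      have := (Finset.sum_eq_zero_iff.1 e.symm) k (Finset.mem_univ k)
      omega
  refine (Nat.card_eq_of_bijective (fun x => (⟨ConjClasses.mk (A x), A x, rfl, hord x⟩ :
    {C : ConjClasses ↥(symplecticGroup (Fin m) F) //
      ∃ g : ↥(symplecticGroup (Fin m) F), ConjClasses.mk g = C ∧ orderOf g = p})) ⟨?_, ?_⟩).symm
  · intro x y hxy
    have hc : IsConj (A x) (A y) := ConjClasses.mk_eq_mk_iff_isConj.1 (congrArg Subtype.val hxy)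
    obtain ⟨μ, s⟩ := x
    obtain ⟨ν, s'⟩ := y
    obtain rfl : μ = ν := Subtype.ext (partition_unique hc (hA _) (hA _))
    obtain ⟨G, hG, hGu, hG2⟩ := ((hA ⟨μ, s⟩).conj_iff (dd_pos μ.1) (hA ⟨μ, s'⟩)).1 hc
    congr 1
    funext a
    have hmem := a.2
    obtain ⟨k, hk⟩ := exists_of_mem μ.1 (Multiset.mem_toFinset.1 (Finset.mem_filter.1 hmem).1)
    let af : Fin (Finset.univ.sup (dd μ.1) + 1) :=
      ⟨a, by have := Finset.le_sup (f := dd μ.1) (Finset.mem_univ k); omega⟩
    have e := sblk_congr (dd_pos μ.1) (hH ⟨μ, s'⟩) hG af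
    rw [hG2, ct_id] at e
    have h1 := hsq ⟨μ, s⟩ af hmem
    have h3 := hsq ⟨μ, s'⟩ af hmem
    rw [e, det_mul, det_mul, det_transpose] at h1
    rw [Bool.eq_iff_iff]
    refine h1.symm.trans (Iff.trans ?_ h3)
    have hb : IsUnit (blk (dd_pos μ.1) af G).det := by
      have := sblk_det (dd_pos μ.1) (hH ⟨μ, s⟩).inv (hH ⟨μ, s⟩).det (hH ⟨μ, s⟩).skew af
      rw [e, det_mul] at this
      exact isUnit_of_mul_isUnit_right this
    rw [mul_comm _ (sblk _ _ _).det, mul_assoc]
    constructor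
    · rintro ⟨r, hr⟩
      refine ⟨r / (blk (dd_pos μ.1) af G).det, ?_⟩
      field_simp [hb.ne_zero]
      linear_combination hr
    · intro h
      exact h.mul ⟨_, rfl⟩
  · rintro ⟨C, g, rfl, hg⟩
    obtain ⟨hg0, hg1⟩ := orderOf_eq_p_iff.1 hg
    have hnil : IsNilpotent (Matrix.toLin' ((g : Matrix (Fin m ⊕ Fin m) (Fin m ⊕ Fin m) F) - 1)) :=
      ⟨p, by rw [← Matrix.toLin'_pow, hg0, map_zero]⟩
    obtain ⟨t, d, v, hv⟩ := CfsgLib.KnownC.JordanNormal.exists_chains hnil
    have hsum : ∑ k, d k = 2 * m := by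
      rw [hv.sum_eq, Module.finrank_fintype_fun_eq_card, Fintype.card_sum, Fintype.card_fin, two_mul]
    let μ : Nat.Partition (2 * m) :=
      { parts := Finset.univ.val.map d
        parts_pos := fun ha => by obtain ⟨k, -, rfl⟩ := Multiset.mem_map.1 ha; exact hv.pos k
        parts_sum := hsum }
    have hmap : Finset.univ.val.map (dd μ) = Finset.univ.val.map d := dd_map μ
    obtain ⟨e⟩ : Nonempty (((k : Fin μ.parts.toList.length) × Fin (dd μ k)) ≃ Fin m ⊕ Fin m) :=
      CfsgLib.UnipotentTypes.exists_index (by rw [dd_sum, Fintype.card_sum, Fintype.card_fin, two_mul])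
    have hconj := CfsgLib.UnipotentTypes.conj_of_chains (dd_pos μ) e _ hv hmap
    have hle : ∀ a ∈ μ.parts, a ≤ p := fun a ha => by
      obtain ⟨k, -, rfl⟩ := Multiset.mem_map.1 (show a ∈ Finset.univ.val.map d from ha)
      have h := hv.finrank_range_pow p
      rw [← Matrix.toLin'_pow, hg0, map_zero, LinearMap.range_zero, finrank_bot] at h
      exact Nat.sub_eq_zero_iff_le.1 (Finset.sum_eq_zero_iff.1 h.symm k (Finset.mem_univ k))
    have hodd : ∀ j : ℕ, Odd j → Even (μ.parts.count j) := fun j hj => by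
      rw [← dd_count]
      exact (CfsgLib.UnipotentTypes.symp_types (dd_pos μ) (dd_sum μ)).1 ⟨e, g, hconj⟩ j hj
    have hbig : ∃ a ∈ μ.parts, 1 < a := by
      by_contra hall
      push Not at hall
      refine hg1 (Subtype.ext (sub_eq_zero.1 (Matrix.toLin'.injective ?_)))
      rw [map_zero, ← pow_one (Matrix.toLin' _)]
      refine LinearMap.range_eq_bot.1 (Submodule.finrank_eq_zero.1 ?_)
      show Module.finrank F (LinearMap.range (Matrix.toLin' ((g : Matrix (Fin m ⊕ Fin m) (Fin m ⊕ Fin m) F) - 1) ^ 1)) = 0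
      rw [hv.finrank_range_pow]
      exact Finset.sum_eq_zero fun k _ =>
        Nat.sub_eq_zero_of_le (hall (d k) (show d k ∈ Finset.univ.val.map d from Multiset.mem_map_of_mem _ (Finset.mem_univ_val k)))
    obtain ⟨c, hc⟩ := hconj
    have hrep := repr_of_conj e c hc.eq
    set H0 := ((c : Matrix (Fin m ⊕ Fin m) (Fin m ⊕ Fin m) F).submatrix id e)ᵀ * Matrix.J (Fin m) F *
        (c : Matrix (Fin m ⊕ Fin m) (Fin m ⊕ Fin m) F).submatrix id e
    let s : Ev μ → Bool := fun a =>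
      if h : (a : ℕ) < Finset.univ.sup (dd μ) + 1 then decide (IsSquare (sblk (dd_pos μ) H0 ⟨a, h⟩).det) else true
    let x : (Σ μ : Adm p m, Ev μ.1 → Bool) := ⟨⟨μ, ⟨hle, hodd⟩, hbig⟩, s⟩
    have hP : ∀ a, ∃ P, Pᵀ * sblk (dd_pos μ) (H x) a * P = sblk (dd_pos μ) H0 a := fun a => by
      refine exists_block_congr h2 (sblk_symm (dd_pos μ) hrep.form a) (sblk_symm (dd_pos μ) (hH x) a)
        (sblk_det (dd_pos μ) hrep.form.inv hrep.form.det hrep.form.skew a).ne_zero
        (sblk_det (dd_pos μ) (hH x).inv (hH x).det (hH x).skew a).ne_zero fun hev => ?_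
      by_cases ha : (a : ℕ) ∈ μ.parts
      · rw [hsq x a (Finset.mem_filter.2 ⟨Multiset.mem_toFinset.2 ha, hev⟩)]
        simp [x, s, Nat.le_of_lt_succ a.2]
      · have : IsEmpty (fib (dd μ) a) := ⟨fun k => ha (by
          exact k.2 ▸ mem_parts μ k.1)⟩
        rw [det_isEmpty, det_isEmpty]
    choose P hP using hP
    obtain ⟨G, hG, hGu, hG2⟩ := congr_of_blk (dd_pos μ) hq hrep.form (hH x) P hP
    exact ⟨x, Subtype.ext (ConjClasses.mk_eq_mk_iff_isConj.2
      ((hrep.conj_iff (dd_pos μ) (hA x)).2 ⟨G, hG, hGu, hG2⟩).symm)⟩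

open _root_.Classical in
theorem count (p m : ℕ) (hp1 : 1 ≤ p) :
    Nat.card (Σ μ : Adm p m, Ev μ.1 → Bool) = (∑ μ ∈ Finset.univ.filter (fun μ : Nat.Partition (2 * m) =>
      (∀ a ∈ μ.parts, a ≤ p) ∧ ∀ j : ℕ, Odd j → Even (μ.parts.count j)),
      2 ^ ((μ.parts.toFinset.filter (fun j : ℕ => Even j)).card)) - 1 := by
  classical
  rw [Nat.card_sigma]
  simp only [Nat.card_eq_fintype_card]
  let ones : Nat.Partition (2 * m) := Nat.Partition.ofSums (2 * m) (Multiset.replicate (2 * m) 1) (by simp)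
  have hones : ones.parts = Multiset.replicate (2 * m) 1 := by
    simp only [ones, Nat.Partition.ofSums, Multiset.filter_eq_self]
    intro a ha
    rw [Multiset.eq_of_mem_replicate ha]
    exact one_ne_zero
  set f : Nat.Partition (2 * m) → ℕ := fun μ => 2 ^ ((μ.parts.toFinset.filter (fun j : ℕ => Even j)).card)
  set S := Finset.univ.filter (fun μ : Nat.Partition (2 * m) =>
      (∀ a ∈ μ.parts, a ≤ p) ∧ ∀ j : ℕ, Odd j → Even (μ.parts.count j))
  have hmem : ones ∈ S := by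
    refine Finset.mem_filter.2 ⟨Finset.mem_univ _, fun a ha => ?_, fun j hj => ?_⟩
    · rw [hones] at ha; rw [Multiset.eq_of_mem_replicate ha]; exact hp1
    · rw [hones, Multiset.count_replicate]; split_ifs
      · exact even_two_mul m
      · exact Even.zero
  have hf1 : f ones = 1 := by
    simp only [f]
    rw [Finset.filter_false_of_mem, Finset.card_empty, pow_zero]
    intro j hj he
    rw [Multiset.mem_toFinset, hones] at hj
    rw [Multiset.eq_of_mem_replicate hj] at he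
    exact Nat.not_even_one he
  rw [← Finset.add_sum_erase S f hmem, hf1, Nat.add_sub_cancel_left]
  rw [Finset.sum_subtype (S.erase ones)
    (p := fun μ : Nat.Partition (2 * m) =>
      ((∀ a ∈ μ.parts, a ≤ p) ∧ ∀ j : ℕ, Odd j → Even (μ.parts.count j)) ∧ ∃ a ∈ μ.parts, 1 < a) ?_ f]
  · exact Finset.sum_congr rfl fun x _ => by rw [Fintype.card_fun, Fintype.card_bool, Fintype.card_coe]
  intro μ
  rw [Finset.mem_erase, Finset.mem_filter]
  constructor
  · rintro ⟨hne, -, h⟩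
    refine ⟨h, ?_⟩
    by_contra hall
    push Not at hall
    refine hne (Nat.Partition.ext ?_)
    have hrep : μ.parts = Multiset.replicate μ.parts.card 1 :=
      Multiset.eq_replicate_card.2 fun a ha => le_antisymm (hall a ha) (μ.parts_pos ha)
    have hs := μ.parts_sum
    rw [hrep, Multiset.sum_replicate, smul_eq_mul, mul_one] at hs
    rw [hrep, hs, hones]
  · rintro ⟨h, a, ha, ha1⟩
    refine ⟨fun e => ?_, Finset.mem_univ _, h⟩
    rw [e, hones] at ha
    exact ha1.ne (Multiset.eq_of_mem_replicate ha).symm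

end Partitions

end CfsgLib.Involution.UnipotentClassesSp
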