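import Cfsg.Agent.Lib.Involution.ZStar.Values
import Cfsg.Prelude.Def_Transfer
import Cfsg.Prelude.Def_Local

/-!
# A weakly closed central subgroup and a coset of involutions

If `W` is weakly closed in a Sylow 2-subgroup, central there, and lies in `O_{2',2}` of the centralizer
of each involution of a coset `W t`, then `G` is not simple: the principal 2-block separates.
-/

set_option autoImplicit false
set_option linter.style.haveILetI false

namespace CfsgLib.Involution.WeakCoset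

open Cfsg CfsgLib.Involution.Dihedral
open scoped Classical

variable {G : Type*} [Group G] [Finite G]

/-- The standing hypothesis: `W` is central and weakly closed in `T`. -/
structure Setup (T : Sylow 2 G) (W : Subgroup G) : Prop where
  le : W ≤ (T : Subgroup G)
  central : ∀ w ∈ W, ∀ s ∈ (T : Subgroup G), w * s = s * w
  closed : Cfsg.IsWeaklyClosed W (T : Subgroup G)

variable {T : Sylow 2 G} {W : Subgroup G} (h : Setup T W)
include h

theorem isPGroup : IsPGroup 2 W := T.2.to_le h.le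

theorem mem_normalizer {g : G} (hg : ∀ w ∈ W, g * w * g⁻¹ ∈ (T : Subgroup G)) :
    ∀ w : G, w ∈ W ↔ g * w * g⁻¹ ∈ W := by
  have hm := h.closed.2 g (by rintro _ ⟨w, hw, rfl⟩; exact hg w hw)
  intro w
  conv_rhs => rw [← hm]
  exact ⟨fun hw => ⟨w, hw, rfl⟩, fun ⟨v, hv, hvw⟩ => by
    rwa [← (MulAut.conj g).injective (a₁ := v) (a₂ := w) hvw]⟩

theorem exists_conj (K : Subgroup G) (hK : IsPGroup 2 K) :
    ∃ g : G, ∀ k ∈ K, g⁻¹ * k * g ∈ (T : Subgroup G) := by
  haveI : Fact (Nat.Prime 2) := ⟨Nat.prime_two⟩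
  obtain ⟨R, hR⟩ := hK.exists_le_sylow
  obtain ⟨g, hg⟩ := MulAction.exists_smul_eq G T R
  refine ⟨g, fun k hk => ?_⟩
  have h1 : k ∈ ((g • T : Sylow 2 G) : Subgroup G) := by rw [hg]; exact hR hk
  obtain ⟨s, hs, hsk⟩ := h1
  rw [← hsk]
  show g⁻¹ * (g * s * g⁻¹) * g ∈ (T : Subgroup G)
  simpa [mul_assoc] using (show s ∈ (T : Subgroup G) from hs)

/-- Two conjugates of `W` inside `H` are conjugate in `H`. -/
theorem conj_in (H : Subgroup G) {a b : G} (ha : ∀ w ∈ W, a * w * a⁻¹ ∈ H)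
    (hb : ∀ w ∈ W, b * w * b⁻¹ ∈ H) :
    ∃ c ∈ H, ∀ w : G, w ∈ W ↔ a⁻¹ * (c * b * w * (c * b)⁻¹) * a ∈ W := by
  haveI : Fact (Nat.Prime 2) := ⟨Nat.prime_two⟩
  have key : ∀ k : G, (∀ w ∈ W, k * w * k⁻¹ ∈ H) →
      ∃ P : Sylow 2 H, ∀ w ∈ W, ∀ hw : k * w * k⁻¹ ∈ H,
        (⟨k * w * k⁻¹, hw⟩ : H) ∈ (P : Subgroup H) := by
    intro k hk
    have hp : IsPGroup 2 ((W.map (MulAut.conj k).toMonoidHom).comap H.subtype) :=
      ((isPGroup h).map _).comap_of_injective _ H.subtype_injective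
    obtain ⟨P, hP⟩ := hp.exists_le_sylow
    exact ⟨P, fun w hw hwH => hP ⟨w, hw, rfl⟩⟩
  obtain ⟨P, hP⟩ := key a ha
  obtain ⟨Q, hQ⟩ := key b hb
  obtain ⟨c, hc⟩ := MulAction.exists_smul_eq H Q P
  obtain ⟨g, hg⟩ := exists_conj h ((P : Subgroup H).map H.subtype) (P.2.map _)
  refine ⟨c, c.2, fun w => ?_⟩
  have h1 := mem_normalizer h (g := g⁻¹ * a) fun v hv => by
    have := hg _ ⟨⟨a * v * a⁻¹, ha v hv⟩, hP v hv _, rfl⟩
    simpa [mul_assoc] using this
  have h2 := mem_normalizer h (g := g⁻¹ * ((c : G) * b)) fun v hv => by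
    have hm : c * ⟨b * v * b⁻¹, hb v hv⟩ * c⁻¹ ∈ (P : Subgroup H) := by
      rw [← hc]
      exact ⟨_, hQ v hv (hb v hv), rfl⟩
    have := hg _ ⟨_, hm, rfl⟩
    simpa [mul_assoc] using this
  rw [h2 w, h1 (a⁻¹ * ((c : G) * b * w * ((c : G) * b)⁻¹) * a)]
  simp [mul_assoc]

/-- A conjugate of an element of `W` centralizing `W` lies in `W`. -/
theorem mem_of_commute {u : G} (hu : u ∈ W) {k : G}
    (hk : ∀ w ∈ W, k * u * k⁻¹ * w = w * (k * u * k⁻¹)) : k * u * k⁻¹ ∈ W := by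
  set v := k * u * k⁻¹ with hv
  obtain ⟨c, hc, hcn⟩ := conj_in h (Subgroup.centralizer ({v} : Set G)) (a := 1) (b := k)
    (fun w hw => by
      rw [one_mul, inv_one, mul_one, Subgroup.mem_centralizer_singleton_iff]
      exact (hk w hw).symm)
    (fun w hw => by
      rw [Subgroup.mem_centralizer_singleton_iff, hv]
      calc k * w * k⁻¹ * (k * u * k⁻¹) = k * (w * u) * k⁻¹ := by group
        _ = k * (u * w) * k⁻¹ := by rw [h.central w hw u (h.le hu)]
        _ = _ := by group)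
  have h1 := (hcn u).1 hu
  rw [inv_one, one_mul, mul_one] at h1
  have h2 : c * k * u * (c * k)⁻¹ = v := by
    calc c * k * u * (c * k)⁻¹ = c * v * c⁻¹ := by rw [hv]; group
      _ = v * c * c⁻¹ := by rw [Subgroup.mem_centralizer_singleton_iff.1 hc]
      _ = v := by group
  rwa [h2] at h1

/-- If `g⁻¹ u g` lies in the Sylow subgroup, it lies in `W`. -/
theorem mem_of_mem_sylow {u : G} (hu : u ∈ W) {k g : G}
    (hk : g⁻¹ * (k * u * k⁻¹) * g ∈ (T : Subgroup G)) : g⁻¹ * (k * u * k⁻¹) * g ∈ W := by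
  have e : g⁻¹ * k * u * (g⁻¹ * k)⁻¹ = g⁻¹ * (k * u * k⁻¹) * g := by group
  have h1 := mem_of_commute h hu (k := g⁻¹ * k) fun w hw => by
    rw [e]; exact (h.central w hw _ hk).symm
  rwa [e] at h1

omit h

theorem isPGroup_zpowers {a : G} (ha : orderOf a = 2) : IsPGroup 2 (Subgroup.zpowers a) :=
  IsPGroup.of_card (n := 1) (by rw [Nat.card_zpowers, ha, pow_one])

theorem isPGroup_sup {a b : G} (ha : IsPGroup 2 (Subgroup.zpowers a))
    (hb : IsPGroup 2 (Subgroup.zpowers b)) (hab : b * a * b⁻¹ ∈ Subgroup.zpowers a) :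
    IsPGroup 2 (Subgroup.zpowers a ⊔ Subgroup.zpowers b : Subgroup G) := by
  refine ha.to_sup_of_normal_left' hb ?_
  rw [Subgroup.zpowers_le, Subgroup.mem_normalizer_iff]
  have hmap : (Subgroup.zpowers a).map (MulAut.conj b).toMonoidHom = Subgroup.zpowers a := by
    refine Subgroup.eq_of_le_of_card_ge ?_ ?_
    · rintro _ ⟨x, ⟨i, rfl⟩, rfl⟩
      show b * a ^ i * b⁻¹ ∈ _
      rw [← _root_.conj_zpow]
      exact zpow_mem hab i
    · rw [Subgroup.card_map_of_injective (MulAut.conj b).injective]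
  intro x
  conv_rhs => rw [← hmap]
  exact ⟨fun hx => ⟨x, hx, rfl⟩, fun ⟨v, hv, hvx⟩ => by
    rwa [← (MulAut.conj b).injective (a₁ := v) (a₂ := x) hvx]⟩

theorem mem_oddCore_of_mem {H : Type*} [Group H] [Finite H] {r : H}
    (hr : r ∈ Cfsg.pPrimePCore 2 H) (hodd : Odd (orderOf r)) : r ∈ Cfsg.oddCore H := by
  haveI : Fact (Nat.Prime 2) := ⟨Nat.prime_two⟩
  haveI : (Cfsg.oddCore H).Normal := ZStar.oddCore_normal
  obtain ⟨n, hn⟩ := (CfsgLib.Solvable.Cores.isPGroup_pCore (G := H ⧸ Cfsg.oddCore H) 2).exists_card_eq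
  have h1 : orderOf (r : H ⧸ Cfsg.oddCore H) ∣ 2 ^ n := by
    rw [← hn]; exact Subgroup.orderOf_dvd_natCard _ hr
  have h2 : orderOf (r : H ⧸ Cfsg.oddCore H) ∣ orderOf r :=
    orderOf_map_dvd (QuotientGroup.mk' (Cfsg.oddCore H)) r
  have h3 : Nat.Coprime (orderOf r) (2 ^ n) := hodd.coprime_two_right.pow_right n
  exact (QuotientGroup.eq_one_iff r).1
    (orderOf_eq_one_iff.1 (Nat.eq_one_of_dvd_coprimes h3 h2 h1))

include h

/-- The 2-part of `u y`, `y` conjugate to an element of the coset, is again in the coset up to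
conjugation, and the odd part is in the odd core of its centralizer. -/
theorem structure_mul {u x : G} (hu : u ∈ W) (hu2 : orderOf u = 2) (hx2 : orderOf x = 2)
    (hxT : x ∈ (T : Subgroup G)) (hxW : x ∉ W)
    (hcore : ∀ v ∈ W, orderOf (v * x) = 2 →
      W.subgroupOf (Subgroup.centralizer ({v * x} : Set G)) ≤
        Cfsg.pPrimePCore 2 ↥(Subgroup.centralizer ({v * x} : Set G)))
    (g : G) : ∃ v ∈ W, orderOf (v * x) = 2 ∧ ∃ (k : G)
      (r : Subgroup.centralizer ({v * x} : Set G)),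
      r ∈ Cfsg.oddCore ↥(Subgroup.centralizer ({v * x} : Set G)) ∧
        u * (g * x * g⁻¹) = k * (v * x * (r : G)) * k⁻¹ := by
  set y := g * x * g⁻¹ with hy
  have hy2 : orderOf y = 2 := by rw [hy, orderOf_conj, hx2]
  clear_value y
  have hxc : ∀ w ∈ W, x * w = w * x := fun w hw => (h.central w hw x hxT).symm
  have hinvu : u * (u * y) * u⁻¹ = (u * y)⁻¹ := by
    rw [mul_inv_rev, inv_eq hy2, inv_eq hu2, ← mul_assoc, mul_self hu2, one_mul]
  have hinvy : y * (u * y) * y⁻¹ = (u * y)⁻¹ := by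
    rw [mul_inv_rev, inv_eq hy2, inv_eq hu2, mul_assoc, mul_assoc u, mul_self hy2, mul_one]
  have heven : Even (orderOf (u * y)) := by
    by_contra hodd
    rw [Nat.not_even_iff_odd] at hodd
    obtain ⟨k, hk⟩ := isConj_iff.1 (isConj_of_odd hu2 hy2 hodd)
    refine hxW ?_
    have e : g⁻¹ * k * u * (g⁻¹ * k)⁻¹ = x := by
      calc g⁻¹ * k * u * (g⁻¹ * k)⁻¹ = g⁻¹ * (k * u * k⁻¹) * g := by group
        _ = x := by rw [hk, hy]; group
    have h1 := mem_of_commute h hu (k := g⁻¹ * k) fun w hw => by rw [e]; exact hxc w hw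
    rwa [e] at h1
  obtain ⟨a, m, hm, hn⟩ := Nat.exists_eq_two_pow_mul_odd (orderOf_pos (u * y)).ne'
  set s := (u * y) ^ m with hs
  have hys : y * s * y⁻¹ = s⁻¹ := by rw [hs, ← _root_.conj_pow, hinvy, inv_pow]
  have hus : u * s * u⁻¹ = s⁻¹ := by rw [hs, ← _root_.conj_pow, hinvu, inv_pow]
  have hmo : Odd m := hm
  obtain ⟨j, hj⟩ := hm
  set q := (u * y) ^ j with hq
  have hqs : q * s = s * q := ((Commute.refl (u * y)).pow_pow j m).eq
  have hsq : s = q * (u * y) * q := by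
    rw [hs, hq, ← pow_succ, ← pow_add]; congr 1; omega
  have huqu : u * q * u⁻¹ = q⁻¹ := by rw [hq, ← _root_.conj_pow, hinvu, inv_pow]
  have hyqy : y * q * y⁻¹ = q⁻¹ := by rw [hq, ← _root_.conj_pow, hinvy, inv_pow]
  have hu' : s * y = q * u * q⁻¹ := by
    calc s * y = q * u * (y * q * y⁻¹) * (y * y) := by rw [hsq]; group
      _ = q * u * q⁻¹ := by rw [hyqy, mul_self hy2, mul_one]
  have hspg : IsPGroup 2 (Subgroup.zpowers s) := by
    have h1 : s ^ 2 ^ a = 1 := by rw [hs, ← pow_mul, mul_comm m, ← hn, pow_orderOf_eq_one]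
    obtain ⟨i, -, hi⟩ := (Nat.dvd_prime_pow Nat.prime_two).1 (orderOf_dvd_of_pow_eq_one h1)
    exact IsPGroup.of_card (n := i) (by rw [Nat.card_zpowers, hi])
  obtain ⟨c₁, hc₁⟩ := exists_conj h _ (isPGroup_sup hspg (isPGroup_zpowers hy2)
    (hys ▸ inv_mem (Subgroup.mem_zpowers s)))
  have hsT := hc₁ s (Subgroup.mem_sup_left (Subgroup.mem_zpowers s))
  have hyT := hc₁ y (Subgroup.mem_sup_right (Subgroup.mem_zpowers y))
  have hu'W : c₁⁻¹ * (q * u * q⁻¹) * c₁ ∈ W := by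
    refine mem_of_mem_sylow h hu ?_
    rw [← hu']
    have := mul_mem hsT hyT
    simpa [mul_assoc] using this
  have hsy : s * y = y * s := by
    have h1 := h.central _ hu'W _ hyT
    rw [← hu'] at h1
    have h2 : (s * y) * y = y * (s * y) := by
      calc (s * y) * y = c₁ * ((c₁⁻¹ * (s * y) * c₁) * (c₁⁻¹ * y * c₁)) * c₁⁻¹ := by group
        _ = c₁ * ((c₁⁻¹ * y * c₁) * (c₁⁻¹ * (s * y) * c₁)) * c₁⁻¹ := by rw [h1]
        _ = _ := by group
    exact mul_right_cancel (h2.trans (mul_assoc y s y).symm)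
  have hsinv : s⁻¹ = s := by
    rw [← hys, ← hsy, mul_inv_cancel_right]
  have hs2 : s * s = 1 := by
    nth_rewrite 1 [← hsinv]
    exact inv_mul_cancel s
  have hs1 : s ≠ 1 := by
    intro h1
    have h2 : orderOf (u * y) ∣ m := orderOf_dvd_of_pow_eq_one h1
    exact Nat.not_even_iff_odd.2 hmo (even_iff_two_dvd.2
      ((even_iff_two_dvd.1 heven).trans h2))
  have hsu : s * u = u * s := by
    conv_lhs => rw [← hsinv, ← hus]
    rw [inv_mul_cancel_right]
  -- the conjugate of `y` commuting with `u`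
  have hy0 : u * s = q⁻¹ * y * q := by
    calc u * s = u * q * u⁻¹ * (u * u) * y * q := by rw [hsq]; group
      _ = q⁻¹ * y * q := by rw [huqu, mul_self hu2, mul_one]
  have hy02 : orderOf (u * s) = 2 := by
    rw [hy0]
    nth_rewrite 2 [← inv_inv q]
    rw [orderOf_conj, hy2]
  obtain ⟨c₂, hc₂⟩ := exists_conj h _ (isPGroup_sup (isPGroup_zpowers hu2) (isPGroup_zpowers hy02)
    (by
      rw [show u * s * u * (u * s)⁻¹ = u by
        rw [mul_assoc u s u, hsu, ← mul_assoc, mul_self hu2, one_mul, mul_inv_rev, inv_eq hu2,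
          ← mul_assoc, mul_inv_cancel, one_mul]]
      exact Subgroup.mem_zpowers u))
  have hy0T := hc₂ (u * s) (Subgroup.mem_sup_right (Subgroup.mem_zpowers _))
  have huW : c₂⁻¹ * u * c₂ ∈ W := by
    have h1 := mem_of_mem_sylow h hu (k := 1) (g := c₂) (by
      simpa using hc₂ u (Subgroup.mem_sup_left (Subgroup.mem_zpowers _)))
    simpa using h1
  set b := q⁻¹ * g with hb
  have hy0b : u * s = b * x * b⁻¹ := by rw [hy0, hy, hb]; group
  obtain ⟨c, hc, hcn⟩ := conj_in h (Subgroup.centralizer ({u * s} : Set G)) (a := c₂) (b := b)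
    (fun w hw => by
      rw [Subgroup.mem_centralizer_singleton_iff]
      have h1 := h.central w hw _ hy0T
      calc c₂ * w * c₂⁻¹ * (u * s) = c₂ * (w * (c₂⁻¹ * (u * s) * c₂)) * c₂⁻¹ := by group
        _ = c₂ * ((c₂⁻¹ * (u * s) * c₂) * w) * c₂⁻¹ := by rw [h1]
        _ = _ := by group)
    (fun w hw => by
      rw [Subgroup.mem_centralizer_singleton_iff, hy0b]
      calc b * w * b⁻¹ * (b * x * b⁻¹) = b * (w * x) * b⁻¹ := by group
        _ = b * (x * w) * b⁻¹ := by rw [hxc w hw]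
        _ = _ := by group)
  set k := c * b with hk
  have hy0k : u * s = k * x * k⁻¹ := by
    calc u * s = u * s * c * c⁻¹ := by group
      _ = c * (u * s) * c⁻¹ := by rw [← Subgroup.mem_centralizer_singleton_iff.1 hc]
      _ = k * x * k⁻¹ := by rw [hy0b, hk]; group
  set v := k⁻¹ * u * k with hv
  have hvW : v ∈ W := by
    rw [hcn, show c₂⁻¹ * (k * v * k⁻¹) * c₂ = c₂⁻¹ * u * c₂ by rw [hv]; group]
    exact huW
  have hvx : v * x = k⁻¹ * s * k := by
    calc v * x = k⁻¹ * u * (k * x * k⁻¹) * k := by rw [hv]; group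
      _ = k⁻¹ * (u * u) * s * k := by rw [← hy0k]; group
      _ = k⁻¹ * s * k := by rw [mul_self hu2, mul_one]
  have hvx2 : orderOf (v * x) = 2 := by
    rw [hvx]
    nth_rewrite 2 [← inv_inv k]
    rw [orderOf_conj]
    exact orderOf_eq_two hs2 hs1
  have hC : ∀ e : G, e * s = s * e → k⁻¹ * e * k ∈ Subgroup.centralizer ({v * x} : Set G) := by
    intro e he
    rw [Subgroup.mem_centralizer_singleton_iff, hvx]
    calc k⁻¹ * e * k * (k⁻¹ * s * k) = k⁻¹ * (e * s) * k := by group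
      _ = k⁻¹ * (s * e) * k := by rw [he]
      _ = _ := by group
  set C := Subgroup.centralizer ({v * x} : Set G) with hCdef
  have hvC : v ∈ C := hC u hsu.symm
  let vC : C := ⟨v, hvC⟩
  let qC : C := ⟨k⁻¹ * q * k, hC q hqs⟩
  haveI : (Cfsg.pPrimeCore 2 ↥C).Normal := Cfsg.pPrimeCore_normal 2 _
  haveI : (Cfsg.pPrimePCore 2 ↥C).Normal := by
    haveI := CfsgLib.Solvable.Cores.pCore_normal (G := ↥C ⧸ Cfsg.pPrimeCore 2 ↥C) 2
    exact Subgroup.Normal.comap inferInstance _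
  have hvP : vC ∈ Cfsg.pPrimePCore 2 ↥C := hcore v hvW hvx2 hvW
  set r : C := vC * (qC * vC * qC⁻¹) with hr
  have hrP : r ∈ Cfsg.pPrimePCore 2 ↥C :=
    mul_mem hvP (Subgroup.Normal.conj_mem inferInstance _ hvP qC)
  have hrG : (r : G) = k⁻¹ * (u * y * s) * k := by
    show v * (k⁻¹ * q * k * v * (k⁻¹ * q * k)⁻¹) = _
    calc v * (k⁻¹ * q * k * v * (k⁻¹ * q * k)⁻¹) = k⁻¹ * (u * (q * u * q⁻¹)) * k := by
          rw [hv]; group
      _ = k⁻¹ * (u * y * s) * k := by rw [← hu', hsy]; group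
  have hrodd : Odd (orderOf r) := by
    refine hmo.of_dvd_nat (orderOf_dvd_of_pow_eq_one (Subtype.ext ?_))
    have hcs : Commute (u * y) s := (Commute.refl (u * y)).pow_right m
    rw [SubmonoidClass.coe_pow, hrG, OneMemClass.coe_one]
    nth_rewrite 2 [← inv_inv k]
    rw [_root_.conj_pow, hcs.mul_pow, ← hs, ← pow_succ', show m + 1 = 2 * (j + 1) by omega, pow_mul,
      sq, hs2, one_pow]
    group
  refine ⟨v, hvW, hvx2, k, r, mem_oddCore_of_mem hrP hrodd, ?_⟩
  calc u * y = u * y * (s * s) := by rw [hs2, mul_one]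
    _ = u * y * s * s := (mul_assoc _ _ _).symm
    _ = s * (u * y * s) := by
        rw [show s * (u * y * s) = s * (u * y) * s from (mul_assoc _ _ _).symm,
          show s * (u * y) = u * y * s from (Commute.pow_self (u * y) m).eq]
    _ = k * (v * x * (r : G)) * k⁻¹ := by rw [hvx, hrG]; group

/-- The criterion. -/
theorem not_isSimpleGroup (hW1 : W ≠ ⊥) {t : G} (ht : orderOf t = 2) (htT : t ∈ (T : Subgroup G))
    (htW : t ∉ W)
    (hcos : ∀ w ∈ W, orderOf (w * t) = 2 →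
      W.subgroupOf (Subgroup.centralizer ({w * t} : Set G)) ≤
        Cfsg.pPrimePCore 2 ↥(Subgroup.centralizer ({w * t} : Set G))) :
    ¬ IsSimpleGroup G := by
  intro hsimple
  haveI : Fact (Nat.Prime 2) := ⟨Nat.prime_two⟩
  cases nonempty_fintype G
  obtain ⟨u, hu, hu2⟩ : ∃ u ∈ W, orderOf u = 2 := by
    haveI : Nontrivial W := (Subgroup.nontrivial_iff_ne_bot W).2 hW1
    obtain ⟨n, hn0, hn⟩ := (isPGroup h).nontrivial_iff_card.1 inferInstance
    obtain ⟨w, hw⟩ := exists_prime_orderOf_dvd_card' (G := W) 2 (hn ▸ dvd_pow_self 2 hn0.ne')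
    exact ⟨w, w.2, by rw [Subgroup.orderOf_coe, hw]⟩
  obtain ⟨M, hM⟩ := CfsgLib.Blocks.exists_isPModular Nat.prime_two
  set B := (principalBlock M G).toFinset with hB
  let X := {x : G // ∃ w ∈ W, x = w * t ∧ orderOf x = 2}
  let lam : IrrCharacter G → ℂ := fun χ => (χ : G → ℂ) u / (χ : G → ℂ) 1
  have hf : ∀ (x : X) (g : G), ∃ x' : X, ∀ χ ∈ B,
      (χ : G → ℂ) (u * (g * x.1 * g⁻¹)) = (χ : G → ℂ) x'.1 := by
    rintro ⟨x, w, hw, rfl, hx2⟩ g
    have hxW : w * t ∉ W := fun hh => htW ((Subgroup.mul_mem_cancel_left W hw).1 hh)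
    obtain ⟨v, hv, hv2, k, r, hr, he⟩ := structure_mul h hu hu2 hx2 (mul_mem (h.le hw) htT) hxW
      (fun v hv hv2 => by
        have := hcos (v * w) (mul_mem hv hw) (by rwa [mul_assoc])
        rwa [mul_assoc] at this) g
    refine ⟨⟨v * (w * t), v * w, mul_mem hv hw, (mul_assoc v w t).symm, hv2⟩, fun χ hχ => ?_⟩
    show (χ : G → ℂ) (u * (g * (w * t) * g⁻¹)) = (χ : G → ℂ) (v * (w * t))
    rw [he, CfsgLib.Blocks.irr_conj_apply]
    exact ZStar.apply_section hM (Set.mem_toFinset.1 hχ) ⟨1, by rw [hv2, pow_one]⟩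
      ZStar.oddCore_normal
      (fun hd => Nat.not_even_iff_odd.2 ZStar.odd_card_oddCore (even_iff_two_dvd.2 hd)) hr
  choose f hf using hf
  have hzero : ∀ (k : ℕ) (x : X),
      ∑ χ ∈ B, (χ : G → ℂ) 1 * lam χ ^ k * (χ : G → ℂ) x.1 = 0 := by
    intro k
    induction k with
    | zero =>
      intro x
      simp only [pow_zero, mul_one]
      obtain ⟨w, -, -, hx2⟩ := x.2
      exact ZStar.sum_degree_mul_eq_zero hM CfsgLib.Blocks.isPBlock_principalBlock (by rw [hx2])
    | succ k ih =>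
      intro x
      have hterm : ∀ χ ∈ B, (Nat.card G : ℂ) *
          ((χ : G → ℂ) 1 * lam χ ^ (k + 1) * (χ : G → ℂ) x.1) =
          ∑ g : G, (χ : G → ℂ) 1 * lam χ ^ k * (χ : G → ℂ) (f x g).1 := by
        intro χ hχ
        rw [← Finset.mul_sum, ← Finset.sum_congr rfl fun g (_ : g ∈ Finset.univ) => hf x g χ hχ,
          CfsgLib.Char.IsIrrCharacter.sum_mul_conjugate χ.2 u x.1, pow_succ]
        simp only [lam]
        ring
      have h1 : (Nat.card G : ℂ) *
          ∑ χ ∈ B, (χ : G → ℂ) 1 * lam χ ^ (k + 1) * (χ : G → ℂ) x.1 = 0 := by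
        rw [Finset.mul_sum, Finset.sum_congr rfl hterm, Finset.sum_comm]
        exact Finset.sum_eq_zero fun g _ => ih (f x g)
      exact (mul_eq_zero.1 h1).resolve_left (Nat.cast_ne_zero.2 Nat.card_pos.ne')
  have hprod : ∀ (L : Finset ℂ) (k : ℕ) (x : X), ∑ χ ∈ B, (χ : G → ℂ) 1 *
      ((∏ a ∈ L, (lam χ - a)) * lam χ ^ k) * (χ : G → ℂ) x.1 = 0 := by
    intro L
    induction L using Finset.induction_on with
    | empty => intro k x; simpa using hzero k x
    | insert a L ha ih =>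
      intro k x
      have h1 := ih (k + 1) x
      have h2 := ih k x
      have e : ∀ χ ∈ B, (χ : G → ℂ) 1 *
          ((∏ b ∈ insert a L, (lam χ - b)) * lam χ ^ k) * (χ : G → ℂ) x.1 =
          (χ : G → ℂ) 1 * ((∏ b ∈ L, (lam χ - b)) * lam χ ^ (k + 1)) * (χ : G → ℂ) x.1 -
          a * ((χ : G → ℂ) 1 * ((∏ b ∈ L, (lam χ - b)) * lam χ ^ k) * (χ : G → ℂ) x.1) := by
        intro χ _
        rw [Finset.prod_insert ha, pow_succ]
        ring
      rw [Finset.sum_congr rfl e, Finset.sum_sub_distrib, ← Finset.mul_sum, h1, h2, mul_zero,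
        sub_zero]
  set L := (B.image lam).erase 1 with hL
  set T₀ := CfsgLib.Blocks.trivChar G with hT₀
  have htriv : ∀ χ : IrrCharacter G, lam χ = 1 → χ = T₀ := by
    intro χ hχ
    have h1 : (χ : G → ℂ) u = (χ : G → ℂ) 1 := by
      have := (div_eq_one_iff_eq (CfsgLib.Blocks.irr_one_ne_zero χ)).1 hχ
      exact this
    obtain ⟨φ, hφ⟩ := ZStar.linear_of_sq_eq (t := u) (fun N hN huN =>
      (hsimple.eq_bot_or_eq_top_of_normal N hN).resolve_left fun hb => by
        rw [hb, Subgroup.mem_bot] at huN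
        exact Dihedral.ne_one hu2 huN) χ (by rw [h1])
    have hker : φ.ker = ⊤ := by
      refine (hsimple.eq_bot_or_eq_top_of_normal φ.ker (MonoidHom.normal_ker φ)).resolve_left
        fun hb => ?_
      have hu' : u ∈ φ.ker := by
        rw [hφ] at h1
        simp only [map_one, Units.val_one] at h1
        exact Units.ext h1
      rw [hb, Subgroup.mem_bot] at hu'
      exact Dihedral.ne_one hu2 hu'
    refine Subtype.ext ?_
    rw [hφ]
    funext g
    have : g ∈ φ.ker := hker ▸ Subgroup.mem_top g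
    rw [MonoidHom.mem_ker.1 this]
    simp [hT₀]
  have hTB : T₀ ∈ B := Set.mem_toFinset.2 (CfsgLib.Blocks.trivChar_mem_principalBlock hM)
  have hfin := hprod L 0 ⟨t, 1, W.one_mem, (one_mul t).symm, ht⟩
  rw [Finset.sum_eq_single T₀] at hfin
  · simp only [hT₀, lam, CfsgLib.Blocks.trivChar_apply, div_one, pow_zero, mul_one,
      one_mul] at hfin
    rw [Finset.prod_eq_zero_iff] at hfin
    obtain ⟨a, ha, ha0⟩ := hfin
    rw [hL, Finset.mem_erase] at ha
    exact ha.1 (sub_eq_zero.1 ha0).symm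
  · intro χ hχ hne
    have : lam χ ∈ L := Finset.mem_erase.2 ⟨fun h1 => hne (htriv χ h1), Finset.mem_image_of_mem _ hχ⟩
    rw [Finset.prod_eq_zero this (sub_self _)]
    simp
  · exact fun hh => absurd hTB hh

end CfsgLib.Involution.WeakCoset
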