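import Cfsg.Agent.Lib.Involution.ZStar.Weakly
import Cfsg.Prelude.Def_Transfer

/-!
# Weakly closed subgroups of the centre of a Sylow 2-subgroup
-/

set_option autoImplicit false

namespace CfsgLib.Involution.WeaklyClosedCenter

open CfsgLib.Involution.SylowFusionTools
open scoped Pointwise

universe u

variable {G : Type u} [Group G] [Finite G] {S : Sylow 2 G}

/-- If every central cyclic subgroup of the Sylow subgroup is weakly closed, so is each element. -/
theorem fixed_of_weaklyClosed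
    (hw : ∀ Z₀ : Subgroup G, Z₀ ≤ (Subgroup.center (S : Subgroup G)).map (S : Subgroup G).subtype →
      Cfsg.IsWeaklyClosed Z₀ (S : Subgroup G))
    {u : G} (hu : u ∈ (Subgroup.center (S : Subgroup G)).map (S : Subgroup G).subtype) {g : G}
    (hg : g * u * g⁻¹ ∈ S) : g * u * g⁻¹ = u := by
  haveI : Fact (Nat.Prime 2) := ⟨Nat.prime_two⟩
  obtain ⟨v, hv, hvu⟩ := id hu
  have hcomm : ∀ s ∈ S, Commute s u := fun s hs =>
    hvu ▸ congrArg Subtype.val (Subgroup.mem_center_iff.1 hv ⟨s, hs⟩)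
  obtain ⟨j, hj⟩ := IsPGroup.iff_orderOf.1 S.2 v
  rw [← Subgroup.orderOf_coe] at hj
  change orderOf ((S : Subgroup G).subtype v) = _ at hj
  rw [hvu] at hj
  have hmap : (Subgroup.zpowers u).map (MulAut.conj g).toMonoidHom = Subgroup.zpowers u := by
    refine (hw _ (Subgroup.zpowers_le.2 hu)).2 g ?_
    rw [MonoidHom.map_zpowers, Subgroup.zpowers_le]; exact hg
  rw [MonoidHom.map_zpowers] at hmap
  have hgN : g ∈ Subgroup.normalizer ((Subgroup.zpowers u : Subgroup G) : Set G) :=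
    TwoGroupLifts.mem_normalizer_of_conj_mem fun w hw' => by
      obtain ⟨l, rfl⟩ := Subgroup.mem_zpowers_iff.1 hw'
      rw [← _root_.conj_zpow, ← hmap]
      exact zpow_mem (Subgroup.mem_zpowers _) l
  obtain ⟨s, hs, hsu⟩ := exists_conj_of_cyclic S hj
    (fun s hs => TwoGroupLifts.mem_normalizer_of_conj_mem fun w hw' => by
      obtain ⟨l, rfl⟩ := Subgroup.mem_zpowers_iff.1 hw'
      rw [← _root_.conj_zpow, (hcomm s hs).eq, mul_inv_cancel_right]
      exact zpow_mem (Subgroup.mem_zpowers _) l) hgN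
  rw [← hsu, (hcomm s hs).eq, mul_inv_cancel_right]

/-- With weakly closed central subgroups the group is `O(G) C_G(Z(S))`. -/
theorem exists_eq_mul
    (hw : ∀ Z₀ : Subgroup G, Z₀ ≤ (Subgroup.center (S : Subgroup G)).map (S : Subgroup G).subtype →
      Cfsg.IsWeaklyClosed Z₀ (S : Subgroup G)) (h : G) :
    ∃ o ∈ Cfsg.oddCore G, ∃ c ∈ Subgroup.centralizer
      (((Subgroup.center (S : Subgroup G)).map (S : Subgroup G).subtype : Subgroup G) : Set G),
      h = o * c := by
  haveI : Fact (Nat.Prime 2) := ⟨Nat.prime_two⟩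
  haveI hO := ZStar.oddCore_normal (G := G)
  set Z := (Subgroup.center (S : Subgroup G)).map (S : Subgroup G).subtype with hZ
  set L := Cfsg.oddCore G ⊔ (S : Subgroup G) with hL
  have hhZ : Z.map (MulAut.conj h).toMonoidHom ≤ L := by
    rintro _ ⟨u, hu, rfl⟩
    have h1 := ZStar.comm_mem_oddCore_of_fixed S (Subgroup.map_subtype_le _ hu)
      (fun g hg => fixed_of_weaklyClosed hw hu hg) h
    have e : (MulAut.conj h).toMonoidHom u = (u * h * u⁻¹ * h⁻¹)⁻¹ * u := by
      change h * u * h⁻¹ = _; group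
    rw [e]
    exact Subgroup.mul_mem_sup (inv_mem h1) (Subgroup.map_subtype_le _ hu)
  obtain ⟨l, hl, hlS⟩ := exists_centralizing_conj_into S (K := L) le_sup_right
    ((S.2.to_le (Subgroup.map_subtype_le _)).map (MulAut.conj h).toMonoidHom) hhZ
  rw [← SetLike.mem_coe, hL, Subgroup.normal_mul] at hl
  obtain ⟨o, ho, s, hs, rfl⟩ := hl
  refine ⟨s⁻¹ * o⁻¹ * s, hO.conj_mem' _ (inv_mem ho) s, s⁻¹ * (o * s * h), ?_, by group⟩
  refine mul_mem (Subgroup.mem_centralizer_iff.2 fun u hu => ?_)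
    (Subgroup.mem_centralizer_iff.2 fun u hu => ?_)
  · obtain ⟨v, hv, rfl⟩ := hu
    exact (congrArg Subtype.val (Subgroup.mem_center_iff.1 hv ⟨s⁻¹, inv_mem hs⟩)).symm
  · have h1 := hlS (h * u * h⁻¹) ⟨u, hu, rfl⟩
    have e : o * s * (h * u * h⁻¹) * (o * s)⁻¹ = o * s * h * u * (o * s * h)⁻¹ := by group
    rw [e] at h1
    exact (mul_inv_eq_iff_eq_mul.1 (fixed_of_weaklyClosed hw hu h1)).symm

end CfsgLib.Involution.WeaklyClosedCenter
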