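import Cfsg.Agent.Lib.Involution.WreathedFusionBase
import Cfsg.Agent.Lib.Involution.QuatAutomizer

/-!
# The two local automizers of a wreathed Sylow 2-subgroup
-/

set_option autoImplicit false

namespace CfsgLib.Involution.WreathedFusion

open CfsgLib.Involution.SylowFusionTools CfsgLib.Involution.Wreathed

universe u

variable {G : Type u} [Group G] [Finite G] {S : Sylow 2 G} {x y z : (S : Subgroup G)} {K : ℕ}
  (h : WrGen x y z K)

omit [Finite G] in
theorem centralizer_normal (A : Subgroup G) :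
    ((Subgroup.centralizer (A : Set G)).subgroupOf (Subgroup.normalizer (A : Set G))).Normal := by
  refine ⟨fun c hc g => ?_⟩
  rw [Subgroup.mem_subgroupOf, Subgroup.mem_centralizer_iff] at hc ⊢
  intro u hu
  have hu' : (g : G)⁻¹ * u * (g : G) ∈ A := by
    have := (Subgroup.mem_normalizer_iff.1 (inv_mem g.2) u).1 hu
    simpa using this
  push_cast
  calc u * ((g : G) * c * (g : G)⁻¹) = (g : G) * (((g : G)⁻¹ * u * g) * c) * (g : G)⁻¹ := by group
    _ = (g : G) * c * (g : G)⁻¹ * u := by rw [hc _ hu']; group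

omit [Finite G] in
theorem dvd_relIndex_of_normal {C N C' N' : Subgroup G} (hN : N ≤ N')
    (hn : (C'.subgroupOf N').Normal) (he : C' ⊓ N = C ⊓ N) :
    C.relIndex N ∣ C'.relIndex N' := by
  haveI := hn
  rw [← Subgroup.inf_relIndex_right, ← he, Subgroup.inf_relIndex_right,
    ← Subgroup.relIndex_subgroupOf hN]
  exact Subgroup.relIndex_dvd_index_of_normal _ _

include h

omit [Finite G] in
theorem ub_omega {g : G} (hg : g ∈ ub h) (h2 : g * g = 1) :
    g = 1 ∨ g = ee x y K ∨ g = cc x y K ∨ g = ee x y K * cc x y K := by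
  by_cases h1 : g = 1
  · exact Or.inl h1
  rcases ub_two h hg (orderOf_eq_prime (by rw [pow_two]; exact h2) h1) with e | e | e
  · exact Or.inr (Or.inr (Or.inl e))
  · exact Or.inr (Or.inl e)
  · refine Or.inr (Or.inr (Or.inr ?_))
    rw [e, ee, cc, w2_mul h]
    exact w2_eq_of h ⟨-1, by ring⟩ ⟨0, by ring⟩

theorem conj_sq_one {n g : G} (hn : n ∈ Subgroup.normalizer ((ub h : Subgroup G) : Set G))
    (hg : g ∈ ub h) (h2 : g * g = 1) :
    n * g * n⁻¹ ∈ ub h ∧ n * g * n⁻¹ * (n * g * n⁻¹) = 1 :=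
  ⟨(Subgroup.mem_normalizer_iff.1 hn g).1 hg, by rw [conj_mul, h2]; group⟩

/-- An element normalising the base and centralising its involutions centralises it. -/
theorem mem_centralizer_of_fix {n : G} (hn : n ∈ Subgroup.normalizer ((ub h : Subgroup G) : Set G))
    (he : n * ee x y K * n⁻¹ = ee x y K) (hc : n * cc x y K * n⁻¹ = cc x y K) :
    n ∈ Subgroup.centralizer ((ub h : Subgroup G) : Set G) := by
  haveI : Fact (Nat.Prime 2) := ⟨Nat.prime_two⟩
  set N := Subgroup.normalizer ((ub h : Subgroup G) : Set G) with hN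
  have hTall : ∀ m : G, m * ee x y K * m⁻¹ = ee x y K → m * cc x y K * m⁻¹ = cc x y K →
      ∀ g ∈ ub h, g * g = 1 → m * g * m⁻¹ = g := by
    intro m me mc g hg h2
    rcases ub_omega h hg h2 with e | e | e | e <;> rw [e]
    · group
    · exact me
    · exact mc
    · rw [← conj_mul, me, mc]
  obtain ⟨s, t, ⟨k, hs⟩, ht, hst, hsn, htn⟩ := TransferControl.exists_decomp (p := 2) (⟨n, hn⟩ : N)
  have hfix : ∀ m ∈ Subgroup.zpowers (⟨n, hn⟩ : N), ∀ g ∈ ub h, g * g = 1 →
      (m : G) * g * (m : G)⁻¹ = g := by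
    intro m hm
    obtain ⟨l, rfl⟩ := Subgroup.mem_zpowers_iff.1 hm
    have hce : Commute n (ee x y K) := mul_inv_eq_iff_eq_mul.1 he
    have hcc : Commute n (cc x y K) := mul_inv_eq_iff_eq_mul.1 hc
    rw [SubgroupClass.coe_zpow]
    refine hTall _ ?_ ?_ <;> dsimp only
    · rw [(hce.zpow_left l).eq, mul_inv_cancel_right]
    · rw [(hcc.zpow_left l).eq, mul_inv_cancel_right]
  -- the part of odd order
  have htU : ∀ j : ℕ, ∀ u ∈ ub h, u ^ 2 ^ j = 1 → (t : G) * u * (t : G)⁻¹ = u := by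
    intro j
    induction j with
    | zero => intro u _ hu; rw [pow_zero, pow_one] at hu; rw [hu]; group
    | succ j ih =>
      intro u hu hpow
      rw [pow_succ', pow_mul] at hpow
      have hsq := ih (u ^ 2) (pow_mem hu 2) hpow
      have hu' : (t : G) * u * (t : G)⁻¹ ∈ ub h := (Subgroup.mem_normalizer_iff.1 t.2 u).1 hu
      set d := (t : G) * u * (t : G)⁻¹ * u⁻¹ with hd
      have hdU : d ∈ ub h := mul_mem hu' (inv_mem hu)
      have hd2 : d * d = 1 := by
        rw [← pow_two, hd, (ub_comm h hu' (inv_mem hu)).mul_pow, conj_pow, hsq, inv_pow,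
          mul_inv_cancel]
      have htd := hfix t htn d hdU hd2
      have hiter : ∀ m : ℕ, (t : G) ^ m * u * ((t : G) ^ m)⁻¹ = d ^ m * u := by
        intro m
        induction m with
        | zero => simp
        | succ m ihm =>
          calc (t : G) ^ (m + 1) * u * ((t : G) ^ (m + 1))⁻¹
              = (t : G) * ((t : G) ^ m * u * ((t : G) ^ m)⁻¹) * (t : G)⁻¹ := by
                rw [pow_succ']; group
            _ = (t : G) * d ^ m * (t : G)⁻¹ * ((t : G) * u * (t : G)⁻¹) := by rw [ihm]; group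
            _ = d ^ m * (d * u) := by
                rw [← conj_pow, htd, show d * u = (t : G) * u * (t : G)⁻¹ by rw [hd]; group]
            _ = d ^ (m + 1) * u := by rw [pow_succ]; exact (mul_assoc _ _ _).symm
      have h1 := hiter (orderOf (t : G))
      rw [pow_orderOf_eq_one, one_mul, inv_one, mul_one, right_eq_mul] at h1
      obtain ⟨l, hl⟩ := Nat.coprime_two_right.1 (show Nat.Coprime (orderOf (t : G)) 2 by
        rw [Subgroup.orderOf_coe]; exact ht)
      rw [hl, pow_succ, pow_mul, pow_two, hd2, one_pow, one_mul, hd] at h1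
      exact mul_inv_eq_one.1 h1
  have htC : (t : G) ∈ Subgroup.centralizer ((ub h : Subgroup G) : Set G) := by
    refine Subgroup.mem_centralizer_iff.2 fun u hu => ?_
    obtain ⟨j, hj⟩ := IsPGroup.iff_orderOf.1 S.2 ⟨u, ub_le h hu⟩
    rw [← Subgroup.orderOf_coe] at hj
    exact (mul_inv_eq_iff_eq_mul.1 (htU j u hu (hj ▸ pow_orderOf_eq_one u))).symm
  -- the 2-part
  obtain ⟨l, hl⟩ := Basic.exists_conj_le (S.subtype (sylow_le_normalizer_ub h))
    (Basic.isPGroup_zpowers hs)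
  have hlS : ((l * s * l⁻¹ : N) : G) ∈ S := hl s (Subgroup.mem_zpowers s)
  have hls : ((l * s * l⁻¹ : N) : G) ∈ ub h := by
    rcases cases_mem h hlS with ⟨a, b, e⟩ | ⟨a, b, e⟩
    · rw [e]; exact w2_mem_ub h a b
    exfalso
    have he2 : ee x y K * ee x y K = 1 := Dihedral.mul_self (ee_orderOf h)
    obtain ⟨hw, hw2⟩ := conj_sq_one h (inv_mem l.2) (w2_mem_ub h (2 * K) 0) he2
    have h1 := hfix s hsn _ hw hw2
    have h2 : ((l * s * l⁻¹ : N) : G) * ee x y K * ((l * s * l⁻¹ : N) : G)⁻¹ = ee x y K := by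
      push_cast
      calc (l : G) * s * (l : G)⁻¹ * ee x y K * ((l : G) * s * (l : G)⁻¹)⁻¹
          = (l : G) * ((s : G) * ((l : G)⁻¹ * ee x y K * (l : G)⁻¹⁻¹) * (s : G)⁻¹) * (l : G)⁻¹ := by
            group
        _ = (l : G) * ((l : G)⁻¹ * ee x y K * (l : G)⁻¹⁻¹) * (l : G)⁻¹ := by
            rw [show (ee x y K) = w2 x y (2 * K) 0 from rfl, h1]
        _ = ee x y K := by group
    rw [e, ee, wz_conj_w2 h, w2_eq_iff h] at h2
    obtain ⟨⟨q, hq⟩, -⟩ := h2
    have := pos h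
    have : (K : ℤ) * (2 * q + 1) = 0 := by linarith
    rcases mul_eq_zero.1 this with h3 | h3 <;> omega
  have hsC : (s : G) ∈ Subgroup.centralizer ((ub h : Subgroup G) : Set G) := by
    have h1 : (s : G) ∈ ub h := by
      have := (Subgroup.mem_normalizer_iff.1 (inv_mem l.2) _).1 hls
      simpa [mul_assoc] using this
    exact Subgroup.mem_centralizer_iff.2 fun u hu => (ub_comm h hu h1).eq
  have := mul_mem hsC htC
  rwa [← Subgroup.coe_mul, hst] at this

/-- An element of the normaliser of the base fixing the central involution has its square in the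
centraliser. -/
theorem sq_mem_centralizer {n : G} (hn : n ∈ Subgroup.normalizer ((ub h : Subgroup G) : Set G))
    (hc : n * cc x y K * n⁻¹ = cc x y K) :
    n * n ∈ Subgroup.centralizer ((ub h : Subgroup G) : Set G) := by
  refine mem_centralizer_of_fix h (mul_mem hn hn) ?_ ?_
  · obtain ⟨hw, hw2⟩ := conj_sq_one h hn (w2_mem_ub h (2 * K) 0) (Dihedral.mul_self (ee_orderOf h))
    rw [show n * n * ee x y K * (n * n)⁻¹ = n * (n * ee x y K * n⁻¹) * n⁻¹ by group]
    rcases ub_omega h hw hw2 with e | e | e | e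
    · have h1 := ee_orderOf h
      rw [ee, conj_eq_one_iff.1 e, orderOf_one] at h1
      omega
    · rw [ee, e, ← ee]; exact e
    · exact absurd (conj_inj (e.trans hc.symm)) (cc_ne_ee h).symm
    · rw [ee, e, ← conj_mul]
      change n * w2 x y (2 * K) 0 * n⁻¹ * (n * cc x y K * n⁻¹) = _
      rw [e, hc, mul_assoc, Dihedral.mul_self (cc_orderOf h), mul_one]; rfl
  · rw [show n * n * cc x y K * (n * n)⁻¹ = n * (n * cc x y K * n⁻¹) * n⁻¹ by group, hc, hc]

theorem mem_centralizer_of_odd {n : G} (hn : n ∈ Subgroup.normalizer ((ub h : Subgroup G) : Set G))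
    (hc : n * cc x y K * n⁻¹ = cc x y K) (ho : Odd (orderOf n)) :
    n ∈ Subgroup.centralizer ((ub h : Subgroup G) : Set G) := by
  obtain ⟨k, hk⟩ := ho
  have h1 := pow_mem (sq_mem_centralizer h hn hc) (k + 1)
  rwa [← pow_two, ← pow_mul, show 2 * (k + 1) = orderOf n + 1 by omega, pow_succ,
    pow_orderOf_eq_one, one_mul] at h1

omit [Finite G] in
theorem z_notMem_centralizer :
    wz x y z 0 0 ∉ Subgroup.centralizer ((ub h : Subgroup G) : Set G) := fun hc => by
  have h1 := ((commute_iff' h 0 0 (2 * (K : ℤ)) 0).1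
    (Subgroup.mem_centralizer_iff.1 hc _ (w2_mem_ub h _ _)))
  exact W_half_ne h _ _ (Or.inl ⟨rfl, rfl⟩) h1

theorem u_index :
    ((Subgroup.centralizer ((ub h : Subgroup G) : Set G)).relIndex
        (Subgroup.normalizer ((ub h : Subgroup G) : Set G)) = 2 ∨
      (Subgroup.centralizer ((ub h : Subgroup G) : Set G)).relIndex
        (Subgroup.normalizer ((ub h : Subgroup G) : Set G)) = 6) ∧
    ((Subgroup.centralizer ((ub h : Subgroup G) : Set G)).relIndex
        (Subgroup.normalizer ((ub h : Subgroup G) : Set G)) = 6 ↔ FusedU x y K) := by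
  set N := Subgroup.normalizer ((ub h : Subgroup G) : Set G) with hN
  set C := Subgroup.centralizer ((ub h : Subgroup G) : Set G) with hC
  set T := TwoGroupLifts.fourGroup (ee x y K) (cc x y K) (Dihedral.mul_self (ee_orderOf h))
    (Dihedral.mul_self (cc_orderOf h))
    (ub_comm h (w2_mem_ub h _ _) (w2_mem_ub h _ _)).eq with hT
  have hTk : IsKleinFour T := TwoGroupLifts.isKleinFour_of_four (Dihedral.ne_one (ee_orderOf h))
    (Dihedral.ne_one (cc_orderOf h)) (cc_ne_ee h).symm (Dihedral.mul_self (ee_orderOf h))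
    (Dihedral.mul_self (cc_orderOf h)) (ub_comm h (w2_mem_ub h _ _) (w2_mem_ub h _ _)).eq fun _ => TwoGroupLifts.mem_fourGroup
  have hTU : T ≤ ub h := by
    intro g hg
    rcases TwoGroupLifts.mem_fourGroup.1 hg with e | e | e | e <;> rw [e]
    exacts [one_mem _, w2_mem_ub h _ _, w2_mem_ub h _ _,
      mul_mem (w2_mem_ub h _ _) (w2_mem_ub h _ _)]
  have hNT : N ≤ Subgroup.normalizer (T : Set G) := by
    intro n hn
    refine TwoGroupLifts.mem_normalizer_of_conj_mem fun g hg => ?_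
    obtain ⟨h1, h2⟩ := conj_sq_one h hn (hTU hg) (TwoGroupLifts.mul_self_of_isKleinFour hTk hg)
    exact TwoGroupLifts.mem_fourGroup.2 (ub_omega h h1 h2)
  have hdvd : C.relIndex N ∣ 6 := by
    refine (dvd_relIndex_of_normal hNT (centralizer_normal T) ?_).trans
      (KleinAutomizer.relIndex_dvd_six hTk)
    refine le_antisymm (fun n hn => ⟨mem_centralizer_of_fix h hn.2 ?_ ?_, hn.2⟩)
      (inf_le_inf_right _ (Subgroup.centralizer_le (SetLike.coe_subset_coe.2 hTU)))
    · rw [← Subgroup.mem_centralizer_iff.1 hn.1 _ (TwoGroupLifts.mem_fourGroup.2 (Or.inr (Or.inl rfl))),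
        mul_inv_cancel_right]
    · rw [← Subgroup.mem_centralizer_iff.1 hn.1 _
        (TwoGroupLifts.mem_fourGroup.2 (Or.inr (Or.inr (Or.inl rfl)))), mul_inv_cancel_right]
  haveI := centralizer_normal (ub h)
  have hzN : wz x y z 0 0 ∈ N := sylow_le_normalizer_ub h (wz_mem _ _)
  have heven : 2 ∣ C.relIndex N := by
    by_contra ho
    obtain ⟨k, hk⟩ : Odd (C.relIndex N) := Nat.odd_iff.2 (by omega)
    apply z_notMem_centralizer h
    have h1 := Subgroup.pow_index_mem (C.subgroupOf N) ⟨_, hzN⟩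
    rw [← Subgroup.relIndex, hk, pow_succ, pow_mul, Subgroup.mem_subgroupOf] at h1
    push_cast at h1
    rwa [pow_two, wz_wz h, zero_add, w2_zero h, one_pow, one_mul] at h1
  have hcases : C.relIndex N = 2 ∨ C.relIndex N = 6 := by
    have := Nat.le_of_dvd (by norm_num) hdvd
    interval_cases C.relIndex N <;> omega
  refine ⟨hcases, fun h6 => ?_, fun hF => hcases.resolve_left fun h2 => ?_⟩
  · obtain ⟨b, hb, hbo, hbC⟩ := exists_odd_of_three_dvd (C := C) (N := N) inferInstance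
      (by rw [h6]; norm_num)
    have hne : b * cc x y K * b⁻¹ ≠ cc x y K := fun e => hbC (mem_centralizer_of_odd h hb e hbo)
    have ho : orderOf (b * cc x y K * b⁻¹) = 2 := (Dihedral.orderOf_conj b _).trans (cc_orderOf h)
    rcases ub_two h ((Subgroup.mem_normalizer_iff.1 hb _).1 (w2_mem_ub h _ _)) ho with e | e | e
    · exact absurd e hne
    · exact isConj_iff.2 ⟨b, e⟩
    · exact (isConj_iff.2 ⟨b, e⟩ : IsConj (cc x y K) _).trans (ee_isConj_swap h).symm
  · obtain ⟨g, hg⟩ := isConj_iff.1 hF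
    obtain ⟨n, hn, hnc⟩ := exists_normalizer_conj h (a := cc x y K) (b := ee x y K)
      (w2_mem_ub h _ _) (w2_mem_ub h _ _) hg
    apply cc_ne_ee h
    by_cases hc : n ∈ C
    · have h1 := Subgroup.mem_centralizer_iff.1 hc _ (w2_mem_ub h (2 * K) (2 * K))
      change cc x y K * n = n * cc x y K at h1
      rw [← h1, mul_inv_cancel_right] at hnc
      exact hnc
    · have h3 : (⟨_, hzN⟩ : N) * ⟨n, hn⟩ ∈ C.subgroupOf N :=
        (Subgroup.mul_mem_iff_of_index_two h2).2 (iff_of_false (z_notMem_centralizer h) hc)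
      have h4 := Subgroup.mem_centralizer_iff.1 h3 _ (w2_mem_ub h (2 * K) (2 * K))
      change cc x y K * (wz x y z 0 0 * n) = wz x y z 0 0 * n * cc x y K at h4
      refine (conj_inj (g := wz x y z 0 0) ?_).symm
      rw [← hnc, show wz x y z 0 0 * (n * cc x y K * n⁻¹) * (wz x y z 0 0)⁻¹ =
        wz x y z 0 0 * n * cc x y K * (wz x y z 0 0 * n)⁻¹ by group, ← h4, mul_inv_cancel_right, cc,
        wz_conj_w2 h]

/-- With fusion in the base an element of odd order acts on it without fixed points. -/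
theorem u_odd (hF : FusedU x y K) : ∃ b ∈ Subgroup.normalizer ((ub h : Subgroup G) : Set G),
    Odd (orderOf b) ∧ ∀ u ∈ ub h, b * u * b⁻¹ = u → u = 1 := by
  haveI : Fact (Nat.Prime 2) := ⟨Nat.prime_two⟩
  set N := Subgroup.normalizer ((ub h : Subgroup G) : Set G) with hN
  set C := Subgroup.centralizer ((ub h : Subgroup G) : Set G) with hC
  haveI := centralizer_normal (ub h)
  obtain ⟨b, hb, hbo, hbC⟩ := exists_odd_of_three_dvd (C := C) (N := N) inferInstance
    (by rw [(u_index h).2.2 hF]; norm_num)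
  refine ⟨b, hb, hbo, fun u hu hfix => ?_⟩
  by_contra hne
  obtain ⟨j, hj⟩ := IsPGroup.iff_orderOf.1 S.2 ⟨u, ub_le h hu⟩
  rw [← Subgroup.orderOf_coe] at hj
  change orderOf u = 2 ^ j at hj
  obtain - | j := j
  · exact hne (orderOf_eq_one_iff.1 hj)
  set w := u ^ 2 ^ j with hw
  have hw2 : orderOf w = 2 := by
    rw [hw, orderOf_pow' _ (by positivity), hj, Nat.gcd_eq_right (pow_dvd_pow 2 (by omega)),
      pow_succ, Nat.mul_div_cancel_left _ (by positivity)]
  have hwb : b * w * b⁻¹ = w := by rw [hw, ← conj_pow, hfix]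
  obtain ⟨g, hg⟩ : ∃ g : G, g * w * g⁻¹ = cc x y K := by
    rcases ub_two h (pow_mem hu _) hw2 with e | e | e <;> rw [hw, e]
    · exact ⟨1, by group⟩
    · exact isConj_iff.1 hF.symm
    · exact isConj_iff.1 ((ee_isConj_swap h).symm.trans hF.symm)
  obtain ⟨n, hn, hnw⟩ := exists_normalizer_conj h (b := cc x y K) (pow_mem hu _) (w2_mem_ub h _ _) hg
  refine hbC ?_
  have h1 : n * b * n⁻¹ ∈ C := by
    refine mem_centralizer_of_odd h (mul_mem (mul_mem hn hb) (inv_mem hn)) ?_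
      (by rw [Dihedral.orderOf_conj]; exact hbo)
    rw [← hnw]
    calc n * b * n⁻¹ * (n * w * n⁻¹) * (n * b * n⁻¹)⁻¹ = n * (b * w * b⁻¹) * n⁻¹ := by group
      _ = n * w * n⁻¹ := by rw [hwb]
  have h2 := (centralizer_normal (ub h)).conj_mem (⟨_, mul_mem (mul_mem hn hb) (inv_mem hn)⟩ : N) h1
    ⟨n⁻¹, inv_mem hn⟩
  rw [Subgroup.mem_subgroupOf] at h2
  simpa [mul_assoc] using h2

/-! ### The quaternion subgroups -/

omit [Finite G] in
theorem mem_zc_of_commute {w : G} (hw : w ∈ S) (hi : Commute w (ii x y K)) {p : ℤ}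
    (hj : Commute w (jj x y z K p)) : w ∈ zc x y := by
  rcases cases_mem h hw with ⟨a, b, e⟩ | ⟨a, b, e⟩
  · rw [e] at hj ⊢
    refine (mem_zc h).2 ⟨a, w2_eq_of h ⟨0, by ring⟩ ?_⟩
    rw [← Int.dvd_neg]
    convert (commute_iff' h _ _ a b).1 hj using 1; ring
  · exfalso
    rw [e] at hi
    have h1 := ii_conj_inv h a b
    rw [hi.eq, mul_inv_cancel_right, eq_inv_iff_mul_eq_one, ii_sq h] at h1
    exact Dihedral.ne_one (cc_orderOf h) h1

omit [Finite G] in
theorem ii_mul_jj (p : ℤ) : ii x y K * jj x y z K p = jj x y z K (p + K) := by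
  rw [ii, jj, jj, w2_wz h]; congr 1 <;> ring

omit [Finite G] in
theorem wz_sq_cc {a b : ℤ} (hsq : wz x y z a b * wz x y z a b = cc x y K) :
    wz x y z a b = jj x y z K a := by
  rw [wz_wz h, cc, w2_eq_iff h] at hsq
  exact wz_eq_of h ⟨0, by ring⟩ (by convert hsq.1 using 1; ring)

omit [Finite G] in
theorem ub_sq_cases {g : G} (hg : g ∈ ub h) (hsq : g * g = cc x y K) :
    g ∈ zc x y ∨ g ∈ Subgroup.zpowers (ii x y K) := by
  rcases ub_sq_cc h hg hsq with e | e | e | e <;> rw [e]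
  exacts [Or.inl (uu_mem_zc h), Or.inl (inv_mem (uu_mem_zc h)),
    Or.inr (Subgroup.mem_zpowers _), Or.inr (inv_mem (Subgroup.mem_zpowers _))]

theorem exists_frame {Q : Subgroup G} (eQ : Q ≃* QuaternionGroup 2) (hQS : Q ≤ S) :
    ∃ p : ℤ, QuatAutomizer.Frame Q (cc x y K) (ii x y K) (jj x y z K p) := by
  have hdec1 : ∀ g : QuaternionGroup 2, g = 1 ∨ g = QuaternionGroup.a 2 ∨
      g * g = QuaternionGroup.a 2 := by decide
  have hdec2 : ∀ g : QuaternionGroup 2, (∀ k, g * k = k * g) →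
      g = 1 ∨ g = QuaternionGroup.a 2 := by decide
  have hdec3 : ∃ g k : QuaternionGroup 2, g * k ≠ k * g := by decide
  set c0 : G := ((eQ.symm (QuaternionGroup.a 2) : Q) : G) with hc0
  have ev : ∀ g ∈ Q, g = 1 ∨ g = c0 ∨ g * g = c0 := by
    intro g hg
    rcases hdec1 (eQ ⟨g, hg⟩) with e | e | e
    · exact Or.inl (congrArg Subtype.val (eQ.map_eq_one_iff.1 e))
    · exact Or.inr (Or.inl (by rw [hc0, ← e, MulEquiv.symm_apply_apply]))
    · refine Or.inr (Or.inr ?_)
      rw [hc0, ← e, ← map_mul, MulEquiv.symm_apply_apply]; rfl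
  have hcen : ∀ g ∈ Q, (∀ k ∈ Q, g * k = k * g) → g = 1 ∨ g = c0 := by
    intro g hg hk
    rcases hdec2 (eQ ⟨g, hg⟩) (fun k => by
      obtain ⟨k', rfl⟩ := eQ.surjective k
      rw [← map_mul, ← map_mul]; exact congrArg eQ (Subtype.ext (hk (k' : G) k'.2))) with e | e
    · exact Or.inl (congrArg Subtype.val (eQ.map_eq_one_iff.1 e))
    · exact Or.inr (by rw [hc0, ← e, MulEquiv.symm_apply_apply])
  obtain ⟨g₀, k₀, hgk⟩ := hdec3
  set a : G := ((eQ.symm g₀ : Q) : G) with ha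
  set b : G := ((eQ.symm k₀ : Q) : G) with hb
  have haQ : a ∈ Q := (eQ.symm g₀).2
  have hbQ : b ∈ Q := (eQ.symm k₀).2
  have hab : a * b ≠ b * a := fun e => hgk (eQ.symm.injective (by
    rw [map_mul, map_mul]; exact Subtype.ext e))
  have hne1 : ∀ g ∈ Q, (g = 1 ∨ g = c0) → ∀ k ∈ Q, g * k = k * g := by
    intro g _ hg k hk
    rcases hg with e | e <;> rw [e]
    · simp
    · rcases hdec1 (eQ ⟨k, hk⟩) with e1 | e1 | e1
      · have : k = 1 := congrArg Subtype.val (eQ.map_eq_one_iff.1 e1)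
        rw [this]; simp
      · have : k = c0 := by rw [hc0, ← e1, MulEquiv.symm_apply_apply]
        rw [this]
      · rcases ev k hk with e2 | e2 | e2
        · rw [e2]; simp
        · rw [e2]
        · rw [← e2, mul_assoc]
  -- some element of the quaternion group lies outside the base
  obtain ⟨w, hw, hwU⟩ : ∃ w ∈ Q, w ∉ ub h := by
    by_contra hno
    push Not at hno
    exact hab (ub_comm h (hno a haQ) (hno b hbQ)).eq
  obtain ⟨p₀, q₀, hwz⟩ : ∃ p q : ℤ, w = wz x y z p q := by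
    rcases cases_mem h (hQS hw) with ⟨p, q, e⟩ | e
    · exact absurd (e ▸ w2_mem_ub h p q) hwU
    · exact e
  have hwsq : w * w = c0 := by
    rcases ev w hw with e | e | e
    · exact absurd (e ▸ one_mem _) hwU
    · exfalso
      have hwz' : ∀ k ∈ Q, w * k = k * w := hne1 w hw (Or.inr e)
      have key : ∀ k ∈ Q, k ∈ ub h → k ∈ zc x y := by
        intro k hk hkU
        obtain ⟨c, d, rfl⟩ := (mem_ub h).1 hkU
        have h1 : Commute (w2 x y c d) (wz x y z p₀ q₀) := hwz ▸ (hwz' _ hk).symm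
        refine (mem_zc h).2 ⟨c, w2_eq_of h ⟨0, by ring⟩ ?_⟩
        rw [← Int.dvd_neg]
        convert (commute_iff' h _ _ c d).1 h1 using 1; ring
      have key2 : ∀ k ∈ Q, k ∈ zc x y ∨ k * w ∈ zc x y := by
        intro k hk
        by_cases hkU : k ∈ ub h
        · exact Or.inl (key k hk hkU)
        · refine Or.inr (key _ (mul_mem hk hw) ?_)
          rcases cases_mem h (hQS hk) with ⟨c, d, rfl⟩ | ⟨c, d, rfl⟩
          · exact absurd (w2_mem_ub h c d) hkU
          · rw [hwz, wz_wz h]; exact w2_mem_ub h _ _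
      have hcz : ∀ u ∈ zc x y, ∀ k ∈ Q, Commute u k := fun u hu k hk =>
        (zc_comm h hu (hQS hk)).symm
      refine hab ?_
      rcases key2 a haQ with h1 | h1
      · exact (hcz _ h1 b hbQ).eq
      · have h2 : Commute (a * w) b := hcz _ h1 b hbQ
        have h3 : Commute w b := hwz' b hbQ
        have h4 := h2.mul_left h3.inv_left
        rw [mul_inv_cancel_right] at h4
        exact h4.eq
    · exact e
  have hc : c0 = cc x y K := by
    have h2 : orderOf c0 = 2 := by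
      rw [hc0, Subgroup.orderOf_coe, MulEquiv.orderOf_eq]
      exact orderOf_eq_prime (by decide) (by decide)
    have hz' : c0 ∈ zc x y := by
      rw [← hwsq, hwz, wz_wz h]
      exact (mem_zc h).2 ⟨p₀ + q₀, by rw [add_comm q₀]⟩
    rcases ub_two h (zc_le_ub h hz') h2 with e | e | e
    · exact e
    all_goals
      exfalso
      rw [e] at hz'
      obtain ⟨d, hd⟩ := (mem_zc h).1 hz'
      obtain ⟨⟨q, hq⟩, ⟨r, hr⟩⟩ := (w2_eq_iff h _ _ _ _).1 hd
      have := pos h
      have : (K : ℤ) * (2 * (q - r) - 1) = 0 ∨ (K : ℤ) * (2 * (r - q) - 1) = 0 := by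
        first
          | left; linarith
          | right; linarith
      rcases this with h0 | h0 <;> rcases mul_eq_zero.1 h0 with h1 | h1 <;> omega
  rw [hc] at ev hcen hwsq
  have hwj : w = jj x y z K p₀ := by rw [hwz]; exact wz_sq_cc h (hwz ▸ hwsq)
  -- elements of the base in the quaternion group
  have key : ∀ g ∈ Q, g ∈ ub h → g ∈ Subgroup.zpowers (ii x y K) := by
    intro g hg hgU
    have hc' : cc x y K ∈ Subgroup.zpowers (ii x y K) := by
      rw [← ii_sq h]; exact mul_mem (Subgroup.mem_zpowers _) (Subgroup.mem_zpowers _)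
    rcases ev g hg with e | e | e
    · rw [e]; exact one_mem _
    · rw [e]; exact hc'
    · rcases ub_sq_cases h hgU e with e1 | e1
      · have := hcen g hg fun k hk => ((zc_comm h e1 (hQS hk)).symm).eq
        rcases this with e2 | e2 <;> rw [e2]
        exacts [one_mem _, hc']
      · exact e1
  have hsplit : ∀ g ∈ Q, g ∈ ub h ∨ g * w⁻¹ ∈ ub h := by
    intro g hg
    rcases cases_mem h (hQS hg) with ⟨c, d, rfl⟩ | ⟨c, d, rfl⟩
    · exact Or.inl (w2_mem_ub h c d)
    · refine Or.inr ?_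
      rw [hwz, wz_inv h, wz_wz h]; exact w2_mem_ub h _ _
  have hrep : ∀ g ∈ Q, ∃ l : ℤ, g = ii x y K ^ l ∨ g = ii x y K ^ l * w := by
    intro g hg
    rcases hsplit g hg with e | e
    · obtain ⟨l, hl⟩ := Subgroup.mem_zpowers_iff.1 (key g hg e)
      exact ⟨l, Or.inl hl.symm⟩
    · obtain ⟨l, hl⟩ := Subgroup.mem_zpowers_iff.1 (key _ (mul_mem hg (inv_mem hw)) e)
      exact ⟨l, Or.inr (by rw [hl, inv_mul_cancel_right])⟩
  have hcQ : cc x y K ∈ Q := hwsq ▸ mul_mem hw hw
  have hiQ : ii x y K ∈ Q := by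
    by_contra hno
    have heven : ∀ l : ℤ, ii x y K ^ l ∈ Q → ∃ r : ℤ, ii x y K ^ l = cc x y K ^ r := by
      intro l hl
      obtain ⟨r, rfl | rfl⟩ := Int.even_or_odd' l
      · exact ⟨r, by rw [zpow_mul, zpow_two, ii_sq h]⟩
      · refine absurd ?_ hno
        rw [zpow_add_one, zpow_mul, zpow_two, ii_sq h] at hl
        exact (Subgroup.mul_mem_cancel_left Q (zpow_mem hcQ r)).1 hl
    have hcom : ∀ g ∈ Q, ∃ r : ℤ, g = cc x y K ^ r ∨ g = cc x y K ^ r * w := by
      intro g hg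
      obtain ⟨l, e | e⟩ := hrep g hg
      · obtain ⟨r, hr⟩ := heven l (e ▸ hg)
        exact ⟨r, Or.inl (e.trans hr)⟩
      · obtain ⟨r, hr⟩ := heven l ((Subgroup.mul_mem_cancel_right Q hw).1 (e ▸ hg))
        exact ⟨r, Or.inr (by rw [e, hr])⟩
    apply hab
    have hcw : Commute (cc x y K) w := (zc_comm h (cc_mem_zc h) (hQS hw)).symm
    obtain ⟨r, e | e⟩ := hcom a haQ <;> obtain ⟨r', e' | e'⟩ := hcom b hbQ <;> rw [e, e']
    · exact ((Commute.refl _).zpow_zpow r r').eq
    · exact (((Commute.refl _).zpow_zpow r r').mul_right (hcw.zpow_left r)).eq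
    · exact (((Commute.refl _).zpow_zpow r r').mul_left (hcw.symm.zpow_right r')).eq
    · exact ((((Commute.refl _).zpow_zpow r r').mul_right (hcw.zpow_left r)).mul_left
        ((hcw.symm.zpow_right r').mul_right (Commute.refl w))).eq
  refine ⟨p₀, hiQ, hwj ▸ hw, ii_sq h, sq_cc_of_jj h p₀, cc_orderOf h, ii_conj_inv h _ _, ?_, ?_⟩
  · exact fun hm => wz_notMem h _ _ (Subgroup.zpowers_le.2 (w2_mem_ub h _ _) hm)
  · intro g hg
    obtain ⟨l, e | e⟩ := hrep g hg
    · exact Or.inl ⟨l, e.symm⟩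
    · rw [hwj] at e
      obtain ⟨r, rfl | rfl⟩ := Int.even_or_odd' l
      · refine Or.inr (Or.inl ?_)
        rw [e, zpow_mul, zpow_two, ii_sq h, ← sq_cc_of_jj h p₀]
        exact mul_mem (zpow_mem (mul_mem (Subgroup.mem_zpowers _) (Subgroup.mem_zpowers _)) r)
          (Subgroup.mem_zpowers _)
      · refine Or.inr (Or.inr ?_)
        rw [e, zpow_add, zpow_one, zpow_mul, zpow_two, ii_sq h, mul_assoc, ii_mul_jj h,
          ← sq_cc_of_jj h (p₀ + K)]
        exact mul_mem (zpow_mem (mul_mem (Subgroup.mem_zpowers _) (Subgroup.mem_zpowers _)) r)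
          (Subgroup.mem_zpowers _)

omit [Finite G] in
theorem zc_le_centralizer {Q : Subgroup G} (hQS : Q ≤ S) :
    zc x y ≤ Subgroup.centralizer (Q : Set G) := fun _ hu =>
  Subgroup.mem_centralizer_iff.2 fun _ hq => (zc_comm h hu (hQS hq)).eq

omit [Finite G] in
theorem mem_v {Q : Subgroup G} (hQS : Q ≤ S) {g : G} (hg : g ∈ Q ⊔ zc x y) :
    ∃ q ∈ Q, ∃ u ∈ zc x y, g = q * u := by
  have := Subgroup.coe_mul_of_right_le_normalizer_left Q (zc x y)
    ((zc_le_centralizer h hQS).trans (Subgroup.centralizer_le_normalizer _))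
  rw [← SetLike.mem_coe, this] at hg
  obtain ⟨q, hq, u, hu, rfl⟩ := Set.mem_mul.1 hg
  exact ⟨q, hq, u, hu, rfl⟩

omit [Finite G] in
theorem zc_sq_one {u : G} (hu : u ∈ zc x y) (h2 : u * u = 1) :
    ∃ r : ℤ, u = cc x y K ^ r := by
  obtain ⟨a, rfl⟩ := (mem_zc h).1 hu
  rw [w2_mul h, ← w2_zero h, w2_eq_iff h] at h2
  obtain ⟨r, hr⟩ := h2.1
  exact ⟨r, by rw [cc, w2_zpow h]; exact w2_eq_of h ⟨0, by linarith⟩ ⟨0, by linarith⟩⟩

theorem normalizer_v {Q : Subgroup G} (hQS : Q ≤ S) {p : ℤ}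
    (F : QuatAutomizer.Frame Q (cc x y K) (ii x y K) (jj x y z K p)) {n : G}
    (hn : n ∈ Subgroup.normalizer ((Q ⊔ zc x y : Subgroup G) : Set G)) :
    n ∈ Subgroup.normalizer (Q : Set G) ∧ ∀ u ∈ zc x y, n * u * n⁻¹ = u := by
  have hVS : Q ⊔ zc x y ≤ (S : Subgroup G) := sup_le hQS zc_le
  have hfix : ∀ u ∈ zc x y, n * u * n⁻¹ = u := by
    intro u hu
    refine central_eq h hu ?_
    have hm := (Subgroup.mem_normalizer_iff.1 hn u).1 (Subgroup.mem_sup_right hu)
    have hcom : ∀ v ∈ Q, Commute (n * u * n⁻¹) v := by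
      intro v hv
      have hv' : n⁻¹ * v * n ∈ Q ⊔ zc x y := by
        simpa using (Subgroup.mem_normalizer_iff.1 (inv_mem hn) v).1 (Subgroup.mem_sup_left hv)
      have h1 := ((zc_comm h hu (hVS hv')).symm).map (MulAut.conj n).toMonoidHom
      simpa [mul_assoc] using h1
    exact mem_zc_of_commute h (hVS hm) (hcom _ F.memI) (hcom _ F.memJ)
  refine ⟨TwoGroupLifts.mem_normalizer_of_conj_mem fun q hq => ?_, hfix⟩
  by_cases hqz : q ∈ zc x y
  · rw [hfix q hqz]; exact hq
  have hsq : ∀ g ∈ Q, g ∈ zc x y ∨ g * g = cc x y K := by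
    intro g hg
    have key : ∀ a : G, a * a = cc x y K → ∀ l : ℤ,
        a ^ l ∈ zc x y ∨ a ^ l * a ^ l = cc x y K := by
      intro a ha l
      obtain ⟨r, rfl | rfl⟩ := Int.even_or_odd' l
      · exact Or.inl (by rw [zpow_mul, zpow_two, ha]; exact zpow_mem (cc_mem_zc h) r)
      · refine Or.inr ?_
        rw [← zpow_add, show 2 * r + 1 + (2 * r + 1) = 2 * (2 * r + 1) by ring, zpow_mul, zpow_two,
          ha, zpow_add_one, zpow_mul, zpow_two, Dihedral.mul_self (cc_orderOf h), one_zpow, one_mul]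
    rcases F.all g hg with e | e | e <;> obtain ⟨l, rfl⟩ := Subgroup.mem_zpowers_iff.1 e
    exacts [key _ F.sqI l, key _ F.sqJ l, key _ (QuatAutomizer.sqK F) l]
  have hq2 : q * q = cc x y K := (hsq q hq).resolve_left hqz
  obtain ⟨q', hq', u, hu, he⟩ :=
    mem_v h hQS ((Subgroup.mem_normalizer_iff.1 hn q).1 (Subgroup.mem_sup_left hq))
  rcases hsq q' hq' with e | e
  · refine absurd ?_ hqz
    have hm : n * q * n⁻¹ ∈ zc x y := he ▸ mul_mem e hu
    have h1 := conj_inj (hfix _ hm)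
    exact h1 ▸ hm
  · have h2 : n * q * n⁻¹ * (n * q * n⁻¹) = cc x y K := by
      rw [conj_mul, hq2, hfix _ (cc_mem_zc h)]
    rw [he] at h2
    have hc : Commute q' u := zc_comm h hu (hQS hq')
    rw [hc.symm.mul_mul_mul_comm, e, mul_eq_left] at h2
    obtain ⟨r, rfl⟩ := zc_sq_one h hu h2
    rw [he]
    exact mul_mem hq' (zpow_mem (F.sqI ▸ mul_mem F.memI F.memI) r)

theorem v_relIndex {Q : Subgroup G} (hQS : Q ≤ S) {p : ℤ}
    (F : QuatAutomizer.Frame Q (cc x y K) (ii x y K) (jj x y z K p)) :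
    ((Q ⊔ zc x y) ⊔ Subgroup.centralizer ((Q ⊔ zc x y : Subgroup G) : Set G)).relIndex
      (Subgroup.normalizer ((Q ⊔ zc x y : Subgroup G) : Set G)) =
    (Q ⊔ Subgroup.centralizer (Q : Set G)).relIndex
      (Subgroup.normalizer ((Q ⊔ zc x y : Subgroup G) : Set G)) := by
  set V := Q ⊔ zc x y
  set N := Subgroup.normalizer (V : Set G)
  have hzV : zc x y ≤ Subgroup.centralizer (V : Set G) :=
    fun u hu => Subgroup.mem_centralizer_iff.2 fun v hv =>
      (zc_comm h hu (sup_le hQS zc_le hv)).eq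
  rw [← Subgroup.inf_relIndex_right, ← Subgroup.inf_relIndex_right (Q ⊔ _)]
  congr 1
  refine le_antisymm (inf_le_inf_right _ ?_) ?_
  · refine sup_le (sup_le le_sup_left ((zc_le_centralizer h hQS).trans le_sup_right)) ?_
    exact (Subgroup.centralizer_le (SetLike.coe_subset_coe.2 le_sup_left)).trans le_sup_right
  · rintro n ⟨hn1, hn2⟩
    have hnor : Q ≤ Subgroup.normalizer ((Subgroup.centralizer (Q : Set G) : Subgroup G) : Set G) := by
      intro q hq
      refine TwoGroupLifts.mem_normalizer_of_conj_mem fun c hc => ?_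
      refine Subgroup.mem_centralizer_iff.2 fun v hv => ?_
      have hv' := Subgroup.mem_centralizer_iff.1 hc _ (mul_mem (mul_mem (inv_mem hq) hv) hq)
      calc v * (q * c * q⁻¹) = q * ((q⁻¹ * v * q) * c) * q⁻¹ := by group
        _ = q * c * q⁻¹ * v := by rw [hv']; group
    change n ∈ ((Q ⊔ Subgroup.centralizer (Q : Set G) : Subgroup G) : Set G) at hn1
    rw [Subgroup.coe_mul_of_left_le_normalizer_right _ _ hnor] at hn1
    obtain ⟨q, hq, c, hc, rfl⟩ := Set.mem_mul.1 hn1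
    refine ⟨Subgroup.mul_mem_sup (Subgroup.mem_sup_left hq) ?_, hn2⟩
    have hcN : c ∈ N := by
      have := mul_mem (inv_mem (Subgroup.le_normalizer (Subgroup.mem_sup_left hq) : q ∈ N)) hn2
      rwa [inv_mul_cancel_left] at this
    have hcz := (normalizer_v h hQS F hcN).2
    refine Subgroup.mem_centralizer_iff.2 fun v hv => ?_
    obtain ⟨q', hq', u, hu, rfl⟩ := mem_v h hQS hv
    have h1 : Commute q' c := Subgroup.mem_centralizer_iff.1 hc q' hq'
    have h2 : Commute u c := (mul_inv_eq_iff_eq_mul.1 (hcz u hu)).symm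
    exact (h1.mul_left h2).eq

omit [Finite G] in
theorem exists_swap (p : ℤ) {Q : Subgroup G} (hQS : Q ≤ S)
    (F : QuatAutomizer.Frame Q (cc x y K) (ii x y K) (jj x y z K p)) :
    w2 x y K 0 * ii x y K * (w2 x y K 0)⁻¹ = ii x y K ∧
      w2 x y K 0 * jj x y z K p * (w2 x y K 0)⁻¹ = ii x y K * jj x y z K p ∧
      ∀ v ∈ Q ⊔ zc x y, w2 x y K 0 * v * (w2 x y K 0)⁻¹ ∈ Q ⊔ zc x y := by
  have h1 : w2 x y K 0 * ii x y K * (w2 x y K 0)⁻¹ = ii x y K := by
    rw [ii, (ub_comm h (w2_mem_ub h (K : ℤ) 0) (w2_mem_ub h (K : ℤ) (-K))).eq, mul_inv_cancel_right]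
  have h2 : w2 x y K 0 * jj x y z K p * (w2 x y K 0)⁻¹ = ii x y K * jj x y z K p := by
    rw [ii_mul_jj h, jj, w2_conj_wz h, jj]; congr 1 <;> ring
  refine ⟨h1, h2, ?_⟩
  intro v hv
  obtain ⟨q, hq, u, hu, rfl⟩ := mem_v h hQS hv
  have hq' : w2 x y K 0 * q * (w2 x y K 0)⁻¹ ∈ Q := by
    rcases F.all q hq with e | e | e <;> obtain ⟨l, rfl⟩ := Subgroup.mem_zpowers_iff.1 e <;>
      rw [← _root_.conj_zpow]
    · rw [h1]; exact zpow_mem F.memI l
    · rw [h2]; exact zpow_mem (mul_mem F.memI F.memJ) l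
    · rw [← conj_mul, h1, h2]; exact zpow_mem (mul_mem F.memI (mul_mem F.memI F.memJ)) l
  rw [← conj_mul, (zc_comm h hu (w2_mem (K : ℤ) 0)).eq, mul_inv_cancel_right]
  exact Subgroup.mul_mem_sup hq' hu

omit [Finite G] in
theorem sylow_le_normalizer_ii [Finite G] :
    (S : Subgroup G) ≤
      Subgroup.normalizer ((Subgroup.zpowers (ii x y K) : Subgroup G) : Set G) := by
  intro s hs
  refine TwoGroupLifts.mem_normalizer_of_conj_mem fun v hv => ?_
  obtain ⟨l, rfl⟩ := Subgroup.mem_zpowers_iff.1 hv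
  rw [← _root_.conj_zpow]
  refine zpow_mem ?_ l
  rcases cases_mem h hs with ⟨a, b, e⟩ | ⟨a, b, e⟩ <;> rw [e]
  · rw [ii, (ub_comm h (w2_mem_ub h a b) (w2_mem_ub h (K : ℤ) (-K))).eq, mul_inv_cancel_right]
    exact Subgroup.mem_zpowers _
  · rw [ii_conj_inv h]; exact inv_mem (Subgroup.mem_zpowers _)

/-- Fusion of the quaternion generators is realised in the normaliser of `Q Z(S)`. -/
theorem exists_v_conj (hF : FusedV x y z K) {Q : Subgroup G} (eQ : Q ≃* QuaternionGroup 2)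
    (hQS : Q ≤ S) {p : ℤ} (F : QuatAutomizer.Frame Q (cc x y K) (ii x y K) (jj x y z K p)) :
    ∃ n ∈ Subgroup.normalizer ((Q ⊔ zc x y : Subgroup G) : Set G),
      n * jj x y z K p * n⁻¹ ∈ Subgroup.zpowers (ii x y K) := by
  haveI : Fact (Nat.Prime 2) := ⟨Nat.prime_two⟩
  set I := ii x y K with hI
  set J := jj x y z K p with hJdef
  obtain ⟨g, hg⟩ := isConj_iff.1 ((jj_isConj h p 0).trans hF)
  set C := Subgroup.normalizer ((Subgroup.zpowers I : Subgroup G) : Set G) with hC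
  have hmapz : ∀ (n a : G), (Subgroup.zpowers a).map (MulAut.conj n).toMonoidHom =
      Subgroup.zpowers (n * a * n⁻¹) := fun n a => by rw [MonoidHom.map_zpowers]; rfl
  have hQJ : Q ≤ Subgroup.normalizer ((Subgroup.zpowers J : Subgroup G) : Set G) := by
    intro u hu
    have hIn : I ∈ Subgroup.normalizer ((Subgroup.zpowers J : Subgroup G) : Set G) := by
      refine TwoGroupLifts.mem_normalizer_of_conj_mem fun v hv => ?_
      obtain ⟨l, rfl⟩ := Subgroup.mem_zpowers_iff.1 hv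
      rw [← _root_.conj_zpow, QuatAutomizer.inner F]
      exact zpow_mem (inv_mem (Subgroup.mem_zpowers _)) l
    have hJn : J ∈ Subgroup.normalizer ((Subgroup.zpowers J : Subgroup G) : Set G) :=
      Subgroup.le_normalizer (Subgroup.mem_zpowers _)
    rcases F.all u hu with e | e | e <;> obtain ⟨l, rfl⟩ := Subgroup.mem_zpowers_iff.1 e
    exacts [zpow_mem hIn l, zpow_mem hJn l, zpow_mem (mul_mem hIn hJn) l]
  have hP : Q.map (MulAut.conj g).toMonoidHom ≤ C := by
    rintro _ ⟨u, hu, rfl⟩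
    have h1 := Subgroup.le_normalizer_map (MulAut.conj g).toMonoidHom ⟨u, hQJ hu, rfl⟩
    rwa [hmapz, hg] at h1
  have hQ2 : IsPGroup 2 Q := S.2.to_le hQS
  obtain ⟨l, hl, hlS⟩ :=
    exists_centralizing_conj_into S (sylow_le_normalizer_ii h) (hQ2.map _) hP
  set φ := (MulAut.conj (l * g)).toMonoidHom with hφ
  have hφe : ∀ u, φ u = l * (g * u * g⁻¹) * l⁻¹ := fun u => by simp [φ, mul_assoc]
  have hQ'S : Q.map φ ≤ S := by
    rintro _ ⟨u, hu, rfl⟩
    rw [hφe]; exact hlS (g * u * g⁻¹) ⟨u, hu, rfl⟩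
  obtain ⟨p', F'⟩ := exists_frame h
    ((Q.equivMapOfInjective φ (MulAut.conj (l * g)).injective).symm.trans eQ) hQ'S
  obtain ⟨t, ht, htJ⟩ := wz_conj_of_sum h (p := p') (q := 2 * K - p') (p' := p)
    (q' := 2 * K - p) ⟨0, by ring⟩
  change t * jj x y z K p' * t⁻¹ = J at htJ
  have htI : t * I * t⁻¹ ∈ Subgroup.zpowers I :=
    (Subgroup.mem_normalizer_iff.1 (sylow_le_normalizer_ii h ht) I).1 (Subgroup.mem_zpowers I)
  set n := t * (l * g) with hn
  have hnQ : n ∈ Subgroup.normalizer (Q : Set G) := by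
    refine TwoGroupLifts.mem_normalizer_of_conj_mem fun u hu => ?_
    have e : n * u * n⁻¹ = t * φ u * t⁻¹ := by rw [hn, hφe]; group
    rw [e]
    have hIQ : t * I * t⁻¹ ∈ Q := Subgroup.zpowers_le.2 F.memI htI
    have hJQ : t * jj x y z K p' * t⁻¹ ∈ Q := htJ ▸ F.memJ
    rcases F'.all _ ⟨u, hu, rfl⟩ with e | e | e <;>
      obtain ⟨m, hm⟩ := Subgroup.mem_zpowers_iff.1 e <;> rw [← hm, ← _root_.conj_zpow]
    · exact zpow_mem hIQ m
    · exact zpow_mem hJQ m
    · refine zpow_mem ?_ m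
      rw [← conj_mul]; exact mul_mem hIQ hJQ
  have hnJ : n * J * n⁻¹ ∈ Subgroup.zpowers I := by
    rw [show n * J * n⁻¹ = t * (l * (g * J * g⁻¹) * l⁻¹) * t⁻¹ by rw [hn]; group, hg]
    have h1 := (Subgroup.mem_normalizer_iff.1 hl _).1 (Subgroup.mem_zpowers I)
    exact (Subgroup.mem_normalizer_iff.1 (sylow_le_normalizer_ii h ht) _).1 h1
  -- correct by an element centralising `Q` so as to normalise the centre as well
  set D := Subgroup.centralizer (Q : Set G) with hD
  have hZD := zc_le_centralizer h (Q := Q) hQS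
  have hZ2 : IsPGroup 2 (zc x y) := S.2.to_le zc_le
  obtain ⟨P, hPz⟩ := (hZ2.of_equiv (Subgroup.subgroupOfEquivOfLe hZD).symm).exists_le_sylow
  set P' := (P : Subgroup D).map D.subtype with hP'
  have hzP : zc x y ≤ P' := fun u hu => ⟨⟨u, hZD hu⟩, hPz hu, rfl⟩
  have hPD : P' ≤ D := Subgroup.map_subtype_le _
  have hsup : IsPGroup 2 (P' ⊔ Q : Subgroup G) :=
    (P.2.map D.subtype).to_sup_of_normal_right' hQ2
      (hPD.trans (Subgroup.centralizer_le_normalizer _))
  obtain ⟨k, hk⟩ := Basic.exists_conj_le S hsup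
  set ψ := (MulAut.conj k).toMonoidHom with hψ
  have hQk : Q.map ψ ≤ S := by
    rintro _ ⟨u, hu, rfl⟩; exact hk u (Subgroup.mem_sup_right hu)
  obtain ⟨p'', F''⟩ := exists_frame h
    ((Q.equivMapOfInjective ψ (MulAut.conj k).injective).symm.trans eQ) hQk
  have hPk : P'.map ψ ≤ zc x y := by
    rintro _ ⟨u, hu, rfl⟩
    have hcom : ∀ v ∈ Q.map ψ, Commute (ψ u) v := by
      rintro _ ⟨v, hv, rfl⟩
      exact (((show Commute v u from Subgroup.mem_centralizer_iff.1 (hPD hu) v hv).symm).map ψ)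
    exact mem_zc_of_commute h (hk u (Subgroup.mem_sup_left hu)) (hcom _ F''.memI)
      (hcom _ F''.memJ)
  have hPeq : zc x y = P' := Subgroup.eq_of_le_of_card_ge hzP (by
    rw [Nat.card_congr (P'.equivMapOfInjective ψ (MulAut.conj k).injective).toEquiv]
    exact Subgroup.card_le_of_le hPk)
  have hZn : (zc x y).map (MulAut.conj n).toMonoidHom ≤ D := by
    rintro _ ⟨u, hu, rfl⟩
    refine Subgroup.mem_centralizer_iff.2 fun v hv => ?_
    have hv' : n⁻¹ * v * n ∈ Q := by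
      simpa using (Subgroup.mem_normalizer_iff.1 (inv_mem hnQ) v).1 hv
    have h1 := Subgroup.mem_centralizer_iff.1 (hZD hu) _ hv'
    change v * (n * u * n⁻¹) = n * u * n⁻¹ * v
    calc v * (n * u * n⁻¹) = n * ((n⁻¹ * v * n) * u) * n⁻¹ := by group
      _ = n * u * n⁻¹ * v := by rw [h1]; group
  obtain ⟨d, hd⟩ := Basic.exists_conj_le P
    ((hZ2.map (MulAut.conj n).toMonoidHom).of_equiv (Subgroup.subgroupOfEquivOfLe hZn).symm)
  have hdz : ∀ u ∈ zc x y, ((d : G) * n) * u * ((d : G) * n)⁻¹ = u := by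
    intro u hu
    refine central_eq h hu ?_
    have hm : ((d * ⟨n * u * n⁻¹, hZn ⟨u, hu, rfl⟩⟩ * d⁻¹ : D) : G) ∈ P' :=
      ⟨_, hd _ ⟨u, hu, rfl⟩, rfl⟩
    rw [← hPeq] at hm
    simpa [mul_assoc] using hm
  have hdQ : ∀ v ∈ Q, (d : G) * v * (d : G)⁻¹ = v := fun v hv => by
    rw [← Subgroup.mem_centralizer_iff.1 d.2 v hv, mul_inv_cancel_right]
  refine ⟨(d : G) * n, TwoGroupLifts.mem_normalizer_of_conj_mem fun v hv => ?_, ?_⟩
  · obtain ⟨q, hq, u, hu, rfl⟩ := mem_v h hQS hv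
    have hq' := (Subgroup.mem_normalizer_iff.1 hnQ q).1 hq
    rw [← conj_mul, hdz u hu,
      show ((d : G) * n) * q * ((d : G) * n)⁻¹ = (d : G) * (n * q * n⁻¹) * (d : G)⁻¹ by group,
      hdQ _ hq']
    exact Subgroup.mul_mem_sup hq' hu
  · rw [show ((d : G) * n) * J * ((d : G) * n)⁻¹ = (d : G) * (n * J * n⁻¹) * (d : G)⁻¹ by group,
      hdQ _ ((Subgroup.mem_normalizer_iff.1 hnQ J).1 F.memJ)]
    exact hnJ

/-- The automizer of `Q Z(S)`. -/
theorem v_index {Q : Subgroup G} (eQ : Q ≃* QuaternionGroup 2) (hQS : Q ≤ S) :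
    (((Q ⊔ zc x y) ⊔ Subgroup.centralizer ((Q ⊔ zc x y : Subgroup G) : Set G)).relIndex
        (Subgroup.normalizer ((Q ⊔ zc x y : Subgroup G) : Set G)) = 2 ∨
      ((Q ⊔ zc x y) ⊔ Subgroup.centralizer ((Q ⊔ zc x y : Subgroup G) : Set G)).relIndex
        (Subgroup.normalizer ((Q ⊔ zc x y : Subgroup G) : Set G)) = 6) ∧
    (((Q ⊔ zc x y) ⊔ Subgroup.centralizer ((Q ⊔ zc x y : Subgroup G) : Set G)).relIndex
        (Subgroup.normalizer ((Q ⊔ zc x y : Subgroup G) : Set G)) = 6 ↔ FusedV x y z K) ∧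
    (FusedV x y z K → ∃ b ∈ Subgroup.normalizer (Q : Set G), Odd (orderOf b) ∧
      b * ii x y K * b⁻¹ ∉ Subgroup.zpowers (ii x y K)) := by
  obtain ⟨p, F⟩ := exists_frame h eQ hQS
  rw [v_relIndex h hQS F]
  obtain ⟨h1, h2, h3⟩ := exists_swap h p hQS F
  have hA : Subgroup.normalizer ((Q ⊔ zc x y : Subgroup G) : Set G) ≤
      Subgroup.normalizer (Q : Set G) := fun n hn => (normalizer_v h hQS F hn).1
  obtain ⟨hc, hiff, hodd⟩ := QuatAutomizer.index_cases F hA
    (TwoGroupLifts.mem_normalizer_of_conj_mem h3)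
    (by rw [h1]; exact Subgroup.mem_zpowers _) (by rw [h2]; exact Subgroup.mem_zpowers _)
  have hsix : (Q ⊔ Subgroup.centralizer (Q : Set G)).relIndex
      (Subgroup.normalizer ((Q ⊔ zc x y : Subgroup G) : Set G)) = 6 ↔ FusedV x y z K := by
    rw [hiff]
    constructor
    · rintro ⟨n, -, hn⟩
      refine (jj_isConj h 0 p).trans ?_
      rcases eq_or_eq_inv_of_four (QuatAutomizer.orderOf_of_sq F F.sqI)
        ((Dihedral.orderOf_conj n _).trans (QuatAutomizer.orderOf_of_sq F F.sqJ)) hn with e | e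
      · exact isConj_iff.2 ⟨n, e⟩
      · exact (isConj_iff.2 ⟨n, e⟩ : IsConj _ ((ii x y K)⁻¹)).trans (ii_isConj_inv h).symm
    · intro hF; exact exists_v_conj h hF eQ hQS F
  refine ⟨hc, hsix, fun hF => ?_⟩
  obtain ⟨b, hb, hbo, hbi⟩ := hodd (hsix.2 hF)
  exact ⟨b, hA hb, hbo, hbi⟩

end CfsgLib.Involution.WreathedFusion
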