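import Cfsg.Agent.Lib.Involution.WreathedAutomizers

/-!
# Consequences of the fusion pattern of a wreathed Sylow 2-subgroup
-/

set_option autoImplicit false

namespace CfsgLib.Involution.WreathedFusion

open CfsgLib.Involution.SylowFusionTools CfsgLib.Involution.Wreathed

universe u

variable {G : Type u} [Group G] [Finite G] {S : Sylow 2 G} {x y z : (S : Subgroup G)} {K : ℕ}
  (h : WrGen x y z K)

include h

/-- With fusion in the base, the base lies in the 2-residual. -/
theorem ub_le_residual (hF : FusedU x y K) : ub h ≤ Cfsg.pResidual 2 G := by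
  obtain ⟨b, hb, hbo, hfree⟩ := u_odd h hF
  have hmem : ∀ u : ub h, (u : G) * (b * (u : G)⁻¹ * b⁻¹) ∈ ub h := fun u =>
    mul_mem u.2 ((Subgroup.mem_normalizer_iff.1 hb _).1 (inv_mem u.2))
  have hinj : Function.Injective fun u : ub h => (⟨_, hmem u⟩ : ub h) := by
    intro u v e
    have e1 : (u : G) * (b * (u : G)⁻¹ * b⁻¹) = (v : G) * (b * (v : G)⁻¹ * b⁻¹) :=
      congrArg Subtype.val e
    have h1 : ((v : G))⁻¹ * u = b * (v : G)⁻¹ * b⁻¹ * (b * (u : G)⁻¹ * b⁻¹)⁻¹ := by
      rw [eq_mul_inv_iff_mul_eq, mul_assoc, e1, inv_mul_cancel_left]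
    refine Subtype.ext (inv_mul_eq_one.1 (hfree _ (mul_mem (inv_mem v.2) u.2) ?_)).symm
    conv_rhs => rw [h1]
    group
  intro u hu
  obtain ⟨v, hv⟩ := Finite.injective_iff_surjective.1 hinj ⟨u, hu⟩
  have e : (v : G) * (b * (v : G)⁻¹ * b⁻¹) = u := congrArg Subtype.val hv
  rw [← e, ← mul_assoc, ← mul_assoc]
  exact commutator_mem_pResidual hbo (v : G)

theorem isConj_jj_inv (hF : FusedV x y z K) (p : ℤ) :
    IsConj (ii x y K) (jj x y z K p) ∧ IsConj (ii x y K) (jj x y z K p)⁻¹ := by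
  have h1 : IsConj (ii x y K) (jj x y z K p) := hF.symm.trans (jj_isConj h 0 p)
  obtain ⟨g, hg⟩ := isConj_iff.1 h1
  exact ⟨h1, (ii_isConj_inv h).trans (isConj_iff.2 ⟨g, by rw [← hg, conj_inv]⟩)⟩

theorem jj_mem_residual (hF : FusedV x y z K) {Q : Subgroup G} (eQ : Q ≃* QuaternionGroup 2)
    (hQS : Q ≤ S) (p : ℤ) : jj x y z K p ∈ Cfsg.pResidual 2 G := by
  obtain ⟨p₀, F⟩ := exists_frame h eQ hQS
  obtain ⟨b, hb, hbo, hbi⟩ := (v_index h eQ hQS).2.2 hF
  set v := b * (ii x y K)⁻¹ * b⁻¹ with hv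
  set c := ii x y K * b * (ii x y K)⁻¹ * b⁻¹ with hcdef
  have hcv : c = ii x y K * v := by rw [hcdef, hv]; group
  have hvQ : v ∈ Q := (Subgroup.mem_normalizer_iff.1 hb _).1 (inv_mem F.memI)
  have hcQ : c ∈ Q := hcv ▸ mul_mem F.memI hvQ
  have hiv : b * ii x y K * b⁻¹ = v⁻¹ := by rw [hv]; group
  have hsmall : c ≠ 1 ∧ c ≠ cc x y K := by
    refine ⟨fun e => hbi ?_, fun e => hbi ?_⟩
    · rw [hiv, eq_inv_of_mul_eq_one_right (hcv ▸ e : ii x y K * v = 1), inv_inv]
      exact Subgroup.mem_zpowers _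
    · rw [hcv, ← ii_sq h, mul_right_inj] at e
      rw [hiv, e]; exact inv_mem (Subgroup.mem_zpowers _)
  have key : ∀ a : G, a * a = cc x y K → IsConj (ii x y K) a → IsConj (ii x y K) a⁻¹ →
      c ∈ Subgroup.zpowers a → IsConj (ii x y K) c := by
    intro a ha h1 h2 hm
    obtain ⟨l, hl⟩ := Subgroup.mem_zpowers_iff.1 hm
    obtain ⟨r, rfl | rfl⟩ := Int.even_or_odd' l
    · rw [zpow_mul, zpow_two, ha] at hl
      obtain ⟨r', rfl | rfl⟩ := Int.even_or_odd' r
      · rw [zpow_mul, zpow_two, Dihedral.mul_self (cc_orderOf h), one_zpow] at hl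
        exact absurd hl.symm hsmall.1
      · rw [zpow_add_one, zpow_mul, zpow_two, Dihedral.mul_self (cc_orderOf h), one_zpow,
          one_mul] at hl
        exact absurd hl.symm hsmall.2
    · rw [zpow_add_one, zpow_mul, zpow_two, ha] at hl
      obtain ⟨r', rfl | rfl⟩ := Int.even_or_odd' r
      · rw [zpow_mul, zpow_two, Dihedral.mul_self (cc_orderOf h), one_zpow, one_mul] at hl
        exact hl ▸ h1
      · rw [zpow_add_one, zpow_mul, zpow_two, Dihedral.mul_self (cc_orderOf h), one_zpow,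
          one_mul] at hl
        have : a⁻¹ = cc x y K * a := by
          refine inv_eq_of_mul_eq_one_left ?_
          rw [mul_assoc, ha, Dihedral.mul_self (cc_orderOf h)]
        rw [← hl, ← this]; exact h2
  have hall : IsConj (ii x y K) c := by
    rcases F.all c hcQ with e | e | e
    · exact key _ F.sqI (IsConj.refl _) (ii_isConj_inv h) e
    · exact key _ F.sqJ (isConj_jj_inv h hF p₀).1 (isConj_jj_inv h hF p₀).2 e
    · rw [ii_mul_jj h] at e
      exact key _ (sq_cc_of_jj h _) (isConj_jj_inv h hF _).1 (isConj_jj_inv h hF _).2 e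
  obtain ⟨g, hg⟩ := isConj_iff.1 (hall.symm.trans (isConj_jj_inv h hF p).1)
  rw [← hg]
  exact CfsgLib.Fusion.Basic.pResidual_normal.conj_mem c
    (commutator_mem_pResidual hbo (ii x y K)) g

theorem zc_card : Nat.card (zc x y) = 4 * K := by
  rw [zc, Nat.card_zpowers, w2, Subgroup.orderOf_coe, orderOf_W_one h]

omit [Finite G] in
theorem commute_tt_zc {u : G} (hu : u ∈ zc x y) (p : ℤ) : Commute (tt x y z p) u :=
  zc_comm h hu (wz_mem p (-p))

omit [Finite G] in
theorem tt_ne_w2 (p a b : ℤ) : tt x y z p ≠ w2 x y a b := (w2_ne_wz h a b p (-p)).symm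

omit [Finite G] in
theorem zc_invol {d : G} (hd : d ∈ zc x y) (h2 : orderOf d = 2) : d = cc x y K := by
  obtain ⟨r, rfl⟩ := zc_sq_one h hd (Dihedral.mul_self h2)
  obtain ⟨r', rfl | rfl⟩ := Int.even_or_odd' r
  · rw [zpow_mul, zpow_two, Dihedral.mul_self (cc_orderOf h), one_zpow, orderOf_one] at h2
    omega
  · rw [zpow_add_one, zpow_mul, zpow_two, Dihedral.mul_self (cc_orderOf h), one_zpow, one_mul]

omit [Finite G] in
theorem uu_eq : uu x y K = w2 x y 1 1 ^ (K : ℤ) := by rw [w2_zpow h, uu]; simp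

omit [Finite G] in
theorem cc_eq : cc x y K = w2 x y 1 1 ^ (2 * (K : ℤ)) := by rw [w2_zpow h, cc]; simp

/-- A 2-subgroup centralising a non-central involution of the base can be moved into the base. -/
theorem exists_conj_into_ub {w : G} (hw : w ∈ ub h) (h2 : orderOf w = 2)
    (hnc : ¬ IsConj (cc x y K) w) {R : Subgroup G} (hR : IsPGroup 2 R)
    (hRC : ∀ r ∈ R, Commute r w) :
    ∃ l : G, l * w * l⁻¹ = w ∧ ∀ r ∈ R, l * r * l⁻¹ ∈ ub h := by
  haveI : Fact (Nat.Prime 2) := ⟨Nat.prime_two⟩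
  set C := Subgroup.centralizer ({w} : Set G) with hC
  have hUC : ub h ≤ C := fun u hu =>
    Subgroup.mem_centralizer_singleton_iff.2 (ub_comm h hu hw).eq
  have hRC' : R ≤ C := fun r hr => Subgroup.mem_centralizer_singleton_iff.2 (hRC r hr).eq
  obtain ⟨P, hP⟩ := ((S.2.to_le (ub_le h)).of_equiv
    (Subgroup.subgroupOfEquivOfLe hUC).symm).exists_le_sylow
  obtain ⟨k, hk⟩ := Basic.exists_conj_le S ((P.2).map C.subtype)
  have hkN : k ∈ Subgroup.normalizer ((ub h : Subgroup G) : Set G) :=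
    map_ub_of_le h fun u hu => hk u ⟨⟨u, hUC hu⟩, hP hu, rfl⟩
  have hPU : ∀ q ∈ (P : Subgroup C), (q : G) ∈ ub h := by
    intro q hq
    by_contra hno
    have h1 : k * (q : G) * k⁻¹ ∉ ub h := fun hm =>
      hno ((Subgroup.mem_normalizer_iff.1 hkN _).2 hm)
    obtain ⟨a, b, e⟩ : ∃ a b : ℤ, k * (q : G) * k⁻¹ = wz x y z a b := by
      rcases cases_mem h (hk _ ⟨q, hq, rfl⟩) with ⟨a, b, e⟩ | e
      · exact absurd (e ▸ w2_mem_ub h a b) h1
      · exact e
    obtain ⟨c, d, e'⟩ := (mem_ub h).1 ((Subgroup.mem_normalizer_iff.1 hkN w).1 hw)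
    have hcom : Commute (k * (q : G) * k⁻¹) (k * w * k⁻¹) :=
      (show Commute (q : G) w from Subgroup.mem_centralizer_singleton_iff.1 q.2).map
        (MulAut.conj k).toMonoidHom
    rw [e, e'] at hcom
    have hzc : k * w * k⁻¹ ∈ zc x y := by
      rw [e']
      refine (mem_zc h).2 ⟨c, w2_eq_of h ⟨0, by ring⟩ ?_⟩
      rw [← Int.dvd_neg]
      convert (commute_iff' h a b c d).1 hcom.symm using 1; ring
    exact hnc (isConj_iff.2 ⟨k⁻¹, by
      rw [← zc_invol h hzc ((Dihedral.orderOf_conj k w).trans h2)]; group⟩)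
  obtain ⟨l, hl⟩ := Basic.exists_conj_le P (hR.of_equiv (Subgroup.subgroupOfEquivOfLe hRC').symm)
  refine ⟨(l : G), ?_, fun r hr => hPU _ (hl ⟨r, hRC' hr⟩ hr)⟩
  rw [Subgroup.mem_centralizer_singleton_iff.1 l.2, mul_inv_cancel_right]

theorem isPGroup_tt_zc (p : ℤ) :
    IsPGroup 2 (Subgroup.zpowers (tt x y z p) ⊔ zc x y : Subgroup G) :=
  S.2.to_le (sup_le (Subgroup.zpowers_le.2 (wz_mem _ _)) zc_le)

theorem commute_tt_zc_sup {p : ℤ} {r : G}
    (hr : r ∈ (Subgroup.zpowers (tt x y z p) ⊔ zc x y : Subgroup G)) :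
    Commute r (tt x y z p) := by
  have hle : (Subgroup.zpowers (tt x y z p) ⊔ zc x y : Subgroup G) ≤
      Subgroup.centralizer ({tt x y z p} : Set G) := by
    refine sup_le (Subgroup.zpowers_le.2 (Subgroup.mem_centralizer_singleton_iff.2 rfl)) ?_
    exact fun u hu => Subgroup.mem_centralizer_singleton_iff.2 (commute_tt_zc h hu p).symm.eq
  exact Subgroup.mem_centralizer_singleton_iff.1 (hle hr)

/-- An outside involution fused with one in the base forces fusion in a quaternion subgroup. -/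
theorem fusedV_of_tt {p : ℤ} {g w : G} (hw : w ∈ ub h) (hg : g * tt x y z p * g⁻¹ = w) :
    FusedV x y z K := by
  haveI : Fact (Nat.Prime 2) := ⟨Nat.prime_two⟩
  -- the final computation
  have final : ∀ f : G, f * tt x y z p * f⁻¹ ∈ ub h → f * uu x y K * f⁻¹ ∈ ub h →
      f * cc x y K * f⁻¹ = cc x y K → FusedV x y z K := by
    intro f hε hv hc
    set ε := f * tt x y z p * f⁻¹ with hεdef
    set v := f * uu x y K * f⁻¹ with hvdef
    have hj : f * jj x y z K (p + K) * f⁻¹ = ε * v := by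
      rw [hεdef, hvdef, conj_mul, tt, uu, wz_w2 h, jj]
      congr 3; ring
    have hv2 : v * v = cc x y K := by rw [hvdef, conj_mul, uu_sq h, hc]
    have hjv2 : ε * v * (ε * v) = cc x y K := by rw [← hj, conj_mul, sq_cc_of_jj h, hc]
    have hεne : ε ∉ zc x y := fun hm => by
      have e := zc_invol h hm ((Dihedral.orderOf_conj f _).trans (tt_orderOf h p))
      rw [← hc, hεdef] at e
      exact tt_ne_w2 h p _ _ (conj_inj e)
    have hinv : IsConj (jj x y z K (p + K)) (ii x y K)⁻¹ → FusedV x y z K := fun e =>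
      (jj_isConj h 0 _).trans (e.trans (ii_isConj_inv h).symm)
    have hdir : IsConj (jj x y z K (p + K)) (ii x y K) → FusedV x y z K := fun e =>
      (jj_isConj h 0 _).trans e
    have conj_inv' : ∀ {a b : G}, IsConj a b → IsConj a⁻¹ b⁻¹ := fun {a b} e => by
      obtain ⟨c, hc⟩ := isConj_iff.1 e
      exact isConj_iff.2 ⟨c, by rw [← hc, conj_inv]⟩
    have hjc : IsConj (jj x y z K (p + K)) (ε * v) := isConj_iff.2 ⟨f, hj⟩
    have huc : IsConj (uu x y K) v := isConj_iff.2 ⟨f, rfl⟩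
    have key : ε * v ∈ zc x y → IsConj (uu x y K) (ii x y K) ∨ IsConj (uu x y K) (ii x y K)⁻¹ := by
      intro hz
      rcases ub_sq_cc h hv hv2 with e' | e' | e' | e'
      · exact absurd ((Subgroup.mul_mem_cancel_right _
          (e' ▸ uu_mem_zc h : v ∈ zc x y)).1 hz) hεne
      · exact absurd ((Subgroup.mul_mem_cancel_right _
          (e' ▸ inv_mem (uu_mem_zc h) : v ∈ zc x y)).1 hz) hεne
      · exact Or.inl (e' ▸ huc)
      · exact Or.inr (e' ▸ huc)
    rcases ub_sq_cc h (mul_mem hε hv) hjv2 with e | e | e | e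
    · rcases key (e ▸ uu_mem_zc h) with e1 | e1
      · exact hdir ((e ▸ hjc).trans e1)
      · exact hinv ((e ▸ hjc).trans e1)
    · rcases key (e ▸ inv_mem (uu_mem_zc h)) with e1 | e1
      · exact hinv ((e ▸ hjc).trans (conj_inv' e1))
      · have e2 := (e ▸ hjc).trans (conj_inv' e1)
        rw [inv_inv] at e2
        exact hdir e2
    · exact hdir (e ▸ hjc)
    · exact hinv (e ▸ hjc)
  set X : Subgroup G := Subgroup.zpowers (tt x y z p) ⊔ zc x y with hX
  have htX : tt x y z p ∈ X := Subgroup.mem_sup_left (Subgroup.mem_zpowers _)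
  have huX : w2 x y 1 1 ∈ X := Subgroup.mem_sup_right (Subgroup.mem_zpowers _)
  -- the image is the central involution
  have central : ∀ g : G, g * tt x y z p * g⁻¹ = cc x y K → FusedV x y z K := by
    intro g hg
    obtain ⟨l, hl, hlS⟩ := exists_centralizing_conj_into S
      (K := Subgroup.centralizer ({cc x y K} : Set G))
      (fun s hs => Subgroup.mem_centralizer_singleton_iff.2 (zc_comm h (cc_mem_zc h) hs).eq)
      ((isPGroup_tt_zc h p).map (MulAut.conj g).toMonoidHom) (by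
        rintro _ ⟨r, hr, rfl⟩
        refine Subgroup.mem_centralizer_singleton_iff.2 ?_
        rw [← hg]
        exact ((commute_tt_zc_sup h hr).map (MulAut.conj g).toMonoidHom).eq)
    set f := l * g with hf
    have hfe : ∀ a : G, f * a * f⁻¹ = l * (g * a * g⁻¹) * l⁻¹ := fun a => by rw [hf]; group
    have hft : f * tt x y z p * f⁻¹ = cc x y K := by
      rw [hfe, hg, Subgroup.mem_centralizer_singleton_iff.1 hl, mul_inv_cancel_right]
    have hfw : f * w2 x y 1 1 * f⁻¹ ∈ S := by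
      rw [hfe]; exact hlS (g * w2 x y 1 1 * g⁻¹) ⟨_, huX, rfl⟩
    have hd : f * cc x y K * f⁻¹ = (f * w2 x y 1 1 * f⁻¹) ^ (2 * (K : ℤ)) := by
      rw [_root_.conj_zpow, ← cc_eq h]
    have hdo : orderOf (f * cc x y K * f⁻¹) = 2 :=
      (Dihedral.orderOf_conj f _).trans (cc_orderOf h)
    have hdne : f * cc x y K * f⁻¹ ≠ cc x y K := fun e => by
      have := conj_inj (e.trans hft.symm)
      exact tt_ne_w2 h p _ _ this.symm
    have hw1 : f * w2 x y 1 1 * f⁻¹ ∈ ub h := by
      rcases cases_mem h hfw with ⟨a, b, e⟩ | ⟨a, b, e⟩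
      · rw [e]; exact w2_mem_ub h a b
      · refine absurd (zc_invol h ?_ hdo) hdne
        rw [hd, e, zpow_mul, zpow_two, wz_wz h]
        exact zpow_mem ((mem_zc h).2 ⟨a + b, by rw [add_comm b]⟩) _
    have hdU : f * cc x y K * f⁻¹ ∈ ub h := hd ▸ zpow_mem hw1 _
    obtain ⟨n, hn, hnd⟩ := exists_normalizer_conj h (a := f * cc x y K * f⁻¹) (b := cc x y K)
      (g := f⁻¹) hdU (w2_mem_ub h _ _) (by group)
    have he : ∀ a : G, n * f * a * (n * f)⁻¹ = n * (f * a * f⁻¹) * n⁻¹ := fun a => by group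
    refine final (n * f) ?_ ?_ (by rw [he, hnd])
    · rw [he, hft]; exact (Subgroup.mem_normalizer_iff.1 hn _).1 (w2_mem_ub h _ _)
    · rw [he, uu_eq h, ← _root_.conj_zpow]
      exact (Subgroup.mem_normalizer_iff.1 hn _).1 (zpow_mem hw1 _)
  have hw2 : orderOf w = 2 := hg ▸ (Dihedral.orderOf_conj g _).trans (tt_orderOf h p)
  by_cases hwc : IsConj (cc x y K) w
  · obtain ⟨k, hk⟩ := isConj_iff.1 hwc
    exact central (k⁻¹ * g) (by
      rw [show k⁻¹ * g * tt x y z p * (k⁻¹ * g)⁻¹ = k⁻¹ * (g * tt x y z p * g⁻¹) * k by group, hg,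
        ← hk]
      group)
  · obtain ⟨l, hlw, hl⟩ := exists_conj_into_ub h hw hw2 hwc
      ((isPGroup_tt_zc h p).map (MulAut.conj g).toMonoidHom) (by
        rintro _ ⟨r, hr, rfl⟩
        rw [← hg]
        exact (commute_tt_zc_sup h hr).map (MulAut.conj g).toMonoidHom)
    set f := l * g with hf
    have hfX : ∀ a ∈ X, f * a * f⁻¹ ∈ ub h := fun a ha => by
      have := hl _ ⟨a, ha, rfl⟩
      simpa [f, mul_assoc] using this
    have hft : f * tt x y z p * f⁻¹ = w := by
      rw [show f * tt x y z p * f⁻¹ = l * (g * tt x y z p * g⁻¹) * l⁻¹ by rw [hf]; group, hg, hlw]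
    refine final f (hft ▸ hw) (hfX _ ?_) ?_
    · rw [uu_eq h]; exact zpow_mem huX _
    · have hd : f * cc x y K * f⁻¹ ∈ ub h := hfX _ (by rw [cc_eq h]; exact zpow_mem huX _)
      by_cases hU : FusedU x y K
      · refine absurd ?_ hwc
        rcases ub_two h hw hw2 with e | e | e <;> rw [e]
        · exact hU
        · exact hU.trans (ee_isConj_swap h)
      · have hcd : IsConj (cc x y K) (f * cc x y K * f⁻¹) := isConj_iff.2 ⟨f, rfl⟩
        rcases ub_two h hd ((Dihedral.orderOf_conj f _).trans (cc_orderOf h)) with e | e | e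
        · exact e
        · rw [e] at hcd; exact absurd hcd hU
        · rw [e] at hcd; exact absurd (hcd.trans (ee_isConj_swap h).symm) hU

/-- The 2-subgroups centralising an outside involution are small. -/
theorem card_le_of_centralizes_tt (hV : ¬ FusedV x y z K) {p : ℤ} {R : Subgroup G}
    (hR : IsPGroup 2 R) (htR : tt x y z p ∈ R) (hcomm : ∀ r ∈ R, Commute r (tt x y z p)) :
    Nat.card R ≤ 8 * K := by
  haveI : Fact (Nat.Prime 2) := ⟨Nat.prime_two⟩
  obtain ⟨k, hk⟩ := Basic.exists_conj_le S hR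
  have hζ := hk _ htR
  obtain ⟨a, b, e⟩ : ∃ a b : ℤ, k * tt x y z p * k⁻¹ = wz x y z a b := by
    rcases cases_mem h hζ with ⟨a, b, e⟩ | e
    · exact absurd (fusedV_of_tt h (w2_mem_ub h a b) e) hV
    · exact e
  set ψ := (MulAut.conj k).toMonoidHom with hψ
  have hsub : ∀ r ∈ R.map ψ, r ∈ zc x y ∨ r * (wz x y z a b)⁻¹ ∈ zc x y := by
    have key : ∀ c d : ℤ, Commute (w2 x y c d) (wz x y z a b) → w2 x y c d ∈ zc x y := fun c d hcd =>
      (mem_zc h).2 ⟨c, w2_eq_of h ⟨0, by ring⟩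
        (by rw [← Int.dvd_neg]; convert (commute_iff' h a b c d).1 hcd using 1; ring)⟩
    rintro _ ⟨r, hr, rfl⟩
    have hc : Commute (ψ r) (wz x y z a b) := by
      rw [← e]; exact (hcomm r hr).map ψ
    rcases cases_mem h (hk r hr) with ⟨c, d, e'⟩ | ⟨c, d, e'⟩
    · change ψ r = w2 x y c d at e'
      rw [e'] at hc ⊢
      exact Or.inl (key c d hc)
    · change ψ r = wz x y z c d at e'
      rw [e'] at hc ⊢
      refine Or.inr ?_
      rw [wz_inv h, wz_wz h]
      refine key _ _ ?_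
      rw [← wz_wz h, ← wz_inv h]
      exact hc.mul_left (Commute.inv_left (Commute.refl _))
  rw [Nat.card_congr (R.equivMapOfInjective ψ (MulAut.conj k).injective).toEquiv]
  let f : ↥(R.map ψ) → (zc x y) ⊕ (zc x y) := fun r =>
    open Classical in
    if hr : (r : G) ∈ zc x y then Sum.inl ⟨r, hr⟩ else Sum.inr ⟨_, (hsub r r.2).resolve_left hr⟩
  have hf : Function.Injective f := by
    intro u v e
    simp only [f] at e
    split_ifs at e with h1 h2 h2
    · have e' := congrArg Subtype.val (Sum.inl.inj e)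
      exact Subtype.ext e'
    · have e' := mul_right_cancel (congrArg Subtype.val (Sum.inr.inj e))
      exact Subtype.ext e'
  refine (Nat.card_le_card_of_injective f hf).trans (le_of_eq ?_)
  rw [Nat.card_sum, zc_card h]; ring

/-- Without quaternion fusion no element outside the base is fused into it. -/
theorem not_conj_into_ub (hV : ¬ FusedV x y z K) {a b : ℤ} {g v : G} (hv : v ∈ ub h)
    (hg : g * wz x y z a b * g⁻¹ = v) : False := by
  haveI : Fact (Nat.Prime 2) := ⟨Nat.prime_two⟩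
  have hK := pos h
  obtain ⟨s, hs | hs⟩ := Int.even_or_odd' (a + b)
  swap
  · obtain ⟨c, d, rfl⟩ := (mem_ub h).1 hv
    have h1 : w2 x y c d ^ (4 * (K : ℤ)) = 1 := by
      rw [w2_zpow h, ← w2_zero h]
      exact w2_eq_of h ⟨c, by ring⟩ ⟨d, by ring⟩
    rw [← hg, _root_.conj_zpow, conj_eq_one_iff, show 4 * (K : ℤ) = 2 * (2 * K) by ring, zpow_mul,
      zpow_two, wz_wz h, w2_zpow h, ← w2_zero h, w2_eq_iff h, sub_zero] at h1
    obtain ⟨q, hq⟩ := h1.1
    rw [hs] at hq
    have : (K : ℤ) * (2 * s + 1 - 2 * q) = 0 := by linarith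
    rcases mul_eq_zero.1 this with h3 | h3 <;> omega
  set ζ := tt x y z (a - s) with hζdef
  set u := w2 x y s s with hudef
  set w := wz x y z a b with hwdef
  have hwζ : w = ζ * u := by
    rw [hwdef, hζdef, hudef, tt, wz_w2 h]
    congr 1 <;> linarith
  have huz : u ∈ zc x y := (mem_zc h).2 ⟨s, rfl⟩
  set X : Subgroup G := Subgroup.zpowers ζ ⊔ zc x y with hX
  have hζX : ζ ∈ X := Subgroup.mem_sup_left (Subgroup.mem_zpowers _)
  have hXcom : ∀ r ∈ X, Commute r ζ := fun r hr => commute_tt_zc_sup h hr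
  have hXS : X ≤ (S : Subgroup G) := sup_le (Subgroup.zpowers_le.2 (wz_mem _ _)) zc_le
  have hXw : X ≤ Subgroup.centralizer ({w} : Set G) := fun r hr => by
    refine Subgroup.mem_centralizer_singleton_iff.2 ?_
    rw [hwζ]
    exact ((hXcom r hr).mul_right (zc_comm h huz (hXS hr))).eq
  have hXcard : 8 * K ≤ Nat.card X := by
    have h1 := Subgroup.card_dvd_of_le (le_sup_right : zc x y ≤ X)
    have h2 : Nat.card (zc x y) ≠ Nat.card X := fun e => by
      have h3 := Subgroup.eq_of_le_of_card_ge (le_sup_right : zc x y ≤ X) e.symm.le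
      exact wz_notMem h (a - s) (-(a - s)) (zc_le_ub h (h3 ▸ hζX))
    rw [zc_card h] at h1 h2
    obtain ⟨m, hm⟩ := h1
    have h4 : m ≠ 0 := fun e => by simp [e, Nat.card_pos.ne'] at hm
    have h5 : m ≠ 1 := fun e => h2 (by rw [hm, e, mul_one])
    rw [hm, show 8 * K = 4 * K * 2 by ring]
    exact Nat.mul_le_mul_left _ (by omega)
  -- a Sylow subgroup of the centraliser
  set C := Subgroup.centralizer ({w} : Set G) with hC
  obtain ⟨P, hP⟩ := ((S.2.to_le hXS).of_equiv
    (Subgroup.subgroupOfEquivOfLe hXw).symm).exists_le_sylow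
  have hUg : (ub h).map (MulAut.conj g⁻¹).toMonoidHom ≤ C := by
    rintro _ ⟨t, ht, rfl⟩
    refine Subgroup.mem_centralizer_singleton_iff.2 ?_
    have := (ub_comm h ht hv).map (MulAut.conj g⁻¹).toMonoidHom
    rw [← hg] at this
    simpa [mul_assoc] using this.eq
  have hPbig : 16 * K ^ 2 ≤ Nat.card (P : Subgroup C) := by
    obtain ⟨P₂, hP₂⟩ := ((((S.2.to_le (ub_le h)).map (MulAut.conj g⁻¹).toMonoidHom)).of_equiv
      (Subgroup.subgroupOfEquivOfLe hUg).symm).exists_le_sylow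
    obtain ⟨k, hk⟩ := MulAction.exists_smul_eq C P₂ P
    rw [← hk, ← Nat.card_congr (Sylow.equiv P₂ (k • P₂)).toEquiv, ← ub_card h,
      Nat.card_congr (((ub h).equivMapOfInjective _ (MulAut.conj g⁻¹).injective).trans
        (Subgroup.subgroupOfEquivOfLe hUg).symm).toEquiv]
    exact Subgroup.card_le_of_le hP₂
  -- normaliser growth
  set X' := X.subgroupOf C with hX'
  have hlt : X' < (P : Subgroup C) := by
    refine lt_of_le_of_ne hP fun e => ?_
    have h1 : Nat.card X' = Nat.card X := Nat.card_congr (Subgroup.subgroupOfEquivOfLe hXw).toEquiv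
    have h2 := card_le_of_centralizes_tt h hV (S.2.to_le hXS) hζX hXcom
    rw [← e, h1] at hPbig
    nlinarith
  haveI : Group.IsNilpotent (P : Subgroup C) := P.2.isNilpotent
  have hgrow := Group.normalizerCondition_of_isNilpotent (G := (P : Subgroup C))
    (X'.subgroupOf (P : Subgroup C)) (lt_top_iff_ne_top.2 fun e =>
      hlt.ne (le_antisymm hlt.le (Subgroup.subgroupOf_eq_top.1 e)))
  obtain ⟨n, hn, hnX⟩ := SetLike.exists_of_lt hgrow
  have hnX' : ((n : C) : G) ∉ X := fun hm => hnX hm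
  -- every normalising element fixes the outside involution
  set R : Subgroup G := ((P : Subgroup C).map C.subtype) ⊓ Subgroup.normalizer (X : Set G) with hRdef
  have hXR : X ≤ R := fun r hr =>
    ⟨⟨⟨r, hXw hr⟩, hP hr, rfl⟩, Subgroup.le_normalizer hr⟩
  have hnR : ((n : C) : G) ∈ R := by
    refine ⟨⟨(n : C), n.2, rfl⟩, TwoGroupLifts.mem_normalizer_of_conj_mem fun r hr => ?_⟩
    exact (Subgroup.mem_normalizer_iff.1 hn (⟨⟨r, hXw hr⟩, hP hr⟩ : (P : Subgroup C))).1 hr
  have hRcom : ∀ r ∈ R, Commute r ζ := by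
    rintro r ⟨⟨q, -, rfl⟩, hrN⟩
    have h1 : (q : G) * ζ * (q : G)⁻¹ ∈ X := (Subgroup.mem_normalizer_iff.1 hrN ζ).1 hζX
    have hqw : (q : G) * w * (q : G)⁻¹ = w := by
      rw [Subgroup.mem_centralizer_singleton_iff.1 q.2, mul_inv_cancel_right]
    have ho : orderOf ((q : G) * ζ * (q : G)⁻¹) = 2 :=
      (Dihedral.orderOf_conj _ _).trans (tt_orderOf h _)
    have hcases : ((q : G) * ζ * (q : G)⁻¹ = ζ) ∨ (q : G) * ζ * (q : G)⁻¹ = ζ * cc x y K := by
      rcases cases_mem h (hXS h1) with ⟨c, d, e⟩ | ⟨c, d, e⟩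
      · exact absurd (fusedV_of_tt h (w2_mem_ub h c d) e) hV
      have hcom := hXcom _ h1
      have hsq := Dihedral.mul_self ho
      have hm : (q : G) * ζ * (q : G)⁻¹ * ζ ∈ zc x y := by
        rw [e] at hcom ⊢
        rw [hζdef, tt, wz_wz h]
        refine (mem_zc h).2 ⟨c + -(a - s), w2_eq_of h ⟨0, by ring⟩ ?_⟩
        rw [hζdef, tt, Commute, SemiconjBy, wz_wz h, wz_wz h, w2_eq_iff h] at hcom
        rw [← Int.dvd_neg]
        convert hcom.1 using 1; ring
      have hm2 : (q : G) * ζ * (q : G)⁻¹ * ζ * ((q : G) * ζ * (q : G)⁻¹ * ζ) = 1 := by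
        rw [hcom.symm.mul_mul_mul_comm, hsq, Dihedral.mul_self (tt_orderOf h _), one_mul]
      by_cases hone : (q : G) * ζ * (q : G)⁻¹ * ζ = 1
      · exact Or.inl (by rw [mul_eq_one_iff_eq_inv.1 hone,
          inv_eq_of_mul_eq_one_left (Dihedral.mul_self (tt_orderOf h _))])
      · have hm3 := zc_invol h hm (orderOf_eq_prime (by rw [pow_two]; exact hm2) hone)
        refine Or.inr ?_
        rw [← hm3, ← (hXcom _ (Subgroup.mem_sup_right hm)).eq, mul_assoc ((q : G) * ζ * (q : G)⁻¹) ζ ζ,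
          Dihedral.mul_self (show orderOf ζ = 2 from tt_orderOf h _), mul_one]
    rcases hcases with e | e
    · exact mul_inv_eq_iff_eq_mul.1 e
    · exfalso
      rw [hwζ, ← conj_mul, e, mul_assoc, mul_right_inj] at hqw
      have hq' : (q : G) * u * (q : G)⁻¹ = cc x y K * u := by
        conv_rhs => rw [← hqw]
        rw [← mul_assoc (cc x y K), Dihedral.mul_self (cc_orderOf h), one_mul]
      have h2 := central_eq h huz (hq' ▸ mul_mem (cc_mem_zc h) huz)
      rw [hq', mul_eq_right] at h2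
      exact Dihedral.ne_one (cc_orderOf h) h2
  have hR2 : IsPGroup 2 R := (P.2.map C.subtype).to_le inf_le_left
  have h8 := card_le_of_centralizes_tt h hV hR2 (hXR hζX) hRcom
  exact hnX' ((Subgroup.eq_of_le_of_card_ge hXR (h8.trans hXcard)) ▸ hnR)

/-- With quaternion fusion an outside involution is fused with a non-central base involution. -/
theorem tt_isConj_ee (hV : FusedV x y z K) {Q : Subgroup G} (eQ : Q ≃* QuaternionGroup 2)
    (hQS : Q ≤ S) (p : ℤ) : IsConj (tt x y z p) (ee x y K) := by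
  obtain ⟨p₀, F⟩ := exists_frame h eQ hQS
  obtain ⟨n, hn, hnJ⟩ := exists_v_conj h hV eQ hQS F
  have hfix := (normalizer_v h hQS F hn).2
  refine (tt_isConj h p (p₀ - K)).trans ?_
  have e : jj x y z K p₀ * (uu x y K)⁻¹ = tt x y z (p₀ - K) := by
    rw [jj, uu, w2_inv h, wz_w2 h, tt]; congr 1 <;> ring
  have hw : n * tt x y z (p₀ - K) * n⁻¹ ∈ ub h := by
    rw [← e, ← conj_mul, hfix _ (inv_mem (uu_mem_zc h))]
    exact mul_mem (Subgroup.zpowers_le.2 (w2_mem_ub h _ _) hnJ) (inv_mem (zc_le_ub h (uu_mem_zc h)))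
  have h1 : IsConj (tt x y z (p₀ - K)) (n * tt x y z (p₀ - K) * n⁻¹) := isConj_iff.2 ⟨n, rfl⟩
  rcases ub_two h hw ((Dihedral.orderOf_conj n _).trans (tt_orderOf h _)) with e' | e' | e'
  · exact absurd (conj_inj (e'.trans (hfix _ (cc_mem_zc h)).symm)) (tt_ne_w2 h _ _ _)
  · exact e' ▸ h1
  · exact (e' ▸ h1).trans (ee_isConj_swap h).symm

/-- Without fusion in the base, fusion of base elements is induced by the outside involution. -/
theorem ub_conj_cases (hU : ¬ FusedU x y K) {a b g : G} (ha : a ∈ ub h) (hb : b ∈ ub h)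
    (hg : g * a * g⁻¹ = b) : b = a ∨ b = wz x y z 0 0 * a * (wz x y z 0 0)⁻¹ := by
  obtain ⟨n, hn, hnab⟩ := exists_normalizer_conj h ha hb hg
  set N := Subgroup.normalizer ((ub h : Subgroup G) : Set G)
  set C := Subgroup.centralizer ((ub h : Subgroup G) : Set G)
  have h2 : C.relIndex N = 2 := (u_index h).1.resolve_right fun e => hU ((u_index h).2.1 e)
  by_cases hc : n ∈ C
  · left
    rw [← hnab, ← Subgroup.mem_centralizer_iff.1 hc a ha, mul_inv_cancel_right]
  · right
    have hz : wz x y z 0 0 ∈ N := sylow_le_normalizer_ub h (wz_mem _ _)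
    have h3 : (⟨_, hz⟩ : N) * ⟨n, hn⟩ ∈ C.subgroupOf N :=
      (Subgroup.mul_mem_iff_of_index_two h2).2 (iff_of_false (z_notMem_centralizer h) hc)
    have h4 : a * (wz x y z 0 0 * n) = wz x y z 0 0 * n * a :=
      Subgroup.mem_centralizer_iff.1 h3 a ha
    have h5 : wz x y z 0 0 * b * (wz x y z 0 0)⁻¹ = a := by
      rw [← hnab]
      calc wz x y z 0 0 * (n * a * n⁻¹) * (wz x y z 0 0)⁻¹
          = wz x y z 0 0 * n * a * (wz x y z 0 0 * n)⁻¹ := by group
        _ = a := by rw [← h4, mul_inv_cancel_right]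
    obtain ⟨c, d, e⟩ := (mem_ub h).1 hb
    rw [← h5, e, wz_conj_w2 h, wz_conj_w2 h]

theorem zc_fixed_ub (hU : ¬ FusedU x y K) {a g : G} (ha : a ∈ zc x y)
    (hb : g * a * g⁻¹ ∈ ub h) : g * a * g⁻¹ = a := by
  rcases ub_conj_cases h hU (zc_le_ub h ha) hb rfl with e | e
  · exact e
  · rw [e, (zc_comm h ha (wz_mem (0 : ℤ) 0)).eq, mul_inv_cancel_right]

omit [Finite G] in
theorem wz_sq_mem_zc (a b : ℤ) : wz x y z a b * wz x y z a b ∈ zc x y :=
  (mem_zc h).2 ⟨a + b, by rw [wz_wz h, add_comm b]⟩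

/-- Without fusion in the base, central elements are weakly closed in the Sylow subgroup. -/
theorem zc_fixed (hU : ¬ FusedU x y K) (hV : FusedV x y z K) {Q : Subgroup G}
    (eQ : Q ≃* QuaternionGroup 2) (hQS : Q ≤ S) {a g : G} (ha : a ∈ zc x y)
    (hb : g * a * g⁻¹ ∈ S) : g * a * g⁻¹ = a := by
  rcases cases_mem h hb with ⟨p, q, e⟩ | ⟨p, q, e⟩
  · exact zc_fixed_ub h hU ha (e ▸ w2_mem_ub h p q)
  exfalso
  obtain ⟨s, rfl⟩ := (mem_zc h).1 ha
  have hsq : g * (w2 x y s s * w2 x y s s) * g⁻¹ = wz x y z p q * wz x y z p q := by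
    rw [← conj_mul, e]
  have h1 := central_eq h (mul_mem ha ha) (hsq ▸ wz_sq_mem_zc h p q)
  rw [hsq, wz_wz h, w2_mul h, w2_eq_iff h] at h1
  have e' : wz x y z p q = tt x y z (p - s) * w2 x y s s := by
    rw [tt, wz_w2 h]
    refine wz_eq_of h ⟨0, by ring⟩ ?_
    convert h1.1 using 1; ring
  obtain ⟨k, hk⟩ := isConj_iff.1 (tt_isConj_ee h hV eQ hQS (p - s))
  obtain ⟨l, hlw, hl⟩ := exists_conj_into_ub h (w := ee x y K) (w2_mem_ub h _ _) (ee_orderOf h) hU
    ((isPGroup_tt_zc h (p - s)).map (MulAut.conj k).toMonoidHom) (by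
      rintro _ ⟨r, hr, rfl⟩
      rw [← hk]
      exact (commute_tt_zc_sup h hr).map (MulAut.conj k).toMonoidHom)
  have hka : l * (k * w2 x y s s * k⁻¹) * l⁻¹ ∈ ub h :=
    hl _ ⟨_, Subgroup.mem_sup_right ha, rfl⟩
  have e1 : l * k * w2 x y s s * (l * k)⁻¹ = l * (k * w2 x y s s * k⁻¹) * l⁻¹ := by group
  have h2 := zc_fixed_ub h hU (g := l * k) ha (e1 ▸ hka)
  have e2 : l * k * g * w2 x y s s * (l * k * g)⁻¹ = ee x y K * w2 x y s s := by
    rw [show l * k * g * w2 x y s s * (l * k * g)⁻¹ =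
      l * k * (g * w2 x y s s * g⁻¹) * (l * k)⁻¹ by group, e, e', ← conj_mul, h2,
      show l * k * tt x y z (p - s) * (l * k)⁻¹ = l * (k * tt x y z (p - s) * k⁻¹) * l⁻¹ by group,
      hk, hlw]
  have h3 := zc_fixed_ub h hU (g := l * k * g) ha
    (e2 ▸ mul_mem (w2_mem_ub h _ _) (zc_le_ub h ha))
  rw [e2, mul_eq_right] at h3
  exact Dihedral.ne_one (ee_orderOf h) h3

end CfsgLib.Involution.WreathedFusion
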