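import Cfsg.Agent.Lib.Involution.Wreathed
import Cfsg.Agent.Lib.Involution.SylowFusionTools
import Cfsg.Agent.Lib.Involution.KleinAutomizer

/-!
# A wreathed Sylow 2-subgroup inside a finite group
-/

set_option autoImplicit false

namespace CfsgLib.Involution.WreathedFusion

open CfsgLib.Involution.SylowFusionTools CfsgLib.Involution.Wreathed

universe u

variable {G : Type u} [Group G] [Finite G] {S : Sylow 2 G} {x y z : (S : Subgroup G)} {K : ℕ}
  (h : WrGen x y z K)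

/-- The base element `x ^ a * y ^ b`, in `G`. -/
def w2 (x y : (S : Subgroup G)) (a b : ℤ) : G := ((W x y a b : (S : Subgroup G)) : G)

/-- The outside element `x ^ a * y ^ b * z`, in `G`. -/
def wz (x y z : (S : Subgroup G)) (a b : ℤ) : G := ((W x y a b * z : (S : Subgroup G)) : G)

/-- The central involution. -/
def cc (x y : (S : Subgroup G)) (K : ℕ) : G := w2 x y (2 * K) (2 * K)

/-- A non-central involution of the base. -/
def ee (x y : (S : Subgroup G)) (K : ℕ) : G := w2 x y (2 * K) 0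

/-- The element of order four of the base inside the quaternion subgroups. -/
def ii (x y : (S : Subgroup G)) (K : ℕ) : G := w2 x y K (-K)

/-- The central element of order four. -/
def uu (x y : (S : Subgroup G)) (K : ℕ) : G := w2 x y K K

/-- The outside elements with square the central involution. -/
def jj (x y z : (S : Subgroup G)) (K : ℕ) (p : ℤ) : G := wz x y z p (2 * K - p)

/-- The outside involutions. -/
def tt (x y z : (S : Subgroup G)) (p : ℤ) : G := wz x y z p (-p)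

/-- Fusion inside the base. -/
def FusedU (x y : (S : Subgroup G)) (K : ℕ) : Prop := IsConj (cc x y K) (ee x y K)

/-- Fusion inside the quaternion subgroups. -/
def FusedV (x y z : (S : Subgroup G)) (K : ℕ) : Prop := IsConj (jj x y z K 0) (ii x y K)

/-- The image of the base. -/
def ub (h : WrGen x y z K) : Subgroup G := (base h).map (S : Subgroup G).subtype

/-- The image of the centre. -/
def zc (x y : (S : Subgroup G)) : Subgroup G := Subgroup.zpowers (w2 x y 1 1)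

omit [Finite G] in
theorem w2_mem (a b : ℤ) : w2 x y a b ∈ S := (W x y a b).2

omit [Finite G] in
theorem wz_mem (a b : ℤ) : wz x y z a b ∈ S := (W x y a b * z).2

omit [Finite G] in
theorem zc_le : zc x y ≤ S := Subgroup.zpowers_le.2 (w2_mem 1 1)

include h

section
omit [Finite G]

theorem w2_zero : w2 x y 0 0 = 1 := congrArg Subtype.val (W_zero h)

theorem w2_mul (a b c d : ℤ) : w2 x y a b * w2 x y c d = w2 x y (a + c) (b + d) :=
  congrArg Subtype.val (W_mul h a b c d)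

theorem w2_inv (a b : ℤ) : (w2 x y a b)⁻¹ = w2 x y (-a) (-b) :=
  congrArg Subtype.val (W_inv h a b)

theorem w2_zpow (a b k : ℤ) : w2 x y a b ^ k = w2 x y (k * a) (k * b) := by
  rw [w2, ← SubgroupClass.coe_zpow, W_zpow h]; rfl

theorem w2_wz (a b c d : ℤ) : w2 x y a b * wz x y z c d = wz x y z (a + c) (b + d) :=
  congrArg Subtype.val (W_mul_Wz h a b c d)

theorem wz_w2 (a b c d : ℤ) : wz x y z a b * w2 x y c d = wz x y z (a + d) (b + c) :=
  congrArg Subtype.val (Wz_mul_W h a b c d)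

theorem wz_wz (a b c d : ℤ) : wz x y z a b * wz x y z c d = w2 x y (a + d) (b + c) :=
  congrArg Subtype.val (Wz_mul_Wz h a b c d)

theorem wz_inv (a b : ℤ) : (wz x y z a b)⁻¹ = wz x y z (-b) (-a) :=
  congrArg Subtype.val (Wz_inv h a b)

theorem w2_eq_iff (a b c d : ℤ) :
    w2 x y a b = w2 x y c d ↔ 4 * (K : ℤ) ∣ a - c ∧ 4 * (K : ℤ) ∣ b - d := by
  rw [← W_eq_iff h]; exact Subtype.coe_inj

theorem wz_eq_iff (a b c d : ℤ) :
    wz x y z a b = wz x y z c d ↔ 4 * (K : ℤ) ∣ a - c ∧ 4 * (K : ℤ) ∣ b - d := by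
  rw [← W_eq_iff h, wz, wz, Subtype.coe_inj, mul_left_inj]

theorem w2_ne_wz (a b c d : ℤ) : w2 x y a b ≠ wz x y z c d := fun e =>
  W_ne_Wz h a b c d (Subtype.ext e)

theorem wz_conj_w2 (a b c d : ℤ) :
    wz x y z a b * w2 x y c d * (wz x y z a b)⁻¹ = w2 x y d c := by
  rw [wz_w2 h, wz_inv h, wz_wz h]; congr 1 <;> ring

theorem w2_conj_wz (a b c d : ℤ) :
    w2 x y c d * wz x y z a b * (w2 x y c d)⁻¹ = wz x y z (a + c - d) (b + d - c) := by
  rw [w2_wz h, w2_inv h, wz_w2 h]; congr 1 <;> ring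

theorem w2_eq_of {a b c d : ℤ} (h1 : 4 * (K : ℤ) ∣ a - c) (h2 : 4 * (K : ℤ) ∣ b - d) :
    w2 x y a b = w2 x y c d := (w2_eq_iff h _ _ _ _).2 ⟨h1, h2⟩

theorem wz_eq_of {a b c d : ℤ} (h1 : 4 * (K : ℤ) ∣ a - c) (h2 : 4 * (K : ℤ) ∣ b - d) :
    wz x y z a b = wz x y z c d := (wz_eq_iff h _ _ _ _).2 ⟨h1, h2⟩

theorem cases_mem {g : G} (hg : g ∈ S) :
    (∃ a b : ℤ, g = w2 x y a b) ∨ ∃ a b : ℤ, g = wz x y z a b := by
  rcases normal_form h ⟨g, hg⟩ with ⟨a, b, e⟩ | ⟨a, b, e⟩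
  · exact Or.inl ⟨a, b, congrArg Subtype.val e⟩
  · exact Or.inr ⟨a, b, congrArg Subtype.val e⟩

theorem mem_ub {g : G} : g ∈ ub h ↔ ∃ a b : ℤ, g = w2 x y a b := by
  constructor
  · rintro ⟨w, ⟨a, b, rfl⟩, rfl⟩; exact ⟨a, b, rfl⟩
  · rintro ⟨a, b, rfl⟩; exact ⟨_, W_mem_base h a b, rfl⟩

theorem w2_mem_ub (a b : ℤ) : w2 x y a b ∈ ub h := (mem_ub h).2 ⟨a, b, rfl⟩

theorem ub_le : ub h ≤ (S : Subgroup G) := Subgroup.map_subtype_le _

theorem wz_notMem (a b : ℤ) : wz x y z a b ∉ ub h := fun hm => by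
  obtain ⟨c, d, e⟩ := (mem_ub h).1 hm
  exact w2_ne_wz h c d a b e.symm

theorem mem_zc {g : G} : g ∈ zc x y ↔ ∃ a : ℤ, g = w2 x y a a := by
  rw [zc, Subgroup.mem_zpowers_iff]
  exact ⟨fun ⟨k, e⟩ => ⟨k, by rw [← e, w2_zpow h, mul_one]⟩,
    fun ⟨k, e⟩ => ⟨k, by rw [e, w2_zpow h, mul_one]⟩⟩

theorem zc_le_ub : zc x y ≤ ub h := Subgroup.zpowers_le.2 (w2_mem_ub h 1 1)

theorem center_map : (Subgroup.center (S : Subgroup G)).map (S : Subgroup G).subtype = zc x y := by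
  rw [center_eq h, MonoidHom.map_zpowers]; rfl

theorem zc_comm {u s : G} (hu : u ∈ zc x y) (hs : s ∈ S) : Commute s u := by
  rw [← center_map h] at hu
  obtain ⟨v, hv, rfl⟩ := hu
  exact congrArg Subtype.val (Subgroup.mem_center_iff.1 hv ⟨s, hs⟩)

theorem ub_comm {u v : G} (hu : u ∈ ub h) (hv : v ∈ ub h) : Commute u v := by
  obtain ⟨u', hu', rfl⟩ := hu
  obtain ⟨v', hv', rfl⟩ := hv
  exact congrArg Subtype.val (base_comm h hu' hv')

theorem commute_iff' (a b c d : ℤ) :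
    Commute (w2 x y c d) (wz x y z a b) ↔ 4 * (K : ℤ) ∣ c - d := by
  rw [← Wreathed.commute_iff h a b c d]
  exact ⟨fun e => Subtype.ext e, fun e => congrArg Subtype.val e⟩

theorem cc_orderOf : orderOf (cc x y K) = 2 := by
  rw [cc, w2, Subgroup.orderOf_coe]
  exact (orderOf_two_iff h _).2 (Or.inr (Or.inr (Or.inl rfl)))

theorem ee_orderOf : orderOf (ee x y K) = 2 := by
  rw [ee, w2, Subgroup.orderOf_coe]
  exact (orderOf_two_iff h _).2 (Or.inl rfl)

theorem tt_orderOf (p : ℤ) : orderOf (tt x y z p) = 2 := by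
  rw [tt, wz, Subgroup.orderOf_coe]
  exact (orderOf_two_iff h _).2 (Or.inr (Or.inr (Or.inr ⟨p, rfl⟩)))

theorem cc_mem_zc : cc x y K ∈ zc x y := (mem_zc h).2 ⟨_, rfl⟩

theorem uu_mem_zc : uu x y K ∈ zc x y := (mem_zc h).2 ⟨_, rfl⟩

theorem cc_ne_ee : cc x y K ≠ ee x y K := fun e => by
  obtain ⟨-, q, hq⟩ := (w2_eq_iff h _ _ _ _).1 e
  have := pos h
  have : (K : ℤ) * (2 * q - 1) = 0 := by linarith
  rcases mul_eq_zero.1 this with h1 | h1 <;> omega

theorem sq_cc_of_jj (p : ℤ) : jj x y z K p * jj x y z K p = cc x y K := by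
  rw [jj, wz_wz h, cc]; congr 1 <;> ring

theorem ii_sq : ii x y K * ii x y K = cc x y K := by
  rw [ii, w2_mul h, cc]
  exact w2_eq_of h ⟨0, by ring⟩ ⟨-1, by ring⟩

theorem uu_sq : uu x y K * uu x y K = cc x y K := by
  rw [uu, w2_mul h, cc]; congr 1 <;> ring

theorem ii_conj_inv (a b : ℤ) :
    wz x y z a b * ii x y K * (wz x y z a b)⁻¹ = (ii x y K)⁻¹ := by
  rw [ii, wz_conj_w2 h, w2_inv h, neg_neg]

theorem ii_isConj_inv : IsConj (ii x y K) (ii x y K)⁻¹ :=
  isConj_iff.2 ⟨wz x y z 0 0, ii_conj_inv h 0 0⟩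

theorem wz_conj_of_sum {p q p' q' : ℤ} (hs : 4 * (K : ℤ) ∣ (p + q) - (p' + q')) :
    ∃ s ∈ S, s * wz x y z p q * s⁻¹ = wz x y z p' q' := by
  refine ⟨w2 x y (p' - p) 0, w2_mem _ _, ?_⟩
  rw [w2_conj_wz h]
  exact wz_eq_of h ⟨0, by ring⟩ (by convert hs using 1; ring)

theorem jj_isConj (p p' : ℤ) : IsConj (jj x y z K p) (jj x y z K p') := by
  obtain ⟨s, -, hs⟩ := wz_conj_of_sum h (p := p) (q := 2 * K - p) (p' := p') (q' := 2 * K - p')
    ⟨0, by ring⟩
  exact isConj_iff.2 ⟨s, hs⟩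

theorem tt_isConj (p p' : ℤ) : IsConj (tt x y z p) (tt x y z p') := by
  obtain ⟨s, -, hs⟩ := wz_conj_of_sum h (p := p) (q := -p) (p' := p') (q' := -p') ⟨0, by ring⟩
  exact isConj_iff.2 ⟨s, hs⟩

theorem ee_isConj_swap : IsConj (ee x y K) (w2 x y 0 (2 * K)) :=
  isConj_iff.2 ⟨wz x y z 0 0, wz_conj_w2 h _ _ _ _⟩

theorem two_cases {g : G} (hg : g ∈ S) (h2 : orderOf g = 2) :
    g = cc x y K ∨ g = ee x y K ∨ g = w2 x y 0 (2 * K) ∨ ∃ p : ℤ, g = tt x y z p := by
  rcases (orderOf_two_iff h ⟨g, hg⟩).1 (by rw [← Subgroup.orderOf_coe]; exact h2)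
    with e | e | e | ⟨p, e⟩
  · exact Or.inr (Or.inl (congrArg Subtype.val e))
  · exact Or.inr (Or.inr (Or.inl (congrArg Subtype.val e)))
  · exact Or.inl (congrArg Subtype.val e)
  · exact Or.inr (Or.inr (Or.inr ⟨p, congrArg Subtype.val e⟩))

theorem ub_two {g : G} (hg : g ∈ ub h) (h2 : orderOf g = 2) :
    g = cc x y K ∨ g = ee x y K ∨ g = w2 x y 0 (2 * K) := by
  rcases two_cases h (ub_le h hg) h2 with e | e | e | ⟨p, e⟩
  · exact Or.inl e
  · exact Or.inr (Or.inl e)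
  · exact Or.inr (Or.inr e)
  · exact absurd (e ▸ hg) (wz_notMem h _ _)

theorem ub_sq_cc {g : G} (hg : g ∈ ub h) (hsq : g * g = cc x y K) :
    g = uu x y K ∨ g = (uu x y K)⁻¹ ∨ g = ii x y K ∨ g = (ii x y K)⁻¹ := by
  obtain ⟨a, b, rfl⟩ := (mem_ub h).1 hg
  rw [w2_mul h, cc, w2_eq_iff h] at hsq
  obtain ⟨⟨q, hq⟩, ⟨r, hr⟩⟩ := hsq
  rw [uu, ii, w2_inv h, w2_inv h]
  obtain ⟨q', rfl | rfl⟩ := Int.even_or_odd' q <;> obtain ⟨r', rfl | rfl⟩ := Int.even_or_odd' r
  · exact Or.inl (w2_eq_of h ⟨q', by linarith⟩ ⟨r', by linarith⟩)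
  · exact Or.inr (Or.inr (Or.inl (w2_eq_of h ⟨q', by linarith⟩ ⟨r' + 1, by linarith⟩)))
  · exact Or.inr (Or.inr (Or.inr (w2_eq_of h ⟨q' + 1, by linarith⟩ ⟨r', by linarith⟩)))
  · exact Or.inr (Or.inl (w2_eq_of h ⟨q' + 1, by linarith⟩ ⟨r' + 1, by linarith⟩))

theorem involution_classes_mem {g : G} (hg : g ∈ S) (h2 : orderOf g = 2) :
    IsConj (cc x y K) g ∨ IsConj (ee x y K) g ∨ IsConj (tt x y z 0) g := by
  rcases two_cases h hg h2 with e | e | e | ⟨p, e⟩ <;> rw [e]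
  · exact Or.inl (IsConj.refl _)
  · exact Or.inr (Or.inl (IsConj.refl _))
  · exact Or.inr (Or.inl (ee_isConj_swap h))
  · exact Or.inr (Or.inr (tt_isConj h 0 p))

end

theorem involution_classes {g : G} (h2 : orderOf g = 2) :
    IsConj (cc x y K) g ∨ IsConj (ee x y K) g ∨ IsConj (tt x y z 0) g := by
  obtain ⟨l, hl⟩ := Basic.exists_conj_mem S h2
  have hb : IsConj (l * g * l⁻¹) g := isConj_iff.2 ⟨l⁻¹, by group⟩
  rcases involution_classes_mem h hl ((Dihedral.orderOf_conj l g).trans h2) with e | e | e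
  exacts [Or.inl (e.trans hb), Or.inr (Or.inl (e.trans hb)), Or.inr (Or.inr (e.trans hb))]

theorem ub_card : Nat.card (ub h) = 16 * K ^ 2 := by
  rw [ub, Subgroup.card_subtype, base_card h]

/-- The base is the only abelian subgroup of its order in the Sylow subgroup. -/
theorem eq_ub {A : Subgroup G} (hA : A ≤ S) (hcomm : ∀ a ∈ A, ∀ b ∈ A, Commute a b)
    (hcard : Nat.card A = 16 * K ^ 2) : A = ub h := by
  refine Subgroup.eq_of_le_of_card_ge (fun g hg => ?_) (by rw [hcard, ub_card h])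
  by_contra hno
  obtain ⟨a, b, rfl⟩ : ∃ a b : ℤ, g = wz x y z a b := by
    rcases cases_mem h (hA hg) with ⟨a, b, rfl⟩ | e
    · exact absurd (w2_mem_ub h a b) hno
    · exact e
  have hsub : ∀ w ∈ A, w ∈ zc x y ∨ wz x y z a b * w ∈ zc x y := by
    intro w hw
    have key : ∀ c d : ℤ, w2 x y c d ∈ A → w2 x y c d ∈ zc x y := fun c d hcd =>
      (mem_zc h).2 ⟨c, w2_eq_of h ⟨0, by ring⟩
        (by rw [← Int.dvd_neg]; convert (commute_iff' h a b c d).1 (hcomm _ hcd _ hg) using 1; ring)⟩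
    rcases cases_mem h (hA hw) with ⟨c, d, rfl⟩ | ⟨c, d, rfl⟩
    · exact Or.inl (key c d hw)
    · refine Or.inr ?_
      have hm := mul_mem hg hw
      rw [wz_wz h] at hm ⊢
      exact key _ _ hm
  have hle : Nat.card A ≤ 2 * Nat.card (zc x y) := by
    let f : A → (zc x y) ⊕ (zc x y) := fun w =>
      open Classical in
      if hw : (w : G) ∈ zc x y then Sum.inl ⟨w, hw⟩ else Sum.inr ⟨_, (hsub w w.2).resolve_left hw⟩
    have hf : Function.Injective f := by
      intro v w e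
      simp only [f] at e
      split_ifs at e with h1 h2 h2
      · have e' := congrArg Subtype.val (Sum.inl.inj e)
        exact Subtype.ext e'
      · have e' := mul_left_cancel (congrArg Subtype.val (Sum.inr.inj e))
        exact Subtype.ext e' 
    refine (Nat.card_le_card_of_injective f hf).trans (le_of_eq ?_)
    rw [Nat.card_sum]; ring
  have hz : Nat.card (zc x y) = 4 * K := by
    rw [zc, Nat.card_zpowers, w2, Subgroup.orderOf_coe, orderOf_W_one h]
  rw [hz, hcard] at hle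
  have := pos h
  nlinarith

theorem map_ub_of_le {g : G} (hg : ∀ u ∈ ub h, g * u * g⁻¹ ∈ S) :
    g ∈ Subgroup.normalizer ((ub h : Subgroup G) : Set G) := by
  have e : (ub h).map (MulAut.conj g).toMonoidHom = ub h := by
    refine eq_ub h ?_ ?_ ?_
    · rintro _ ⟨u, hu, rfl⟩; exact hg u hu
    · rintro _ ⟨u, hu, rfl⟩ _ ⟨v, hv, rfl⟩
      exact (ub_comm h hu hv).map (MulAut.conj g).toMonoidHom
    · rw [← ub_card h]
      exact (Nat.card_congr (((ub h).equivMapOfInjective _ (MulAut.conj g).injective).toEquiv)).symm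
  exact TwoGroupLifts.mem_normalizer_of_conj_mem fun u hu => e ▸ ⟨u, hu, rfl⟩

theorem sylow_le_normalizer_ub :
    (S : Subgroup G) ≤ Subgroup.normalizer ((ub h : Subgroup G) : Set G) :=
  fun _ hs => map_ub_of_le h fun _ hu => mul_mem (mul_mem hs (ub_le h hu)) (inv_mem hs)

/-- Fusion of elements of the base happens in the normaliser of the base. -/
theorem exists_normalizer_conj {a b g : G} (ha : a ∈ ub h) (hb : b ∈ ub h)
    (hg : g * a * g⁻¹ = b) :
    ∃ n ∈ Subgroup.normalizer ((ub h : Subgroup G) : Set G), n * a * n⁻¹ = b := by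
  haveI : Fact (Nat.Prime 2) := ⟨Nat.prime_two⟩
  set C := Subgroup.centralizer ({b} : Set G) with hC
  have hUC : ub h ≤ C := fun u hu =>
    Subgroup.mem_centralizer_singleton_iff.2 (ub_comm h hu hb).eq
  have hgC : (ub h).map (MulAut.conj g).toMonoidHom ≤ C := by
    rintro _ ⟨u, hu, rfl⟩
    refine Subgroup.mem_centralizer_singleton_iff.2 ?_
    rw [← hg]
    exact ((ub_comm h hu ha).map (MulAut.conj g).toMonoidHom).eq
  have hU2 : IsPGroup 2 (ub h) := S.2.to_le (ub_le h)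
  obtain ⟨P, hP⟩ := (hU2.of_equiv (Subgroup.subgroupOfEquivOfLe hUC).symm).exists_le_sylow
  obtain ⟨l, hl⟩ := Basic.exists_conj_le P
    ((hU2.map (MulAut.conj g).toMonoidHom).of_equiv (Subgroup.subgroupOfEquivOfLe hgC).symm)
  obtain ⟨k, hk⟩ := Basic.exists_conj_le S ((P.2).map C.subtype)
  have h1 : k ∈ Subgroup.normalizer ((ub h : Subgroup G) : Set G) :=
    map_ub_of_le h fun u hu => hk u ⟨⟨u, hUC hu⟩, hP hu, rfl⟩
  have h2 : k * ((l : G) * g) ∈ Subgroup.normalizer ((ub h : Subgroup G) : Set G) :=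
    map_ub_of_le h fun u hu => by
      have := hk _ ⟨_, hl ⟨g * u * g⁻¹, hgC ⟨u, hu, rfl⟩⟩ ⟨u, hu, rfl⟩, rfl⟩
      simpa [mul_assoc] using this
  refine ⟨(l : G) * g, by simpa [← mul_assoc] using mul_mem (inv_mem h1) h2, ?_⟩
  rw [show (l : G) * g * a * ((l : G) * g)⁻¹ = (l : G) * (g * a * g⁻¹) * (l : G)⁻¹ by group, hg,
    Subgroup.mem_centralizer_singleton_iff.1 l.2, mul_inv_cancel_right]

theorem sylow_le_normalizer_zc {a : G} (ha : a ∈ zc x y) :
    (S : Subgroup G) ≤ Subgroup.normalizer ((Subgroup.zpowers a : Subgroup G) : Set G) := by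
  intro s hs
  refine TwoGroupLifts.mem_normalizer_of_conj_mem fun v hv => ?_
  rw [(zc_comm h (Subgroup.zpowers_le.2 ha hv) hs).eq, mul_inv_cancel_right]
  exact hv

/-- Two conjugate central elements of the Sylow subgroup are equal. -/
theorem central_eq {a g : G} (ha : a ∈ zc x y) (hga : g * a * g⁻¹ ∈ zc x y) :
    g * a * g⁻¹ = a := by
  haveI : Fact (Nat.Prime 2) := ⟨Nat.prime_two⟩
  have e := zpowers_eq_of_cyclic hga ha (Dihedral.orderOf_conj g a)
  obtain ⟨j, hj⟩ := IsPGroup.iff_orderOf.1 S.2 ⟨a, zc_le ha⟩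
  rw [← Subgroup.orderOf_coe] at hj
  have hg : g ∈ Subgroup.normalizer ((Subgroup.zpowers a : Subgroup G) : Set G) := by
    refine TwoGroupLifts.mem_normalizer_of_conj_mem fun v hv => ?_
    obtain ⟨l, rfl⟩ := Subgroup.mem_zpowers_iff.1 hv
    rw [← _root_.conj_zpow, ← e]
    exact zpow_mem (Subgroup.mem_zpowers _) l
  obtain ⟨s, hs, hsa⟩ := exists_conj_of_cyclic S hj (sylow_le_normalizer_zc h ha) hg
  rw [← hsa, (zc_comm h ha hs).eq, mul_inv_cancel_right]

end CfsgLib.Involution.WreathedFusion
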